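import Mathlib
import Cfsg.Agent.Lib.Helper23.HKKDefs

/-!
# S3779 piece KRA (helper15): the key lemma of Kreknin's theorem, with `W_lie` as a hypothesis
-/

set_option autoImplicit false
set_option linter.unusedSectionVars false
set_option linter.unusedVariables false

namespace Cfsg.Agent.Helper23.HKK

section K

variable {L : Type*} [LieRing L]

theorem kra_W_gen {n : ℕ} (gr : ZMod n → AddSubgroup L) (k : ℕ) (d : ZMod n) (hd : k + 1 ≤ d.val) (x : L)
    (hx : x ∈ gr d) : x ∈ W gr k d :=
  AddSubgroup.subset_closure (Mono.gen d x hd hx)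

theorem kra_mono_mem_gr {n : ℕ} (gr : ZMod n → AddSubgroup L) (hG : Grading n gr) (k : ℕ) (j : ZMod n) (x : L)
    (h : Mono gr k j x) : x ∈ gr j := by
  induction h with
  | gen d x hd hx => exact hx
  | step e d z c hz hd hc ih => exact hG.br e d z c ih hc

theorem kra_W_le_gr {n : ℕ} (gr : ZMod n → AddSubgroup L) (hG : Grading n gr) (k : ℕ) (j : ZMod n) :
    W gr k j ≤ gr j := by
  unfold W
  rw [AddSubgroup.closure_le]
  intro x hx
  exact kra_mono_mem_gr gr hG k j x hx

theorem kra_val_add {n : ℕ} [NeZero n] (a b : ZMod n) :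
    ((a + b).val = a.val + b.val ∧ a.val + b.val < n) ∨
      ((a + b).val + n = a.val + b.val ∧ n ≤ a.val + b.val) := by
  have ha := ZMod.val_lt a
  have hb := ZMod.val_lt b
  rw [ZMod.val_add]
  rcases lt_or_ge (a.val + b.val) n with h | h
  · left
    exact ⟨Nat.mod_eq_of_lt h, h⟩
  · right
    refine ⟨?_, h⟩
    rw [Nat.mod_eq_sub_mod h, Nat.mod_eq_of_lt (by omega)]
    omega

theorem kra_eq_zero {n : ℕ} [NeZero n] (gr : ZMod n → AddSubgroup L) (hG : Grading n gr) (j : ZMod n)
    (hj : j.val = 0) (x : L) (hx : x ∈ gr j) : x = 0 := by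
  have h0 : j = 0 := (ZMod.val_eq_zero j).1 hj
  rw [h0, hG.zero] at hx
  exact (AddSubgroup.mem_bot).1 hx

theorem subA_core {n : ℕ} [NeZero n] (gr : ZMod n → AddSubgroup L) (hG : Grading n gr) (k : ℕ) (hk : k + 1 < n)
    (hWlie : ∀ (i j : ZMod n) (x y : L), x ∈ W gr k i → y ∈ W gr k j → ⁅x, y⁆ ∈ W gr k (i + j)) :
    ∀ β : ℕ, ∀ (a b : ZMod n), b.val = β → 1 ≤ a.val → 1 ≤ b.val → a.val + b.val = k + 1 → ∀ (x y : L),
      x ∈ W gr k a → y ∈ W gr k b → ⁅x, y⁆ ∈ W gr (k + 1) (a + b) := by
  intro β
  induction β using Nat.strong_induction_on with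
  | _ β IH =>
    intro a b hbβ ha hb hab x y hx hy
    have hyb : y ∈ gr b := kra_W_le_gr gr hG k b hy
    unfold W at hx
    refine AddSubgroup.closure_induction (p := fun x _ => ⁅x, y⁆ ∈ W gr (k + 1) (a + b)) ?_ ?_ ?_ ?_ hx
    · intro x hx
      cases hx with
      | gen d x hd hx => omega
      | step e d z c hz hd hc =>
        have hzW : z ∈ W gr k e := AddSubgroup.subset_closure hz
        have hze : z ∈ gr e := kra_mono_mem_gr gr hG k e z hz
        have hcW : c ∈ W gr k d := kra_W_gen gr k d hd c hc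
        have hdn := ZMod.val_lt d
        have hen := ZMod.val_lt e
        have hbn := ZMod.val_lt b
        have hJ : ⁅⁅z, c⁆, y⁆ = ⁅⁅z, y⁆, c⁆ + ⁅z, ⁅c, y⁆⁆ := by
          rw [lie_lie, sub_eq_add_neg, lie_skew, add_comm]
        have hed := kra_val_add e d
        have heb := kra_val_add e b
        have hdb := kra_val_add d b
        have hzy : ⁅z, y⁆ ∈ gr (e + b) := hG.br e b z y hze hyb
        have hcy : ⁅c, y⁆ ∈ gr (d + b) := hG.br d b c y hc hyb
        have hcyW : ⁅c, y⁆ ∈ W gr k (d + b) := hWlie d b c y hcW hy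
        show ⁅⁅z, c⁆, y⁆ ∈ W gr (k + 1) (e + d + b)
        rw [hJ]
        apply add_mem
        · -- first term
          by_cases h1 : (e + b).val = 0
          · rw [kra_eq_zero gr hG (e + b) h1 _ hzy, zero_lie]
            exact zero_mem _
          · have hidx : e + d + b = (e + b) + d := by ring
            rw [hidx]
            apply AddSubgroup.subset_closure
            refine Mono.step (e + b) d ⁅z, y⁆ c (Mono.gen (e + b) ⁅z, y⁆ ?_ hzy) ?_ hc
            · omega
            · omega
        · -- second term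
          by_cases h2 : (d + b).val = 0
          · rw [kra_eq_zero gr hG (d + b) h2 _ hcy, lie_zero]
            exact zero_mem _
          · have hidx : e + d + b = e + (d + b) := by ring
            rw [hidx]
            by_cases h3 : d.val + b.val < n
            · apply AddSubgroup.subset_closure
              refine Mono.step e (d + b) z ⁅c, y⁆ (Mono.gen e z ?_ hze) ?_ hcy
              · omega
              · omega
            · refine IH (d + b).val ?_ e (d + b) rfl ?_ ?_ ?_ z ⁅c, y⁆ hzW hcyW
              · omega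
              · omega
              · omega
              · omega
    · show ⁅(0 : L), y⁆ ∈ _
      rw [zero_lie]; exact zero_mem _
    · intro x₁ x₂ _ _ h₁ h₂
      show ⁅x₁ + x₂, y⁆ ∈ _
      rw [add_lie]; exact add_mem h₁ h₂
    · intro x _ h
      show ⁅-x, y⁆ ∈ _
      rw [neg_lie]; exact neg_mem h

end K

end Cfsg.Agent.Helper23.HKK
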