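import Mathlib
import Cfsg.Agent.Lib.Helper23.HKKDefs
import Cfsg.Agent.Lib.Helper15.HKKKRACore

/-!
# S3779 piece KRA (helper15): the key lemma `subA` of Kreknin's theorem (exact skeleton signature)

Self-contained: own copies `kra_W_gen`, `kra_W_le_gr`, `kra_W_lie` of the KRW statements.
-/

set_option autoImplicit false
set_option linter.unusedSectionVars false
set_option linter.unusedVariables false

namespace Cfsg.Agent.Helper23.HKK

section K

variable {L : Type*} [LieRing L]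

/-- bracket with a generator on the right -/
theorem kra_lie_gen {n : ℕ} (gr : ZMod n → AddSubgroup L) (k : ℕ) (i d : ZMod n) (x c : L)
    (hx : x ∈ W gr k i) (hd : k + 1 ≤ d.val) (hc : c ∈ gr d) : ⁅x, c⁆ ∈ W gr k (i + d) := by
  unfold W at hx
  refine AddSubgroup.closure_induction (p := fun x _ => ⁅x, c⁆ ∈ W gr k (i + d)) ?_ ?_ ?_ ?_ hx
  · intro x hx
    exact AddSubgroup.subset_closure (Mono.step i d x c hx hd hc)
  · show ⁅(0 : L), c⁆ ∈ _
    rw [zero_lie]; exact zero_mem _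
  · intro x₁ x₂ _ _ h₁ h₂
    show ⁅x₁ + x₂, c⁆ ∈ _
    rw [add_lie]; exact add_mem h₁ h₂
  · intro x _ h
    show ⁅-x, c⁆ ∈ _
    rw [neg_lie]; exact neg_mem h

/-- bracket with a monomial on the right -/
theorem kra_lie_mono {n : ℕ} (gr : ZMod n → AddSubgroup L) (k : ℕ) (j : ZMod n) (y : L)
    (hy : Mono gr k j y) : ∀ (i : ZMod n) (x : L), x ∈ W gr k i → ⁅x, y⁆ ∈ W gr k (i + j) := by
  induction hy with
  | gen d c hd hc =>
    intro i x hx
    exact kra_lie_gen gr k i d x c hx hd hc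
  | step e d z c hz hd hc ih =>
    intro i x hx
    have h1 : ⁅x, ⁅z, c⁆⁆ = ⁅⁅x, z⁆, c⁆ - ⁅⁅x, c⁆, z⁆ := by
      rw [leibniz_lie x z c, sub_eq_add_neg, lie_skew]
    rw [h1]
    apply sub_mem
    · have h2 := kra_lie_gen gr k (i + e) d ⁅x, z⁆ c (ih i x hx) hd hc
      have hidx : i + (e + d) = i + e + d := by ring
      rw [hidx]
      exact h2
    · have h2 := ih (i + d) ⁅x, c⁆ (kra_lie_gen gr k i d x c hx hd hc)
      have hidx : i + (e + d) = i + d + e := by ring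
      rw [hidx]
      exact h2

theorem kra_W_lie {n : ℕ} (gr : ZMod n → AddSubgroup L) (k : ℕ) (i j : ZMod n) (x y : L)
    (hx : x ∈ W gr k i) (hy : y ∈ W gr k j) : ⁅x, y⁆ ∈ W gr k (i + j) := by
  unfold W at hy
  refine AddSubgroup.closure_induction (p := fun y _ => ⁅x, y⁆ ∈ W gr k (i + j)) ?_ ?_ ?_ ?_ hy
  · intro y hy
    exact kra_lie_mono gr k j y hy i x hx
  · show ⁅x, (0 : L)⁆ ∈ _
    rw [lie_zero]; exact zero_mem _
  · intro y₁ y₂ _ _ h₁ h₂
    show ⁅x, y₁ + y₂⁆ ∈ _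
    rw [lie_add]; exact add_mem h₁ h₂
  · intro y _ h
    show ⁅x, -y⁆ ∈ _
    rw [lie_neg]; exact neg_mem h

theorem subA {n : ℕ} [NeZero n] (gr : ZMod n → AddSubgroup L) (hG : Grading n gr) (k : ℕ) (hk : k + 1 < n)
    (a b : ZMod n) (ha : 1 ≤ a.val) (hb : 1 ≤ b.val) (hab : a.val + b.val = k + 1) (x y : L)
    (hx : x ∈ W gr k a) (hy : y ∈ W gr k b) : ⁅x, y⁆ ∈ W gr (k + 1) (a + b) :=
  subA_core gr hG k hk (fun i j x y hx hy => kra_W_lie gr k i j x y hx hy) b.val a b rfl ha hb hab x y hx hy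

end K

end Cfsg.Agent.Helper23.HKK
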