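import Mathlib
import Cfsg.Agent.Lib.Helper23.HKKDefs

/-!
# S3779 piece KRD (helper15): the homogeneous parts of the derived series
-/

set_option autoImplicit false
set_option linter.unusedSectionVars false
set_option linter.unusedVariables false

namespace Cfsg.Agent.Helper23.HKK

section K

variable {L : Type*} [LieRing L]

theorem Dh_le_gr {n : ℕ} (gr : ZMod n → AddSubgroup L) (hG : Grading n gr) (m : ℕ) (j : ZMod n) :
    Dh gr m j ≤ gr j := by
  induction m generalizing j with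
  | zero => exact le_refl _
  | succ m ih =>
    show AddSubgroup.closure _ ≤ gr j
    rw [AddSubgroup.closure_le]
    rintro z ⟨a, b, hab, x, hx, y, hy, rfl⟩
    rw [← hab]
    exact hG.br a b x y (ih a hx) (ih b hy)

/-- a step of the derived series is contained in the previous one, when the previous one is bracket closed -/
theorem krd_succ_le {n : ℕ} (gr : ZMod n → AddSubgroup L) (m : ℕ) (hm : Grading n (Dh gr m)) (j : ZMod n) :
    Dh gr (m + 1) j ≤ Dh gr m j := by
  show AddSubgroup.closure _ ≤ Dh gr m j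
  rw [AddSubgroup.closure_le]
  rintro z ⟨a, b, hab, x, hx, y, hy, rfl⟩
  rw [← hab]
  exact hm.br a b x y hx hy

theorem Dh_grading {n : ℕ} (gr : ZMod n → AddSubgroup L) (hG : Grading n gr) (m : ℕ) : Grading n (Dh gr m) := by
  induction m with
  | zero => exact hG
  | succ m ih =>
    refine ⟨fun i j x y hx hy => ?_, ?_⟩
    · have hx' := krd_succ_le gr m ih i hx
      have hy' := krd_succ_le gr m ih j hy
      show ⁅x, y⁆ ∈ AddSubgroup.closure _
      exact AddSubgroup.subset_closure ⟨i, j, rfl, x, hx', y, hy', rfl⟩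
    · rw [eq_bot_iff, ← hG.zero]
      exact Dh_le_gr gr hG (m + 1) 0

theorem Dh_Dh {n : ℕ} (gr : ZMod n → AddSubgroup L) (m m' : ℕ) (j : ZMod n) :
    Dh (Dh gr m) m' j = Dh gr (m + m') j := by
  induction m' generalizing j with
  | zero => rfl
  | succ m' ih =>
    show AddSubgroup.closure _ = AddSubgroup.closure _
    congr 1
    ext z
    constructor
    · rintro ⟨a, b, hab, x, hx, y, hy, rfl⟩
      exact ⟨a, b, hab, x, (ih a) ▸ hx, y, (ih b) ▸ hy, rfl⟩
    · rintro ⟨a, b, hab, x, hx, y, hy, rfl⟩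
      exact ⟨a, b, hab, x, (ih a).symm ▸ hx, y, (ih b).symm ▸ hy, rfl⟩

theorem dser_le_Dh {n : ℕ} (gr : ZMod n → AddSubgroup L) (hG : Grading n gr) (hspan : ⨆ i, gr i = ⊤) (m : ℕ) :
    dserIn (⊤ : AddSubgroup L) m ≤ ⨆ j, Dh gr m j := by
  induction m with
  | zero =>
    show (⊤ : AddSubgroup L) ≤ ⨆ j, gr j
    rw [hspan]
  | succ m ih =>
    show AddSubgroup.closure _ ≤ _
    rw [AddSubgroup.closure_le]
    rintro z ⟨x, hx, y, hy, rfl⟩
    have hx' := ih hx
    have hy' := ih hy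
    show ⁅x, y⁆ ∈ ⨆ j, Dh gr (m + 1) j
    refine AddSubgroup.iSup_induction (C := fun x => ⁅x, y⁆ ∈ ⨆ j, Dh gr (m + 1) j) _ hx' ?_ ?_ ?_
    · intro a x hxa
      refine AddSubgroup.iSup_induction (C := fun y => ⁅x, y⁆ ∈ ⨆ j, Dh gr (m + 1) j) _ hy' ?_ ?_ ?_
      · intro b y hyb
        apply AddSubgroup.mem_iSup_of_mem (a + b)
        show ⁅x, y⁆ ∈ AddSubgroup.closure _
        exact AddSubgroup.subset_closure ⟨a, b, rfl, x, hxa, y, hyb, rfl⟩
      · show ⁅x, (0 : L)⁆ ∈ _
        rw [lie_zero]; exact zero_mem _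
      · intro y₁ y₂ h₁ h₂
        show ⁅x, y₁ + y₂⁆ ∈ _
        rw [lie_add]; exact add_mem h₁ h₂
    · show ⁅(0 : L), y⁆ ∈ _
      rw [zero_lie]; exact zero_mem _
    · intro x₁ x₂ h₁ h₂
      show ⁅x₁ + x₂, y⁆ ∈ _
      rw [add_lie]; exact add_mem h₁ h₂

end K

end Cfsg.Agent.Helper23.HKK
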