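import Mathlib

set_option autoImplicit false

namespace Cfsg.Agent.Helper15

open Subgroup

variable {G : Type*} [Group G]

/-- abbreviation-free name for the conjugate subgroup `g H g⁻¹`. -/
theorem mem_map_conj_iff {H : Subgroup G} {g x : G} :
    x ∈ H.map (MulAut.conj g).toMonoidHom ↔ g⁻¹ * x * g ∈ H := by
  constructor
  · rintro ⟨y, hy, rfl⟩
    simpa [MulAut.conj_apply, mul_assoc] using hy
  · intro h
    refine ⟨g⁻¹ * x * g, h, ?_⟩
    simp [MulAut.conj_apply, mul_assoc]

theorem conj_mem_map_conj {H : Subgroup G} (g : G) {x : G} (hx : x ∈ H) :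
    g * x * g⁻¹ ∈ H.map (MulAut.conj g).toMonoidHom :=
  ⟨x, hx, by simp [MulAut.conj_apply]⟩

theorem map_conj_le_of_mem {H K : Subgroup G} (hHK : H ≤ K) {g : G} (hg : g ∈ K) :
    H.map (MulAut.conj g).toMonoidHom ≤ K := by
  rintro _ ⟨y, hy, rfl⟩
  simp only [MulEquiv.coe_toMonoidHom, MulAut.conj_apply]
  exact K.mul_mem (K.mul_mem hg (hHK hy)) (K.inv_mem hg)

theorem map_conj_le_of_mem_normalizer {H K : Subgroup G} (hHK : H ≤ K) {g : G}
    (hg : g ∈ Subgroup.normalizer (K : Set G)) :
    H.map (MulAut.conj g).toMonoidHom ≤ K := by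
  rintro _ ⟨y, hy, rfl⟩
  simp only [MulEquiv.coe_toMonoidHom, MulAut.conj_apply]
  exact (Subgroup.mem_normalizer_iff.1 hg y).1 (hHK hy)

/-- membership in the normalizer from the two one-sided inclusions -/
theorem mem_normalizer_of_map_conj_le {H : Subgroup G} {g : G}
    (h1 : H.map (MulAut.conj g).toMonoidHom ≤ H)
    (h2 : H.map (MulAut.conj g⁻¹).toMonoidHom ≤ H) :
    g ∈ Subgroup.normalizer (H : Set G) := by
  rw [Subgroup.mem_normalizer_iff]
  intro h
  constructor
  · intro hh
    exact h1 (conj_mem_map_conj g hh)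
  · intro hh
    have := h2 (conj_mem_map_conj g⁻¹ hh)
    simpa [mul_assoc] using this

/-- In a finite `p`-group a subgroup that is its own normalizer is everything
(stated for subgroups `H ≤ K` of an ambient group). -/
theorem eq_of_inf_normalizer_eq [Finite G] {p : ℕ} [Fact p.Prime]
    {H K : Subgroup G} (hK : IsPGroup p K) (hHK : H ≤ K)
    (h : K ⊓ Subgroup.normalizer (H : Set G) = H) : K = H := by
  have : Group.IsNilpotent K := hK.isNilpotent
  have hnc : NormalizerCondition K := Group.normalizerCondition_of_isNilpotent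
  rw [normalizerCondition_iff_only_full_group_self_normalizing] at hnc
  have h1 : Subgroup.normalizer ((H.subgroupOf K : Subgroup K) : Set K) = H.subgroupOf K := by
    rw [← Subgroup.subgroupOf_normalizer_eq hHK, ← Subgroup.inf_subgroupOf_left, h]
  have h2 := hnc _ h1
  rw [Subgroup.subgroupOf_eq_top] at h2
  exact le_antisymm h2 hHK

end Cfsg.Agent.Helper15
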