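import Mathlib
import Cfsg.Agent.Lib.Helper15.Basic

set_option autoImplicit false

namespace Cfsg.Agent.Helper15

open Subgroup

variable {G : Type*} [Group G]

/-! ### Conjugation of subgroups as `map` -/

theorem map_conj_map_conj (H : Subgroup G) (g h : G) :
    (H.map (MulAut.conj h).toMonoidHom).map (MulAut.conj g).toMonoidHom
      = H.map (MulAut.conj (g * h)).toMonoidHom := by
  rw [Subgroup.map_map]
  congr 1
  ext x
  simp [MulAut.conj_apply, mul_assoc]

theorem map_conj_one (H : Subgroup G) : H.map (MulAut.conj (1 : G)).toMonoidHom = H := by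
  ext x
  rw [mem_map_conj_iff]
  simp

theorem map_conj_inv_map_conj (H : Subgroup G) (g : G) :
    (H.map (MulAut.conj g).toMonoidHom).map (MulAut.conj g⁻¹).toMonoidHom = H := by
  rw [map_conj_map_conj, inv_mul_cancel, map_conj_one]

theorem map_conj_map_conj_inv (H : Subgroup G) (g : G) :
    (H.map (MulAut.conj g⁻¹).toMonoidHom).map (MulAut.conj g).toMonoidHom = H := by
  rw [map_conj_map_conj, mul_inv_cancel, map_conj_one]

theorem map_conj_mono {H K : Subgroup G} (h : H ≤ K) (g : G) :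
    H.map (MulAut.conj g).toMonoidHom ≤ K.map (MulAut.conj g).toMonoidHom :=
  Subgroup.map_mono h

theorem map_conj_eq_of_mem_normalizer {H : Subgroup G} {g : G}
    (hg : g ∈ Subgroup.normalizer (H : Set G)) :
    H.map (MulAut.conj g).toMonoidHom = H := by
  apply le_antisymm
  · exact map_conj_le_of_mem_normalizer le_rfl hg
  · intro x hx
    rw [mem_map_conj_iff]
    have hg' : g⁻¹ ∈ Subgroup.normalizer (H : Set G) := Subgroup.inv_mem _ hg
    have := (Subgroup.mem_normalizer_iff.1 hg' x).1 hx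
    simpa using this

theorem mem_normalizer_of_map_conj_eq {H : Subgroup G} {g : G}
    (h : H.map (MulAut.conj g).toMonoidHom = H) :
    g ∈ Subgroup.normalizer (H : Set G) := by
  apply mem_normalizer_of_map_conj_le h.le
  have : H.map (MulAut.conj g⁻¹).toMonoidHom
      = (H.map (MulAut.conj g).toMonoidHom).map (MulAut.conj g⁻¹).toMonoidHom := by rw [h]
  rw [this, map_conj_inv_map_conj]

theorem card_map_conj (H : Subgroup G) (g : G) :
    Nat.card ↥(H.map (MulAut.conj g).toMonoidHom) = Nat.card ↥H :=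
  Subgroup.card_map_of_injective (MulAut.conj g).injective

theorem isPGroup_map_conj {p : ℕ} {H : Subgroup G} (hH : IsPGroup p H) (g : G) :
    IsPGroup p ↥(H.map (MulAut.conj g).toMonoidHom) :=
  hH.map _

theorem map_conj_eq_iff_le [Finite G] {H : Subgroup G} {g : G} :
    H.map (MulAut.conj g).toMonoidHom = H ↔ H.map (MulAut.conj g).toMonoidHom ≤ H := by
  constructor
  · intro h; exact h.le
  · intro h
    have hfin : Finite ↥H := inferInstance
    have hcard := card_map_conj H g
    -- a subgroup of the same finite cardinality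
    refine SetLike.coe_injective ?_
    have hsub : ((H.map (MulAut.conj g).toMonoidHom : Subgroup G) : Set G) ⊆ (H : Set G) := h
    exact Set.eq_of_subset_of_ncard_le hsub (by
      rw [← Nat.card_coe_set_eq, ← Nat.card_coe_set_eq]
      exact hcard.ge) (Set.toFinite _)

/-! ### Sylow subgroups of a subgroup -/

/-- `T` is a Sylow `p`-subgroup of the subgroup `K` of `G` (a maximal `p`-subgroup of `K`). -/
def IsSylowIn (p : ℕ) (T K : Subgroup G) : Prop :=
  T ≤ K ∧ IsPGroup p T ∧ ∀ T' : Subgroup G, IsPGroup p T' → T ≤ T' → T' ≤ K → T' = T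

theorem IsSylowIn.le {p : ℕ} {T K : Subgroup G} (h : IsSylowIn p T K) : T ≤ K := h.1

theorem IsSylowIn.isPGroup {p : ℕ} {T K : Subgroup G} (h : IsSylowIn p T K) : IsPGroup p T := h.2.1

theorem IsSylowIn.eq_of_le {p : ℕ} {T K T' : Subgroup G} (h : IsSylowIn p T K)
    (hT' : IsPGroup p T') (hle : T ≤ T') (hK : T' ≤ K) : T' = T := h.2.2 T' hT' hle hK

theorem isSylowIn_map_subtype {p : ℕ} {K : Subgroup G} (P : Sylow p K) :
    IsSylowIn p ((P : Subgroup K).map K.subtype) K := by
  refine ⟨Subgroup.map_subtype_le _, P.isPGroup'.map _, ?_⟩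
  intro T' hT' hle hK
  have h1 : (P : Subgroup K) ≤ T'.subgroupOf K := Subgroup.map_le_iff_le_comap.1 hle
  have h2 : T'.subgroupOf K = (P : Subgroup K) := P.is_maximal' hT'.comap_subtype h1
  rw [← h2, Subgroup.map_subgroupOf_eq_of_le hK]

/-- the Sylow subgroup of `K` attached to a Sylow subgroup in the relative sense -/
def IsSylowIn.toSylow {p : ℕ} {T K : Subgroup G} (h : IsSylowIn p T K) : Sylow p K where
  toSubgroup := T.subgroupOf K
  isPGroup' := h.isPGroup.comap_subtype
  is_maximal' := by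
    intro Q hQ hle
    have h1 : T ≤ Q.map K.subtype := by
      rw [← Subgroup.map_subgroupOf_eq_of_le h.le]
      exact Subgroup.map_mono hle
    have h2 : Q.map K.subtype = T := h.eq_of_le (hQ.map _) h1 (Subgroup.map_subtype_le _)
    rw [← h2]
    exact (Subgroup.comap_map_eq_self_of_injective K.subtype_injective Q).symm

theorem IsSylowIn.coe_toSylow {p : ℕ} {T K : Subgroup G} (h : IsSylowIn p T K) :
    (h.toSylow : Subgroup K) = T.subgroupOf K := rfl

theorem IsSylowIn.map_toSylow {p : ℕ} {T K : Subgroup G} (h : IsSylowIn p T K) :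
    (h.toSylow : Subgroup K).map K.subtype = T := by
  rw [h.coe_toSylow, Subgroup.map_subgroupOf_eq_of_le h.le]

theorem exists_isSylowIn_ge {p : ℕ} {Q K : Subgroup G} (hQ : IsPGroup p Q) (hQK : Q ≤ K) :
    ∃ T : Subgroup G, Q ≤ T ∧ IsSylowIn p T K := by
  obtain ⟨P, hP⟩ := (hQ.comap_subtype (K := K)).exists_le_sylow
  refine ⟨(P : Subgroup K).map K.subtype, ?_, isSylowIn_map_subtype P⟩
  rw [← Subgroup.map_subgroupOf_eq_of_le hQK]
  exact Subgroup.map_mono hP

theorem exists_isSylowIn {p : ℕ} (K : Subgroup G) : ∃ T : Subgroup G, IsSylowIn p T K := by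
  obtain ⟨T, _, hT⟩ := exists_isSylowIn_ge (p := p) (Q := ⊥) (K := K) IsPGroup.of_bot bot_le
  exact ⟨T, hT⟩

theorem IsSylowIn.of_le {p : ℕ} {T K L : Subgroup G} (h : IsSylowIn p T K) (hTL : T ≤ L)
    (hLK : L ≤ K) : IsSylowIn p T L :=
  ⟨hTL, h.isPGroup, fun T' hT' hle hL => h.eq_of_le hT' hle (hL.trans hLK)⟩

theorem isSylowIn_top {p : ℕ} (P : Sylow p G) : IsSylowIn p (P : Subgroup G) ⊤ :=
  ⟨le_top, P.isPGroup', fun _ hQ hle _ => P.is_maximal' hQ hle⟩

theorem isSylowIn_of_sylow_le {p : ℕ} (P : Sylow p G) {K : Subgroup G} (h : (P : Subgroup G) ≤ K) :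
    IsSylowIn p (P : Subgroup G) K :=
  (isSylowIn_top P).of_le h le_top

/-- a Sylow subgroup of `⊤` in the relative sense is a Sylow subgroup -/
def IsSylowIn.sylowOfTop {p : ℕ} {T : Subgroup G} (h : IsSylowIn p T ⊤) : Sylow p G where
  toSubgroup := T
  isPGroup' := h.isPGroup
  is_maximal' := fun hQ hle => h.eq_of_le hQ hle le_top

theorem IsSylowIn.coe_sylowOfTop {p : ℕ} {T : Subgroup G} (h : IsSylowIn p T ⊤) :
    (h.sylowOfTop : Subgroup G) = T := rfl

theorem IsSylowIn.map_conj {p : ℕ} {T K : Subgroup G} (h : IsSylowIn p T K) (g : G) :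
    IsSylowIn p (T.map (MulAut.conj g).toMonoidHom) (K.map (MulAut.conj g).toMonoidHom) := by
  refine ⟨map_conj_mono h.le g, isPGroup_map_conj h.isPGroup g, ?_⟩
  intro T' hT' hle hK
  have h1 : T ≤ T'.map (MulAut.conj g⁻¹).toMonoidHom := by
    have := map_conj_mono hle g⁻¹
    rwa [map_conj_inv_map_conj] at this
  have h2 : T'.map (MulAut.conj g⁻¹).toMonoidHom ≤ K := by
    have := map_conj_mono hK g⁻¹
    rwa [map_conj_inv_map_conj] at this
  have h3 := h.eq_of_le (isPGroup_map_conj hT' g⁻¹) h1 h2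
  rw [← h3, map_conj_map_conj_inv]

theorem map_conj_eq_self_of_mem {K : Subgroup G} {g : G} (hg : g ∈ K) :
    K.map (MulAut.conj g).toMonoidHom = K :=
  map_conj_eq_of_mem_normalizer (Subgroup.le_normalizer hg)

theorem IsSylowIn.map_conj_of_mem {p : ℕ} {T K : Subgroup G} (h : IsSylowIn p T K) {g : G}
    (hg : g ∈ K) : IsSylowIn p (T.map (MulAut.conj g).toMonoidHom) K := by
  have := h.map_conj g
  rwa [map_conj_eq_self_of_mem hg] at this

theorem IsSylowIn.map_conj_of_mem_normalizer {p : ℕ} {T K : Subgroup G} (h : IsSylowIn p T K)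
    {g : G} (hg : g ∈ Subgroup.normalizer (K : Set G)) :
    IsSylowIn p (T.map (MulAut.conj g).toMonoidHom) K := by
  have := h.map_conj g
  rwa [map_conj_eq_of_mem_normalizer hg] at this

theorem sylow_smul_coe_eq_map {p : ℕ} {K : Subgroup G} (k : K) (P : Sylow p K) :
    ((k • P : Sylow p K) : Subgroup K) = (P : Subgroup K).map (MulAut.conj k).toMonoidHom := rfl

/-- Sylow's conjugacy theorem inside a subgroup. -/
theorem IsSylowIn.exists_conj [Finite G] {p : ℕ} [Fact p.Prime] {T₁ T₂ K : Subgroup G}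
    (h₁ : IsSylowIn p T₁ K) (h₂ : IsSylowIn p T₂ K) :
    ∃ k ∈ K, T₁.map (MulAut.conj k).toMonoidHom = T₂ := by
  obtain ⟨k, hk⟩ := MulAction.exists_smul_eq K h₁.toSylow h₂.toSylow
  refine ⟨(k : G), k.2, ?_⟩
  have hk' : ((k • h₁.toSylow : Sylow p K) : Subgroup K) = (h₂.toSylow : Subgroup K) := by rw [hk]
  rw [sylow_smul_coe_eq_map] at hk'
  have hcomm : K.subtype.comp (MulAut.conj k).toMonoidHom
      = (MulAut.conj (k : G)).toMonoidHom.comp K.subtype := by
    ext x
    simp [MulAut.conj_apply]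
  calc T₁.map (MulAut.conj (k : G)).toMonoidHom
      = ((h₁.toSylow : Subgroup K).map K.subtype).map (MulAut.conj (k : G)).toMonoidHom := by
        rw [h₁.map_toSylow]
    _ = (h₁.toSylow : Subgroup K).map ((MulAut.conj (k : G)).toMonoidHom.comp K.subtype) := by
        rw [Subgroup.map_map]
    _ = (h₁.toSylow : Subgroup K).map (K.subtype.comp (MulAut.conj k).toMonoidHom) := by
        rw [hcomm]
    _ = ((h₁.toSylow : Subgroup K).map (MulAut.conj k).toMonoidHom).map K.subtype := by
        rw [Subgroup.map_map]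
    _ = (h₂.toSylow : Subgroup K).map K.subtype := by rw [hk']
    _ = T₂ := h₂.map_toSylow

theorem IsSylowIn.card_eq [Finite G] {p : ℕ} [Fact p.Prime] {T K : Subgroup G}
    (h : IsSylowIn p T K) : Nat.card T = p ^ (Nat.card K).factorization p := by
  rw [← h.toSylow.card_eq_multiplicity]
  exact (Nat.card_congr (Subgroup.subgroupOfEquivOfLe h.le).toEquiv).symm

theorem isSylowIn_of_card [Finite G] {p : ℕ} [Fact p.Prime] {T K : Subgroup G} (hTK : T ≤ K)
    (hc : Nat.card T = p ^ (Nat.card K).factorization p) : IsSylowIn p T K := by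
  have hc' : Nat.card (T.subgroupOf K) = p ^ (Nat.card K).factorization p := by
    rw [← hc]
    exact Nat.card_congr (Subgroup.subgroupOfEquivOfLe hTK).toEquiv
  have := isSylowIn_map_subtype (Sylow.ofCard (T.subgroupOf K) hc')
  rwa [Sylow.coe_ofCard, Subgroup.map_subgroupOf_eq_of_le hTK] at this

theorem IsSylowIn.not_dvd_relIndex [Finite G] {p : ℕ} [Fact p.Prime] {T K : Subgroup G}
    (h : IsSylowIn p T K) : ¬ p ∣ T.relIndex K := by
  have := h.toSylow.not_dvd_index
  rwa [h.coe_toSylow] at this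

theorem isSylowIn_of_not_dvd_relIndex {p : ℕ} [Fact p.Prime] {T K : Subgroup G}
    (hT : IsPGroup p T) (hTK : T ≤ K) (h : ¬ p ∣ T.relIndex K) : IsSylowIn p T K := by
  have := isSylowIn_map_subtype ((hT.comap_subtype (K := K)).toSylow h)
  have hcoe : (((hT.comap_subtype (K := K)).toSylow h : Sylow p K) : Subgroup K) = T.subgroupOf K := rfl
  rwa [hcoe, Subgroup.map_subgroupOf_eq_of_le hTK] at this

/-- If `K` contains a Sylow `p`-subgroup of `G`, the Sylow `p`-subgroups of `K` are Sylow in `G`. -/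
theorem IsSylowIn.isSylowIn_top_of_sylow_le [Finite G] {p : ℕ} [Fact p.Prime] {T K : Subgroup G}
    (h : IsSylowIn p T K) (P : Sylow p G) (hPK : (P : Subgroup G) ≤ K) : IsSylowIn p T ⊤ := by
  obtain ⟨k, _, hk⟩ := (isSylowIn_of_sylow_le P hPK).exists_conj h
  have := (isSylowIn_top P).map_conj k
  rw [hk, map_conj_eq_self_of_mem (Subgroup.mem_top k)] at this
  exact this

theorem IsSylowIn.exists_sylow_eq [Finite G] {p : ℕ} [Fact p.Prime] {T K : Subgroup G}
    (h : IsSylowIn p T K) (P : Sylow p G) (hPK : (P : Subgroup G) ≤ K) :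
    ∃ U : Sylow p G, (U : Subgroup G) = T :=
  ⟨(h.isSylowIn_top_of_sylow_le P hPK).sylowOfTop, rfl⟩

/-- If `D` contains a Sylow `p`-subgroup of `G`, then every `p`-subgroup of `D` lies in a Sylow
`p`-subgroup of `G` contained in `D`. -/
theorem exists_sylow_le_of_sylow_le [Finite G] {p : ℕ} [Fact p.Prime] (P : Sylow p G)
    {D : Subgroup G} (hPD : (P : Subgroup G) ≤ D) {Q : Subgroup G} (hQ : IsPGroup p Q)
    (hQD : Q ≤ D) : ∃ U : Sylow p G, Q ≤ (U : Subgroup G) ∧ (U : Subgroup G) ≤ D := by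
  obtain ⟨T, hQT, hT⟩ := exists_isSylowIn_ge hQ hQD
  obtain ⟨U, hU⟩ := hT.exists_sylow_eq P hPD
  exact ⟨U, hU ▸ hQT, hU ▸ hT.le⟩

end Cfsg.Agent.Helper15
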