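import Mathlib
import Cfsg.Prelude.Def_Solvable
import Cfsg.Prelude.Def_CaseTheorems
import Cfsg.Agent.Lib.Helper15.SylowIn

set_option autoImplicit false

namespace Cfsg.Agent.Helper15

open Subgroup

variable {G : Type*} [Group G]

theorem isPGroup_pCore (p : ℕ) [Fact p.Prime] (G : Type*) [Group G] : IsPGroup p ↥(Cfsg.pCore p G) :=
  Sylow.sSup_of_normal _ (fun _ h => h.2) (fun _ h => h.1)

theorem le_pCore {p : ℕ} {N : Subgroup G} (hn : N.Normal) (h : IsPGroup p ↥N) :
    N ≤ Cfsg.pCore p G :=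
  le_sSup ⟨hn, h⟩

theorem pCore_le_sylow {p : ℕ} [Fact p.Prime] (P : Sylow p G) : Cfsg.pCore p G ≤ (P : Subgroup G) :=
  (isPGroup_pCore p G).le_sylow_of_normal P

/-- A `p`-subgroup normalized by `L` meets `L` inside `O_p(L)`. -/
theorem subgroupOf_le_pCore {p : ℕ} {N L : Subgroup G} (hN : IsPGroup p ↥N)
    (hLN : L ≤ Subgroup.normalizer (N : Set G)) : N.subgroupOf L ≤ Cfsg.pCore p ↥L :=
  le_pCore (Subgroup.normal_subgroupOf_of_le_normalizer hLN) hN.comap_subtype

/-- A finite subgroup all of whose `p'`-elements are trivial is a `p`-group. -/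
theorem isPGroup_of_forall_coprime_eq_one [Finite G] {p : ℕ} [Fact p.Prime] {H : Subgroup G}
    (h : ∀ c ∈ H, (orderOf c).Coprime p → c = 1) : IsPGroup p ↥H := by
  intro g
  have hpos : orderOf (g : G) ≠ 0 := (orderOf_pos (g : G)).ne'
  obtain ⟨e, m, hm, hem⟩ := Nat.exists_eq_pow_mul_and_not_dvd hpos p (Fact.out : p.Prime).ne_one
  refine ⟨e, ?_⟩
  have hord : orderOf ((g : G) ^ (p ^ e)) = m := by
    rw [orderOf_pow, hem]
    have : Nat.gcd (p ^ e * m) (p ^ e) = p ^ e := Nat.gcd_eq_right (Dvd.intro _ rfl)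
    rw [this]
    exact Nat.mul_div_cancel_left m (pow_pos (Fact.out : p.Prime).pos e)
  have hcop : (orderOf ((g : G) ^ (p ^ e))).Coprime p := by
    rw [hord]
    exact ((Nat.Prime.coprime_iff_not_dvd (Fact.out : p.Prime)).2 hm).symm
  have := h _ (H.pow_mem g.2 _) hcop
  exact Subtype.ext (by simpa using this)

/-- an element of a `p`-group whose order is prime to `p` is trivial -/
theorem eq_one_of_isPGroup_of_coprime {p : ℕ} [Fact p.Prime] {H : Subgroup G} (hH : IsPGroup p ↥H)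
    {c : G} (hc : c ∈ H) (hcop : (orderOf c).Coprime p) : c = 1 := by
  obtain ⟨k, hk⟩ := hH ⟨c, hc⟩
  have hk' : c ^ (p ^ k) = 1 := by
    have := congrArg Subtype.val hk
    simpa using this
  have h1 : orderOf c ∣ p ^ k := orderOf_dvd_of_pow_eq_one hk'
  have h2 : (orderOf c).Coprime (p ^ k) := hcop.pow_right k
  have h3 : orderOf c = 1 := Nat.eq_one_of_dvd_coprimes h2 (dvd_refl _) h1
  exact orderOf_eq_one_iff.1 h3

/-- A `p'`-element `c` such that each commutator `[x, c]`, `x` in the `p`-group `Q`, lies in `Q` and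
commutes with `c`, centralizes `Q`. -/
theorem commute_of_coprime_of_commutator_commute {p : ℕ} [Fact p.Prime] {Q : Subgroup G}
    (hQ : IsPGroup p ↥Q) {c : G} (hcop : (orderOf c).Coprime p)
    (h : ∀ x ∈ Q, x * c * x⁻¹ * c⁻¹ ∈ Q ∧ Commute (x * c * x⁻¹ * c⁻¹) c) :
    ∀ x ∈ Q, x * c = c * x := by
  intro x hx
  obtain ⟨hzQ, hzc⟩ := h x hx
  set z := x * c * x⁻¹ * c⁻¹ with hz
  have h1 : x * c * x⁻¹ = z * c := by rw [hz]; group
  have h2 : (x * c * x⁻¹) ^ orderOf c = 1 := by
    rw [conj_pow, pow_orderOf_eq_one]; group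
  rw [h1, hzc.mul_pow, pow_orderOf_eq_one, mul_one] at h2
  have h3 : orderOf z ∣ orderOf c := orderOf_dvd_of_pow_eq_one h2
  have h4 : (orderOf z).Coprime p := Nat.Coprime.coprime_dvd_left h3 hcop
  have h5 : z = 1 := eq_one_of_isPGroup_of_coprime hQ hzQ h4
  have h6 : x * c * x⁻¹ * c⁻¹ = 1 := by rw [← hz, h5]
  calc x * c = (x * c * x⁻¹ * c⁻¹) * (c * x) := by group
    _ = c * x := by rw [h6, one_mul]

/-- the image of `O_p` under an isomorphism lies in `O_p` -/
theorem map_pCore_le_of_equiv {p : ℕ} [Fact p.Prime] {A B : Type*} [Group A] [Group B] [Finite A]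
    (e : A ≃* B) : (Cfsg.pCore p A).map e.toMonoidHom ≤ Cfsg.pCore p B := by
  apply le_pCore
  · exact (Cfsg.pCore_normal p A).map e.toMonoidHom e.surjective
  · exact (isPGroup_pCore p A).map e.toMonoidHom

theorem map_pCore_of_equiv {p : ℕ} [Fact p.Prime] {A B : Type*} [Group A] [Group B] [Finite A]
    (e : A ≃* B) : (Cfsg.pCore p A).map e.toMonoidHom = Cfsg.pCore p B := by
  apply le_antisymm (map_pCore_le_of_equiv e)
  haveI : Finite B := Finite.of_equiv A e.toEquiv
  intro b hb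
  have h1 : e.symm b ∈ Cfsg.pCore p A := by
    apply map_pCore_le_of_equiv e.symm
    exact Subgroup.mem_map_of_mem _ hb
  refine ⟨e.symm b, h1, ?_⟩
  simp

/-- "characteristic `p`" is invariant under isomorphism -/
theorem centralizer_pCore_le_of_equiv {p : ℕ} [Fact p.Prime] {A B : Type*} [Group A] [Group B]
    [Finite A] (e : A ≃* B)
    (h : Subgroup.centralizer (Cfsg.pCore p A : Set A) ≤ Cfsg.pCore p A) :
    Subgroup.centralizer (Cfsg.pCore p B : Set B) ≤ Cfsg.pCore p B := by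
  intro b hb
  have h1 : e.symm b ∈ Subgroup.centralizer (Cfsg.pCore p A : Set A) := by
    rw [Subgroup.mem_centralizer_iff]
    intro a ha
    have ha' : e a ∈ Cfsg.pCore p B := by
      rw [← map_pCore_of_equiv e]
      exact Subgroup.mem_map_of_mem _ ha
    have := Subgroup.mem_centralizer_iff.1 hb (e a) ha'
    apply e.injective
    simpa using this
  have h2 := h h1
  rw [← map_pCore_of_equiv e]
  refine ⟨e.symm b, h2, ?_⟩
  simp

end Cfsg.Agent.Helper15
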