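import Mathlib
import Cfsg.Agent.Lib.Helper2.CardSL
import Cfsg.Agent.S0252
import Cfsg.Agent.S0253

/-!
# S0998 from S0997 (piece COR998, helper15)

Section 9 of `plans/S0997_proof.md`: a non-cyclic simple group of order `p r q ^ b` is `PSL(2,5)` or
`PSL(2,7)`, given the conclusion of S0997 as a hypothesis.
-/

set_option autoImplicit false
set_option linter.style.haveILetI false
set_option linter.unusedVariables false

namespace Cfsg.Agent.Helper21.BT

universe u

namespace COR998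

/-! ### arithmetic -/

theorem pow_split {m b c g : ℕ} (hc : Odd c) (hg : Odd g) (h : 2 ^ m * c = g * 2 ^ b) :
    m = b ∧ c = g := by
  have hcop1 : Nat.Coprime (2 ^ m) g := Nat.Coprime.pow_left m (Nat.coprime_two_left.mpr hg)
  have hcop2 : Nat.Coprime (2 ^ b) c := Nat.Coprime.pow_left b (Nat.coprime_two_left.mpr hc)
  have h1 : 2 ^ m ∣ 2 ^ b := hcop1.dvd_of_dvd_mul_left ⟨c, h.symm⟩
  have h2 : 2 ^ b ∣ 2 ^ m := hcop2.dvd_of_dvd_mul_right ⟨g, by rw [h]; ring⟩
  have h3 : m ≤ b := (Nat.pow_dvd_pow_iff_le_right (by norm_num)).mp h1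
  have h4 : b ≤ m := (Nat.pow_dvd_pow_iff_le_right (by norm_num)).mp h2
  have hmb : m = b := le_antisymm h3 h4
  subst hmb
  refine ⟨rfl, ?_⟩
  have hpos : 0 < 2 ^ m := by positivity
  apply Nat.eq_of_mul_eq_mul_left hpos
  rw [h]; ring

theorem split {m c g q b : ℕ} (hm : 2 ≤ m) (hc : Odd c) (hg : g.Prime) (hq : q.Prime)
    (hgq : g ≠ q) (h : 2 ^ m * c = g * q ^ b) : q = 2 ∧ b = m ∧ g = c := by
  have h2 : 2 ∣ g * q ^ b := by
    rw [← h]
    exact Dvd.dvd.mul_right (dvd_pow_self 2 (by omega)) c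
  rcases (Nat.Prime.dvd_mul Nat.prime_two).mp h2 with h3 | h3
  · exfalso
    have hg2 : g = 2 := ((Nat.prime_dvd_prime_iff_eq Nat.prime_two hg).mp h3).symm
    have hq2 : q ≠ 2 := fun h' => hgq (hg2.trans h'.symm)
    have hqodd : Odd (q ^ b) := (hq.odd_of_ne_two hq2).pow
    obtain ⟨m', rfl⟩ : ∃ m', m = m' + 2 := ⟨m - 2, by omega⟩
    rw [hg2] at h
    have h5 : q ^ b = 2 ^ m' * c + 2 ^ m' * c := by
      have : 2 * q ^ b = 2 * (2 ^ m' * c + 2 ^ m' * c) := by rw [← h]; ring
      omega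
    exact (Nat.not_even_iff_odd.mpr hqodd) ⟨_, h5⟩
  · have hq2 : q = 2 :=
      ((Nat.prime_dvd_prime_iff_eq Nat.prime_two hq).mp (Nat.prime_two.dvd_of_dvd_pow h3)).symm
    subst hq2
    have hgodd : Odd g := hg.odd_of_ne_two hgq
    obtain ⟨h1, h2⟩ := pow_split hc hgodd h
    exact ⟨rfl, h1.symm, h2.symm⟩

theorem three_dvd_pow_add_one {k : ℕ} (hk : Odd k) : 3 ∣ 2 ^ k + 1 := by
  have := Odd.nat_add_dvd_pow_add_pow 2 1 hk
  simpa using this

theorem three_dvd_pow_sub_one {k : ℕ} (hk : Even k) : 3 ∣ 2 ^ k - 1 := by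
  obtain ⟨j, rfl⟩ := hk
  have h4 : 2 ^ (j + j) = 4 ^ j := by rw [← two_mul, pow_mul]; norm_num
  rw [h4]
  have := Nat.sub_dvd_pow_sub_pow 4 1 j
  simpa using this

theorem eq_three {P : ℕ} (hP : P.Prime) (h : 3 ∣ P) : P = 3 :=
  ((Nat.prime_dvd_prime_iff_eq Nat.prime_three hP).mp h).symm

theorem pow_add_one_eq_three {k : ℕ} (h : 2 ^ k + 1 = 3) : k = 1 := by
  have : 2 ^ k = 2 ^ 1 := by omega
  exact Nat.pow_right_injective (le_refl 2) this

theorem pow_sub_one_eq_three {k : ℕ} (h : 2 ^ k - 1 = 3) : k = 2 := by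
  have : 2 ^ k = 2 ^ 2 := by omega
  exact Nat.pow_right_injective (le_refl 2) this

theorem caseC1 {m : ℕ} (hm : 2 ≤ m) (h1 : (2 ^ (m - 1) + 1).Prime) (h2 : (2 ^ m + 1).Prime) :
    m = 2 := by
  rcases Nat.even_or_odd m with he | ho
  · have hodd : Odd (m - 1) := Nat.Even.sub_odd (by omega) he odd_one
    have := pow_add_one_eq_three (eq_three h1 (three_dvd_pow_add_one hodd))
    omega
  · have := pow_add_one_eq_three (eq_three h2 (three_dvd_pow_add_one ho))
    omega

theorem caseC2 {m : ℕ} (hm : 3 ≤ m) (h1 : (2 ^ (m - 1) - 1).Prime) (h2 : (2 ^ m - 1).Prime) :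
    m = 3 := by
  rcases Nat.even_or_odd m with he | ho
  · have := pow_sub_one_eq_three (eq_three h2 (three_dvd_pow_sub_one he))
    omega
  · have hev : Even (m - 1) := by
      obtain ⟨j, rfl⟩ := ho
      exact ⟨j, by omega⟩
    have := pow_sub_one_eq_three (eq_three h1 (three_dvd_pow_sub_one hev))
    omega

theorem caseC3 {m : ℕ} (hm : 2 ≤ m) (h1 : (2 ^ m - 1).Prime) (h2 : (2 ^ m + 1).Prime) :
    m = 2 := by
  rcases Nat.even_or_odd m with he | ho
  · exact pow_sub_one_eq_three (eq_three h1 (three_dvd_pow_sub_one he))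
  · have := pow_add_one_eq_three (eq_three h2 (three_dvd_pow_add_one ho))
    omega

/-! ### the order of `PSL(2, F)` -/

theorem card_psl2 (F : Type) [Field F] [Fintype F] (k : ℕ) (hF : Fintype.card F = k + 1) :
    Nat.gcd 2 k * Nat.card (Matrix.ProjectiveSpecialLinearGroup (Fin 2) F)
      = k * (k + 1) * (k + 2) := by
  have h := Cfsg.Agent.Helper2.card_PSL_mul (F := F) 2 (by norm_num)
  rw [hF, Fin.prod_univ_two] at h
  simp only [Fin.val_zero, Fin.val_one, pow_zero, pow_one, Nat.add_sub_cancel] at h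
  have h1 : (k + 1) ^ 2 - 1 = k * (k + 2) := by
    have : (k + 1) ^ 2 = k * (k + 2) + 1 := by ring
    omega
  have h2 : (k + 1) ^ 2 - (k + 1) = (k + 1) * k := by
    have : (k + 1) ^ 2 = (k + 1) * k + (k + 1) := by ring
    omega
  rw [h1, h2] at h
  have hk : 0 < k := by
    have := Fintype.one_lt_card (α := F)
    omega
  apply Nat.eq_of_mul_eq_mul_left hk
  calc k * (Nat.gcd 2 k * Nat.card (Matrix.ProjectiveSpecialLinearGroup (Fin 2) F))
      = Nat.gcd 2 k * (k * Nat.card (Matrix.ProjectiveSpecialLinearGroup (Fin 2) F)) := by ring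
    _ = k * (k + 2) * ((k + 1) * k) := h
    _ = k * (k * (k + 1) * (k + 2)) := by ring

/-! ### groups of order twice an odd number -/

theorem not_simple_of_two_mul_odd {G : Type u} [Group G] [Finite G] (k : ℕ) (hk : Odd k)
    (hk1 : 1 < k) (hG : Nat.card G = 2 * k) : ¬ IsSimpleGroup G := by
  intro hs
  haveI : Fact (Nat.Prime 2) := ⟨Nat.prime_two⟩
  obtain ⟨P⟩ : Nonempty (Sylow 2 G) := inferInstance
  have hPcard : Nat.card (P : Subgroup G) = 2 := by
    rw [Sylow.card_eq_multiplicity, hG]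
    have : (2 * k).factorization 2 = 1 := by
      rw [Nat.factorization_mul (by norm_num) (by omega)]
      simp [Nat.Prime.factorization_self Nat.prime_two,
        Nat.factorization_eq_zero_of_not_dvd (hk.not_two_dvd_nat)]
    rw [this, pow_one]
  have hP : Subgroup.normalizer ((P : Subgroup G) : Set G)
      ≤ Subgroup.centralizer ((P : Subgroup G) : Set G) := by
    intro g hg
    rw [Subgroup.mem_centralizer_iff]
    intro h hh
    by_cases h1 : h = 1
    · subst h1; simp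
    · obtain ⟨t, ht, huniq⟩ := (Nat.card_eq_two_iff' (1 : (P : Subgroup G))).mp hPcard
      have e1 : (⟨h, hh⟩ : (P : Subgroup G)) = t :=
        huniq _ (fun hc => h1 (congrArg Subtype.val hc))
      have hmem : g * h * g⁻¹ ∈ (P : Subgroup G) :=
        (Subgroup.mem_normalizer_iff.mp hg h).mp hh
      have e2 : (⟨g * h * g⁻¹, hmem⟩ : (P : Subgroup G)) = t := by
        apply huniq
        intro hc
        apply h1
        have h3 : g * h * g⁻¹ = 1 := congrArg Subtype.val hc
        exact conj_eq_one_iff.mp h3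
      have h4 : g * h * g⁻¹ = h := congrArg Subtype.val (e2.trans e1.symm)
      calc h * g = (g * h * g⁻¹) * g := by rw [h4]
        _ = g * h := by group
  have hcompl : Subgroup.IsComplement' (MonoidHom.transferSylow P hP).ker (P : Subgroup G) :=
    MonoidHom.ker_transferSylow_isComplement' P hP
  have hcard := hcompl.card_mul_card
  rw [hPcard, hG] at hcard
  have hN : Nat.card (MonoidHom.transferSylow P hP).ker = k := by omega
  rcases (inferInstance : (MonoidHom.transferSylow P hP).ker.Normal).eq_bot_or_eq_top with h | h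
  · rw [h, Subgroup.card_bot] at hN; omega
  · rw [h, Subgroup.card_top, hG] at hN; omega

/-! ### the core: one application of S0997 -/

theorem core {G : Type u} [Group G] [Finite G] (P g₀ q b : ℕ) (hP : P.Prime) (hg : g₀.Prime)
    (hq : q.Prime) (hgq : g₀ ≠ q) (hcard : Nat.card G = P * q ^ b * g₀) (hlt : g₀ < P - 1)
    (h : (∃ (m : ℕ) (F : Type) (_ : Field F) (_ : Fintype F), Fintype.card F = P ∧
          (P = 2 ^ m + 1 ∨ P = 2 ^ m - 1) ∧
          Nonempty (G ≃* Matrix.ProjectiveSpecialLinearGroup (Fin 2) F)) ∨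
        (∃ (m : ℕ) (F : Type) (_ : Field F) (_ : Fintype F), Fintype.card F = 2 ^ m ∧
          P = 2 ^ m + 1 ∧ 3 < P ∧
          Nonempty (G ≃* Matrix.ProjectiveSpecialLinearGroup (Fin 2) F))) :
    (∃ (F : Type) (_ : Field F) (_ : Fintype F), Fintype.card F = 5 ∧
        Nonempty (G ≃* Matrix.ProjectiveSpecialLinearGroup (Fin 2) F)) ∨
      (∃ (F : Type) (_ : Field F) (_ : Fintype F), Fintype.card F = 7 ∧
        Nonempty (G ≃* Matrix.ProjectiveSpecialLinearGroup (Fin 2) F)) := by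
  have hg2 := hg.two_le
  have hPpos : 0 < P := hP.pos
  rcases h with ⟨m, F, hField, hFin, hF, hPm, ⟨e⟩⟩ | ⟨m, F, hField, hFin, hF, hPm, h3, ⟨e⟩⟩
  · have hX : Nat.card G = Nat.card (Matrix.ProjectiveSpecialLinearGroup (Fin 2) F) :=
      Nat.card_congr e.toEquiv
    rcases hPm with hPm | hPm
    · -- `P = 2 ^ m + 1`
      have hm2 : 2 ≤ m := by
        by_contra hm
        have : m = 0 ∨ m = 1 := by omega
        rcases this with rfl | rfl <;> omega
      obtain ⟨m', rfl⟩ : ∃ m', m = m' + 1 := ⟨m - 1, by omega⟩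
      have hpow : 2 ^ (m' + 1) = 2 * 2 ^ m' := by rw [pow_succ]; ring
      have hc := card_psl2 F (2 ^ (m' + 1)) (by rw [hF, hPm])
      have hgcd : Nat.gcd 2 (2 ^ (m' + 1)) = 2 :=
        Nat.gcd_eq_left (dvd_pow_self 2 (by omega))
      rw [hgcd, ← hX, hcard, hPm] at hc
      have hkey : 2 ^ (m' + 1) * (2 ^ m' + 1) = g₀ * q ^ b := by
        apply Nat.eq_of_mul_eq_mul_left (show 0 < 2 * (2 ^ (m' + 1) + 1) by positivity)
        calc 2 * (2 ^ (m' + 1) + 1) * (2 ^ (m' + 1) * (2 ^ m' + 1))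
            = 2 ^ (m' + 1) * (2 ^ (m' + 1) + 1) * (2 ^ (m' + 1) + 2) := by rw [hpow]; ring
          _ = 2 * ((2 ^ (m' + 1) + 1) * q ^ b * g₀) := hc.symm
          _ = 2 * (2 ^ (m' + 1) + 1) * (g₀ * q ^ b) := by ring
      have hodd : Odd (2 ^ m' + 1) := by
        have : Even (2 ^ m') := (Nat.even_pow' (by omega)).mpr even_two
        exact this.add_one
      obtain ⟨hq2, hb, hg0⟩ := split hm2 hodd hg hq hgq hkey
      have hm := caseC1 hm2 (by rw [Nat.add_sub_cancel, ← hg0]; exact hg) (by rw [← hPm]; exact hP)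
      left
      refine ⟨F, hField, hFin, ?_, ⟨e⟩⟩
      rw [hF, hPm, hm]
      norm_num
    · -- `P = 2 ^ m - 1`
      have hm3 : 3 ≤ m := by
        by_contra hm
        have : m = 0 ∨ m = 1 ∨ m = 2 := by omega
        rcases this with rfl | rfl | rfl <;> omega
      obtain ⟨m', rfl⟩ : ∃ m', m = m' + 1 := ⟨m - 1, by omega⟩
      have hpow : 2 ^ (m' + 1) = 2 * 2 ^ m' := by rw [pow_succ]; ring
      have hs4 : 4 ≤ 2 ^ m' := by
        have : 2 ^ 2 ≤ 2 ^ m' := Nat.pow_le_pow_right (by norm_num) (by omega)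
        simpa using this
      obtain ⟨u, hu⟩ : ∃ u, 2 ^ m' = u + 1 := ⟨2 ^ m' - 1, by omega⟩
      have hPu : P = 2 * u + 1 := by omega
      have hc := card_psl2 F (2 * u) (by rw [hF, hPu])
      have hgcd : Nat.gcd 2 (2 * u) = 2 := Nat.gcd_eq_left (dvd_mul_right 2 u)
      rw [hgcd, ← hX, hcard, hPu] at hc
      have hkey : 2 ^ (m' + 1) * u = g₀ * q ^ b := by
        apply Nat.eq_of_mul_eq_mul_left (show 0 < 2 * (2 * u + 1) by positivity)
        calc 2 * (2 * u + 1) * (2 ^ (m' + 1) * u)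
            = 2 * u * (2 * u + 1) * (2 * u + 2) := by rw [hpow, hu]; ring
          _ = 2 * ((2 * u + 1) * q ^ b * g₀) := hc.symm
          _ = 2 * (2 * u + 1) * (g₀ * q ^ b) := by ring
      have hodd : Odd u := by
        have hev : Even (2 ^ m') := (Nat.even_pow' (by omega)).mpr even_two
        rw [hu] at hev
        by_contra hne
        rw [Nat.not_odd_iff_even] at hne
        exact (Nat.not_even_iff_odd.mpr hne.add_one) hev
      obtain ⟨hq2, hb, hg0⟩ := split (show 2 ≤ m' + 1 by omega) hodd hg hq hgq hkey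
      have hu' : u = 2 ^ m' - 1 := by omega
      have hm := caseC2 hm3 (by rw [Nat.add_sub_cancel, ← hu', ← hg0]; exact hg)
        (by rw [← hPm]; exact hP)
      right
      refine ⟨F, hField, hFin, ?_, ⟨e⟩⟩
      rw [hF, hPm, hm]
      norm_num
  · -- `|F| = 2 ^ m`, `P = 2 ^ m + 1`
    have hX : Nat.card G = Nat.card (Matrix.ProjectiveSpecialLinearGroup (Fin 2) F) :=
      Nat.card_congr e.toEquiv
    have hm2 : 2 ≤ m := by
      by_contra hm
      have : m = 0 ∨ m = 1 := by omega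
      rcases this with rfl | rfl <;> omega
    have hs4 : 4 ≤ 2 ^ m := by
      have : 2 ^ 2 ≤ 2 ^ m := Nat.pow_le_pow_right (by norm_num) hm2
      simpa using this
    obtain ⟨k, hk⟩ : ∃ k, 2 ^ m = k + 1 := ⟨2 ^ m - 1, by omega⟩
    have hodd : Odd k := by
      have hev : Even (2 ^ m) := (Nat.even_pow' (by omega)).mpr even_two
      rw [hk] at hev
      by_contra hne
      rw [Nat.not_odd_iff_even] at hne
      exact (Nat.not_even_iff_odd.mpr hne.add_one) hev
    have hc := card_psl2 F k (by rw [hF, hk])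
    have hgcd : Nat.gcd 2 k = 1 := Nat.coprime_two_left.mpr hodd
    have hPk : P = k + 2 := by omega
    rw [hgcd, ← hX, hcard, hPk, one_mul] at hc
    have hkey : 2 ^ m * k = g₀ * q ^ b := by
      apply Nat.eq_of_mul_eq_mul_left (show 0 < k + 2 by positivity)
      calc (k + 2) * (2 ^ m * k) = k * (k + 1) * (k + 2) := by rw [hk]; ring
        _ = (k + 2) * q ^ b * g₀ := hc.symm
        _ = (k + 2) * (g₀ * q ^ b) := by ring
    obtain ⟨hq2, hb, hg0⟩ := split hm2 hodd hg hq hgq hkey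
    have hk' : k = 2 ^ m - 1 := by omega
    have hm := caseC3 hm2 (by rw [← hk', ← hg0]; exact hg) (by rw [← hPm]; exact hP)
    subst hm
    -- `PSL(2,4) ≅ A₅ ≅ PSL(2,5)`
    haveI : Fact (Nat.Prime 5) := ⟨by norm_num⟩
    obtain ⟨e4⟩ := Cfsg.Agent.S0252.result (F := F) (by rw [hF]; norm_num)
    obtain ⟨e5⟩ := Cfsg.Agent.S0253.result (F := ZMod 5) (by rw [ZMod.card])
    left
    exact ⟨ZMod 5, inferInstance, inferInstance, ZMod.card 5, ⟨(e.trans e4).trans e5.symm⟩⟩

end COR998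

/-! ## PIECE COR998: S0998 from S0997 (section 9 of the paper proof) -/

open COR998 in
/-- PIECE COR998. -/
theorem cor998 {G : Type u} [Group G] [Finite G] [IsSimpleGroup G] (hG : ¬ IsCyclic G)
    (h997 : ∀ (p q b g₀ : ℕ), p.Prime → q.Prime → p ≠ q → Nat.card G = p * q ^ b * g₀ → g₀ < p - 1 →
      (∃ (m : ℕ) (F : Type) (_ : Field F) (_ : Fintype F), Fintype.card F = p ∧
          (p = 2 ^ m + 1 ∨ p = 2 ^ m - 1) ∧
          Nonempty (G ≃* Matrix.ProjectiveSpecialLinearGroup (Fin 2) F)) ∨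
        (∃ (m : ℕ) (F : Type) (_ : Field F) (_ : Fintype F), Fintype.card F = 2 ^ m ∧ p = 2 ^ m + 1 ∧
          3 < p ∧ Nonempty (G ≃* Matrix.ProjectiveSpecialLinearGroup (Fin 2) F)))
    (p q r b : ℕ) (hp : p.Prime) (hq : q.Prime) (hr : r.Prime) (hpq : p ≠ q) (hpr : p ≠ r)
    (hqr : q ≠ r) (hG' : Nat.card G = p * r * q ^ b) :
    (∃ (F : Type) (_ : Field F) (_ : Fintype F), Fintype.card F = 5 ∧
        Nonempty (G ≃* Matrix.ProjectiveSpecialLinearGroup (Fin 2) F)) ∨
      (∃ (F : Type) (_ : Field F) (_ : Fintype F), Fintype.card F = 7 ∧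
        Nonempty (G ≃* Matrix.ProjectiveSpecialLinearGroup (Fin 2) F)) := by
  by_cases h1 : r < p - 1
  · have hc : Nat.card G = p * q ^ b * r := by rw [hG']; ring
    exact core p r q b hp hr hq (Ne.symm hqr) hc h1 (h997 p q b r hp hq hpq hc h1)
  by_cases h2 : p < r - 1
  · have hc : Nat.card G = r * q ^ b * p := by rw [hG']; ring
    exact core r p q b hr hp hq hpq hc h2 (h997 r q b p hr hq (Ne.symm hqr) hc h2)
  -- `{p, r} = {2, 3}`
  exfalso
  have hp2 := hp.two_le
  have hr2 := hr.two_le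
  have hpr6 : p * r = 6 ∧ (p = 2 ∨ p = 3) ∧ (r = 2 ∨ r = 3) := by
    rcases hp.eq_two_or_odd' with hp' | hp'
    · subst hp'
      have : r = 3 := by omega
      subst this
      exact ⟨rfl, Or.inl rfl, Or.inr rfl⟩
    · rcases hr.eq_two_or_odd' with hr' | hr'
      · subst hr'
        have : p = 3 := by omega
        subst this
        exact ⟨rfl, Or.inr rfl, Or.inl rfl⟩
      · exfalso
        obtain ⟨i, rfl⟩ := hp'
        obtain ⟨j, rfl⟩ := hr'
        omega
  obtain ⟨h6, hp23, hr23⟩ := hpr6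
  have hq2 : q ≠ 2 := by
    rintro rfl
    rcases hp23 with rfl | rfl
    · exact hpq rfl
    · rcases hr23 with rfl | rfl
      · exact hqr rfl
      · exact hpr rfl
  have hqodd : Odd (q ^ b) := (hq.odd_of_ne_two hq2).pow
  have hodd : Odd (3 * q ^ b) := (by decide : Odd 3).mul hqodd
  have hqpos : 0 < q ^ b := pow_pos hq.pos b
  refine not_simple_of_two_mul_odd (G := G) (3 * q ^ b) hodd (by omega) ?_ inferInstance
  rw [hG', h6]; ring

end Cfsg.Agent.Helper21.BT
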