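import Mathlib

/-!
# S4441, piece GT (helper15, for helper5's skeleton)

`P` a Sylow `p`-subgroup of order `p`: the `p`-regular elements of `C_G(P)` form a subgroup `K`
(Burnside transfer), `C_G(P) = P × K`, and `N_G(P) / C_G(P)` is cyclic of order dividing `p - 1`.
-/

set_option autoImplicit false
set_option linter.unusedSectionVars false
set_option linter.unusedVariables false
set_option linter.style.haveILetI false

namespace Cfsg.Agent.Helper5.TL

variable (p : ℕ) [Fact p.Prime]

section PartIII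

variable {G : Type*} [Group G] [Finite G]

theorem gt_comm_of_card (P : Sylow p G) (hP : Nat.card P = p) (a b : G)
    (ha : a ∈ (P : Subgroup G)) (hb : b ∈ (P : Subgroup G)) : a * b = b * a := by
  haveI : IsCyclic (P : Subgroup G) := isCyclic_of_prime_card hP
  have hc : IsMulCommutative (P : Subgroup G) := IsCyclic.isMulCommutative
  have := isMulCommutative_iff.mp hc ⟨a, ha⟩ ⟨b, hb⟩
  exact congrArg Subtype.val this

theorem gt_le_centralizer (P : Sylow p G) (hP : Nat.card P = p) :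
    (P : Subgroup G) ≤ Subgroup.centralizer ((P : Subgroup G) : Set G) := by
  intro a ha
  rw [Subgroup.mem_centralizer_iff]
  intro b hb
  exact gt_comm_of_card p P hP b a hb ha

theorem gt_orderOf_conj (n k : G) : orderOf (n * k * n⁻¹) = orderOf k := by
  have := orderOf_injective (MulAut.conj n).toMonoidHom (MulAut.conj n).injective k
  simpa [MulAut.conj_apply] using this

/-- PIECE GT: the p-regular elements of `C_G(P)` form a subgroup `K` with the properties needed. -/
theorem exists_pcore (P : Sylow p G) (hP : Nat.card P = p) :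
    ∃ (K : Subgroup G) (n₀ : G),
      (∀ y : G, y ∈ K ↔ (y ∈ Subgroup.centralizer ((P : Subgroup G) : Set G) ∧ ¬ p ∣ orderOf y)) ∧
      ¬ p ∣ Nat.card K ∧
      (∀ n ∈ Subgroup.normalizer ((P : Subgroup G) : Set G), ∀ k ∈ K, n * k * n⁻¹ ∈ K) ∧
      (∀ c : G, (∀ u ∈ (P : Subgroup G), c * u = u * c) →
        ∃ u k : G, u ∈ (P : Subgroup G) ∧ k ∈ K ∧ c = u * k) ∧
      n₀ ∈ Subgroup.normalizer ((P : Subgroup G) : Set G) ∧
      (∀ n ∈ Subgroup.normalizer ((P : Subgroup G) : Set G),
        ∃ (i : ℕ) (c : G), (∀ u ∈ (P : Subgroup G), c * u = u * c) ∧ n = n₀ ^ i * c) := by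
  classical
  have hp : p.Prime := Fact.out
  set C : Subgroup G := Subgroup.centralizer ((P : Subgroup G) : Set G) with hC
  have hPC : (P : Subgroup G) ≤ C := gt_le_centralizer p P hP
  set Q : Sylow p C := P.subtype hPC with hQdef
  have hQmem : ∀ c : C, c ∈ (Q : Subgroup C) ↔ (c : G) ∈ (P : Subgroup G) := by
    intro c
    rw [hQdef, Sylow.coe_subtype, Subgroup.mem_subgroupOf]
  have hQ : Subgroup.normalizer ((Q : Subgroup C) : Set C) ≤
      Subgroup.centralizer ((Q : Subgroup C) : Set C) := by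
    intro c _
    rw [Subgroup.mem_centralizer_iff]
    intro q hq
    have h1 : (q : G) ∈ (P : Subgroup G) := (hQmem q).1 hq
    have h2 := (Subgroup.mem_centralizer_iff.1 c.2) (q : G) h1
    exact Subtype.ext h2
  have hQcard : Nat.card (Q : Subgroup C) = p := by
    rw [hQdef, Sylow.coe_subtype]
    exact (Nat.card_congr (Subgroup.subgroupOfEquivOfLe hPC).toEquiv).trans hP
  set f := MonoidHom.transferSylow Q hQ with hf
  have hcompl : Subgroup.IsComplement' f.ker (Q : Subgroup C) :=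
    MonoidHom.ker_transferSylow_isComplement' Q hQ
  have hnd : ¬ p ∣ Nat.card f.ker := MonoidHom.not_dvd_card_ker_transferSylow Q hQ
  -- the subgroup `K`
  have hK1 : ∀ y : G, y ∈ f.ker.map C.subtype ↔ (y ∈ C ∧ ¬ p ∣ orderOf y) := by
    intro y
    constructor
    · rintro ⟨k, hk, rfl⟩
      refine ⟨k.2, fun hdvd => hnd ?_⟩
      have h1 : orderOf (⟨k, hk⟩ : f.ker) = orderOf (k : G) := by
        rw [← Subgroup.orderOf_coe, ← Subgroup.orderOf_coe]
      have h2 : orderOf (⟨k, hk⟩ : f.ker) ∣ Nat.card f.ker := orderOf_dvd_natCard _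
      rw [h1] at h2
      exact hdvd.trans h2
    · rintro ⟨hyC, hy⟩
      refine ⟨⟨y, hyC⟩, ?_, rfl⟩
      change f ⟨y, hyC⟩ = 1
      have h1 : orderOf (f ⟨y, hyC⟩) ∣ orderOf y := by
        have h0 : orderOf (f ⟨y, hyC⟩) ∣ orderOf (⟨y, hyC⟩ : C) := orderOf_map_dvd f _
        rwa [Subgroup.orderOf_mk y hyC] at h0
      have h2 : orderOf (f ⟨y, hyC⟩) ∣ p := by
        have := orderOf_dvd_natCard (f ⟨y, hyC⟩)
        rwa [hQcard] at this
      rcases (Nat.dvd_prime hp).1 h2 with h | h
      · exact orderOf_eq_one_iff.1 h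
      · exact absurd (h ▸ h1) hy
  refine ⟨f.ker.map C.subtype, ?_⟩
  -- the generator `n₀`
  haveI : IsCyclic (P : Subgroup G) := isCyclic_of_prime_card hP
  haveI : Fact (Nat.card (P : Subgroup G)).Prime := ⟨by rw [hP]; exact hp⟩
  haveI : IsCyclic (MulAut (P : Subgroup G)) :=
    isCyclic_of_injective (IsCyclic.mulAutMulEquiv (P : Subgroup G)).toMonoidHom
      (IsCyclic.mulAutMulEquiv (P : Subgroup G)).injective
  set φ := (P : Subgroup G).normalizerMonoidHom with hφ
  haveI : IsCyclic φ.range := Subgroup.isCyclic _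
  obtain ⟨g₀, hg₀⟩ := IsCyclic.exists_monoid_generator (α := φ.range)
  obtain ⟨n₀, hn₀⟩ := g₀.2
  refine ⟨(n₀ : G), hK1, ?_, ?_, ?_, n₀.2, ?_⟩
  · rw [Subgroup.card_map_of_injective C.subtype_injective]
    exact hnd
  · intro n hn k hk
    rw [hK1] at hk ⊢
    refine ⟨?_, by rw [gt_orderOf_conj]; exact hk.2⟩
    rw [Subgroup.mem_centralizer_iff]
    intro u hu
    have hu' : n⁻¹ * u * n ∈ (P : Subgroup G) := by
      have := (Subgroup.mem_normalizer_iff.1 (Subgroup.inv_mem _ hn) u).1 hu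
      simpa using this
    have h1 := (Subgroup.mem_centralizer_iff.1 hk.1) _ hu'
    calc u * (n * k * n⁻¹) = n * ((n⁻¹ * u * n) * k) * n⁻¹ := by group
      _ = n * (k * (n⁻¹ * u * n)) * n⁻¹ := by rw [h1]
      _ = n * k * n⁻¹ * u := by group
  · intro c hc
    have hcC : c ∈ C := by
      rw [hC, Subgroup.mem_centralizer_iff]
      intro u hu
      exact (hc u hu).symm
    obtain ⟨⟨k, q⟩, hkq⟩ := hcompl.2 (⟨c, hcC⟩ : C)
    have hkq' : (k : C) * (q : C) = ⟨c, hcC⟩ := hkq
    have hqP : ((q : C) : G) ∈ (P : Subgroup G) := (hQmem q).1 q.2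
    refine ⟨((q : C) : G), ((k : C) : G), hqP, ⟨(k : C), k.2, rfl⟩, ?_⟩
    have h1 : ((k : C) : G) * ((q : C) : G) = c := congrArg Subtype.val hkq'
    have h2 := (Subgroup.mem_centralizer_iff.1 (k : C).2) _ hqP
    rw [← h1, h2]
  · intro n hn
    have hmem : (⟨φ ⟨n, hn⟩, ⟨_, rfl⟩⟩ : φ.range) ∈ Submonoid.powers g₀ := hg₀ _
    obtain ⟨i, hi⟩ := hmem
    have h1 : φ (n₀ ^ i) = φ ⟨n, hn⟩ := by
      have := congrArg Subtype.val hi
      rw [SubmonoidClass.coe_pow] at this
      rw [map_pow, hn₀]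
      exact this
    have h2 : (n₀ ^ i)⁻¹ * ⟨n, hn⟩ ∈ φ.ker := by
      rw [MonoidHom.mem_ker, map_mul, map_inv, h1, inv_mul_cancel]
    rw [hφ, Subgroup.normalizerMonoidHom_ker, Subgroup.mem_subgroupOf] at h2
    refine ⟨i, ((n₀ : G) ^ i)⁻¹ * n, ?_, by group⟩
    intro u hu
    have h3 : (((n₀ ^ i)⁻¹ * ⟨n, hn⟩ : Subgroup.normalizer ((P : Subgroup G) : Set G)) : G) =
        ((n₀ : G) ^ i)⁻¹ * n := by
      simp
    rw [h3] at h2
    exact ((Subgroup.mem_centralizer_iff.1 h2) u hu).symm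

end PartIII

section PartIV

variable {G : Type*} [Group G] [Finite G]

/-- the index `e` divides `p - 1`, so it is `1`, `p - 1` or strictly between. -/
theorem relIndex_dvd (P : Sylow p G) (hP : Nat.card P = p) :
    (Subgroup.centralizer ((P : Subgroup G) : Set G)).relIndex
      (Subgroup.normalizer ((P : Subgroup G) : Set G)) ∣ p - 1 := by
  have hp : p.Prime := Fact.out
  haveI : IsCyclic (P : Subgroup G) := isCyclic_of_prime_card hP
  have key := Subgroup.card_dvd_of_injective _
    (QuotientGroup.kerLift_injective (P : Subgroup G).normalizerMonoidHom)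
  rw [Subgroup.normalizerMonoidHom_ker, ← Subgroup.index, ← Subgroup.relIndex] at key
  rwa [IsCyclic.card_mulAut, hP, Nat.totient_prime hp] at key

end PartIV

end Cfsg.Agent.Helper5.TL
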