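import Mathlib
import Cfsg.Prelude.Def_Blocks
import Cfsg.Agent.Lib.Helper5.TLConcl
import Cfsg.Agent.S0939
import Cfsg.Agent.Lib.Helper22.PPrimeCore
import Cfsg.Agent.Lib.Helper24.CharQuotient
import Cfsg.Agent.Lib.Helper24.CharAbelian
import Cfsg.Agent.Lib.Helper24.CharConjOrbits

/-!
# S4441, piece FIN1 (helper15, for helper5's skeleton)

The case `e = 1`: `N_G(P) = C_G(P)`, so `G` has a normal `p`-complement (Burnside) and the
principal block consists of the `p` linear characters of `G / O_{p'}(G)`.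
-/

set_option autoImplicit false
set_option linter.unusedSectionVars false
set_option linter.unusedVariables false
set_option linter.style.haveILetI false

namespace Cfsg.Agent.Helper5.TL

open Cfsg Cfsg.Agent.Helper24

variable (p : ℕ) [Fact p.Prime]

section PartIV

variable {G : Type*} [Group G] [Finite G]

/-- with `N_G(P) ≤ C_G(P)` and `|P| = p` the `p'`-core has index `p` -/
theorem fin1_index (P : Sylow p G) (hP : Nat.card P = p)
    (hNC : Subgroup.normalizer ((P : Subgroup G) : Set G) ≤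
      Subgroup.centralizer ((P : Subgroup G) : Set G)) :
    (Cfsg.pPrimeCore p G).index = p := by
  have hp : p.Prime := Fact.out
  set f := MonoidHom.transferSylow P hNC with hf
  have hcompl : Subgroup.IsComplement' f.ker (P : Subgroup G) :=
    MonoidHom.ker_transferSylow_isComplement' P hNC
  have hnd : ¬ p ∣ Nat.card f.ker := MonoidHom.not_dvd_card_ker_transferSylow P hNC
  have hcardG : Nat.card f.ker * p = Nat.card G := by
    have := hcompl.card_mul_card
    rwa [hP] at this
  have hle : f.ker ≤ Cfsg.pPrimeCore p G :=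
    Cfsg.Agent.Helper22.le_pPrimeCore p f.ker inferInstance
      ((Nat.Prime.coprime_iff_not_dvd hp).2 hnd).symm
  have hOcop : (Nat.card (Cfsg.pPrimeCore p G)).Coprime p :=
    Cfsg.Agent.Helper22.card_pPrimeCore_coprime p
  have h1 : Nat.card (Cfsg.pPrimeCore p G) ∣ Nat.card f.ker := by
    have : Nat.card (Cfsg.pPrimeCore p G) ∣ Nat.card f.ker * p :=
      hcardG ▸ Subgroup.card_subgroup_dvd_card _
    exact Nat.Coprime.dvd_of_dvd_mul_right hOcop this
  have h2 : Nat.card f.ker ∣ Nat.card (Cfsg.pPrimeCore p G) := Subgroup.card_dvd_of_le hle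
  have h3 : Nat.card (Cfsg.pPrimeCore p G) = Nat.card f.ker := Nat.dvd_antisymm h1 h2
  have h4 := (Cfsg.pPrimeCore p G).card_mul_index
  rw [h3, ← hcardG] at h4
  exact Nat.eq_of_mul_eq_mul_left Nat.card_pos h4

/-- PIECE FIN1: the case `e = 1` (normal p-complement). -/
theorem concl_one (M : Ideal Cfsg.AlgInt) (hM : Cfsg.IsPModular p M) (hodd : p ≠ 2) (P : Sylow p G)
    (hP : Nat.card P = p)
    (he : (Subgroup.centralizer ((P : Subgroup G) : Set G)).relIndex
      (Subgroup.normalizer ((P : Subgroup G) : Set G)) = 1) : Concl p M P 1 := by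
  classical
  have hp : p.Prime := Fact.out
  have hNC : Subgroup.normalizer ((P : Subgroup G) : Set G) ≤
      Subgroup.centralizer ((P : Subgroup G) : Set G) := Subgroup.relIndex_eq_one.1 he
  have hidx : (Cfsg.pPrimeCore p G).index = p := fin1_index p P hP hNC
  haveI hOn : (Cfsg.pPrimeCore p G).Normal := Cfsg.Agent.Helper22.pPrimeCore_normal p
  have hB : Cfsg.principalBlock M G =
      {χ : Cfsg.IrrCharacter G | ∀ n ∈ Cfsg.pPrimeCore p G, (χ : G → ℂ) n = (χ : G → ℂ) 1} :=
    Cfsg.Agent.S0939.result p M hM ⟨1, by rw [hidx, pow_one]⟩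
  -- the quotient
  have hQcard : Nat.card (G ⧸ Cfsg.pPrimeCore p G) = p := by
    have h0 : Nat.card (G ⧸ Cfsg.pPrimeCore p G) = (Cfsg.pPrimeCore p G).index := rfl
    rw [h0, hidx]
  haveI : IsCyclic (G ⧸ Cfsg.pPrimeCore p G) := isCyclic_of_prime_card hQcard
  have hQcomm : ∀ a b : G ⧸ Cfsg.pPrimeCore p G, a * b = b * a := by
    intro a b
    have hc : IsMulCommutative (G ⧸ Cfsg.pPrimeCore p G) := IsCyclic.isMulCommutative
    exact isMulCommutative_iff.mp hc a b
  haveI : Fintype (G ⧸ Cfsg.pPrimeCore p G) := Fintype.ofFinite _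
  letI : Fintype (IrrCharacter (G ⧸ Cfsg.pPrimeCore p G)) := irrFintype
  haveI : Finite (IrrCharacter G) := irr_finite'
  -- the members of the principal block are linear
  have hdeg : ∀ χ ∈ Cfsg.principalBlock M G, Cfsg.charDegree (χ : G → ℂ) = 1 := by
    intro χ hχ
    rw [hB] at hχ
    obtain ⟨ψ, hψ⟩ := (inflateEquiv (Cfsg.pPrimeCore p G)).surjective ⟨χ, hχ⟩
    have h1 : (χ : G → ℂ) = (ψ : G ⧸ Cfsg.pPrimeCore p G → ℂ) ∘
        (QuotientGroup.mk : G → G ⧸ Cfsg.pPrimeCore p G) := by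
      rw [← inflateEquiv_coe, hψ]
    rw [h1, charDegree_inflate]
    exact charDegree_eq_one_of_comm hQcomm ψ.2
  -- `p`-regular elements lie in the core
  have hreg : ∀ g : G, ¬ p ∣ orderOf g → g ∈ Cfsg.pPrimeCore p G := by
    intro g hg
    rw [← QuotientGroup.eq_one_iff]
    have h1 : orderOf (g : G ⧸ Cfsg.pPrimeCore p G) ∣ orderOf g :=
      orderOf_map_dvd (QuotientGroup.mk' (Cfsg.pPrimeCore p G)) g
    have h2 : orderOf (g : G ⧸ Cfsg.pPrimeCore p G) ∣ p := by
      have := orderOf_dvd_natCard (g : G ⧸ Cfsg.pPrimeCore p G)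
      rwa [hQcard] at this
    rcases (Nat.dvd_prime hp).1 h2 with h | h
    · exact orderOf_eq_one_iff.1 h
    · exact absurd (h ▸ h1) hg
  -- values at `p`-regular elements
  have hval : ∀ χ ∈ Cfsg.principalBlock M G, ∀ g : G, ¬ p ∣ orderOf g → (χ : G → ℂ) g = 1 := by
    intro χ hχ g hg
    have h1 : (χ : G → ℂ) g = (χ : G → ℂ) 1 := by
      have := hχ
      rw [hB] at this
      exact this g (hreg g hg)
    rw [h1, irr_one_eq_charDegree χ.2, hdeg χ hχ, Nat.cast_one]
  -- the number of members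
  have hcardB : (Cfsg.principalBlock M G).ncard = p := by
    rw [← Nat.card_coe_set_eq, hB]
    have h1 : Nat.card {χ : Cfsg.IrrCharacter G // ∀ n ∈ Cfsg.pPrimeCore p G,
        (χ : G → ℂ) n = (χ : G → ℂ) 1} = Nat.card (IrrCharacter (G ⧸ Cfsg.pPrimeCore p G)) :=
      (Nat.card_congr (inflateEquiv (Cfsg.pPrimeCore p G))).symm
    rw [card_irr_of_comm hQcomm, hQcard] at h1
    exact h1
  -- the principal character
  set pc : Cfsg.IrrCharacter G := ⟨fun _ => (1 : ℂ), isIrrCharacter_one⟩ with hpc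
  have hpcB : pc ∈ Cfsg.principalBlock M G := by
    rw [hB]
    intro n _
    rfl
  refine ⟨{pc}, Cfsg.principalBlock M G \ {pc}, ?_, ?_, ?_, ?_, fun _ => 1, 1, ?_, Or.inl rfl,
    ?_, ?_, ?_⟩
  · exact (Set.union_sdiff_cancel (Set.singleton_subset_iff.2 hpcB)).symm
  · exact Set.disjoint_sdiff_right
  · rw [Nat.card_coe_set_eq, Set.ncard_singleton]
  · rw [Nat.card_coe_set_eq, Set.ncard_sdiff_singleton_of_mem hpcB, hcardB, Nat.div_one]
  · intro χ hχ
    rw [Set.mem_singleton_iff] at hχ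
    subst hχ
    refine ⟨Or.inl rfl, ?_, ?_⟩
    · have : Cfsg.charDegree ((pc : Cfsg.IrrCharacter G) : G → ℂ) = 1 := hdeg pc hpcB
      rw [this]
      rfl
    · intro x _ _ y _ _
      simp [hpc]
  · intro θ hθ
    rw [hdeg θ hθ.1]
    simp
  · intro θ hθ θ' hθ' g hg
    rw [hval θ hθ.1 g hg, hval θ' hθ'.1 g hg]
  · intro θ hθ g hg
    rw [hval θ hθ.1 g hg, finsum_mem_singleton]

end PartIV

end Cfsg.Agent.Helper5.TL
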