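import Mathlib
import Cfsg.Prelude.Def_Blocks
import Cfsg.Agent.Lib.Helper5.TLDDefs
import Cfsg.Agent.Lib.Helper24.CharComplete

set_option autoImplicit false

/-!
# S4442 GLUE piece GT: `C_G(P) ≤ T ≤ N_G(P)`
-/

namespace Cfsg.Agent.Helper5.TLD

open scoped ComplexConjugate
open Cfsg

variable (p : ℕ) [Fact p.Prime] {G : Type*} [Group G] [Finite G]

/-- GLUE GT: `C_G(P) ≤ T ≤ N_G(P)` (class functions are invariant under inner automorphisms). -/
theorem cent_le_T_le_norm (P : Sylow p G)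
    (θ : IrrCharacter (Subgroup.centralizer ((P : Subgroup G) : Set G))) (T : Subgroup G)
    (hT : ∀ g : G, g ∈ T ↔ (g ∈ Subgroup.normalizer ((P : Subgroup G) : Set G) ∧
      ∀ c c' : Subgroup.centralizer ((P : Subgroup G) : Set G), (c' : G) = g * c * g⁻¹ →
        (θ : Subgroup.centralizer ((P : Subgroup G) : Set G) → ℂ) c' =
          (θ : Subgroup.centralizer ((P : Subgroup G) : Set G) → ℂ) c)) :
    Subgroup.centralizer ((P : Subgroup G) : Set G) ≤ T ∧
      T ≤ Subgroup.normalizer ((P : Subgroup G) : Set G) := by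
  refine ⟨?_, fun g hg => ((hT g).1 hg).1⟩
  intro g hg
  rw [hT g]
  refine ⟨Subgroup.centralizer_le_normalizer ((P : Subgroup G) : Set G) hg, ?_⟩
  intro c c' hcc'
  have hcf := Cfsg.Agent.Helper24.isClassFunction_of_isIrrCharacter θ.2
  have h1 : c' = (⟨g, hg⟩ : Subgroup.centralizer ((P : Subgroup G) : Set G)) * c *
      (⟨g, hg⟩ : Subgroup.centralizer ((P : Subgroup G) : Set G))⁻¹ := by
    apply Subtype.ext
    rw [hcc']
    rfl
  rw [h1]
  exact hcf c ⟨g, hg⟩

end Cfsg.Agent.Helper5.TLD
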