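import Mathlib

/-!
# S4503 piece THA2 (helper15): sums over `T` of conjugates versus sums over the powers of the
`T`-package `ν`
-/

set_option autoImplicit false
set_option linter.unusedSectionVars false
set_option linter.unusedVariables false
set_option linter.style.haveILetI false

namespace Cfsg.Agent.Helper14.BRB

universe u

variable {G : Type u} [Group G] [Fintype G] (p : ℕ) [Fact p.Prime] (P : Sylow p G)

local notation "𝒞" => Subgroup.centralizer ((P : Subgroup G) : Set G)
local notation "𝒩" => Subgroup.normalizer ((P : Subgroup G) : Set G)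

/-- Distinct powers `ν ^ k`, `k < e`, of a fixed-point-free package are distinct on `P`. -/
theorem tha2_unique (hP : Nat.card P = p) (e : ℕ) (ν : MulAut (P : Subgroup G))
    (hfpf : ∀ k : ℕ, 0 < k → k < e → ∀ a : (P : Subgroup G), (ν ^ k) a = a → a = 1)
    {k k' : ℕ} (hk : k < e) (hk' : k' < e)
    (h : ∀ b : (P : Subgroup G), (ν ^ k) b = (ν ^ k') b) : k = k' := by
  have hp : p.Prime := Fact.out
  have hP' : Nat.card (P : Subgroup G) = p := hP
  obtain ⟨b, hb⟩ : ∃ b : (P : Subgroup G), b ≠ 1 := by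
    haveI : Nontrivial (P : Subgroup G) :=
      Finite.one_lt_card_iff_nontrivial.1 (by rw [hP']; exact hp.one_lt)
    exact exists_ne 1
  have key : ∀ {i j : ℕ}, i < j → j < e →
      (∀ b : (P : Subgroup G), (ν ^ i) b = (ν ^ j) b) → False := by
    intro i j hij hj hh
    have hd : (ν ^ (j - i)) b = b := by
      have h1 := hh b
      have h2 : ν ^ j = ν ^ i * ν ^ (j - i) := by
        rw [← pow_add]
        congr 1
        omega
      rw [h2, MulAut.mul_apply] at h1
      exact ((ν ^ i).injective h1).symm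
    exact hb (hfpf (j - i) (by omega) (by omega) b hd)
  rcases lt_trichotomy k k' with hlt | heq | hgt
  · exact (key hlt hk' h).elim
  · exact heq
  · exact (key hgt hk (fun b => (h b).symm)).elim

/-- PIECE THA2: sums over `T` of conjugates versus sums over the powers of the `T`-package `ν`. -/
theorem sum_conj_package (hP : Nat.card P = p) (T : Subgroup G) (hCT : 𝒞 ≤ T) (hTN : T ≤ 𝒩)
    (e : ℕ) (he : (𝒞).relIndex T = e)
    (ν : MulAut (P : Subgroup G)) (hνe : ν ^ e = 1)
    (hfpf : ∀ k : ℕ, 0 < k → k < e → ∀ a : (P : Subgroup G), (ν ^ k) a = a → a = 1)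
    (hν3 : ∀ t ∈ T, ∃ k < e, ∀ a : (P : Subgroup G),
      t * (a : G) * t⁻¹ = (((ν ^ k) a : (P : Subgroup G)) : G))
    (hν4 : ∀ k : ℕ, ∃ t ∈ T, ∀ a : (P : Subgroup G),
      t * (a : G) * t⁻¹ = (((ν ^ k) a : (P : Subgroup G)) : G))
    (h : G → ℂ) (a : (P : Subgroup G)) :
    ∑ᶠ t ∈ (T : Set G), h (t * (a : G) * t⁻¹) =
      (Nat.card 𝒞 : ℂ) * ∑ k ∈ Finset.range e, h (((ν ^ k) a : (P : Subgroup G)) : G) := by
  classical
  let κ : G → ℕ := fun t => if ht : t ∈ T then Classical.choose (hν3 t ht) else 0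
  have hκ : ∀ t (ht : t ∈ T), κ t < e ∧ ∀ b : (P : Subgroup G),
      t * (b : G) * t⁻¹ = (((ν ^ κ t) b : (P : Subgroup G)) : G) := by
    intro t ht
    have h1 := Classical.choose_spec (hν3 t ht)
    simp only [κ, dif_pos ht]
    exact h1
  have hκuniq : ∀ t ∈ T, ∀ k < e, (∀ b : (P : Subgroup G),
      t * (b : G) * t⁻¹ = (((ν ^ k) b : (P : Subgroup G)) : G)) → κ t = k := by
    intro t ht k hk hb
    apply tha2_unique p P hP e ν hfpf (hκ t ht).1 hk
    intro b
    apply Subtype.ext
    rw [← (hκ t ht).2 b, hb b]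
  have hmemTf : ∀ t, t ∈ (Set.toFinite (T : Set G)).toFinset ↔ t ∈ T := by
    intro t
    simp
  rw [finsum_mem_eq_finite_toFinset_sum _ (Set.toFinite (T : Set G))]
  have h1 : ∑ t ∈ (Set.toFinite (T : Set G)).toFinset, h (t * (a : G) * t⁻¹) =
      ∑ t ∈ (Set.toFinite (T : Set G)).toFinset, h (((ν ^ κ t) a : (P : Subgroup G)) : G) := by
    apply Finset.sum_congr rfl
    intro t ht
    rw [(hκ t ((hmemTf t).1 ht)).2 a]
  rw [h1, ← Finset.sum_fiberwise_of_maps_to' (g := κ) (t := Finset.range e)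
    (fun t ht => Finset.mem_range.2 (hκ t ((hmemTf t).1 ht)).1)
    (fun k => h (((ν ^ k) a : (P : Subgroup G)) : G)), Finset.mul_sum]
  apply Finset.sum_congr rfl
  intro k hk
  have hk' : k < e := Finset.mem_range.1 hk
  obtain ⟨tk, htkT, htk⟩ := hν4 k
  have hfib : ((Set.toFinite (T : Set G)).toFinset.filter (fun t => κ t = k)) =
      (Set.toFinite ((𝒞 : Subgroup G) : Set G)).toFinset.image (fun c => tk * c) := by
    ext x
    simp only [Finset.mem_filter, Finset.mem_image, Set.Finite.mem_toFinset, SetLike.mem_coe]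
    constructor
    · rintro ⟨hxT, hxk⟩
      refine ⟨tk⁻¹ * x, ?_, by group⟩
      rw [Subgroup.mem_centralizer_iff]
      intro b hb
      have h2 := (hκ x hxT).2 ⟨b, hb⟩
      rw [hxk, ← htk ⟨b, hb⟩] at h2
      have h3 : x * b * x⁻¹ = tk * b * tk⁻¹ := h2
      calc b * (tk⁻¹ * x) = tk⁻¹ * (tk * b * tk⁻¹) * x := by group
        _ = tk⁻¹ * (x * b * x⁻¹) * x := by rw [h3]
        _ = tk⁻¹ * x * b := by group
    · rintro ⟨c, hc, rfl⟩
      have hcT : tk * c ∈ T := T.mul_mem htkT (hCT hc)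
      refine ⟨hcT, hκuniq _ hcT k hk' ?_⟩
      intro b
      rw [← htk b]
      have hcb : (b : G) * c = c * b := (Subgroup.mem_centralizer_iff.1 hc) b b.2
      calc tk * c * (b : G) * (tk * c)⁻¹ = tk * (c * b * c⁻¹) * tk⁻¹ := by group
        _ = tk * ((b : G) * c * c⁻¹) * tk⁻¹ := by rw [hcb]
        _ = tk * b * tk⁻¹ := by group
  have hcard : ((Set.toFinite (T : Set G)).toFinset.filter (fun t => κ t = k)).card =
      Nat.card 𝒞 := by
    rw [hfib, Finset.card_image_of_injective _ (mul_right_injective tk),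
      ← Nat.card_eq_card_finite_toFinset]
    rfl
  rw [Finset.sum_const, nsmul_eq_mul, hcard]

end Cfsg.Agent.Helper14.BRB
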