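import Mathlib
import Cfsg.Prelude.Def_Blocks
import Cfsg.Agent.Lib.Helper5.TLDDefs
import Cfsg.Agent.Lib.Helper24.CharComplete
import Cfsg.Agent.Lib.Helper1.TLDDCONJ

set_option autoImplicit false

/-!
# S4442 GLUE piece GINV: `T`-invariance of the `θ`-part in terms of `ν`
-/

namespace Cfsg.Agent.Helper5.TLD

open scoped ComplexConjugate
open Cfsg

variable (p : ℕ) [Fact p.Prime] {G : Type*} [Group G] [Finite G]

/-- GLUE GINV: `T`-invariance in terms of `ν` (from `FP_conj` and the `T`-package). -/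
theorem FP_nu_invariant (P : Sylow p G)
    (θ : IrrCharacter (Subgroup.centralizer ((P : Subgroup G) : Set G))) (T : Subgroup G)
    (hT : ∀ g : G, g ∈ T ↔ (g ∈ Subgroup.normalizer ((P : Subgroup G) : Set G) ∧
      ∀ c c' : Subgroup.centralizer ((P : Subgroup G) : Set G), (c' : G) = g * c * g⁻¹ →
        (θ : Subgroup.centralizer ((P : Subgroup G) : Set G) → ℂ) c' =
          (θ : Subgroup.centralizer ((P : Subgroup G) : Set G) → ℂ) c))
    (ν : MulAut (P : Subgroup G))
    (hν4 : ∀ k : ℕ, ∃ t ∈ T, ∀ a : (P : Subgroup G),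
        t * (a : G) * t⁻¹ = (((ν ^ k) a : (P : Subgroup G)) : G))
    (χ : IrrCharacter G) (a : (P : Subgroup G)) :
    FP p P (θ : Subgroup.centralizer ((P : Subgroup G) : Set G) → ℂ) (χ : G → ℂ)
        ((ν a : (P : Subgroup G)) : G) =
      FP p P (θ : Subgroup.centralizer ((P : Subgroup G) : Set G) → ℂ) (χ : G → ℂ) (a : G) := by
  obtain ⟨t, htT, ht⟩ := hν4 1
  obtain ⟨htN, htθ⟩ := (hT t).1 htT
  have hχ := Cfsg.Agent.Helper24.isClassFunction_of_isIrrCharacter χ.2
  have h := FP_conj p P (θ : Subgroup.centralizer ((P : Subgroup G) : Set G) → ℂ)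
    (θ : Subgroup.centralizer ((P : Subgroup G) : Set G) → ℂ) (χ : G → ℂ) hχ t htN
    (fun c c' hcc' => (htθ c c' hcc').symm) (a : G)
  rw [h, ht a, pow_one]

end Cfsg.Agent.Helper5.TLD
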