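import Mathlib
import Cfsg.Prelude.Def_Blocks
import Cfsg.Agent.Lib.Helper5.TLDDefs
import Cfsg.Agent.Lib.Helper12.TLDDW

set_option autoImplicit false

/-!
# S4442 GLUE piece GW: weak block orthogonality as a sum over a finset
-/

namespace Cfsg.Agent.Helper5.TLD

open scoped ComplexConjugate
open Cfsg

variable (p : ℕ) [Fact p.Prime] {G : Type*} [Group G] [Finite G]

/-- GLUE GW: weak block orthogonality as a sum over the finset `X`. -/
theorem w_rel (M : Ideal AlgInt) (hM : IsPModular p M) (P : Sylow p G)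
    (hP : Nat.card P = p) (B : Set (IrrCharacter G)) (hB : IsPBlock M B)
    (θ : Subgroup.centralizer ((P : Subgroup G) : Set G) → ℂ)
    (X : Finset (IrrCharacter G)) (hX : ∀ χ, χ ∈ X ↔ χ ∈ B)
    (g : G) (hg : ¬ p ∣ orderOf g) (a : (P : Subgroup G)) (ha : a ≠ 1) :
    ∑ χ ∈ X, (χ : G → ℂ) g * FP p P θ (χ : G → ℂ) (a : G) = 0 := by
  have hBX : B = (X : Set (IrrCharacter G)) := by
    ext χ
    exact (hX χ).symm
  have ha1 : (a : G) ≠ 1 := fun h => ha (Subtype.ext h)
  have h := sum_block_mul_FP p M hM P hP B hB θ g hg (a : G) a.2 ha1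
  rw [hBX, finsum_mem_coe_finset] at h
  exact h

end Cfsg.Agent.Helper5.TLD
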