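import Mathlib

/-!
# S4503 pieces RED3 and RED2 (helper15): pure group theory for a minimal counterexample
-/

set_option autoImplicit false
set_option linter.unusedSectionVars false
set_option linter.unusedVariables false

namespace Cfsg.Agent.Helper14.BRB

universe u

variable {G : Type u} [Group G] [Fintype G] (p : ℕ) [Fact p.Prime] (P : Sylow p G)

local notation "𝒞" => Subgroup.centralizer ((P : Subgroup G) : Set G)
local notation "𝒩" => Subgroup.normalizer ((P : Subgroup G) : Set G)

/-- PIECE RED3: from the induction hypothesis, proper subgroups containing `P` normalize `P`. -/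
theorem le_normalizer_of_ih (hP : Nat.card P = p)
    (ih : ∀ H : Subgroup G, H ≠ ⊤ → p ∣ Nat.card H →
      ∃ Q : Subgroup H, Q.Normal ∧ Nat.card Q = p)
    (H : Subgroup G) (hPH : (P : Subgroup G) ≤ H) (hH : H ≠ ⊤) : H ≤ 𝒩 := by
  have hP' : Nat.card (P : Subgroup G) = p := hP
  have hdvd : p ∣ Nat.card H := by
    rw [← hP']
    exact Subgroup.card_dvd_of_le hPH
  obtain ⟨Q, hQn, hQc⟩ := ih H hH hdvd
  have hQ'c : Nat.card (Q.map H.subtype) = p := by
    rw [Subgroup.card_map_of_injective H.subtype_injective]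
    exact hQc
  have hQ'p : IsPGroup p (Q.map H.subtype) := IsPGroup.of_card (n := 1) (by rw [hQ'c, pow_one])
  have hnorm : H ≤ Subgroup.normalizer ((Q.map H.subtype : Subgroup G) : Set G) := by
    intro h hh
    rw [Subgroup.mem_normalizer_iff]
    intro x
    constructor
    · rintro ⟨y, hy, rfl⟩
      exact ⟨⟨h, hh⟩ * y * ⟨h, hh⟩⁻¹, hQn.conj_mem y hy ⟨h, hh⟩, rfl⟩
    · rintro ⟨y, hy, hyx⟩
      refine ⟨⟨h, hh⟩⁻¹ * y * ⟨h, hh⟩, ?_, ?_⟩
      · have h1 := hQn.conj_mem y hy (⟨h, hh⟩⁻¹)
        rwa [inv_inv] at h1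
      · have h2 : (H.subtype y : G) = h * x * h⁻¹ := hyx
        change h⁻¹ * (H.subtype y : G) * h = x
        rw [h2]
        group
  have hsup : IsPGroup p ((P : Subgroup G) ⊔ Q.map H.subtype : Subgroup G) :=
    IsPGroup.to_sup_of_normal_right' P.isPGroup' hQ'p (hPH.trans hnorm)
  have heq : (P : Subgroup G) ⊔ Q.map H.subtype = P := P.is_maximal' hsup le_sup_left
  have hle : Q.map H.subtype ≤ (P : Subgroup G) := le_sup_right.trans heq.le
  have hQP : Q.map H.subtype = (P : Subgroup G) :=
    Subgroup.eq_of_le_of_card_ge hle (by rw [hQ'c, hP'])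
  rw [← hQP]
  exact hnorm

/-- PIECE RED2: `G` is the normal closure of `P`. -/
theorem normalClosure_eq_top (hP : Nat.card P = p)
    (hR3 : ∀ H : Subgroup G, (P : Subgroup G) ≤ H → H ≠ ⊤ → H ≤ 𝒩)
    (hnn : ∀ H : Subgroup G, H.Normal → Nat.card H ≠ p) :
    Subgroup.normalClosure ((P : Subgroup G) : Set G) = ⊤ := by
  by_contra hne
  have hP' : Nat.card (P : Subgroup G) = p := hP
  have hPL : (P : Subgroup G) ≤ Subgroup.normalClosure ((P : Subgroup G) : Set G) :=
    Subgroup.le_normalClosure
  have hLN := hR3 _ hPL hne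
  have hLnormal : (Subgroup.normalClosure ((P : Subgroup G) : Set G)).Normal :=
    Subgroup.normalClosure_normal
  have hPn : (P : Subgroup G).Normal := by
    constructor
    intro n hn g
    have hPgp : IsPGroup p ((P : Subgroup G).map (MulAut.conj g).toMonoidHom) :=
      P.isPGroup'.map _
    have hPgL : (P : Subgroup G).map (MulAut.conj g).toMonoidHom ≤
        Subgroup.normalClosure ((P : Subgroup G) : Set G) := by
      intro x hx
      obtain ⟨y, hy, hyx⟩ := Subgroup.mem_map.1 hx
      rw [← hyx, MulEquiv.coe_toMonoidHom, MulAut.conj_apply]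
      exact hLnormal.conj_mem y (hPL hy) g
    have hsup : IsPGroup p
        ((P : Subgroup G) ⊔ (P : Subgroup G).map (MulAut.conj g).toMonoidHom : Subgroup G) :=
      IsPGroup.to_sup_of_normal_left' P.isPGroup' hPgp (hPgL.trans hLN)
    have heq := P.is_maximal' hsup le_sup_left
    have h1 : g * n * g⁻¹ ∈ (P : Subgroup G).map (MulAut.conj g).toMonoidHom := by
      apply Subgroup.mem_map.2
      exact ⟨n, hn, by rw [MulEquiv.coe_toMonoidHom, MulAut.conj_apply]⟩
    have h2 : (P : Subgroup G).map (MulAut.conj g).toMonoidHom ≤ (P : Subgroup G) :=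
      le_sup_right.trans heq.le
    exact h2 h1
  exact hnn (P : Subgroup G) hPn hP'
end Cfsg.Agent.Helper14.BRB
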