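import Mathlib
import Cfsg.Prelude.Def_BaumannBlocks
import Cfsg.Agent.Lib.Helper15.SylowIn

set_option autoImplicit false

namespace Cfsg.Agent.Helper15

open scoped Pointwise

variable {G : Type*} [Group G]

/-- `|HK| |H ∩ K| = |H| |K|` for the product *set* `HK`. -/
theorem card_mul_set_mul_card_inf [Finite G] (H K : Subgroup G) :
    Nat.card ↥((H : Set G) * (K : Set G)) * Nat.card ↥(H ⊓ K : Subgroup G)
      = Nat.card H * Nat.card K := by
  classical
  have : Fintype ↥((H : Set G) * (K : Set G)) := Fintype.ofFinite _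
  let f : H × K → ↥((H : Set G) * (K : Set G)) :=
    fun hk => ⟨(hk.1 : G) * hk.2, Set.mul_mem_mul hk.1.2 hk.2.2⟩
  have hfib : ∀ y, Nat.card {x // f x = y} = Nat.card ↥(H ⊓ K : Subgroup G) := by
    intro y
    obtain ⟨⟨h₀, k₀⟩, rfl⟩ : ∃ x, f x = y := by
      obtain ⟨g, hg⟩ := y
      obtain ⟨h, hh, k, hk, rfl⟩ := Set.mem_mul.1 hg
      exact ⟨(⟨h, hh⟩, ⟨k, hk⟩), rfl⟩
    apply Nat.card_congr
    refine
      { toFun := fun x => ⟨(h₀ : G)⁻¹ * (x.1.1 : G), ?_, ?_⟩
        invFun := fun d => ⟨(⟨(h₀ : G) * d, H.mul_mem h₀.2 d.2.1⟩,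
          ⟨(d : G)⁻¹ * k₀, K.mul_mem (K.inv_mem d.2.2) k₀.2⟩), ?_⟩
        left_inv := ?_
        right_inv := ?_ }
    · exact H.mul_mem (H.inv_mem h₀.2) x.1.1.2
    · have hx : (x.1.1 : G) * x.1.2 = (h₀ : G) * k₀ := congrArg Subtype.val x.2
      have : (h₀ : G)⁻¹ * (x.1.1 : G) = (k₀ : G) * (x.1.2 : G)⁻¹ := by
        rw [inv_mul_eq_iff_eq_mul, ← mul_assoc, ← hx]; group
      rw [this]
      exact K.mul_mem k₀.2 (K.inv_mem x.1.2.2)
    · apply Subtype.ext
      show (h₀ : G) * d * ((d : G)⁻¹ * k₀) = (h₀ : G) * k₀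
      group
    · rintro ⟨⟨h, k⟩, hx⟩
      have hx' : (h : G) * k = (h₀ : G) * k₀ := congrArg Subtype.val hx
      apply Subtype.ext
      apply Prod.ext
      · apply Subtype.ext
        show (h₀ : G) * ((h₀ : G)⁻¹ * h) = h
        group
      · apply Subtype.ext
        show ((h₀ : G)⁻¹ * h)⁻¹ * k₀ = k
        have : (k₀ : G) = (h₀ : G)⁻¹ * (h * k) := by rw [hx']; group
        rw [this]; group
    · intro d
      apply Subtype.ext
      show (h₀ : G)⁻¹ * ((h₀ : G) * d) = d
      group
  rw [← Nat.card_prod H K, Nat.card_congr (Equiv.sigmaFiberEquiv f).symm, Nat.card_sigma]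
  simp only [hfib, Finset.sum_const, Finset.card_univ, smul_eq_mul]
  rw [Nat.card_eq_fintype_card]

theorem mul_set_subset_sup (H K : Subgroup G) : (H : Set G) * (K : Set G) ⊆ ((H ⊔ K : Subgroup G) : Set G) := by
  rintro _ ⟨h, hh, k, hk, rfl⟩
  exact Subgroup.mul_mem_sup hh hk

/-- `|H| |K| ≤ |H ⊔ K| |H ⊓ K|` -/
theorem card_mul_card_le_sup_inf [Finite G] (H K : Subgroup G) :
    Nat.card H * Nat.card K ≤ Nat.card ↥(H ⊔ K : Subgroup G) * Nat.card ↥(H ⊓ K : Subgroup G) := by
  rw [← card_mul_set_mul_card_inf]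
  apply Nat.mul_le_mul_right
  exact Nat.card_mono (Set.toFinite _) (mul_set_subset_sup H K)

/-- equality in the product inequality forces `H ⊔ K = HK` as sets -/
theorem coe_sup_eq_mul_of_card [Finite G] {H K : Subgroup G}
    (h : Nat.card H * Nat.card K = Nat.card ↥(H ⊔ K : Subgroup G) * Nat.card ↥(H ⊓ K : Subgroup G)) :
    ((H ⊔ K : Subgroup G) : Set G) = (H : Set G) * (K : Set G) := by
  rw [← card_mul_set_mul_card_inf] at h
  have hpos : 0 < Nat.card ↥(H ⊓ K : Subgroup G) := Nat.card_pos
  have h2 : Nat.card ↥((H : Set G) * (K : Set G)) = Nat.card ↥(H ⊔ K : Subgroup G) :=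
    Nat.eq_of_mul_eq_mul_right hpos h
  symm
  apply Set.eq_of_subset_of_ncard_le (mul_set_subset_sup H K) _ (Set.toFinite _)
  rw [← Nat.card_coe_set_eq, ← Nat.card_coe_set_eq, h2]
  rfl

theorem card_mul_card_eq_of_coe_sup_eq_mul [Finite G] {H K : Subgroup G}
    (h : ((H ⊔ K : Subgroup G) : Set G) = (H : Set G) * (K : Set G)) :
    Nat.card H * Nat.card K = Nat.card ↥(H ⊔ K : Subgroup G) * Nat.card ↥(H ⊓ K : Subgroup G) := by
  rw [← card_mul_set_mul_card_inf, ← h]
  rfl

/-! ### the Chermak–Delgado measure -/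

/-- the Chermak–Delgado measure `|H| |C_G(H)|` -/
noncomputable def cdMeasure (H : Subgroup G) : ℕ :=
  Nat.card H * Nat.card ↥(Subgroup.centralizer (H : Set G))

theorem cdMeasure_pos [Finite G] (H : Subgroup G) : 0 < cdMeasure H :=
  Nat.mul_pos Nat.card_pos Nat.card_pos

theorem centralizer_sup (H K : Subgroup G) :
    Subgroup.centralizer ((H ⊔ K : Subgroup G) : Set G)
      = Subgroup.centralizer (H : Set G) ⊓ Subgroup.centralizer (K : Set G) := by
  apply le_antisymm
  · exact le_inf (Subgroup.centralizer_le (SetLike.coe_subset_coe.2 le_sup_left))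
      (Subgroup.centralizer_le (SetLike.coe_subset_coe.2 le_sup_right))
  · intro g hg
    rw [Subgroup.mem_inf] at hg
    have hH : H ≤ Subgroup.centralizer ({g} : Set G) := by
      intro h hh
      rw [Subgroup.mem_centralizer_iff]
      intro y hy
      rw [Set.mem_singleton_iff] at hy
      rw [hy]
      exact (Subgroup.mem_centralizer_iff.1 hg.1 h hh).symm
    have hK : K ≤ Subgroup.centralizer ({g} : Set G) := by
      intro h hh
      rw [Subgroup.mem_centralizer_iff]
      intro y hy
      rw [Set.mem_singleton_iff] at hy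
      rw [hy]
      exact (Subgroup.mem_centralizer_iff.1 hg.2 h hh).symm
    rw [Subgroup.mem_centralizer_iff]
    intro y hy
    have := (sup_le hH hK) hy
    rw [Subgroup.mem_centralizer_iff] at this
    exact (this g rfl).symm

theorem centralizer_sup_le_centralizer_inf (H K : Subgroup G) :
    Subgroup.centralizer (H : Set G) ⊔ Subgroup.centralizer (K : Set G)
      ≤ Subgroup.centralizer ((H ⊓ K : Subgroup G) : Set G) :=
  sup_le (Subgroup.centralizer_le (SetLike.coe_subset_coe.2 inf_le_left))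
    (Subgroup.centralizer_le (SetLike.coe_subset_coe.2 inf_le_right))

theorem le_centralizer_centralizer' (H : Subgroup G) :
    H ≤ Subgroup.centralizer ((Subgroup.centralizer (H : Set G) : Subgroup G) : Set G) := by
  intro h hh
  rw [Subgroup.mem_centralizer_iff]
  intro c hc
  exact (Subgroup.mem_centralizer_iff.1 hc h hh).symm

/-- the fundamental inequality `m(H) m(K) ≤ m(H ⊔ K) m(H ⊓ K)` -/
theorem cdMeasure_mul_le [Finite G] (H K : Subgroup G) :
    cdMeasure H * cdMeasure K ≤ cdMeasure (H ⊔ K) * cdMeasure (H ⊓ K) := by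
  unfold cdMeasure
  rw [centralizer_sup]
  have h1 := card_mul_card_le_sup_inf H K
  have h2 := card_mul_card_le_sup_inf (Subgroup.centralizer (H : Set G)) (Subgroup.centralizer (K : Set G))
  have h3 : Nat.card ↥(Subgroup.centralizer (H : Set G) ⊔ Subgroup.centralizer (K : Set G) : Subgroup G)
      ≤ Nat.card ↥(Subgroup.centralizer ((H ⊓ K : Subgroup G) : Set G)) :=
    Nat.card_mono (Set.toFinite _) (centralizer_sup_le_centralizer_inf H K)
  calc Nat.card H * Nat.card ↥(Subgroup.centralizer (H : Set G))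
        * (Nat.card K * Nat.card ↥(Subgroup.centralizer (K : Set G)))
      = (Nat.card H * Nat.card K) * (Nat.card ↥(Subgroup.centralizer (H : Set G))
          * Nat.card ↥(Subgroup.centralizer (K : Set G))) := by ring
    _ ≤ (Nat.card ↥(H ⊔ K : Subgroup G) * Nat.card ↥(H ⊓ K : Subgroup G))
        * (Nat.card ↥(Subgroup.centralizer (H : Set G) ⊔ Subgroup.centralizer (K : Set G) : Subgroup G)
          * Nat.card ↥(Subgroup.centralizer (H : Set G) ⊓ Subgroup.centralizer (K : Set G) : Subgroup G)) :=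
        Nat.mul_le_mul h1 h2
    _ ≤ (Nat.card ↥(H ⊔ K : Subgroup G) * Nat.card ↥(H ⊓ K : Subgroup G))
        * (Nat.card ↥(Subgroup.centralizer ((H ⊓ K : Subgroup G) : Set G))
          * Nat.card ↥(Subgroup.centralizer (H : Set G) ⊓ Subgroup.centralizer (K : Set G) : Subgroup G)) := by
        gcongr
    _ = _ := by ring

/-- consequences of equality in the fundamental inequality -/
theorem cdMeasure_eq_consequences [Finite G] {H K : Subgroup G}
    (h : cdMeasure H * cdMeasure K = cdMeasure (H ⊔ K) * cdMeasure (H ⊓ K)) :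
    ((H ⊔ K : Subgroup G) : Set G) = (H : Set G) * (K : Set G) ∧
    ((Subgroup.centralizer (H : Set G) ⊔ Subgroup.centralizer (K : Set G) : Subgroup G) : Set G)
      = (Subgroup.centralizer (H : Set G) : Set G) * (Subgroup.centralizer (K : Set G) : Set G) ∧
    Subgroup.centralizer ((H ⊓ K : Subgroup G) : Set G)
      = Subgroup.centralizer (H : Set G) ⊔ Subgroup.centralizer (K : Set G) := by
  have h1 := card_mul_card_le_sup_inf H K
  have h2 := card_mul_card_le_sup_inf (Subgroup.centralizer (H : Set G)) (Subgroup.centralizer (K : Set G))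
  have h3 : Nat.card ↥(Subgroup.centralizer (H : Set G) ⊔ Subgroup.centralizer (K : Set G) : Subgroup G)
      ≤ Nat.card ↥(Subgroup.centralizer ((H ⊓ K : Subgroup G) : Set G)) :=
    Nat.card_mono (Set.toFinite _) (centralizer_sup_le_centralizer_inf H K)
  unfold cdMeasure at h
  rw [centralizer_sup] at h
  set a := Nat.card H
  set b := Nat.card K
  set c := Nat.card ↥(Subgroup.centralizer (H : Set G))
  set d := Nat.card ↥(Subgroup.centralizer (K : Set G))
  set s := Nat.card ↥(H ⊔ K : Subgroup G)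
  set i := Nat.card ↥(H ⊓ K : Subgroup G)
  set j := Nat.card ↥(Subgroup.centralizer (H : Set G) ⊔ Subgroup.centralizer (K : Set G) : Subgroup G)
  set cs := Nat.card ↥(Subgroup.centralizer (H : Set G) ⊓ Subgroup.centralizer (K : Set G) : Subgroup G)
  set ci := Nat.card ↥(Subgroup.centralizer ((H ⊓ K : Subgroup G) : Set G))
  have hs : 0 < s := Nat.card_pos
  have hi : 0 < i := Nat.card_pos
  have hj : 0 < j := Nat.card_pos
  have hcs : 0 < cs := Nat.card_pos
  have hci : 0 < ci := Nat.card_pos
  have ha : 0 < a := Nat.card_pos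
  have hb : 0 < b := Nat.card_pos
  have hc : 0 < c := Nat.card_pos
  have hd : 0 < d := Nat.card_pos
  -- a*c*(b*d) = s*cs*(i*ci), a*b ≤ s*i, c*d ≤ j*cs, j ≤ ci
  have e1 : a * b = s * i := by
    by_contra hne
    have hlt : a * b < s * i := lt_of_le_of_ne h1 hne
    have : a * c * (b * d) < s * cs * (i * ci) := by
      calc a * c * (b * d) = (a * b) * (c * d) := by ring
        _ < (s * i) * (j * cs) := Nat.mul_lt_mul_of_lt_of_le hlt h2 (Nat.mul_pos hj hcs)
        _ ≤ (s * i) * (ci * cs) := by gcongr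
        _ = s * cs * (i * ci) := by ring
    omega
  have e2 : c * d = j * cs := by
    by_contra hne
    have hlt : c * d < j * cs := lt_of_le_of_ne h2 hne
    have : a * c * (b * d) < s * cs * (i * ci) := by
      calc a * c * (b * d) = (a * b) * (c * d) := by ring
        _ < (s * i) * (j * cs) := Nat.mul_lt_mul_of_le_of_lt h1 hlt (Nat.mul_pos hs hi)
        _ ≤ (s * i) * (ci * cs) := by gcongr
        _ = s * cs * (i * ci) := by ring
    omega
  have e3 : j = ci := by
    by_contra hne
    have hlt : j < ci := lt_of_le_of_ne h3 hne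
    have : a * c * (b * d) < s * cs * (i * ci) := by
      calc a * c * (b * d) = (a * b) * (c * d) := by ring
        _ ≤ (s * i) * (j * cs) := Nat.mul_le_mul h1 h2
        _ < (s * i) * (ci * cs) := by
            apply Nat.mul_lt_mul_of_pos_left _ (Nat.mul_pos hs hi)
            exact Nat.mul_lt_mul_of_pos_right hlt hcs
        _ = s * cs * (i * ci) := by ring
    omega
  refine ⟨coe_sup_eq_mul_of_card e1, coe_sup_eq_mul_of_card e2, ?_⟩
  symm
  apply Subgroup.eq_of_le_of_card_ge (centralizer_sup_le_centralizer_inf H K)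
  exact e3.ge

/-! ### the largest value of the measure -/

theorem bddAbove_cdMeasure_set (G : Type*) [Group G] [Finite G] :
    BddAbove {k : ℕ | ∃ R : Subgroup G, Nat.card ↥R * Nat.card ↥(Subgroup.centralizer (R : Set G)) = k} := by
  refine ⟨Nat.card G * Nat.card G, ?_⟩
  rintro k ⟨R, rfl⟩
  exact Nat.mul_le_mul (Subgroup.card_le_card_group R) (Subgroup.card_le_card_group _)

theorem cdMeasure_le_max [Finite G] (H : Subgroup G) : cdMeasure H ≤ Cfsg.maxCentralizerProduct G :=
  le_csSup (bddAbove_cdMeasure_set G) ⟨H, rfl⟩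

theorem exists_cdMeasure_eq_max (G : Type*) [Group G] [Finite G] :
    ∃ H : Subgroup G, cdMeasure H = Cfsg.maxCentralizerProduct G := by
  have hne : {k : ℕ | ∃ R : Subgroup G,
      Nat.card ↥R * Nat.card ↥(Subgroup.centralizer (R : Set G)) = k}.Nonempty := ⟨_, ⊥, rfl⟩
  obtain ⟨R, hR⟩ := Nat.sSup_mem hne (bddAbove_cdMeasure_set G)
  exact ⟨R, hR⟩

theorem isCentralizerLarge_iff {H : Subgroup G} :
    Cfsg.IsCentralizerLarge H ↔ cdMeasure H = Cfsg.maxCentralizerProduct G := Iff.rfl

theorem max_pos (G : Type*) [Group G] [Finite G] : 0 < Cfsg.maxCentralizerProduct G := by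
  obtain ⟨H, hH⟩ := exists_cdMeasure_eq_max G
  rw [← hH]; exact cdMeasure_pos H

/-- two members of the Chermak–Delgado lattice: join and meet are members, equality holds -/
theorem IsCentralizerLarge.sup_inf [Finite G] {H K : Subgroup G} (hH : Cfsg.IsCentralizerLarge H)
    (hK : Cfsg.IsCentralizerLarge K) :
    Cfsg.IsCentralizerLarge (H ⊔ K) ∧ Cfsg.IsCentralizerLarge (H ⊓ K) ∧
      cdMeasure H * cdMeasure K = cdMeasure (H ⊔ K) * cdMeasure (H ⊓ K) := by
  rw [isCentralizerLarge_iff] at hH hK ⊢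
  rw [isCentralizerLarge_iff]
  have h1 := cdMeasure_mul_le H K
  have h2 := cdMeasure_le_max (H ⊔ K)
  have h3 := cdMeasure_le_max (H ⊓ K)
  have hpos := max_pos G
  set M := Cfsg.maxCentralizerProduct G
  rw [hH, hK] at h1 ⊢
  have e1 : cdMeasure (H ⊔ K) = M := by
    by_contra hne
    have hlt : cdMeasure (H ⊔ K) < M := lt_of_le_of_ne h2 hne
    have : cdMeasure (H ⊔ K) * cdMeasure (H ⊓ K) < M * M :=
      Nat.mul_lt_mul_of_lt_of_le hlt h3 hpos
    omega
  have e2 : cdMeasure (H ⊓ K) = M := by
    by_contra hne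
    have hlt : cdMeasure (H ⊓ K) < M := lt_of_le_of_ne h3 hne
    have : cdMeasure (H ⊔ K) * cdMeasure (H ⊓ K) < M * M :=
      Nat.mul_lt_mul_of_le_of_lt h2 hlt hpos
    omega
  exact ⟨e1, e2, by rw [e1, e2]⟩

theorem IsCentralizerLarge.sup [Finite G] {H K : Subgroup G} (hH : Cfsg.IsCentralizerLarge H)
    (hK : Cfsg.IsCentralizerLarge K) : Cfsg.IsCentralizerLarge (H ⊔ K) :=
  (IsCentralizerLarge.sup_inf hH hK).1

theorem IsCentralizerLarge.inf [Finite G] {H K : Subgroup G} (hH : Cfsg.IsCentralizerLarge H)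
    (hK : Cfsg.IsCentralizerLarge K) : Cfsg.IsCentralizerLarge (H ⊓ K) :=
  (IsCentralizerLarge.sup_inf hH hK).2.1

theorem IsCentralizerLarge.coe_sup [Finite G] {H K : Subgroup G} (hH : Cfsg.IsCentralizerLarge H)
    (hK : Cfsg.IsCentralizerLarge K) : ((H ⊔ K : Subgroup G) : Set G) = (H : Set G) * (K : Set G) :=
  (cdMeasure_eq_consequences (IsCentralizerLarge.sup_inf hH hK).2.2).1

theorem IsCentralizerLarge.coe_centralizer_sup [Finite G] {H K : Subgroup G}
    (hH : Cfsg.IsCentralizerLarge H) (hK : Cfsg.IsCentralizerLarge K) :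
    ((Subgroup.centralizer (H : Set G) ⊔ Subgroup.centralizer (K : Set G) : Subgroup G) : Set G)
      = (Subgroup.centralizer (H : Set G) : Set G) * (Subgroup.centralizer (K : Set G) : Set G) :=
  (cdMeasure_eq_consequences (IsCentralizerLarge.sup_inf hH hK).2.2).2.1

theorem IsCentralizerLarge.centralizer_inf [Finite G] {H K : Subgroup G}
    (hH : Cfsg.IsCentralizerLarge H) (hK : Cfsg.IsCentralizerLarge K) :
    Subgroup.centralizer ((H ⊓ K : Subgroup G) : Set G)
      = Subgroup.centralizer (H : Set G) ⊔ Subgroup.centralizer (K : Set G) :=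
  (cdMeasure_eq_consequences (IsCentralizerLarge.sup_inf hH hK).2.2).2.2

/-- the centralizer of a member is a member, and the double centralizer is the member itself -/
theorem IsCentralizerLarge.centralizer_and [Finite G] {H : Subgroup G}
    (hH : Cfsg.IsCentralizerLarge H) :
    Cfsg.IsCentralizerLarge (Subgroup.centralizer (H : Set G)) ∧
      H = Subgroup.centralizer ((Subgroup.centralizer (H : Set G) : Subgroup G) : Set G) := by
  rw [isCentralizerLarge_iff] at hH ⊢
  have h1 := cdMeasure_le_max (Subgroup.centralizer (H : Set G))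
  have h2 : Nat.card H ≤ Nat.card ↥(Subgroup.centralizer
      ((Subgroup.centralizer (H : Set G) : Subgroup G) : Set G)) :=
    Nat.card_mono (Set.toFinite _) (le_centralizer_centralizer' H)
  unfold cdMeasure at hH h1 ⊢
  have hc : 0 < Nat.card ↥(Subgroup.centralizer (H : Set G)) := Nat.card_pos
  have h3 : Nat.card ↥(Subgroup.centralizer (H : Set G)) * Nat.card H
      ≤ Nat.card ↥(Subgroup.centralizer (H : Set G)) * Nat.card ↥(Subgroup.centralizer
      ((Subgroup.centralizer (H : Set G) : Subgroup G) : Set G)) := Nat.mul_le_mul_left _ h2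
  have e : Nat.card ↥(Subgroup.centralizer (H : Set G)) * Nat.card ↥(Subgroup.centralizer
      ((Subgroup.centralizer (H : Set G) : Subgroup G) : Set G)) = Cfsg.maxCentralizerProduct G := by
    apply le_antisymm h1
    rw [← hH, mul_comm (Nat.card H)]
    exact h3
  refine ⟨e, ?_⟩
  apply Subgroup.eq_of_le_of_card_ge (le_centralizer_centralizer' H)
  have : Nat.card ↥(Subgroup.centralizer (H : Set G)) * Nat.card ↥(Subgroup.centralizer
      ((Subgroup.centralizer (H : Set G) : Subgroup G) : Set G))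
      = Nat.card ↥(Subgroup.centralizer (H : Set G)) * Nat.card H := by
    rw [e, ← hH, mul_comm]
  exact (Nat.eq_of_mul_eq_mul_left hc this).le

theorem IsCentralizerLarge.centralizer [Finite G] {H : Subgroup G}
    (hH : Cfsg.IsCentralizerLarge H) : Cfsg.IsCentralizerLarge (Subgroup.centralizer (H : Set G)) :=
  (IsCentralizerLarge.centralizer_and hH).1

theorem IsCentralizerLarge.centralizer_centralizer [Finite G] {H : Subgroup G}
    (hH : Cfsg.IsCentralizerLarge H) :
    Subgroup.centralizer ((Subgroup.centralizer (H : Set G) : Subgroup G) : Set G) = H :=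
  (IsCentralizerLarge.centralizer_and hH).2.symm

/-- centralizer of a conjugate -/
theorem centralizer_map_conj (H : Subgroup G) (g : G) :
    Subgroup.centralizer ((H.map (MulAut.conj g).toMonoidHom : Subgroup G) : Set G)
      = (Subgroup.centralizer (H : Set G)).map (MulAut.conj g).toMonoidHom := by
  ext x
  rw [mem_map_conj_iff, Subgroup.mem_centralizer_iff, Subgroup.mem_centralizer_iff]
  constructor
  · intro h y hy
    have := h (g * y * g⁻¹) (conj_mem_map_conj g hy)
    calc y * (g⁻¹ * x * g) = g⁻¹ * ((g * y * g⁻¹) * x) * g := by group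
      _ = g⁻¹ * (x * (g * y * g⁻¹)) * g := by rw [this]
      _ = _ := by group
  · intro h y hy
    rw [SetLike.mem_coe, mem_map_conj_iff] at hy
    have := h _ hy
    calc y * x = g * ((g⁻¹ * y * g) * (g⁻¹ * x * g)) * g⁻¹ := by group
      _ = g * ((g⁻¹ * x * g) * (g⁻¹ * y * g)) * g⁻¹ := by rw [this]
      _ = _ := by group

theorem cdMeasure_map_conj (H : Subgroup G) (g : G) :
    cdMeasure (H.map (MulAut.conj g).toMonoidHom) = cdMeasure H := by
  unfold cdMeasure
  rw [centralizer_map_conj, card_map_conj, card_map_conj]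

theorem IsCentralizerLarge.map_conj {H : Subgroup G} (hH : Cfsg.IsCentralizerLarge H) (g : G) :
    Cfsg.IsCentralizerLarge (H.map (MulAut.conj g).toMonoidHom) := by
  rw [isCentralizerLarge_iff] at hH ⊢
  rw [cdMeasure_map_conj, hH]

end Cfsg.Agent.Helper15
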