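import Mathlib
import Cfsg.Prelude.Def_IsolatedElements
import Cfsg.Agent.Lib.Helper15.Basic
import Cfsg.Agent.Lib.Helper15.SylowIn

set_option autoImplicit false

namespace Cfsg.Agent.Helper15

variable {G : Type*} [Group G]

theorem mem_centralizer_singleton_iff {x g : G} :
    g ∈ Subgroup.centralizer ({x} : Set G) ↔ g * x = x * g := by
  rw [Subgroup.mem_centralizer_iff]
  constructor
  · intro h; exact (h x rfl).symm
  · intro h y hy
    rw [Set.mem_singleton_iff] at hy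
    rw [hy]; exact h.symm

theorem conj_eq_self_iff {x g : G} : g * x * g⁻¹ = x ↔ g * x = x * g := by
  constructor
  · intro h
    calc g * x = (g * x * g⁻¹) * g := by group
      _ = x * g := by rw [h]
  · intro h
    rw [h, mul_inv_cancel_right]

/-- an isolated element of a `p`-subgroup is central in it -/
theorem IsIsolated.commute_of_mem [Finite G] {p : ℕ} [Fact p.Prime] {x : G}
    (hiso : Cfsg.IsIsolated x) {R : Subgroup G} (hR : IsPGroup p R) (hx : x ∈ R) :
    R ≤ Subgroup.centralizer ({x} : Set G) := by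
  have key : R ⊓ Subgroup.normalizer ((R ⊓ Subgroup.centralizer ({x} : Set G) : Subgroup G) : Set G)
      = R ⊓ Subgroup.centralizer ({x} : Set G) := by
    apply le_antisymm
    · rintro n ⟨hnR, hnN⟩
      refine ⟨hnR, ?_⟩
      have hxH : x ∈ R ⊓ Subgroup.centralizer ({x} : Set G) :=
        ⟨hx, mem_centralizer_singleton_iff.2 rfl⟩
      have h1 := (Subgroup.mem_normalizer_iff.1 hnN x).1 hxH
      have h2 : (n * x * n⁻¹) * x = x * (n * x * n⁻¹) := mem_centralizer_singleton_iff.1 h1.2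
      have h3 := hiso n h2.symm
      exact mem_centralizer_singleton_iff.2 (conj_eq_self_iff.1 h3)
    · exact le_inf inf_le_left Subgroup.le_normalizer
  have := eq_of_inf_normalizer_eq hR inf_le_left key
  rw [this]
  exact inf_le_right

theorem IsIsolated.conj {x : G} (hiso : Cfsg.IsIsolated x) (g : G) :
    Cfsg.IsIsolated (g * x * g⁻¹) := by
  intro h hc
  -- h (g x g⁻¹) h⁻¹ commutes with g x g⁻¹; conjugate back by g⁻¹
  have e1 : h * (g * x * g⁻¹) * h⁻¹ = g * ((g⁻¹ * h * g) * x * (g⁻¹ * h * g)⁻¹) * g⁻¹ := by group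
  have hc' : Commute x ((g⁻¹ * h * g) * x * (g⁻¹ * h * g)⁻¹) := by
    have : Commute (g⁻¹ * (g * x * g⁻¹) * g) (g⁻¹ * (h * (g * x * g⁻¹) * h⁻¹) * g) := by
      have := hc.eq
      unfold Commute SemiconjBy
      calc g⁻¹ * (g * x * g⁻¹) * g * (g⁻¹ * (h * (g * x * g⁻¹) * h⁻¹) * g)
          = g⁻¹ * ((g * x * g⁻¹) * (h * (g * x * g⁻¹) * h⁻¹)) * g := by group
        _ = g⁻¹ * ((h * (g * x * g⁻¹) * h⁻¹) * (g * x * g⁻¹)) * g := by rw [this]
        _ = _ := by group
    have e2 : g⁻¹ * (g * x * g⁻¹) * g = x := by group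
    have e3 : g⁻¹ * (h * (g * x * g⁻¹) * h⁻¹) * g = (g⁻¹ * h * g) * x * (g⁻¹ * h * g)⁻¹ := by group
    rwa [e2, e3] at this
  have := hiso _ hc'
  rw [e1, this]

theorem isPGroup_zpowers_of_orderOf {p : ℕ} [Fact p.Prime] {x : G} (hx : ∃ k : ℕ, orderOf x = p ^ k) :
    IsPGroup p ↥(Subgroup.zpowers x) := by
  obtain ⟨k, hk⟩ := hx
  apply IsPGroup.of_card (n := k)
  rw [Nat.card_zpowers, hk]

/-- If the isolated `p`-element `x` commutes with a power of its conjugate `x'`, that power of `x'`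
is the same power of `x`. -/
theorem IsIsolated.conj_zpow_eq [Finite G] {p : ℕ} [Fact p.Prime] {x : G}
    (hiso : Cfsg.IsIsolated x) (hx : ∃ k : ℕ, orderOf x = p ^ k) (g : G) (n : ℤ)
    (hc : Commute x ((g * x * g⁻¹) ^ n)) : (g * x * g⁻¹) ^ n = x ^ n := by
  set x' := g * x * g⁻¹ with hx'
  set K := Subgroup.centralizer ({x' ^ n} : Set G) with hK
  have hxK : x ∈ K := mem_centralizer_singleton_iff.2 hc.eq
  have hx'K : x' ∈ K := mem_centralizer_singleton_iff.2 ((Commute.refl x').zpow_right n).eq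
  have hx'ord : ∃ k : ℕ, orderOf x' = p ^ k := by
    obtain ⟨k, hk⟩ := hx
    refine ⟨k, ?_⟩
    rw [hx', ← hk]
    have := MulEquiv.orderOf_eq (MulAut.conj g) x
    rwa [MulAut.conj_apply] at this
  have hP : IsPGroup p ↥(Subgroup.zpowers x) := isPGroup_zpowers_of_orderOf hx
  have hP' : IsPGroup p ↥(Subgroup.zpowers x') := isPGroup_zpowers_of_orderOf hx'ord
  obtain ⟨T, hxT, hT⟩ := exists_isSylowIn_ge hP ((Subgroup.zpowers_le).2 hxK)
  obtain ⟨T', hxT', hT'⟩ := exists_isSylowIn_ge hP' ((Subgroup.zpowers_le).2 hx'K)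
  obtain ⟨c, hcK, hcT⟩ := hT'.exists_conj hT
  -- c x' c⁻¹ ∈ T
  have h1 : c * x' * c⁻¹ ∈ T := by
    rw [← hcT]
    exact conj_mem_map_conj c (hxT' (Subgroup.mem_zpowers x'))
  have h2 : T ≤ Subgroup.centralizer ({x} : Set G) :=
    IsIsolated.commute_of_mem hiso hT.isPGroup (hxT (Subgroup.mem_zpowers x))
  have h3 : (c * x' * c⁻¹) * x = x * (c * x' * c⁻¹) := mem_centralizer_singleton_iff.1 (h2 h1)
  have e1 : c * x' * c⁻¹ = (c * g) * x * (c * g)⁻¹ := by rw [hx']; group
  have h4 : (c * g) * x * (c * g)⁻¹ = x := by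
    apply hiso
    rw [← e1]
    exact h3.symm
  have h5 : c * x' * c⁻¹ = x := by rw [e1, h4]
  have h6 : c * x' ^ n * c⁻¹ = x' ^ n := by
    rw [conj_eq_self_iff]
    exact mem_centralizer_singleton_iff.1 hcK
  rw [← h6, ← conj_zpow, h5]

end Cfsg.Agent.Helper15
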