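import Mathlib
import Cfsg.Agent.Lib.Helper15.Isolated

set_option autoImplicit false

namespace Cfsg.Agent.Helper15

variable {G : Type*} [Group G]

/-- if coprime powers of `n` lie in a subgroup, so does `n` -/
theorem mem_of_pow_mem_of_coprime {C : Subgroup G} {n : G} {a b : ℕ} (hab : Nat.Coprime a b)
    (ha : n ^ a ∈ C) (hb : n ^ b ∈ C) : n ∈ C := by
  have h1 : ((Nat.gcd a b : ℕ) : ℤ) = a * Nat.gcdA a b + b * Nat.gcdB a b := Nat.gcd_eq_gcd_ab a b
  rw [hab.gcd_eq_one] at h1
  have h2 : n = (n ^ a) ^ (Nat.gcdA a b) * (n ^ b) ^ (Nat.gcdB a b) := by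
    rw [← zpow_natCast n a, ← zpow_natCast n b, ← zpow_mul, ← zpow_mul, ← zpow_add, ← h1]
    simp
  rw [h2]
  exact C.mul_mem (C.zpow_mem ha _) (C.zpow_mem hb _)

/-- A cyclic Sylow `p`-subgroup `P` whose normalizer fixes a nontrivial element of `P` is centralized
by its normalizer. -/
theorem normalizer_le_centralizer_of_cyclic_of_fixed [Finite G] {p : ℕ} [Fact p.Prime]
    (P : Sylow p G) (hcyc : IsCyclic ↥(P : Subgroup G)) {x : G} (hxP : x ∈ (P : Subgroup G))
    (hx1 : x ≠ 1)
    (hfix : Subgroup.normalizer ((P : Subgroup G) : Set G) ≤ Subgroup.centralizer ({x} : Set G)) :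
    Subgroup.normalizer ((P : Subgroup G) : Set G) ≤ Subgroup.centralizer ((P : Subgroup G) : Set G) := by
  have hp : p.Prime := Fact.out
  obtain ⟨⟨a, haP⟩, ha⟩ := hcyc.exists_generator
  have hgen : ∀ y ∈ (P : Subgroup G), ∃ s : ℤ, y = a ^ s := by
    intro y hy
    obtain ⟨s, hs⟩ := Subgroup.mem_zpowers_iff.1 (ha ⟨y, hy⟩)
    refine ⟨s, ?_⟩
    have := congrArg Subtype.val hs
    simpa using this.symm
  obtain ⟨m, hm⟩ := P.2.exists_card_eq
  have hpow : ∀ y ∈ (P : Subgroup G), y ^ (p ^ m) = 1 := by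
    intro y hy
    have h1 : (⟨y, hy⟩ : ↥(P : Subgroup G)) ^ Nat.card ↥(P : Subgroup G) = 1 := pow_card_eq_one'
    rw [hm] at h1
    have := congrArg Subtype.val h1
    simpa using this
  -- m ≥ 1
  have hm1 : 1 ≤ m := by
    by_contra hlt
    have hm0 : m = 0 := by omega
    rw [hm0, pow_zero] at hpow
    exact hx1 (by simpa using hpow x hxP)
  intro n hn
  have hnaP : n * a * n⁻¹ ∈ (P : Subgroup G) := (Subgroup.mem_normalizer_iff.1 hn a).1 haP
  obtain ⟨r, hr⟩ := hgen _ hnaP
  have hconj : ∀ y ∈ (P : Subgroup G), n * y * n⁻¹ = y ^ r := by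
    intro y hy
    obtain ⟨s, rfl⟩ := hgen y hy
    rw [← conj_zpow, hr, ← zpow_mul, ← zpow_mul, mul_comm]
  have hconjj : ∀ j : ℕ, ∀ y ∈ (P : Subgroup G), n ^ j * y * (n ^ j)⁻¹ = y ^ (r ^ j) := by
    intro j
    induction j with
    | zero => intro y _; simp
    | succ j ih =>
      intro y hy
      have e : n ^ (j + 1) * y * (n ^ (j + 1))⁻¹ = n * (n ^ j * y * (n ^ j)⁻¹) * n⁻¹ := by
        rw [pow_succ']; group
      rw [e, ih y hy, hconj _ ((P : Subgroup G).zpow_mem hy _), ← zpow_mul, pow_succ]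
  -- x ^ r = x
  have hxr : x ^ r = x := by
    rw [← hconj x hxP]
    exact conj_eq_self_iff.2 (mem_centralizer_singleton_iff.1 (hfix hn))
  have hdvd1 : ((orderOf x : ℕ) : ℤ) ∣ r - 1 := by
    rw [orderOf_dvd_iff_zpow_eq_one, zpow_sub, hxr, zpow_one, mul_inv_cancel]
  have hpdvd : ((p : ℕ) : ℤ) ∣ r - 1 := by
    have h1 : orderOf x ∣ p ^ m := orderOf_dvd_of_pow_eq_one (hpow x hxP)
    obtain ⟨k, _, hk⟩ := (Nat.dvd_prime_pow hp).1 h1
    have hk1 : k ≠ 0 := by
      intro h0
      rw [h0, pow_zero, orderOf_eq_one_iff] at hk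
      exact hx1 hk
    have h2 : p ∣ orderOf x := by rw [hk]; exact dvd_pow_self p hk1
    exact (Int.natCast_dvd_natCast.2 h2).trans hdvd1
  have hdvd2 : ((p : ℤ) ^ m) ∣ r ^ (p ^ (m - 1)) - 1 := by
    have := dvd_sub_pow_of_dvd_sub (R := ℤ) (p := p) (a := r) (b := 1) hpdvd (m - 1)
    rw [one_pow, Nat.sub_add_cancel hm1] at this
    exact this
  have h1 : n ^ (p ^ (m - 1)) ∈ Subgroup.centralizer ((P : Subgroup G) : Set G) := by
    rw [Subgroup.mem_centralizer_iff]
    intro y hy
    have h2 := hconjj (p ^ (m - 1)) y hy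
    obtain ⟨t, ht⟩ := hdvd2
    have h3 : r ^ (p ^ (m - 1)) = 1 + (p : ℤ) ^ m * t := by linarith
    have h4 : y ^ (r ^ (p ^ (m - 1))) = y := by
      rw [h3, zpow_add, zpow_one, zpow_mul]
      have : y ^ ((p : ℤ) ^ m) = 1 := by
        have := hpow y hy
        rw [← zpow_natCast] at this
        simpa using this
      rw [this, one_zpow, mul_one]
    rw [h4] at h2
    exact (conj_eq_self_iff.1 h2).symm
  have h2 : n ^ ((Subgroup.centralizer ((P : Subgroup G) : Set G)).relIndex
      (Subgroup.normalizer ((P : Subgroup G) : Set G)))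
      ∈ Subgroup.centralizer ((P : Subgroup G) : Set G) := by
    have hker := Subgroup.normalizerMonoidHom_ker (H := (P : Subgroup G))
    have hnorm : ((Subgroup.centralizer ((P : Subgroup G) : Set G)).subgroupOf
        (Subgroup.normalizer ((P : Subgroup G) : Set G))).Normal := by
      rw [← hker]; infer_instance
    have := Subgroup.pow_index_mem ((Subgroup.centralizer ((P : Subgroup G) : Set G)).subgroupOf
        (Subgroup.normalizer ((P : Subgroup G) : Set G))) ⟨n, hn⟩
    rw [Subgroup.mem_subgroupOf] at this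
    simpa [Subgroup.relIndex] using this
  have hcomm : IsMulCommutative ↥(P : Subgroup G) := hcyc.isMulCommutative
  have hcop : Nat.Coprime (p ^ (m - 1)) ((Subgroup.centralizer ((P : Subgroup G) : Set G)).relIndex
      (Subgroup.normalizer ((P : Subgroup G) : Set G))) := by
    apply Nat.Coprime.pow_left
    rw [Nat.Prime.coprime_iff_not_dvd hp]
    intro hd
    have h3 : (Subgroup.centralizer ((P : Subgroup G) : Set G)).relIndex
        (Subgroup.normalizer ((P : Subgroup G) : Set G)) ∣ (P : Subgroup G).index :=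
      (Subgroup.relIndex_dvd_of_le_left _ (Subgroup.le_centralizer (P : Subgroup G))).trans
        (Subgroup.relIndex_dvd_index_of_le Subgroup.le_normalizer)
    exact P.not_dvd_index (hd.trans h3)
  exact mem_of_pow_mem_of_coprime hcop h1 h2

end Cfsg.Agent.Helper15
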