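import Mathlib
import Cfsg.Prelude.Def_EvenType
import Cfsg.Agent.Lib.Helper15.Isolated

set_option autoImplicit false

namespace Cfsg.Agent.Helper15

variable {G : Type*} [Group G]

theorem map_conj_le_iff {H K : Subgroup G} {g : G} :
    H.map (MulAut.conj g).toMonoidHom ≤ K ↔ ∀ h ∈ H, g * h * g⁻¹ ∈ K := by
  constructor
  · intro h y hy
    exact h (conj_mem_map_conj g hy)
  · rintro h _ ⟨y, hy, rfl⟩
    simpa [MulAut.conj_apply] using h y hy

theorem normalizer_map_conj (Q : Subgroup G) (g : G) :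
    Subgroup.normalizer ((Q.map (MulAut.conj g).toMonoidHom : Subgroup G) : Set G)
      = (Subgroup.normalizer (Q : Set G)).map (MulAut.conj g).toMonoidHom := by
  ext n
  rw [mem_map_conj_iff, Subgroup.mem_normalizer_iff, Subgroup.mem_normalizer_iff]
  constructor
  · intro h y
    have := h (g * y * g⁻¹)
    rw [mem_map_conj_iff, mem_map_conj_iff] at this
    have e1 : g⁻¹ * (g * y * g⁻¹) * g = y := by group
    have e2 : g⁻¹ * (n * (g * y * g⁻¹) * n⁻¹) * g = g⁻¹ * n * g * y * (g⁻¹ * n * g)⁻¹ := by group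
    rw [e1, e2] at this
    exact this
  · intro h y
    rw [mem_map_conj_iff, mem_map_conj_iff]
    have := h (g⁻¹ * y * g)
    have e2 : g⁻¹ * n * g * (g⁻¹ * y * g) * (g⁻¹ * n * g)⁻¹ = g⁻¹ * (n * y * n⁻¹) * g := by group
    rw [e2] at this
    exact this

theorem centralizer_conj_le {H : Subgroup G} {x : G}
    (hC : Subgroup.centralizer ({x} : Set G) ≤ H) (g : G) :
    Subgroup.centralizer ({g * x * g⁻¹} : Set G) ≤ H.map (MulAut.conj g).toMonoidHom := by
  intro c hc
  rw [mem_centralizer_singleton_iff] at hc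
  rw [mem_map_conj_iff]
  apply hC
  rw [mem_centralizer_singleton_iff]
  calc g⁻¹ * c * g * x = g⁻¹ * (c * (g * x * g⁻¹)) * g := by group
    _ = g⁻¹ * ((g * x * g⁻¹) * c) * g := by rw [hc]
    _ = x * (g⁻¹ * c * g) := by group

theorem orderOf_conj' (g x : G) : orderOf (g * x * g⁻¹) = orderOf x := by
  have := MulEquiv.orderOf_eq (MulAut.conj g) x
  rwa [MulAut.conj_apply] at this

/-- a nontrivial finite `p`-subgroup has an element of order `p` -/
theorem exists_orderOf_eq_prime_of_ne_bot [Finite G] {p : ℕ} [Fact p.Prime] {Q : Subgroup G}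
    (hQ : IsPGroup p ↥Q) (h : Q ≠ ⊥) : ∃ z ∈ Q, orderOf z = p := by
  have : Nontrivial ↥Q := (Subgroup.nontrivial_iff_ne_bot Q).2 h
  obtain ⟨n, hn0, hn⟩ := hQ.nontrivial_iff_card.1 this
  have hdvd : p ∣ Nat.card ↥Q := by rw [hn]; exact dvd_pow_self _ hn0.ne'
  obtain ⟨z, hz⟩ := exists_prime_orderOf_dvd_card' p hdvd
  refine ⟨(z : G), z.2, ?_⟩
  rw [← hz, Subgroup.orderOf_coe]

theorem not_pRankLE_zero_of_ne_bot [Finite G] {p : ℕ} [Fact p.Prime] {Q : Subgroup G}
    (hQ : IsPGroup p ↥Q) (h : Q ≠ ⊥) : ¬ Cfsg.PRankLE p 0 ↥Q := by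
  intro hr
  have : Nontrivial ↥Q := (Subgroup.nontrivial_iff_ne_bot Q).2 h
  obtain ⟨n, hn0, hn⟩ := hQ.nontrivial_iff_card.1 this
  have hdvd : p ∣ Nat.card ↥Q := by rw [hn]; exact dvd_pow_self _ hn0.ne'
  obtain ⟨z, hz⟩ := exists_prime_orderOf_dvd_card' p hdvd
  have h1 := hr (Subgroup.zpowers z) inferInstance (by
    intro a ha
    obtain ⟨k, rfl⟩ := Subgroup.mem_zpowers_iff.1 ha
    rw [← zpow_natCast, ← zpow_mul, mul_comm, zpow_mul, zpow_natCast, ← hz, pow_orderOf_eq_one,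
      one_zpow])
  rw [Nat.card_zpowers, hz, pow_zero] at h1
  exact absurd h1 (not_le.2 (Fact.out : p.Prime).one_lt)

theorem ne_bot_of_not_pRankLE_zero {p : ℕ} {Q : Subgroup G}
    (h : ¬ Cfsg.PRankLE p 0 ↥Q) : Q ≠ ⊥ := by
  intro hb
  apply h
  intro A _ _
  have : Subsingleton ↥Q := by rw [hb]; infer_instance
  have : Subsingleton ↥A := inferInstance
  rw [pow_zero]
  exact Finite.card_le_one_iff_subsingleton.2 this

theorem kGeneratedCore_one_le_iff [Finite G] {p : ℕ} [Fact p.Prime] {P H : Subgroup G}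
    (hP : IsPGroup p ↥P) :
    Cfsg.kGeneratedCore p 1 P ≤ H ↔
      ∀ Q : Subgroup G, Q ≤ P → Q ≠ ⊥ → Subgroup.normalizer (Q : Set G) ≤ H := by
  unfold Cfsg.kGeneratedCore
  rw [iSup_le_iff]
  constructor
  · intro h Q hQP hQ1
    exact h ⟨Q, hQP, not_pRankLE_zero_of_ne_bot (hP.to_le hQP) hQ1⟩
  · rintro h ⟨Q, hQP, hQr⟩
    exact h Q hQP (ne_bot_of_not_pRankLE_zero hQr)

/-- (after helper19's `normal_inf_center_ne_bot`) a nontrivial normal subgroup of a finite
`p`-group meets the centre nontrivially -/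
theorem normal_inf_center_ne_bot' {P : Type*} [Group P] [Finite P] {p : ℕ} [Fact p.Prime]
    (hG : IsPGroup p P) (N : Subgroup P) [hN : N.Normal] (hne : N ≠ ⊥) :
    N ⊓ Subgroup.center P ≠ ⊥ := by
  let _inst : MulAction P N := MulAction.compHom N (MulAut.conjNormal : P →* MulAut N)
  have hsmul : ∀ (g : P) (n : N), ((g • n : N) : P) = g * n * g⁻¹ := fun g n => rfl
  have h1 : (1 : N) ∈ MulAction.fixedPoints P N := by
    intro g
    apply Subtype.ext
    rw [hsmul]
    simp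
  have hdvd : p ∣ Nat.card N := by
    have hNp : IsPGroup p N := hG.to_subgroup N
    have : Nontrivial N := (Subgroup.nontrivial_iff_ne_bot N).mpr hne
    obtain ⟨n, hn0, hn⟩ := hNp.nontrivial_iff_card.mp inferInstance
    rw [hn]
    exact dvd_pow_self _ (ne_of_gt hn0)
  obtain ⟨b, hb, hb1⟩ :=
    hG.exists_fixed_point_of_prime_dvd_card_of_fixed_point N hdvd h1
  have hbc : ∀ g : P, g * (b : P) * g⁻¹ = b := by
    intro g
    have := hb g
    rw [← hsmul, this]
  intro hbot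
  have hbcen : (b : P) ∈ Subgroup.center P := by
    rw [Subgroup.mem_center_iff]
    intro g
    have := hbc g
    calc g * (b : P) = (g * b * g⁻¹) * g := by group
      _ = b * g := by rw [this]
  have hmem : (b : P) ∈ N ⊓ Subgroup.center P := Subgroup.mem_inf.mpr ⟨b.2, hbcen⟩
  rw [hbot, Subgroup.mem_bot] at hmem
  apply hb1
  apply Subtype.ext
  exact hmem.symm

/-- if the `p`-group `R₁` normalizes its nontrivial subgroup `R`, some element of order `p` of `R`
is centralized by `R₁` -/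
theorem exists_orderOf_eq_prime_centralized [Finite G] {p : ℕ} [Fact p.Prime] {R R₁ : Subgroup G}
    (hR₁ : IsPGroup p ↥R₁) (hRR₁ : R ≤ R₁) (hnorm : R₁ ≤ Subgroup.normalizer (R : Set G))
    (hR : R ≠ ⊥) : ∃ z ∈ R, orderOf z = p ∧ R₁ ≤ Subgroup.centralizer ({z} : Set G) := by
  have hN : (R.subgroupOf R₁).Normal := Subgroup.normal_subgroupOf_of_le_normalizer hnorm
  have hN1 : R.subgroupOf R₁ ≠ ⊥ := by
    intro hb
    apply hR
    rw [eq_bot_iff]
    intro r hr
    have : (⟨r, hRR₁ hr⟩ : ↥R₁) ∈ R.subgroupOf R₁ := by rw [Subgroup.mem_subgroupOf]; exact hr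
    rw [hb, Subgroup.mem_bot] at this
    rw [Subgroup.mem_bot]
    exact congrArg Subtype.val this
  have h1 := normal_inf_center_ne_bot' hR₁ (R.subgroupOf R₁) hN1
  -- the subgroup C = R ⊓ C_G(R₁) is a nontrivial p-group
  set C : Subgroup G := R ⊓ Subgroup.centralizer (R₁ : Set G) with hC
  have hC1 : C ≠ ⊥ := by
    intro hb
    apply h1
    rw [eq_bot_iff]
    intro b hb'
    obtain ⟨hbR, hbZ⟩ := hb'
    have hbR : b ∈ R.subgroupOf R₁ := hbR
    have hbZ : b ∈ Subgroup.center ↥R₁ := hbZ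
    rw [Subgroup.mem_subgroupOf] at hbR
    have hbC : (b : G) ∈ C := by
      rw [hC, Subgroup.mem_inf]
      refine ⟨hbR, ?_⟩
      rw [Subgroup.mem_centralizer_iff]
      intro r hr
      have := (Subgroup.mem_center_iff.1 hbZ) ⟨r, hr⟩
      exact congrArg Subtype.val this
    rw [hb, Subgroup.mem_bot] at hbC
    rw [Subgroup.mem_bot]
    exact Subtype.ext hbC
  have hCp : IsPGroup p ↥C := hR₁.to_le (inf_le_left.trans hRR₁)
  obtain ⟨z, hzC, hz⟩ := exists_orderOf_eq_prime_of_ne_bot hCp hC1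
  refine ⟨z, hzC.1, hz, ?_⟩
  intro r hr
  rw [mem_centralizer_singleton_iff]
  exact (Subgroup.mem_centralizer_iff.1 hzC.2 r hr)

/-- Sylow in `H ⊓ H'` is Sylow in `H` when centralizers of elements of order `p` stay inside -/
theorem isSylowIn_of_inf [Finite G] {p : ℕ} [Fact p.Prime] {H H' R : Subgroup G}
    (hR : IsSylowIn p R (H ⊓ H')) (hR1 : R ≠ ⊥)
    (hH : ∀ z ∈ H, orderOf z = p → Subgroup.centralizer ({z} : Set G) ≤ H)
    (hH' : ∀ z ∈ H', orderOf z = p → Subgroup.centralizer ({z} : Set G) ≤ H') :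
    IsSylowIn p R H := by
  obtain ⟨R'', hRR'', hR''⟩ := exists_isSylowIn_ge hR.isPGroup (hR.le.trans inf_le_left)
  have key : R'' ⊓ Subgroup.normalizer (R : Set G) = R := by
    apply le_antisymm _ (le_inf hRR'' Subgroup.le_normalizer)
    have hp1 : IsPGroup p ↥(R'' ⊓ Subgroup.normalizer (R : Set G) : Subgroup G) :=
      hR''.isPGroup.to_le inf_le_left
    obtain ⟨z, hzR, hz, hzc⟩ := exists_orderOf_eq_prime_centralized hp1
      (le_inf hRR'' Subgroup.le_normalizer) inf_le_right hR1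
    have hzK := hR.le hzR
    have hle : R'' ⊓ Subgroup.normalizer (R : Set G) ≤ H ⊓ H' :=
      le_inf (hzc.trans (hH z hzK.1 hz)) (hzc.trans (hH' z hzK.2 hz))
    exact (hR.eq_of_le hp1 (le_inf hRR'' Subgroup.le_normalizer) hle).le
  have := eq_of_inf_normalizer_eq hR''.isPGroup hRR'' key
  rw [← this]; exact hR''

/-- the key step: under the centralizer and normalizer conditions, `H ∩ H^g` has no element of
order `p` unless `g ∈ H` -/
theorem mem_of_inf_conj_orderOf_eq_prime [Finite G] {p : ℕ} [Fact p.Prime] {H P : Subgroup G}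
    (hP : IsSylowIn p P H)
    (ha : ∀ x ∈ P, orderOf x = p → Subgroup.centralizer ({x} : Set G) ≤ H)
    (hb : Subgroup.normalizer (P : Set G) ≤ H) (g : G) (x : G) (hxH : x ∈ H)
    (hxH' : x ∈ H.map (MulAut.conj g).toMonoidHom) (hx : orderOf x = p) : g ∈ H := by
  -- (a')
  have ha' : ∀ z ∈ H, orderOf z = p → Subgroup.centralizer ({z} : Set G) ≤ H := by
    intro z hzH hz
    have hzp : IsPGroup p ↥(Subgroup.zpowers z) := isPGroup_zpowers_of_orderOf ⟨1, by rw [hz, pow_one]⟩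
    obtain ⟨T, hzT, hT⟩ := exists_isSylowIn_ge hzp ((Subgroup.zpowers_le).2 hzH)
    obtain ⟨h, hh, hhT⟩ := hP.exists_conj hT
    have hz' : z ∈ P.map (MulAut.conj h).toMonoidHom := by
      rw [hhT]; exact hzT (Subgroup.mem_zpowers z)
    rw [mem_map_conj_iff] at hz'
    have h1 := ha _ hz' (by
      have := orderOf_conj' h⁻¹ z
      rw [inv_inv] at this
      rw [this, hz])
    have h2 := centralizer_conj_le h1 h
    have e : h * (h⁻¹ * z * h) * h⁻¹ = z := by group
    rw [e, map_conj_eq_self_of_mem hh] at h2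
    exact h2
  have ha'' : ∀ z ∈ H.map (MulAut.conj g).toMonoidHom, orderOf z = p →
      Subgroup.centralizer ({z} : Set G) ≤ H.map (MulAut.conj g).toMonoidHom := by
    intro z hz' hz
    rw [mem_map_conj_iff] at hz'
    have h1 := ha' _ hz' (by
      have := orderOf_conj' g⁻¹ z
      rw [inv_inv] at this
      rw [this, hz])
    have h2 := centralizer_conj_le h1 g
    have e : g * (g⁻¹ * z * g) * g⁻¹ = z := by group
    rw [e] at h2
    exact h2
  have hxp : IsPGroup p ↥(Subgroup.zpowers x) := isPGroup_zpowers_of_orderOf ⟨1, by rw [hx, pow_one]⟩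
  have hxK : x ∈ H ⊓ H.map (MulAut.conj g).toMonoidHom := ⟨hxH, hxH'⟩
  obtain ⟨R, hxR, hR⟩ := exists_isSylowIn_ge hxp ((Subgroup.zpowers_le).2 hxK)
  have hR1 : R ≠ ⊥ := by
    intro hbot
    have hxR' : x ∈ R := hxR (Subgroup.mem_zpowers x)
    rw [hbot, Subgroup.mem_bot] at hxR'
    rw [hxR', orderOf_one] at hx
    exact (Fact.out : p.Prime).one_lt.ne hx
  have hRH : IsSylowIn p R H := isSylowIn_of_inf hR hR1 ha' ha''
  have hRH' : IsSylowIn p R (H.map (MulAut.conj g).toMonoidHom) := by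
    have hR' : IsSylowIn p R (H.map (MulAut.conj g).toMonoidHom ⊓ H) := by rwa [inf_comm]
    exact isSylowIn_of_inf hR' hR1 ha'' ha'
  obtain ⟨h, hh, hhR⟩ := hP.exists_conj hRH
  obtain ⟨k, hk, hkR⟩ := (hP.map_conj g).exists_conj hRH'
  rw [map_conj_map_conj] at hkR
  have h1 : P.map (MulAut.conj (h⁻¹ * (k * g))).toMonoidHom = P := by
    rw [← map_conj_map_conj, hkR, ← hhR, map_conj_inv_map_conj]
  have h2 := hb (mem_normalizer_of_map_conj_eq h1)
  rw [mem_map_conj_iff] at hk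
  have e : g = h * (h⁻¹ * (k * g)) * (g⁻¹ * k * g)⁻¹ := by group
  rw [e]
  exact H.mul_mem (H.mul_mem hh h2) (H.inv_mem hk)

end Cfsg.Agent.Helper15
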