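import Mathlib
import Cfsg.Prelude.Def_Transfer
import Cfsg.Agent.Lib.Helper15.StronglyEmbedded
import Cfsg.Agent.Lib.Helper15.CyclicSylow
import Cfsg.Agent.Lib.Helper15.ChermakDelgado

set_option autoImplicit false

namespace Cfsg.Agent.Helper15

open scoped Pointwise

/-- an automorphism `γ` of order dividing `p` of a commutative group with only the trivial fixed
point has trivial norm -/
theorem prod_pow_apply_eq_one {W : Type*} [CommGroup W] {p : ℕ} (γ : MulAut W) (hγ : γ ^ p = 1)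
    (hfix : ∀ v : W, γ v = v → v = 1) (v : W) :
    ∏ k ∈ Finset.range p, (γ ^ k) v = 1 := by
  apply hfix
  rw [map_prod]
  have h1 : ∀ k, γ ((γ ^ k) v) = (γ ^ (k + 1)) v := by
    intro k
    rw [pow_succ']
    rfl
  simp_rw [h1]
  have h2 := Finset.prod_range_succ (fun k => (γ ^ k) v) p
  have h3 := Finset.prod_range_succ' (fun k => (γ ^ k) v) p
  rw [h2] at h3
  simp only [hγ, pow_zero, MulAut.one_apply] at h3
  exact (mul_right_cancel h3).symm

/-- reindexing a product over `range p` by multiplication by a unit mod `p` -/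
theorem prod_range_mul_mod {M : Type*} [CommMonoid M] {p : ℕ} (hp : p.Prime) (g : ℕ → M) {k : ℕ}
    (hk0 : 0 < k) (hkp : k < p) :
    ∏ a ∈ Finset.range p, g (a * k % p) = ∏ j ∈ Finset.range p, g j := by
  classical
  have hcop : Nat.Coprime p k := (Nat.Prime.coprime_iff_not_dvd hp).mpr
    (fun hd => absurd (Nat.le_of_dvd hk0 hd) (by omega))
  have hinj : Set.InjOn (fun a => a * k % p) (Finset.range p : Set ℕ) := by
    intro a ha b hb hab
    simp only [Finset.coe_range, Set.mem_Iio] at ha hb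
    have h1 : a * k ≡ b * k [MOD p] := hab
    have h2 : a ≡ b [MOD p] := Nat.ModEq.cancel_right_of_coprime hcop h1
    have h3 : a % p = b % p := h2
    rwa [Nat.mod_eq_of_lt ha, Nat.mod_eq_of_lt hb] at h3
  have himg : (Finset.range p).image (fun a => a * k % p) = Finset.range p := by
    apply Finset.eq_of_subset_of_card_le
    · intro j hj
      rw [Finset.mem_image] at hj
      obtain ⟨a, _, rfl⟩ := hj
      rw [Finset.mem_range]
      exact Nat.mod_lt _ hp.pos
    · rw [Finset.card_image_of_injOn hinj]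
  conv_rhs => rw [← himg]
  rw [Finset.prod_image hinj]

/-- **Core lemma.** Two commuting automorphisms of order dividing `p` of a commutative group `W`
without `p`-torsion, all of whose nontrivial "combinations" are fixed-point-free, force `W = 1`. -/
theorem eq_one_of_fixedPointFree_pair {W : Type*} [CommGroup W] {p : ℕ} [hp : Fact p.Prime]
    (hW : ∀ w : W, w ^ p = 1 → w = 1)
    (α β : MulAut W) (hαβ : Commute α β) (hα : α ^ p = 1) (hβ : β ^ p = 1)
    (hfix : ∀ a b : ℕ, ¬ (p ∣ a ∧ p ∣ b) → ∀ w : W, (α ^ a * β ^ b) w = w → w = 1) (w : W) :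
    w = 1 := by
  classical
  have hpp : p.Prime := hp.out
  apply hW
  -- the norm of `α`
  have hNα : ∀ v : W, ∏ j ∈ Finset.range p, (α ^ j) v = 1 := by
    intro v
    apply prod_pow_apply_eq_one α hα
    intro v' hv'
    apply hfix 1 0 (fun h => hpp.one_lt.ne' (Nat.dvd_one.mp h.1)) v'
    rw [pow_one, pow_zero, mul_one]
    exact hv'
  -- the norms of `α ^ a * β`
  have hNab : ∀ a : ℕ, ∏ k ∈ Finset.range p, ((α ^ a * β) ^ k) w = 1 := by
    intro a
    apply prod_pow_apply_eq_one (α ^ a * β)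
    · rw [(hαβ.pow_left a).mul_pow, ← pow_mul, mul_comm a p, pow_mul, hα, one_pow, hβ, one_mul]
    · intro v' hv'
      apply hfix a 1 (fun h => hpp.one_lt.ne' (Nat.dvd_one.mp h.2)) v'
      rw [pow_one]
      exact hv'
  have hT : ∏ a ∈ Finset.range p, ∏ k ∈ Finset.range p, ((α ^ a * β) ^ k) w = 1 := by
    apply Finset.prod_eq_one
    intro a _
    exact hNab a
  rw [Finset.prod_comm] at hT
  have hterm : ∀ k a : ℕ, ((α ^ a * β) ^ k) w = (β ^ k) ((α ^ (a * k % p)) w) := by
    intro k a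
    rw [(hαβ.pow_left a).mul_pow, ← pow_mul, pow_eq_pow_mod (a * k) hα,
      ((hαβ.pow_left (a * k % p)).pow_right k).eq]
    rfl
  simp_rw [hterm] at hT
  have hinner : ∀ k : ℕ, ∏ a ∈ Finset.range p, (β ^ k) ((α ^ (a * k % p)) w)
      = (β ^ k) (∏ a ∈ Finset.range p, (α ^ (a * k % p)) w) := by
    intro k
    rw [map_prod]
  simp_rw [hinner] at hT
  obtain ⟨n, hn⟩ : ∃ n, p = n + 1 := ⟨p - 1, by have := hpp.pos; omega⟩
  have hsplit := Finset.prod_range_succ'
    (fun k => (β ^ k) (∏ a ∈ Finset.range p, (α ^ (a * k % p)) w)) n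
  rw [← hn] at hsplit
  rw [hsplit] at hT
  have hzero : (β ^ 0) (∏ a ∈ Finset.range p, (α ^ (a * 0 % p)) w) = w ^ p := by
    simp
  have hrest : ∏ k ∈ Finset.range n,
      (β ^ (k + 1)) (∏ a ∈ Finset.range p, (α ^ (a * (k + 1) % p)) w) = 1 := by
    apply Finset.prod_eq_one
    intro k hk
    rw [Finset.mem_range] at hk
    rw [prod_range_mul_mod hpp (fun j => (α ^ j) w) (Nat.succ_pos k) (by omega), hNα, map_one]
  rw [hzero, hrest, one_mul] at hT
  exact hT


variable {G : Type*} [Group G]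

/-- a `p`-group acting coprimely on `R` normalizes some Sylow `r`-subgroup of `R` -/
theorem exists_invariant_sylow_of_coprime [Finite G] {p : ℕ} [Fact p.Prime] (r : ℕ) [Fact r.Prime]
    {U R : Subgroup G} (hU : IsPGroup p ↥U) (hR : (Nat.card ↥R).Coprime p)
    (hUR : U ≤ Subgroup.normalizer (R : Set G)) :
    ∃ P : Subgroup G, P ≤ R ∧ IsPGroup r ↥P ∧ Nat.card ↥P = r ^ (Nat.card ↥R).factorization r ∧
      U ≤ Subgroup.normalizer (P : Set G) := by
  have hpp : p.Prime := Fact.out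
  have hU' : IsPGroup p ↥(U.subgroupOf (Subgroup.normalizer (R : Set G))) := hU.comap_subtype
  have hcard : ¬ p ∣ Nat.card (Sylow r ↥R) := by
    intro h2
    obtain ⟨P⟩ : Nonempty (Sylow r ↥R) := inferInstance
    have h3 : Nat.card (Sylow r ↥R) ∣ Nat.card ↥R :=
      (Sylow.card_dvd_index P).trans (Subgroup.index_dvd_card _)
    have h4 : p ∣ Nat.gcd (Nat.card ↥R) p := Nat.dvd_gcd (h2.trans h3) dvd_rfl
    rw [hR] at h4
    exact hpp.one_lt.ne' (Nat.dvd_one.mp h4)
  obtain ⟨S₀, hS₀⟩ := IsPGroup.nonempty_fixed_point_of_prime_not_dvd_card hU' (Sylow r ↥R) hcard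
  have hconj : ∀ u ∈ U, ∀ x ∈ (S₀ : Subgroup ↥R).map R.subtype,
      u * x * u⁻¹ ∈ (S₀ : Subgroup ↥R).map R.subtype := by
    rintro u hu _ ⟨s, hs, rfl⟩
    let t' : Subgroup.normalizer (R : Set G) := ⟨u, hUR hu⟩
    have hfix : t' • S₀ = S₀ := hS₀ ⟨t', Subgroup.mem_subgroupOf.mpr hu⟩
    have h1 : t' • s ∈ t' • (S₀ : Subgroup ↥R) := Subgroup.smul_mem_pointwise_smul _ _ _ hs
    rw [← Sylow.pointwise_smul_def, hfix] at h1
    exact ⟨t' • s, h1, rfl⟩
  refine ⟨(S₀ : Subgroup ↥R).map R.subtype, Subgroup.map_subtype_le _, S₀.isPGroup'.map _, ?_, ?_⟩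
  · rw [← S₀.card_eq_multiplicity]
    exact Nat.card_congr
      ((S₀ : Subgroup ↥R).equivMapOfInjective R.subtype R.subtype_injective).symm.toEquiv
  · intro u hu
    apply mem_normalizer_of_map_conj_le
    · rw [map_conj_le_iff]; exact hconj u hu
    · rw [map_conj_le_iff]; exact hconj u⁻¹ (U.inv_mem hu)

/-- **Weak coprime generation.** If a noncyclic elementary abelian `p`-group `U` acts coprimely on
`R` and every hyperplane of `U` has trivial centralizer in `R`, then `R = 1`. -/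
theorem eq_bot_of_forall_coatom_centralizer_eq_bot [Finite G] {p : ℕ} [Fact p.Prime]
    {U R : Subgroup G} (hU : Cfsg.IsElementaryAbelian p U) (hU2 : p ^ 2 ≤ Nat.card ↥U)
    (hR : (Nat.card ↥R).Coprime p) (hUR : U ≤ Subgroup.normalizer (R : Set G))
    (h : ∀ U₀ : Subgroup G, U₀ ≤ U → IsCoatom (U₀.subgroupOf U) →
      R ⊓ Subgroup.centralizer (U₀ : Set G) = ⊥) : R = ⊥ := by
  classical
  have hpp : p.Prime := Fact.out
  obtain ⟨hUcomm, hUexp⟩ := hU
  have hUp : IsPGroup p ↥U := by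
    intro u
    refine ⟨1, ?_⟩
    rw [pow_one]
    exact Subtype.ext (hUexp u u.2)
  have hUc : ∀ a ∈ U, ∀ b ∈ U, a * b = b * a := by
    intro a ha b hb
    have := hUcomm.is_comm.comm (⟨a, ha⟩ : U) ⟨b, hb⟩
    exact congrArg Subtype.val this
  by_contra hR1
  -- a prime `r` dividing `|R|`
  have hRcard : Nat.card ↥R ≠ 1 := by
    intro h1
    apply hR1
    exact Subgroup.card_eq_one.mp h1
  obtain ⟨r, hr, hrdvd⟩ := Nat.exists_prime_and_dvd hRcard
  haveI : Fact r.Prime := ⟨hr⟩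
  obtain ⟨P, hPR, hPr, hPcard, hUP⟩ := exists_invariant_sylow_of_coprime r hUp hR hUR
  have hP1 : P ≠ ⊥ := by
    intro hb
    rw [hb, Subgroup.card_bot] at hPcard
    have h1 : 1 ≤ (Nat.card ↥R).factorization r :=
      (Nat.Prime.dvd_iff_one_le_factorization hr Nat.card_pos.ne').mp hrdvd
    have h2 : r ≤ r ^ (Nat.card ↥R).factorization r := by
      calc r = r ^ 1 := (pow_one r).symm
        _ ≤ _ := Nat.pow_le_pow_right hr.pos h1
    rw [← hPcard] at h2
    have := hr.one_lt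
    omega
  -- a minimal nontrivial `U`-invariant `r`-subgroup of `R`
  obtain ⟨W, hWmin⟩ := Set.Finite.exists_minimal
    (s := {X : Subgroup G | X ≤ R ∧ X ≠ ⊥ ∧ U ≤ Subgroup.normalizer (X : Set G) ∧ IsPGroup r ↥X})
    (Set.toFinite _) ⟨P, hPR, hP1, hUP, hPr⟩
  obtain ⟨⟨hWR, hW1, hUW, hWr⟩, hWle⟩ := hWmin
  have hWmin' : ∀ X : Subgroup G, X ≤ W → X ≠ ⊥ → U ≤ Subgroup.normalizer (X : Set G) → X = W := by
    intro X hXW hX1 hUX
    exact le_antisymm hXW (hWle ⟨hXW.trans hWR, hX1, hUX, hWr.to_le hXW⟩ hXW)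
  -- invariance of intersections with centralizers
  have hinvC : ∀ (Y : Subgroup G), U ≤ Subgroup.normalizer (Y : Set G) →
      U ≤ Subgroup.normalizer ((W ⊓ Subgroup.centralizer (Y : Set G) : Subgroup G) : Set G) := by
    intro Y hUY
    have key : ∀ u ∈ U, (W ⊓ Subgroup.centralizer (Y : Set G)).map (MulAut.conj u).toMonoidHom
        ≤ W ⊓ Subgroup.centralizer (Y : Set G) := by
      intro u hu
      rw [Subgroup.map_inf _ _ _ (MulAut.conj u).injective, ← centralizer_map_conj,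
        map_conj_eq_of_mem_normalizer (hUW hu), map_conj_eq_of_mem_normalizer (hUY hu)]
    intro u hu
    exact mem_normalizer_of_map_conj_le (key u hu) (key u⁻¹ (U.inv_mem hu))
  -- `W` is abelian
  have hWc : W ≤ Subgroup.centralizer (W : Set G) := by
    have hZ1 : W ⊓ Subgroup.centralizer (W : Set G) ≠ ⊥ := by
      haveI : Nontrivial ↥W := (Subgroup.nontrivial_iff_ne_bot W).mpr hW1
      haveI : Nontrivial ↥(Subgroup.center ↥W) := hWr.center_nontrivial
      obtain ⟨⟨c, hc⟩, hc1⟩ := exists_ne (1 : ↥(Subgroup.center ↥W))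
      intro hb
      apply hc1
      have h1 : (c : G) ∈ W ⊓ Subgroup.centralizer (W : Set G) := by
        rw [Subgroup.mem_inf]
        refine ⟨c.2, ?_⟩
        rw [Subgroup.mem_centralizer_iff]
        intro w hw
        have := Subgroup.mem_center_iff.mp hc ⟨w, hw⟩
        exact congrArg Subtype.val this
      rw [hb, Subgroup.mem_bot] at h1
      exact Subtype.ext (Subtype.ext h1)
    have := hWmin' _ inf_le_left hZ1 (hinvC W hUW)
    exact (inf_eq_left.mp this)
  have hWcomm : ∀ a b : ↥W, a * b = b * a := by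
    intro a b
    have := (Subgroup.mem_centralizer_iff.mp (hWc b.2)) a a.2
    exact Subtype.ext this
  -- for `u ∈ U` not centralizing `W`, `C_W(u) = 1`
  have hfpf : ∀ u ∈ U, u ∉ Subgroup.centralizer (W : Set G) →
      W ⊓ Subgroup.centralizer ({u} : Set G) = ⊥ := by
    intro u hu hnc
    by_contra hne
    have hcz : Subgroup.centralizer ({u} : Set G)
        = Subgroup.centralizer ((Subgroup.zpowers u : Subgroup G) : Set G) := by
      rw [Subgroup.zpowers_eq_closure, Subgroup.centralizer_closure]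
    have hUz : U ≤ Subgroup.normalizer ((Subgroup.zpowers u : Subgroup G) : Set G) := by
      refine le_trans ?_ (Subgroup.centralizer_le_normalizer _)
      rw [← hcz]
      intro v hv
      rw [mem_centralizer_singleton_iff]
      exact hUc v hv u hu
    rw [hcz] at hne
    have h1 := hWmin' _ inf_le_left hne (hinvC _ hUz)
    rw [← hcz] at h1
    apply hnc
    rw [Subgroup.mem_centralizer_iff]
    intro w hw
    have h2 : w ∈ Subgroup.centralizer ({u} : Set G) := (inf_eq_left.mp h1) hw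
    rw [mem_centralizer_singleton_iff] at h2
    exact h2
  -- `W` has no `p`-torsion
  have hWtors : ∀ w : ↥W, w ^ p = 1 → w = 1 := by
    intro w hw
    have h1 : orderOf w ∣ p := orderOf_dvd_of_pow_eq_one hw
    have h2 : orderOf w ∣ Nat.card ↥R := by
      rw [← Subgroup.orderOf_coe]
      have := orderOf_dvd_natCard (⟨(w : G), hWR w.2⟩ : R)
      rwa [Subgroup.orderOf_mk] at this
    have h3 : orderOf w ∣ Nat.gcd (Nat.card ↥R) p := Nat.dvd_gcd h2 h1
    rw [hR] at h3
    exact orderOf_eq_one_iff.mp (Nat.dvd_one.mp h3)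
  set K' : Subgroup ↥U := (Subgroup.centralizer (W : Set G)).subgroupOf U with hK'
  -- a hyperplane centralizing `W` gives a contradiction
  have hcontra : ∀ U₀' : Subgroup ↥U, IsCoatom U₀' → U₀' ≤ K' → False := by
    intro U₀' hco hle
    have h1 : (U₀'.map U.subtype).subgroupOf U = U₀' :=
      Subgroup.comap_map_eq_self_of_injective (Subgroup.subtype_injective _) U₀'
    have h2 := h (U₀'.map U.subtype) (Subgroup.map_subtype_le _) (by rw [h1]; exact hco)
    apply hW1
    rw [eq_bot_iff, ← h2]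
    apply le_inf hWR
    intro w hw
    rw [Subgroup.mem_centralizer_iff]
    rintro _ ⟨x, hx, rfl⟩
    have h3 : (x : G) ∈ Subgroup.centralizer (W : Set G) := Subgroup.mem_subgroupOf.mp (hle hx)
    exact ((Subgroup.mem_centralizer_iff.mp h3) w hw).symm
  haveI : Nontrivial ↥U := by
    rw [← Finite.one_lt_card_iff_nontrivial]
    have : 2 ^ 2 ≤ p ^ 2 := Nat.pow_le_pow_left hpp.two_le 2
    omega
  by_cases hKtop : K' = ⊤
  · rcases eq_top_or_exists_le_coatom (⊥ : Subgroup ↥U) with hbt | ⟨U₀', hco, _⟩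
    · exact bot_ne_top hbt
    · exact hcontra U₀' hco (hKtop ▸ le_top)
  by_cases hKco : IsCoatom K'
  · exact hcontra K' hKco le_rfl
  -- there is `K' < X' < ⊤`
  obtain ⟨X', hKX, hXtop⟩ : ∃ X' : Subgroup ↥U, K' < X' ∧ X' ≠ ⊤ := by
    by_contra hno
    push Not at hno
    exact hKco ⟨hKtop, fun b hb => hno b hb⟩
  obtain ⟨u₁, hu₁X, hu₁K⟩ := SetLike.exists_of_lt hKX
  obtain ⟨u₂, hu₂X⟩ : ∃ u₂ : ↥U, u₂ ∉ X' := by
    by_contra hall
    push Not at hall
    exact hXtop (eq_top_iff.mpr fun x _ => hall x)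
  have hpow : ∀ u : ↥U, u ^ p = 1 := fun u => Subtype.ext (hUexp u u.2)
  have hnotK : ∀ a b : ℕ, ¬ (p ∣ a ∧ p ∣ b) → u₁ ^ a * u₂ ^ b ∉ K' := by
    intro a b hab hmem
    by_cases hb : p ∣ b
    · obtain ⟨c, rfl⟩ := hb
      rw [pow_mul, hpow, one_pow, mul_one] at hmem
      have ha : ¬ p ∣ a := fun ha => hab ⟨ha, dvd_mul_right p c⟩
      apply hu₁K
      apply mem_of_pow_mem_of_coprime ((Nat.Prime.coprime_iff_not_dvd hpp).mpr ha).symm hmem
      rw [hpow]; exact K'.one_mem
    · apply hu₂X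
      have h1 : u₂ ^ b ∈ X' := by
        have h2 : u₂ ^ b = (u₁ ^ a)⁻¹ * (u₁ ^ a * u₂ ^ b) := by group
        rw [h2]
        exact X'.mul_mem (X'.inv_mem (X'.pow_mem hu₁X a)) (hKX.le hmem)
      apply mem_of_pow_mem_of_coprime ((Nat.Prime.coprime_iff_not_dvd hpp).mpr hb).symm h1
      rw [hpow]; exact X'.one_mem
  -- the action on `W`
  letI : CommGroup ↥W := { (inferInstance : Group ↥W) with mul_comm := hWcomm }
  set φ : ↥U →* MulAut ↥W := W.normalizerMonoidHom.comp (Subgroup.inclusion hUW) with hφ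
  have hφapply : ∀ (u : ↥U) (w : ↥W), ((φ u w : ↥W) : G) = (u : G) * (w : G) * (u : G)⁻¹ := by
    intro u w
    rfl
  have hw1 : ∀ w : ↥W, w = 1 := by
    intro w
    apply eq_one_of_fixedPointFree_pair (p := p) hWtors (φ u₁) (φ u₂)
    · show φ u₁ * φ u₂ = φ u₂ * φ u₁
      rw [← map_mul, ← map_mul]
      congr 1
      exact Subtype.ext (hUc _ u₁.2 _ u₂.2)
    · rw [← map_pow, hpow, map_one]
    · rw [← map_pow, hpow, map_one]
    · intro a b hab v hv
      rw [← map_pow, ← map_pow, ← map_mul] at hv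
      have h1 := hnotK a b hab
      have h2 : ((u₁ ^ a * u₂ ^ b : ↥U) : G) ∉ Subgroup.centralizer (W : Set G) :=
        fun hmem => h1 (Subgroup.mem_subgroupOf.mpr hmem)
      have h3 := hfpf _ (u₁ ^ a * u₂ ^ b : ↥U).2 h2
      have h4 : (v : G) ∈ W ⊓ Subgroup.centralizer ({((u₁ ^ a * u₂ ^ b : ↥U) : G)} : Set G) := by
        rw [Subgroup.mem_inf]
        refine ⟨v.2, ?_⟩
        rw [mem_centralizer_singleton_iff]
        have h5 := congrArg Subtype.val hv
        rw [hφapply] at h5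
        calc (v : G) * ((u₁ ^ a * u₂ ^ b : ↥U) : G)
            = (((u₁ ^ a * u₂ ^ b : ↥U) : G) * (v : G) * ((u₁ ^ a * u₂ ^ b : ↥U) : G)⁻¹) *
                ((u₁ ^ a * u₂ ^ b : ↥U) : G) := by rw [h5]
          _ = ((u₁ ^ a * u₂ ^ b : ↥U) : G) * (v : G) := by group
      rw [h3, Subgroup.mem_bot] at h4
      exact Subtype.ext h4
  apply hW1
  rw [eq_bot_iff]
  intro w hw
  rw [Subgroup.mem_bot]
  exact congrArg Subtype.val (hw1 ⟨w, hw⟩)

end Cfsg.Agent.Helper15
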