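import Mathlib
import Cfsg.Agent.S0713

/-!
# Transitive groups of degree 11 (S0679): definitions and the Jordan step (helper15)
-/

set_option autoImplicit false

namespace Cfsg.Agent.Helper15.D11

open Equiv Equiv.Perm MulAction

variable {α : Type*} [Fintype α] [DecidableEq α]

instance fact_prime_eleven : Fact (Nat.Prime 11) := ⟨by norm_num⟩

instance fact_prime_five : Fact (Nat.Prime 5) := ⟨by norm_num⟩

/-- `K` contains no cycle of prime length `p` with `p + 3 ≤ |α|`. -/
def NoSmallCycle (K : Subgroup (Perm α)) : Prop :=
  ∀ g ∈ K, ∀ p : ℕ, p.Prime → p + 3 ≤ Fintype.card α → g.IsCycle → g.support.card ≠ p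

theorem NoSmallCycle.mono {K L : Subgroup (Perm α)} (h : K ≤ L) (hL : NoSmallCycle L) :
    NoSmallCycle K :=
  fun g hg p hp hpn hc => hL g (h hg) p hp hpn hc

/-- Jordan (S0713): a transitive group of degree 11 not containing the alternating group contains
no cycle of length 2, 3, 5 or 7. -/
theorem noSmallCycle (hα : Fintype.card α = 11) (G : Subgroup (Perm α))
    [MulAction.IsPretransitive G α] (hA : ¬ alternatingGroup α ≤ G) : NoSmallCycle G := by
  intro g hg p hp hpn hc hcard
  apply hA
  have hprim : MulAction.IsPreprimitive G α := by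
    apply MulAction.IsPreprimitive.of_prime_card
    rw [Nat.card_eq_fintype_card, hα]
    norm_num
  exact Cfsg.Agent.S0713.result G hprim hp (by omega) hpn hc hcard hg

end Cfsg.Agent.Helper15.D11
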