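import Mathlib
import Cfsg.Prelude.Def_BaumannBlocks
import Cfsg.Agent.Lib.Helper15.ChermakDelgado

set_option autoImplicit false

namespace Cfsg.Agent.Helper15

open scoped Pointwise

variable {G : Type*} [Group G]

/-- the centre of the subgroup `H`, seen inside `G`, is `H ⊓ C_G(H)` -/
theorem map_center_subtype (H : Subgroup G) :
    (Subgroup.center ↥H).map H.subtype = H ⊓ Subgroup.centralizer (H : Set G) := by
  ext x
  constructor
  · rintro ⟨⟨y, hy⟩, hyc, rfl⟩
    refine ⟨hy, ?_⟩
    show y ∈ Subgroup.centralizer (H : Set G)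
    have hyc : (⟨y, hy⟩ : ↥H) ∈ Subgroup.center ↥H := hyc
    rw [Subgroup.mem_centralizer_iff]
    intro h hh
    have := (Subgroup.mem_center_iff.1 hyc) ⟨h, hh⟩
    exact congrArg Subtype.val this
  · rintro ⟨hxH, hxC⟩
    have hxC : x ∈ Subgroup.centralizer (H : Set G) := hxC
    refine ⟨⟨x, hxH⟩, ?_, rfl⟩
    show (⟨x, hxH⟩ : ↥H) ∈ Subgroup.center ↥H
    rw [Subgroup.mem_center_iff]
    intro h
    apply Subtype.ext
    exact Subgroup.mem_centralizer_iff.1 hxC h h.2

theorem card_center_eq (H : Subgroup G) :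
    Nat.card ↥(Subgroup.center ↥H) = Nat.card ↥(H ⊓ Subgroup.centralizer (H : Set G) : Subgroup G) := by
  rw [← map_center_subtype, Subgroup.card_map_of_injective H.subtype_injective]

/-- the measure `|H| |Z(H)|` -/
noncomputable def clMeasure (H : Subgroup G) : ℕ :=
  Nat.card H * Nat.card ↥(Subgroup.center ↥H)

theorem clMeasure_le_cdMeasure [Finite G] (H : Subgroup G) : clMeasure H ≤ cdMeasure H := by
  unfold clMeasure cdMeasure
  rw [card_center_eq]
  apply Nat.mul_le_mul_left
  exact Nat.card_mono (Set.toFinite _) inf_le_right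

theorem clMeasure_eq_cdMeasure_of_le {H : Subgroup G} (h : Subgroup.centralizer (H : Set G) ≤ H) :
    clMeasure H = cdMeasure H := by
  unfold clMeasure cdMeasure
  rw [card_center_eq, inf_eq_right.2 h]

theorem centralizer_le_of_clMeasure_eq [Finite G] {H : Subgroup G} (h : clMeasure H = cdMeasure H) :
    Subgroup.centralizer (H : Set G) ≤ H := by
  unfold clMeasure cdMeasure at h
  rw [card_center_eq] at h
  have hpos : 0 < Nat.card H := Nat.card_pos
  have h2 := Nat.eq_of_mul_eq_mul_left hpos h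
  have h3 : H ⊓ Subgroup.centralizer (H : Set G) = Subgroup.centralizer (H : Set G) :=
    Subgroup.eq_of_le_of_card_ge inf_le_right h2.ge
  rw [← h3]; exact inf_le_left

theorem bddAbove_clMeasure_set (G : Type*) [Group G] [Finite G] :
    BddAbove {k : ℕ | ∃ R : Subgroup G, Nat.card ↥R * Nat.card ↥(Subgroup.center ↥R) = k} := by
  refine ⟨Cfsg.maxCentralizerProduct G, ?_⟩
  rintro k ⟨R, rfl⟩
  exact (clMeasure_le_cdMeasure R).trans (cdMeasure_le_max R)

theorem clMeasure_le_max [Finite G] (H : Subgroup G) : clMeasure H ≤ Cfsg.maxCentralProduct G :=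
  le_csSup (bddAbove_clMeasure_set G) ⟨H, rfl⟩

/-- a member `T` of the Chermak–Delgado lattice with `C(T) ≤ T` -/
theorem exists_isCentralizerLarge_centralizer_le (G : Type*) [Group G] [Finite G] :
    ∃ T : Subgroup G, Cfsg.IsCentralizerLarge T ∧ Subgroup.centralizer (T : Set G) ≤ T := by
  obtain ⟨Q, hQ⟩ := exists_cdMeasure_eq_max G
  have hQ' : Cfsg.IsCentralizerLarge Q := hQ
  refine ⟨Q ⊔ Subgroup.centralizer (Q : Set G), IsCentralizerLarge.sup hQ' (IsCentralizerLarge.centralizer hQ'), ?_⟩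
  rw [centralizer_sup, IsCentralizerLarge.centralizer_centralizer hQ']
  exact inf_le_right.trans le_sup_left

/-- `f(S) = f₁(S)` -/
theorem maxCentralProduct_eq (G : Type*) [Group G] [Finite G] :
    Cfsg.maxCentralProduct G = Cfsg.maxCentralizerProduct G := by
  apply le_antisymm
  · apply csSup_le (s := {k : ℕ | ∃ R : Subgroup G, Nat.card ↥R * Nat.card ↥(Subgroup.center ↥R) = k})
      ⟨_, ⊥, rfl⟩
    rintro k ⟨R, rfl⟩
    exact (clMeasure_le_cdMeasure R).trans (cdMeasure_le_max R)
  · obtain ⟨T, hT, hTc⟩ := exists_isCentralizerLarge_centralizer_le G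
    rw [← (isCentralizerLarge_iff.1 hT), ← clMeasure_eq_cdMeasure_of_le hTc]
    exact clMeasure_le_max T

theorem isCentrallyLarge_iff_clMeasure {H : Subgroup G} :
    Cfsg.IsCentrallyLarge H ↔ clMeasure H = Cfsg.maxCentralProduct G := Iff.rfl

theorem isCentrallyLarge_iff [Finite G] {H : Subgroup G} :
    Cfsg.IsCentrallyLarge H ↔
      Cfsg.IsCentralizerLarge H ∧ Subgroup.centralizer (H : Set G) ≤ H := by
  rw [isCentrallyLarge_iff_clMeasure, isCentralizerLarge_iff, maxCentralProduct_eq]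
  constructor
  · intro h
    have h1 := clMeasure_le_cdMeasure H
    have h2 := cdMeasure_le_max H
    have h3 : cdMeasure H = Cfsg.maxCentralizerProduct G := le_antisymm h2 (h ▸ h1)
    exact ⟨h3, centralizer_le_of_clMeasure_eq (h.trans h3.symm)⟩
  · rintro ⟨h1, h2⟩
    rw [clMeasure_eq_cdMeasure_of_le h2, h1]

theorem IsCentrallyLarge.isCentralizerLarge [Finite G] {H : Subgroup G}
    (h : Cfsg.IsCentrallyLarge H) : Cfsg.IsCentralizerLarge H := (isCentrallyLarge_iff.1 h).1

theorem IsCentrallyLarge.centralizer_le [Finite G] {H : Subgroup G}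
    (h : Cfsg.IsCentrallyLarge H) : Subgroup.centralizer (H : Set G) ≤ H := (isCentrallyLarge_iff.1 h).2

theorem IsCentrallyLarge.sup [Finite G] {H K : Subgroup G} (hH : Cfsg.IsCentrallyLarge H)
    (hK : Cfsg.IsCentrallyLarge K) : Cfsg.IsCentrallyLarge (H ⊔ K) := by
  rw [isCentrallyLarge_iff] at hH hK ⊢
  refine ⟨IsCentralizerLarge.sup hH.1 hK.1, ?_⟩
  rw [centralizer_sup]
  exact inf_le_left.trans (hH.2.trans le_sup_left)

theorem IsCentrallyLarge.coe_sup [Finite G] {H K : Subgroup G} (hH : Cfsg.IsCentrallyLarge H)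
    (hK : Cfsg.IsCentrallyLarge K) : ((H ⊔ K : Subgroup G) : Set G) = (H : Set G) * (K : Set G) :=
  IsCentralizerLarge.coe_sup (IsCentrallyLarge.isCentralizerLarge hH)
    (IsCentrallyLarge.isCentralizerLarge hK)

theorem exists_isCentrallyLarge (G : Type*) [Group G] [Finite G] :
    ∃ T : Subgroup G, Cfsg.IsCentrallyLarge T := by
  obtain ⟨T, hT, hTc⟩ := exists_isCentralizerLarge_centralizer_le G
  exact ⟨T, isCentrallyLarge_iff.2 ⟨hT, hTc⟩⟩

theorem supClosed_isCentrallyLarge (G : Type*) [Group G] [Finite G] :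
    SupClosed {R : Subgroup G | Cfsg.IsCentrallyLarge R} :=
  fun _ ha _ hb => IsCentrallyLarge.sup ha hb

theorem isCentrallyLarge_centrallyLargeJoin (G : Type*) [Group G] [Finite G] :
    Cfsg.IsCentrallyLarge (Cfsg.centrallyLargeJoin G) := by
  unfold Cfsg.centrallyLargeJoin
  exact (supClosed_isCentrallyLarge G).sSup_mem_of_nonempty (Set.toFinite _)
    (exists_isCentrallyLarge G) (le_refl _)

theorem le_centrallyLargeJoin {H : Subgroup G} (h : Cfsg.IsCentrallyLarge H) :
    H ≤ Cfsg.centrallyLargeJoin G := le_sSup h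

/-- below every centrally large subgroup there is a minimal one -/
theorem exists_isMinimalCentrallyLarge_le [Finite G] {H : Subgroup G} (h : Cfsg.IsCentrallyLarge H) :
    ∃ Q : Subgroup G, Cfsg.IsMinimalCentrallyLarge Q ∧ Q ≤ H := by
  have hfin : {R : Subgroup G | Cfsg.IsCentrallyLarge R ∧ R ≤ H}.Finite := Set.toFinite _
  obtain ⟨Q, hQmem, hQmin⟩ := hfin.exists_minimal ⟨H, h, le_rfl⟩
  refine ⟨Q, ⟨hQmem.1, ?_⟩, hQmem.2⟩
  intro R' hR'Q hR'
  exact le_antisymm hR'Q (hQmin ⟨hR', hR'Q.trans hQmem.2⟩ hR'Q)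

theorem isCentrallyLarge_minimalCentrallyLargeJoin (G : Type*) [Group G] [Finite G] :
    Cfsg.IsCentrallyLarge (Cfsg.minimalCentrallyLargeJoin G) := by
  unfold Cfsg.minimalCentrallyLargeJoin
  obtain ⟨T, hT⟩ := exists_isCentrallyLarge G
  obtain ⟨Q, hQ, _⟩ := exists_isMinimalCentrallyLarge_le hT
  exact (supClosed_isCentrallyLarge G).sSup_mem_of_nonempty (Set.toFinite _)
    ⟨Q, hQ⟩ (fun R hR => hR.1)

/-! ### abelian subgroups of largest order -/

theorem isMulCommutative_sup {H K : Subgroup G} (hH : H ≤ Subgroup.centralizer (H : Set G))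
    (hK : K ≤ Subgroup.centralizer (K : Set G)) (hHK : H ≤ Subgroup.centralizer (K : Set G)) :
    IsMulCommutative ↥(H ⊔ K : Subgroup G) := by
  rw [← Subgroup.le_centralizer_iff_isMulCommutative, centralizer_sup]
  exact sup_le (le_inf hH hHK) (le_inf (Subgroup.le_centralizer_iff.1 hHK) hK)

theorem MaxAbelian.le_centralizer {A : Subgroup G} (hA : A ∈ Cfsg.maxAbelianSubgroups G) :
    A ≤ Subgroup.centralizer (A : Set G) :=
  Subgroup.le_centralizer_iff_isMulCommutative.2 hA.1

/-- an abelian subgroup containing a maximal-order abelian subgroup is equal to it -/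
theorem MaxAbelian.eq_of_le [Finite G] {A B : Subgroup G} (hA : A ∈ Cfsg.maxAbelianSubgroups G)
    (hB : IsMulCommutative ↥B) (hAB : A ≤ B) : B = A :=
  (Subgroup.eq_of_le_of_card_ge hAB (hA.2 B hB)).symm

theorem MaxAbelian.centralizer_eq [Finite G] {A : Subgroup G} (hA : A ∈ Cfsg.maxAbelianSubgroups G) :
    Subgroup.centralizer (A : Set G) = A := by
  apply le_antisymm _ (MaxAbelian.le_centralizer hA)
  intro c hc
  have hcA : Subgroup.zpowers c ≤ Subgroup.centralizer (A : Set G) := (Subgroup.zpowers_le).2 hc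
  have hcomm : IsMulCommutative ↥(A ⊔ Subgroup.zpowers c : Subgroup G) := by
    apply isMulCommutative_sup (MaxAbelian.le_centralizer hA)
    · exact Subgroup.le_centralizer_iff_isMulCommutative.2 inferInstance
    · exact Subgroup.le_centralizer_iff.1 hcA
  have := MaxAbelian.eq_of_le hA hcomm le_sup_left
  have h2 : Subgroup.zpowers c ≤ A := by
    rw [← this]; exact le_sup_right
  exact h2 (Subgroup.mem_zpowers c)

theorem exists_maxAbelian (G : Type*) [Group G] [Finite G] :
    ∃ A : Subgroup G, A ∈ Cfsg.maxAbelianSubgroups G := by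
  have hfin : {B : Subgroup G | IsMulCommutative ↥B}.Finite := Set.toFinite _
  have hne : {B : Subgroup G | IsMulCommutative ↥B}.Nonempty :=
    ⟨⊥, Subgroup.le_centralizer_iff_isMulCommutative.1 bot_le⟩
  obtain ⟨A, hA, hmax⟩ := hfin.exists_maximalFor (fun B : Subgroup G => Nat.card ↥B) _ hne
  refine ⟨A, hA, fun B hB => ?_⟩
  by_contra hlt
  rw [not_le] at hlt
  exact absurd (hmax hB hlt.le) (not_le.2 hlt)

/-- Glauberman: `Q` centrally large, `A` abelian of largest order. -/
theorem IsCentrallyLarge.maxAbelian_key [Finite G] {Q A : Subgroup G}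
    (hQ : Cfsg.IsCentrallyLarge Q) (hA : A ∈ Cfsg.maxAbelianSubgroups G) :
    ((Q ⊔ A : Subgroup G) : Set G) = (Q : Set G) * (A : Set G) ∧
    Cfsg.IsCentrallyLarge (Q ⊔ A) ∧
    ((Q ⊓ A) ⊔ Subgroup.centralizer (Q : Set G)) ∈ Cfsg.maxAbelianSubgroups G ∧
    (((Q ⊓ A) ⊔ Subgroup.centralizer (Q : Set G) : Subgroup G) : Set G)
      = ((Q ⊓ A : Subgroup G) : Set G) * (Subgroup.centralizer (Q : Set G) : Set G) := by
  have hQcd := IsCentrallyLarge.isCentralizerLarge hQ
  have hZQ : Subgroup.centralizer (Q : Set G) ≤ Q := IsCentrallyLarge.centralizer_le hQ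
  have hCA := MaxAbelian.centralizer_eq hA
  set Z := Subgroup.centralizer (Q : Set G) with hZ
  set D := Q ⊓ A with hD
  -- D ⊔ Z is abelian
  have hDcomm : D ≤ Subgroup.centralizer (D : Set G) :=
    (inf_le_right.trans (MaxAbelian.le_centralizer hA)).trans
      (Subgroup.centralizer_le (SetLike.coe_subset_coe.2 inf_le_right))
  have hZcomm : Z ≤ Subgroup.centralizer (Z : Set G) :=
    hZQ.trans (le_centralizer_centralizer' Q)
  have hDZ : D ≤ Subgroup.centralizer (Z : Set G) :=
    inf_le_left.trans (le_centralizer_centralizer' Q)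
  have hab : IsMulCommutative ↥(D ⊔ Z : Subgroup G) := isMulCommutative_sup hDcomm hZcomm hDZ
  have h1 : Nat.card ↥(D ⊔ Z : Subgroup G) ≤ Nat.card A := hA.2 _ hab
  have h2 := card_mul_card_le_sup_inf D Z
  have hDZinf : D ⊓ Z = Z ⊓ A := by
    rw [hD, inf_comm Q A, inf_assoc, inf_eq_right.2 hZQ, inf_comm]
  rw [hDZinf] at h2
  -- the join Q ⊔ A
  have h3 := cdMeasure_le_max (Q ⊔ A)
  rw [← isCentralizerLarge_iff.1 hQcd] at h3
  unfold cdMeasure at h3
  rw [centralizer_sup, hCA, ← hZ] at h3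
  have h4 := card_mul_card_le_sup_inf Q A
  rw [← hD] at h4
  set q := Nat.card Q
  set a := Nat.card A
  set z := Nat.card Z
  set d := Nat.card D
  set s := Nat.card ↥(Q ⊔ A : Subgroup G)
  set t := Nat.card ↥(D ⊔ Z : Subgroup G)
  set w := Nat.card ↥(Z ⊓ A : Subgroup G)
  have hq : 0 < q := Nat.card_pos
  have ha : 0 < a := Nat.card_pos
  have hz : 0 < z := Nat.card_pos
  have hd : 0 < d := Nat.card_pos
  have hs : 0 < s := Nat.card_pos
  have ht : 0 < t := Nat.card_pos
  have hw : 0 < w := Nat.card_pos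
  -- h1 : t ≤ a, h2 : d * z ≤ t * w, h3 : s * w ≤ q * z, h4 : q * a ≤ s * d
  have c1 : q * a * w ≤ s * d * w := Nat.mul_le_mul_right w h4
  have c2 : s * d * w ≤ q * z * d := by
    calc s * d * w = (s * w) * d := by ring
      _ ≤ (q * z) * d := Nat.mul_le_mul_right d h3
  have c3 : q * z * d ≤ q * (t * w) := by
    calc q * z * d = q * (d * z) := by ring
      _ ≤ q * (t * w) := Nat.mul_le_mul_left q h2
  have c4 : q * (t * w) ≤ q * a * w := by
    calc q * (t * w) = q * w * t := by ring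
      _ ≤ q * w * a := Nat.mul_le_mul_left _ h1
      _ = q * a * w := by ring
  have e1 : q * a * w = s * d * w := le_antisymm c1 (c2.trans (c3.trans c4))
  have e2 : s * d * w = q * z * d := le_antisymm c2 (c3.trans (c4.trans c1))
  have e3 : q * z * d = q * (t * w) := le_antisymm c3 (c4.trans (c1.trans c2))
  have e4 : q * (t * w) = q * a * w := le_antisymm c4 (c1.trans (c2.trans c3))
  have f1 : q * a = s * d := Nat.eq_of_mul_eq_mul_right hw e1
  have f2 : s * w = q * z := by
    have : (s * w) * d = (q * z) * d := by rw [← e2]; ring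
    exact Nat.eq_of_mul_eq_mul_right hd this
  have f3 : d * z = t * w := by
    have : q * (d * z) = q * (t * w) := by rw [← e3]; ring
    exact Nat.eq_of_mul_eq_mul_left hq this
  have f4 : t = a := by
    have : (q * w) * t = (q * w) * a := by
      calc (q * w) * t = q * (t * w) := by ring
        _ = q * a * w := e4
        _ = (q * w) * a := by ring
    exact Nat.eq_of_mul_eq_mul_left (Nat.mul_pos hq hw) this
  refine ⟨?_, ?_, ?_, ?_⟩
  · apply coe_sup_eq_mul_of_card
    rw [← hD]; exact f1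
  · rw [isCentrallyLarge_iff]
    constructor
    · rw [isCentralizerLarge_iff, ← isCentralizerLarge_iff.1 hQcd]
      unfold cdMeasure
      rw [centralizer_sup, hCA, ← hZ]
      exact f2
    · rw [centralizer_sup, hCA]
      exact inf_le_right.trans le_sup_right
  · refine ⟨hab, fun B hB => ?_⟩
    have := hA.2 B hB
    calc Nat.card B ≤ a := this
      _ = t := f4.symm
  · apply coe_sup_eq_mul_of_card
    rw [hDZinf]; exact f3

/-- `C_{QA}(Q ∩ A) ⊆ Z(Q) A` elementwise -/
theorem IsCentrallyLarge.exists_mul_of_mem [Finite G] {Q A : Subgroup G}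
    (hQ : Cfsg.IsCentrallyLarge Q) (hA : A ∈ Cfsg.maxAbelianSubgroups G) {x : G}
    (hx : x ∈ (Q ⊔ A) ⊓ Subgroup.centralizer ((Q ⊓ A : Subgroup G) : Set G)) :
    ∃ z ∈ Subgroup.centralizer (Q : Set G), ∃ a ∈ A, x = z * a := by
  obtain ⟨h1, _, h3, h4⟩ := IsCentrallyLarge.maxAbelian_key hQ hA
  obtain ⟨hxQA, hxC⟩ := hx
  have hxQA' : x ∈ ((Q ⊔ A : Subgroup G) : Set G) := hxQA
  rw [h1] at hxQA'
  obtain ⟨q, hq, a, ha, rfl⟩ := Set.mem_mul.1 hxQA'
  have haC : a ∈ Subgroup.centralizer ((Q ⊓ A : Subgroup G) : Set G) :=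
    (Subgroup.centralizer_le (SetLike.coe_subset_coe.2 inf_le_right)) (MaxAbelian.le_centralizer hA ha)
  have hqC : q ∈ Subgroup.centralizer ((Q ⊓ A : Subgroup G) : Set G) := by
    have : q = (q * a) * a⁻¹ := by group
    rw [this]
    exact Subgroup.mul_mem _ hxC (Subgroup.inv_mem _ haC)
  have hqZ : q ∈ Subgroup.centralizer ((Subgroup.centralizer (Q : Set G) : Subgroup G) : Set G) :=
    le_centralizer_centralizer' Q hq
  have hq2 : q ∈ (Q ⊓ A) ⊔ Subgroup.centralizer (Q : Set G) := by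
    rw [← MaxAbelian.centralizer_eq h3, centralizer_sup]
    exact ⟨hqC, hqZ⟩
  have hq3 : q ∈ (((Q ⊓ A) ⊔ Subgroup.centralizer (Q : Set G) : Subgroup G) : Set G) := hq2
  rw [h4] at hq3
  obtain ⟨d, hd, z, hz, rfl⟩ := Set.mem_mul.1 hq3
  have hdz : d * z = z * d := (Subgroup.mem_centralizer_iff.1 hz d hd.1)
  refine ⟨z, hz, d * a, A.mul_mem hd.2 ha, ?_⟩
  rw [hdz, mul_assoc]

theorem IsCentrallyLarge.inf_centralizer_eq [Finite G] {Q A : Subgroup G}
    (hQ : Cfsg.IsCentrallyLarge Q) (hA : A ∈ Cfsg.maxAbelianSubgroups G) :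
    (Q ⊔ A) ⊓ Subgroup.centralizer ((Q ⊓ A : Subgroup G) : Set G)
      = Subgroup.centralizer (Q : Set G) ⊔ A := by
  apply le_antisymm
  · intro x hx
    obtain ⟨z, hz, a, ha, rfl⟩ := IsCentrallyLarge.exists_mul_of_mem hQ hA hx
    exact Subgroup.mul_mem_sup hz ha
  · apply le_inf
    · exact sup_le ((IsCentrallyLarge.centralizer_le hQ).trans le_sup_left) le_sup_right
    · apply sup_le
      · exact Subgroup.centralizer_le (SetLike.coe_subset_coe.2 inf_le_left)
      · exact (MaxAbelian.le_centralizer hA).trans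
          (Subgroup.centralizer_le (SetLike.coe_subset_coe.2 inf_le_right))

theorem IsCentrallyLarge.coe_centralizer_sup_maxAbelian [Finite G] {Q A : Subgroup G}
    (hQ : Cfsg.IsCentrallyLarge Q) (hA : A ∈ Cfsg.maxAbelianSubgroups G) :
    ((Subgroup.centralizer (Q : Set G) ⊔ A : Subgroup G) : Set G)
      = (Subgroup.centralizer (Q : Set G) : Set G) * (A : Set G) := by
  apply Set.Subset.antisymm
  · intro x hx
    have hx' : x ∈ Subgroup.centralizer (Q : Set G) ⊔ A := hx
    rw [← IsCentrallyLarge.inf_centralizer_eq hQ hA] at hx'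
    obtain ⟨z, hz, a, ha, rfl⟩ := IsCentrallyLarge.exists_mul_of_mem hQ hA hx'
    exact Set.mul_mem_mul hz ha
  · exact mul_set_subset_sup _ _

/-- every abelian subgroup of largest order lies in the join of all centrally large subgroups -/
theorem MaxAbelian.le_centrallyLargeJoin [Finite G] {A : Subgroup G}
    (hA : A ∈ Cfsg.maxAbelianSubgroups G) : A ≤ Cfsg.centrallyLargeJoin G := by
  have h := isCentrallyLarge_centrallyLargeJoin G
  have h2 := (IsCentrallyLarge.maxAbelian_key h hA).2.1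
  exact le_sup_right.trans (Cfsg.Agent.Helper15.le_centrallyLargeJoin h2)

theorem thompsonSubgroupA_le_centrallyLargeJoin (G : Type*) [Group G] [Finite G] :
    Cfsg.thompsonSubgroupA G ≤ Cfsg.centrallyLargeJoin G := by
  unfold Cfsg.thompsonSubgroupA
  exact sSup_le fun A hA => MaxAbelian.le_centrallyLargeJoin hA

/-- if the centrally large `T` contains `J(G)` then `Z(T) ≤ Z(J(G))` and so `C(Z(J(G))) ≤ T` -/
theorem IsCentrallyLarge.centralizer_center_thompson_le [Finite G] {T : Subgroup G}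
    (hT : Cfsg.IsCentrallyLarge T) (hJ : Cfsg.thompsonSubgroupA G ≤ T) :
    Subgroup.centralizer ((Cfsg.thompsonSubgroupA G ⊓
      Subgroup.centralizer (Cfsg.thompsonSubgroupA G : Set G) : Subgroup G) : Set G) ≤ T := by
  have hZ : Subgroup.centralizer (T : Set G) ≤ Cfsg.thompsonSubgroupA G ⊓
      Subgroup.centralizer (Cfsg.thompsonSubgroupA G : Set G) := by
    apply le_inf
    · obtain ⟨A, hA⟩ := exists_maxAbelian G
      have hAT : A ≤ T := (le_sSup hA).trans hJ
      have h3 := (IsCentrallyLarge.maxAbelian_key hT hA).2.2.1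
      rw [inf_eq_right.2 hAT] at h3
      have h4 := MaxAbelian.eq_of_le hA h3.1 le_sup_left
      have h5 : Subgroup.centralizer (T : Set G) ≤ A := by
        rw [← h4]; exact le_sup_right
      exact h5.trans (le_sSup hA)
    · exact Subgroup.centralizer_le (SetLike.coe_subset_coe.2 hJ)
  calc Subgroup.centralizer ((Cfsg.thompsonSubgroupA G ⊓
      Subgroup.centralizer (Cfsg.thompsonSubgroupA G : Set G) : Subgroup G) : Set G)
      ≤ Subgroup.centralizer ((Subgroup.centralizer (T : Set G) : Subgroup G) : Set G) :=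
        Subgroup.centralizer_le (SetLike.coe_subset_coe.2 hZ)
    _ = T := IsCentralizerLarge.centralizer_centralizer (IsCentrallyLarge.isCentralizerLarge hT)

end Cfsg.Agent.Helper15
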