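import Mathlib
import Cfsg.Prelude.Def_Transfer
import Cfsg.Agent.Lib.Helper15.CoprimeGen
import Cfsg.Agent.Lib.Helper1.CommutatorBasic
import Cfsg.Agent.S0022
import Cfsg.Agent.Lib.Helper21.BaerSuzuki

set_option autoImplicit false

namespace Cfsg.Agent.Helper15

variable {G : Type*} [Group G]

/-- an elementary abelian `p`-subgroup is a `p`-group -/
theorem isPGroup_of_isElementaryAbelian {p : ℕ} {U : Subgroup G}
    (hU : Cfsg.IsElementaryAbelian p U) : IsPGroup p ↥U := by
  intro u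
  refine ⟨1, ?_⟩
  rw [pow_one]
  exact Subtype.ext (hU.2 u u.2)

/-- **Weak coprime generation, section form.** `N ⊴ T` both `U`-invariant, `T` of order prime to
`p`, `U` noncyclic elementary abelian: if `C_T(U₀) ≤ N` for every hyperplane `U₀` then `T ≤ N`. -/
theorem le_of_forall_coatom_centralizer_le [Finite G] {p : ℕ} [Fact p.Prime]
    {U T N : Subgroup G} (hU : Cfsg.IsElementaryAbelian p U) (hU2 : p ^ 2 ≤ Nat.card ↥U)
    (hT : (Nat.card ↥T).Coprime p) (hNT : N ≤ T) (hTN : T ≤ Subgroup.normalizer (N : Set G))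
    (hUT : U ≤ Subgroup.normalizer (T : Set G)) (hUN : U ≤ Subgroup.normalizer (N : Set G))
    (h : ∀ U₀ : Subgroup G, U₀ ≤ U → IsCoatom (U₀.subgroupOf U) →
      T ⊓ Subgroup.centralizer (U₀ : Set G) ≤ N) : T ≤ N := by
  classical
  have hpp : p.Prime := Fact.out
  have hUp : IsPGroup p ↥U := isPGroup_of_isElementaryAbelian hU
  have hUc : ∀ a ∈ U, ∀ b ∈ U, a * b = b * a := by
    intro a ha b hb
    have := hU.1.is_comm.comm (⟨a, ha⟩ : U) ⟨b, hb⟩
    exact congrArg Subtype.val this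
  -- the ambient quotient
  set H : Subgroup G := Subgroup.normalizer (N : Set G) with hH
  haveI hNn : (N.subgroupOf H).Normal := Subgroup.normal_in_normalizer
  set π : ↥H →* ↥H ⧸ N.subgroupOf H := QuotientGroup.mk' (N.subgroupOf H) with hπ
  have hπ1 : ∀ x : ↥H, π x = 1 ↔ (x : G) ∈ N := by
    intro x
    rw [hπ, QuotientGroup.mk'_apply, QuotientGroup.eq_one_iff, Subgroup.mem_subgroupOf]
  set eU : ↥U →* ↥H ⧸ N.subgroupOf H := π.comp (Subgroup.inclusion hUN) with heU
  set eT : ↥T →* ↥H ⧸ N.subgroupOf H := π.comp (Subgroup.inclusion hTN) with heT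
  -- `U ∩ N = 1`
  have hUN1 : ∀ u ∈ U, u ∈ N → u = 1 := by
    intro u hu huN
    have h1 : (Nat.card ↥U).Coprime (Nat.card ↥T) := by
      obtain ⟨n, hn⟩ := IsPGroup.iff_card.mp hUp
      rw [hn]
      exact Nat.Coprime.pow_left n hT.symm
    have h2 := Subgroup.inf_eq_bot_of_coprime (H := U) (K := T) h1
    have h3 : u ∈ U ⊓ T := ⟨hu, hNT huN⟩
    rw [h2, Subgroup.mem_bot] at h3
    exact h3
  have heUinj : Function.Injective eU := by
    rw [injective_iff_map_eq_one]
    intro u hu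
    have h1 : ((Subgroup.inclusion hUN u : ↥H) : G) ∈ N := (hπ1 _).mp hu
    exact Subtype.ext (hUN1 u u.2 h1)
  -- the images
  have hUbar : Cfsg.IsElementaryAbelian p eU.range := by
    refine ⟨⟨⟨?_⟩⟩, ?_⟩
    · rintro ⟨_, ⟨a, rfl⟩⟩ ⟨_, ⟨b, rfl⟩⟩
      apply Subtype.ext
      show eU a * eU b = eU b * eU a
      rw [← map_mul, ← map_mul]
      congr 1
      exact Subtype.ext (hUc a a.2 b b.2)
    · rintro _ ⟨a, rfl⟩
      rw [← map_pow]
      have : a ^ p = 1 := Subtype.ext (hU.2 a a.2)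
      rw [this, map_one]
  have hUbar2 : p ^ 2 ≤ Nat.card ↥eU.range := by
    rw [← Nat.card_congr (MonoidHom.ofInjective heUinj).toEquiv]
    exact hU2
  have hTbar : (Nat.card ↥eT.range).Coprime p :=
    Nat.Coprime.coprime_dvd_left (Subgroup.card_range_dvd eT) hT
  have hconj : ∀ (u : ↥U) (t : ↥T), eU u * eT t * (eU u)⁻¹
      = eT ⟨(u : G) * t * (u : G)⁻¹, (Subgroup.mem_normalizer_iff.mp (hUT u.2) t).mp t.2⟩ := by
    intro u t
    rw [heU, heT]
    simp only [MonoidHom.comp_apply]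
    rw [← map_inv, ← map_mul, ← map_mul]
    congr 1
  have hUTbar : eU.range ≤ Subgroup.normalizer (eT.range : Set (↥H ⧸ N.subgroupOf H)) := by
    apply Cfsg.Agent.Helper1.le_normalizer_of_forall_conj_mem
    rintro _ ⟨u, rfl⟩ _ ⟨t, rfl⟩
    rw [hconj]
    exact ⟨_, rfl⟩
  have hmain : eT.range = ⊥ := by
    apply eq_bot_of_forall_coatom_centralizer_eq_bot hUbar hUbar2 hTbar hUTbar
    intro V hVU hVco
    -- pull back the hyperplane
    set U₀ : Subgroup G := (V.comap eU).map U.subtype with hU₀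
    have hU₀U : U₀ ≤ U := Subgroup.map_subtype_le _
    have hU₀sub : U₀.subgroupOf U = V.comap eU :=
      Subgroup.comap_map_eq_self_of_injective (Subgroup.subtype_injective _) _
    have hU₀mem : ∀ u : ↥U, (u : G) ∈ U₀ ↔ eU u ∈ V := by
      intro u
      rw [← Subgroup.mem_subgroupOf, hU₀sub, Subgroup.mem_comap]
    have hco : IsCoatom (U₀.subgroupOf U) := by
      rw [hU₀sub]
      set e : ↥U ≃* ↥eU.range := MonoidHom.ofInjective heUinj with he
      have h1 : V.comap eU = (V.subgroupOf eU.range).comap e.toMonoidHom := by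
        ext u
        rw [Subgroup.mem_comap, Subgroup.mem_comap, Subgroup.mem_subgroupOf]
        rfl
      rw [h1]
      exact (e.comapSubgroup.isCoatom_iff (a := V.subgroupOf eU.range)).mpr hVco
    have hle := h U₀ hU₀U hco
    rw [eq_bot_iff]
    rintro x ⟨⟨t, rfl⟩, hxc⟩
    rw [Subgroup.mem_bot]
    have hfix : ∀ a ∈ U₀, a * (t : G) * a⁻¹ * (t : G)⁻¹ ∈ N := by
      intro a ha
      have haU : a ∈ U := hU₀U ha
      have h1 : eU ⟨a, haU⟩ ∈ V := (hU₀mem ⟨a, haU⟩).mp ha
      have h2 := (Subgroup.mem_centralizer_iff.mp hxc) _ h1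
      -- `eU a * eT t = eT t * eU a`
      have h3 : eU ⟨a, haU⟩ * eT t * (eU ⟨a, haU⟩)⁻¹ * (eT t)⁻¹ = 1 := by
        rw [h2]; group
      rw [hconj, ← map_inv, ← map_mul] at h3
      have h4 := (hπ1 _).mp h3
      exact h4
    have hcop : (Nat.card ↥U₀).Coprime (Nat.card ↥T) := by
      obtain ⟨n, hn⟩ := IsPGroup.iff_card.mp (hUp.to_le hU₀U)
      rw [hn]
      exact Nat.Coprime.pow_left n hT.symm
    haveI : Group.IsNilpotent ↥U₀ := (hUp.to_le hU₀U).isNilpotent
    obtain ⟨c, hc, hcN⟩ := Cfsg.Agent.S0022.result U₀ T (hU₀U.trans hUT) hcop (Or.inl inferInstance)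
      N hNT hTN (hU₀U.trans hUN) (t : G) t.2 hfix
    have hcN' : c ∈ N := hle hc
    have htN : (t : G) ∈ N := by
      have h1 : (t : G)⁻¹ ∈ N := by
        have : (t : G)⁻¹ = (t : G)⁻¹ * c * c⁻¹ := by group
        rw [this]
        exact N.mul_mem hcN (N.inv_mem hcN')
      simpa using N.inv_mem h1
    exact (hπ1 _).mpr htN
  intro t ht
  have h1 : eT ⟨t, ht⟩ ∈ eT.range := ⟨_, rfl⟩
  rw [hmain, Subgroup.mem_bot] at h1
  exact (hπ1 _).mp h1

/-- the normalizers of `A` and `B` normalize `A ⊓ B` -/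
theorem normalizer_inf_normalizer_le_normalizer_inf (A B : Subgroup G) :
    Subgroup.normalizer (A : Set G) ⊓ Subgroup.normalizer (B : Set G)
      ≤ Subgroup.normalizer ((A ⊓ B : Subgroup G) : Set G) := by
  intro g hg
  simp_rw [Subgroup.mem_inf, Subgroup.mem_normalizer_iff_map_conj_eq] at hg ⊢
  rw [Subgroup.map_inf _ _ _ (MulAut.conj g).injective, hg.1, hg.2]

/-- **Coprime generation.** A noncyclic elementary abelian `p`-group `U` acting coprimely on `R`:
`R` is generated by the centralizers in `R` of the hyperplanes of `U`. -/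
theorem le_of_forall_coatom_inf_centralizer_le [Finite G] {p : ℕ} [Fact p.Prime]
    {U R : Subgroup G} (hU : Cfsg.IsElementaryAbelian p U) (hU2 : p ^ 2 ≤ Nat.card ↥U)
    (hR : (Nat.card ↥R).Coprime p) (hUR : U ≤ Subgroup.normalizer (R : Set G))
    (X : Subgroup G)
    (hX : ∀ U₀ : Subgroup G, U₀ ≤ U → IsCoatom (U₀.subgroupOf U) →
      R ⊓ Subgroup.centralizer (U₀ : Set G) ≤ X) : R ≤ X := by
  classical
  have hpp : p.Prime := Fact.out
  have hUp : IsPGroup p ↥U := isPGroup_of_isElementaryAbelian hU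
  have hUc : ∀ a ∈ U, ∀ b ∈ U, a * b = b * a := by
    intro a ha b hb
    have := hU.1.is_comm.comm (⟨a, ha⟩ : U) ⟨b, hb⟩
    exact congrArg Subtype.val this
  -- every invariant Sylow subgroup lies in `X`
  have hsyl : ∀ (r : ℕ) [Fact r.Prime] (P : Subgroup G), P ≤ R → IsPGroup r ↥P →
      U ≤ Subgroup.normalizer (P : Set G) → P ≤ X := by
    intro r _ P hPR hPr hUP
    set S : Set (Subgroup G) := {Y | ∃ U₀ : Subgroup G, U₀ ≤ U ∧ IsCoatom (U₀.subgroupOf U) ∧
      Y = P ⊓ Subgroup.centralizer (U₀ : Set G)} with hS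
    set P₀ : Subgroup G := sSup S with hP₀
    have hP₀P : P₀ ≤ P := by
      apply sSup_le
      rintro Y ⟨U₀, -, -, rfl⟩
      exact inf_le_left
    have hP₀X : P₀ ≤ X := by
      apply sSup_le
      rintro Y ⟨U₀, h1, h2, rfl⟩
      exact (inf_le_inf_right _ hPR).trans (hX U₀ h1 h2)
    have hUP₀ : U ≤ Subgroup.normalizer (P₀ : Set G) := by
      apply Cfsg.Agent.Helper1.le_normalizer_of_forall_conj_mem
      intro u hu
      have : P₀ ≤ P₀.comap (MulAut.conj u).toMonoidHom := by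
        apply sSup_le
        rintro Y ⟨U₀, h1, h2, rfl⟩
        intro x hx
        rw [Subgroup.mem_comap]
        have hx' := Subgroup.mem_inf.mp hx
        have : u * x * u⁻¹ ∈ P ⊓ Subgroup.centralizer (U₀ : Set G) := by
          rw [Subgroup.mem_inf]
          refine ⟨(Subgroup.mem_normalizer_iff.mp (hUP hu) x).mp hx'.1, ?_⟩
          rw [Subgroup.mem_centralizer_iff]
          intro v hv
          have h3 := (Subgroup.mem_centralizer_iff.mp hx'.2) v hv
          have h4 := hUc u hu v (h1 hv)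
          have h5 : v * u⁻¹ = u⁻¹ * v := by
            calc v * u⁻¹ = u⁻¹ * (u * v) * u⁻¹ := by group
              _ = u⁻¹ * (v * u) * u⁻¹ := by rw [h4]
              _ = u⁻¹ * v := by group
          calc v * (u * x * u⁻¹) = (v * u) * x * u⁻¹ := by group
            _ = (u * v) * x * u⁻¹ := by rw [h4]
            _ = u * (v * x) * u⁻¹ := by group
            _ = u * (x * v) * u⁻¹ := by rw [h3]
            _ = u * x * (v * u⁻¹) := by group
            _ = u * x * (u⁻¹ * v) := by rw [h5]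
            _ = u * x * u⁻¹ * v := by group
        have hmem : P ⊓ Subgroup.centralizer (U₀ : Set G) ∈ S := ⟨U₀, h1, h2, rfl⟩
        exact (le_sSup hmem) this
      intro x hx
      exact this hx
    set T : Subgroup G := P ⊓ Subgroup.normalizer (P₀ : Set G) with hT
    have hTcop : (Nat.card ↥T).Coprime p :=
      Nat.Coprime.coprime_dvd_left (Subgroup.card_dvd_of_le (inf_le_left.trans hPR)) hR
    have hUT : U ≤ Subgroup.normalizer (T : Set G) := by
      refine le_trans ?_ (normalizer_inf_normalizer_le_normalizer_inf _ _)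
      exact le_inf hUP (hUP₀.trans Subgroup.le_normalizer)
    have hTle : T ≤ P₀ := by
      apply le_of_forall_coatom_centralizer_le hU hU2 hTcop (le_inf hP₀P Subgroup.le_normalizer)
        inf_le_right hUT hUP₀
      intro U₀ h1 h2
      have hmem : P ⊓ Subgroup.centralizer (U₀ : Set G) ∈ S := ⟨U₀, h1, h2, rfl⟩
      exact (inf_le_inf_right _ inf_le_left).trans (le_sSup hmem)
    have hP₀eq : P₀ = P := by
      by_contra hne
      obtain ⟨n, hnP, hnP₀, hnN⟩ := Cfsg.Agent.Helper21.exists_mem_normalizer_not_mem hPr hP₀P hne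
      exact hnP₀ (hTle ⟨hnP, hnN⟩)
    rw [← hP₀eq]
    exact hP₀X
  -- counting
  have hdvd : Nat.card ↥R ∣ Nat.card ↥(R ⊓ X : Subgroup G) := by
    rw [← Nat.factorization_prime_le_iff_dvd Nat.card_pos.ne' Nat.card_pos.ne']
    intro r hr
    haveI : Fact r.Prime := ⟨hr⟩
    obtain ⟨P, hPR, hPr, hPcard, hUP⟩ := exists_invariant_sylow_of_coprime r hUp hR hUR
    have h1 : P ≤ R ⊓ X := le_inf hPR (hsyl r P hPR hPr hUP)
    have h2 : Nat.card ↥P ∣ Nat.card ↥(R ⊓ X : Subgroup G) := Subgroup.card_dvd_of_le h1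
    rw [hPcard] at h2
    exact (Nat.Prime.pow_dvd_iff_le_factorization hr Nat.card_pos.ne').mp h2
  have heq : R ⊓ X = R :=
    Subgroup.eq_of_le_of_card_ge inf_le_left (Nat.le_of_dvd Nat.card_pos hdvd)
  exact inf_eq_left.mp heq

/-- **Coprime generation, element form.** `R` is generated by the centralizers in `R` of the
nontrivial elements of `U`. -/
theorem le_of_forall_ne_one_inf_centralizer_le [Finite G] {p : ℕ} [Fact p.Prime]
    {U R : Subgroup G} (hU : Cfsg.IsElementaryAbelian p U) (hU2 : p ^ 2 ≤ Nat.card ↥U)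
    (hR : (Nat.card ↥R).Coprime p) (hUR : U ≤ Subgroup.normalizer (R : Set G))
    (X : Subgroup G)
    (hX : ∀ u ∈ U, u ≠ 1 → R ⊓ Subgroup.centralizer ({u} : Set G) ≤ X) : R ≤ X := by
  have hpp : p.Prime := Fact.out
  apply le_of_forall_coatom_inf_centralizer_le hU hU2 hR hUR X
  intro U₀ hU₀U hco
  -- `U₀ ≠ ⊥`
  have hne : U₀ ≠ ⊥ := by
    intro hb
    rw [hb] at hco
    have hb' : (⊥ : Subgroup G).subgroupOf U = ⊥ := by
      rw [eq_bot_iff]
      intro x hx
      rw [Subgroup.mem_subgroupOf, Subgroup.mem_bot] at hx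
      rw [Subgroup.mem_bot]
      exact Subtype.ext hx
    rw [hb'] at hco
    have hcard : 1 < Nat.card ↥U := by
      have : 2 ^ 2 ≤ p ^ 2 := Nat.pow_le_pow_left hpp.two_le 2
      omega
    haveI : Nontrivial ↥U := Finite.one_lt_card_iff_nontrivial.mp hcard
    obtain ⟨u, hu⟩ := exists_ne (1 : ↥U)
    have h1 : (⊥ : Subgroup ↥U) < Subgroup.zpowers u := by
      rw [bot_lt_iff_ne_bot]
      intro h2
      exact hu (Subgroup.zpowers_eq_bot.mp h2)
    have h2 := hco.2 _ h1
    have h3 : Nat.card ↥(Subgroup.zpowers u) = Nat.card ↥U := by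
      rw [h2]
      exact Subgroup.card_top
    rw [Nat.card_zpowers] at h3
    have h4 : orderOf u ∣ p := orderOf_dvd_of_pow_eq_one (Subtype.ext (hU.2 u u.2))
    have h5 : orderOf u ≤ p := Nat.le_of_dvd hpp.pos h4
    have h6 : p < p ^ 2 := by
      have := hpp.one_lt
      nlinarith
    omega
  obtain ⟨⟨u, hu⟩, hu1'⟩ := (Subgroup.ne_bot_iff_exists_ne_one (H := U₀)).mp hne
  have hu1 : u ≠ 1 := fun h => hu1' (Subtype.ext h)
  refine le_trans (inf_le_inf_left _ ?_) (hX u (hU₀U hu) hu1)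
  exact Subgroup.centralizer_le (Set.singleton_subset_iff.mpr hu)

end Cfsg.Agent.Helper15
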