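import Mathlib
import Cfsg.Prelude.Def_IsolatedElements
import Cfsg.Agent.Lib.Helper15.Isolated
import Cfsg.Agent.Lib.Helper1.CoprimeSylow
import Cfsg.Agent.Lib.Helper1.CommutatorBasic
import Cfsg.Agent.Lib.Helper7.Signalizer
import Cfsg.Agent.Lib.Helper7.Cores
import Cfsg.Agent.Lib.Helper22.PPrimeCore
import Cfsg.Agent.Lib.Helper23.PSolvable

/-!
# Minimal counterexamples to the `Z*_p`-statement, part 1 (helper15's shared library)
-/

set_option autoImplicit false
set_option linter.unusedSectionVars false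
set_option linter.style.haveILetI false

namespace Cfsg.Agent.Helper15.ZStarMin

open Cfsg.Agent.Helper15

variable {G : Type*} [Group G]

/-- fusion of an isolated `p`-element is controlled by every subgroup containing it -/
theorem exists_conj_of_mem [Finite G] {p : ℕ} [Fact p.Prime] {x : G}
    (hiso : Cfsg.IsIsolated x) (hx : ∃ k : ℕ, orderOf x = p ^ k) {K : Subgroup G} (hxK : x ∈ K)
    {g : G} (hgK : g * x * g⁻¹ ∈ K) : ∃ c ∈ K, c * (g * x * g⁻¹) * c⁻¹ = x := by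
  set x' := g * x * g⁻¹ with hx'
  have hx'ord : ∃ k : ℕ, orderOf x' = p ^ k := by
    obtain ⟨k, hk⟩ := hx
    refine ⟨k, ?_⟩
    rw [hx', ← hk]
    have := MulEquiv.orderOf_eq (MulAut.conj g) x
    rwa [MulAut.conj_apply] at this
  have hP : IsPGroup p ↥(Subgroup.zpowers x) := isPGroup_zpowers_of_orderOf hx
  have hP' : IsPGroup p ↥(Subgroup.zpowers x') := isPGroup_zpowers_of_orderOf hx'ord
  obtain ⟨T, hxT, hT⟩ := exists_isSylowIn_ge hP ((Subgroup.zpowers_le).2 hxK)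
  obtain ⟨T', hxT', hT'⟩ := exists_isSylowIn_ge hP' ((Subgroup.zpowers_le).2 hgK)
  obtain ⟨c, hcK, hcT⟩ := hT'.exists_conj hT
  have h1 : c * x' * c⁻¹ ∈ T := by
    rw [← hcT]
    exact conj_mem_map_conj c (hxT' (Subgroup.mem_zpowers x'))
  have h2 : T ≤ Subgroup.centralizer ({x} : Set G) :=
    IsIsolated.commute_of_mem hiso hT.isPGroup (hxT (Subgroup.mem_zpowers x))
  have h3 : (c * x' * c⁻¹) * x = x * (c * x' * c⁻¹) := mem_centralizer_singleton_iff.1 (h2 h1)
  have e1 : c * x' * c⁻¹ = (c * g) * x * (c * g)⁻¹ := by rw [hx']; group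
  have h4 : (c * g) * x * (c * g)⁻¹ = x := by
    apply hiso
    rw [← e1]
    exact h3.symm
  exact ⟨c, hcK, by rw [e1, h4]⟩

/-- a subgroup which is Sylow in its normalizer is Sylow -/
theorem isSylowIn_top_of_normalizer [Finite G] {q : ℕ} [Fact q.Prime] {Q : Subgroup G}
    (h : IsSylowIn q Q (Subgroup.normalizer (Q : Set G))) : IsSylowIn q Q ⊤ := by
  obtain ⟨S, hQS, hS⟩ := exists_isSylowIn_ge h.isPGroup (le_top : Q ≤ ⊤)
  have h1 : S ⊓ Subgroup.normalizer (Q : Set G) = Q := by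
    apply h.eq_of_le (hS.isPGroup.to_le inf_le_left) (le_inf hQS Subgroup.le_normalizer) inf_le_right
  have h2 : S = Q := eq_of_inf_normalizer_eq hS.isPGroup hQS h1
  rw [← h2]
  exact hS

/-- `C_G(x)` is transitive on the `x`-invariant Sylow subgroups, for `x` isolated -/
theorem exists_centralizer_conj_sylow [Finite G] {p : ℕ} [Fact p.Prime] {x : G}
    (hiso : Cfsg.IsIsolated x) (hx : ∃ k : ℕ, orderOf x = p ^ k) {q : ℕ} [Fact q.Prime]
    (S₁ S₂ : Sylow q G) (h₁ : x ∈ Subgroup.normalizer ((S₁ : Subgroup G) : Set G))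
    (h₂ : x ∈ Subgroup.normalizer ((S₂ : Subgroup G) : Set G)) :
    ∃ c ∈ Subgroup.centralizer ({x} : Set G),
      (S₁ : Subgroup G).map (MulAut.conj c).toMonoidHom = (S₂ : Subgroup G) := by
  obtain ⟨g, hg, hgS⟩ := (isSylowIn_top S₁).exists_conj (isSylowIn_top S₂)
  -- `g⁻¹ x g` normalizes `S₁`
  have h3 : g⁻¹ * x * g⁻¹⁻¹ ∈ Subgroup.normalizer ((S₁ : Subgroup G) : Set G) := by
    apply mem_normalizer_of_map_conj_eq
    have e : (MulAut.conj (g⁻¹ * x * g⁻¹⁻¹)).toMonoidHom =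
        ((MulAut.conj g⁻¹).toMonoidHom.comp (MulAut.conj x).toMonoidHom).comp
          (MulAut.conj g).toMonoidHom := by
      ext y
      simp only [MulEquiv.coe_toMonoidHom, MulAut.conj_apply, MonoidHom.coe_comp,
        Function.comp_apply]
      group
    rw [e, ← Subgroup.map_map, ← Subgroup.map_map, hgS, map_conj_eq_of_mem_normalizer h₂, ← hgS,
      map_conj_inv_map_conj]
  obtain ⟨h, hh, hhx⟩ := exists_conj_of_mem hiso hx h₁ h3
  refine ⟨g * h⁻¹, ?_, ?_⟩
  · rw [mem_centralizer_singleton_iff]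
    have e1 : h * (g⁻¹ * x * g⁻¹⁻¹) * h⁻¹ = (g * h⁻¹)⁻¹ * x * (g * h⁻¹) := by group
    rw [e1] at hhx
    calc g * h⁻¹ * x = (g * h⁻¹) * ((g * h⁻¹)⁻¹ * x * (g * h⁻¹)) := by rw [hhx]
      _ = x * (g * h⁻¹) := by group
  · have e : (MulAut.conj (g * h⁻¹)).toMonoidHom =
        (MulAut.conj g).toMonoidHom.comp (MulAut.conj h⁻¹).toMonoidHom := by
      ext y
      simp only [MulEquiv.coe_toMonoidHom, MulAut.conj_apply, MonoidHom.coe_comp,
        Function.comp_apply]
      group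
    rw [e, ← Subgroup.map_map,
      map_conj_eq_of_mem_normalizer (Subgroup.inv_mem _ hh), hgS]

/-- the data of a minimal counterexample to the `Z*_p`-statement -/
structure MinCE (p : ℕ) (x : G) : Prop where
  ord : orderOf x = p
  iso : Cfsg.IsIsolated x
  nz : ¬ Cfsg.InZStar p x
  min : ∀ (H : Subgroup G) (hxH : x ∈ H), H ≠ ⊤ → Cfsg.InZStar p (⟨x, hxH⟩ : ↥H)
  quot : ∀ (N : Subgroup G) [N.Normal], N ≠ ⊥ → Cfsg.InZStar p (QuotientGroup.mk x : G ⧸ N)

namespace MinCE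

variable [Finite G] {p : ℕ} [Fact p.Prime] {x : G}

theorem ord' (h : MinCE p x) : ∃ k : ℕ, orderOf x = p ^ k := ⟨1, by rw [pow_one]; exact h.ord⟩

/-- `O_{p'}(G) = 1` -/
theorem pPrimeCore_eq_bot (h : MinCE p x) : Cfsg.pPrimeCore p G = ⊥ := by
  by_contra hne
  haveI := Cfsg.Agent.Helper22.pPrimeCore_normal (G := G) p
  have h1 := h.quot (Cfsg.pPrimeCore p G) hne
  apply h.nz
  intro g
  have h2 := h1 (QuotientGroup.mk g)
  rw [Cfsg.Agent.Helper23.PSolv.pPrimeCore_quotient_pPrimeCore, Subgroup.mem_bot] at h2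
  have h3 : (QuotientGroup.mk (g * x * g⁻¹ * x⁻¹) : G ⧸ Cfsg.pPrimeCore p G) = 1 := h2
  exact (QuotientGroup.eq_one_iff _).mp h3

/-- the image in `G` of `O_{p'}(H)`, together with its basic properties, for a proper subgroup
`H` containing `x` -/
theorem exists_core (h : MinCE p x) {H : Subgroup G} (hxH : x ∈ H) (hH : H ≠ ⊤) :
    ∃ O : Subgroup G, O ≤ H ∧ H ≤ Subgroup.normalizer (O : Set G) ∧ (Nat.card ↥O).Coprime p ∧
      ∀ g ∈ H, g * x * g⁻¹ * x⁻¹ ∈ O := by
  have hZ := h.min H hxH hH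
  haveI hn := Cfsg.Agent.Helper22.pPrimeCore_normal (G := ↥H) p
  refine ⟨(Cfsg.pPrimeCore p ↥H).map H.subtype, Subgroup.map_subtype_le _, ?_, ?_, ?_⟩
  · apply Cfsg.Agent.Helper1.le_normalizer_of_forall_conj_mem
    rintro g hg _ ⟨o, ho, rfl⟩
    exact ⟨⟨g, hg⟩ * o * ⟨g, hg⟩⁻¹, hn.conj_mem o ho ⟨g, hg⟩, rfl⟩
  · rw [Subgroup.card_map_of_injective H.subtype_injective]
    exact Cfsg.Agent.Helper22.card_pPrimeCore_coprime p
  · intro g hg
    exact ⟨_, hZ ⟨g, hg⟩, rfl⟩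

/-- a maximal `x`-invariant `q`-subgroup is trivial or a Sylow `q`-subgroup -/
theorem max_invariant_sylow (h : MinCE p x) {q : ℕ} [Fact q.Prime] {Q : Subgroup G}
    (hQ : IsPGroup q ↥Q) (hxQ : x ∈ Subgroup.normalizer (Q : Set G))
    (hmax : ∀ R : Subgroup G, IsPGroup q ↥R → x ∈ Subgroup.normalizer (R : Set G) → Q ≤ R → R = Q) :
    Q = ⊥ ∨ ∃ S : Sylow q G, (S : Subgroup G) = Q := by
  have hp : p.Prime := Fact.out
  have hq : q.Prime := Fact.out
  by_cases hqp : q = p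
  · right
    subst hqp
    have hZ : IsPGroup q ↥(Subgroup.zpowers x) := isPGroup_zpowers_of_orderOf h.ord'
    have hQx : IsPGroup q ↥(Subgroup.zpowers x ⊔ Q) :=
      IsPGroup.to_sup_of_normal_right' hZ hQ ((Subgroup.zpowers_le).2 hxQ)
    have hxmem : x ∈ Subgroup.zpowers x ⊔ Q := le_sup_left (a := Subgroup.zpowers x) (Subgroup.mem_zpowers x)
    have h1 := hmax _ hQx (Subgroup.le_normalizer hxmem) le_sup_right
    have hxQ' : x ∈ Q := by rw [← h1]; exact hxmem
    obtain ⟨S, hS⟩ := hQ.exists_le_sylow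
    have h2 := hmax _ S.isPGroup' (Subgroup.le_normalizer (hS hxQ')) hS
    exact ⟨S, h2⟩
  · by_cases hQbot : Q = ⊥
    · left; exact hQbot
    right
    obtain ⟨k, hk⟩ := hQ.exists_card_eq
    have hcopqp : q.Coprime p := (Nat.coprime_primes hq hp).mpr hqp
    have hQcop : (Nat.card ↥Q).Coprime p := by
      rw [hk]; exact Nat.Coprime.pow_left k hcopqp
    have hH : Subgroup.normalizer (Q : Set G) ≠ ⊤ := by
      intro htop
      have hn : Q.Normal := Subgroup.normalizer_eq_top_iff.mp htop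
      have := Cfsg.Agent.Helper22.le_pPrimeCore p Q hn hQcop
      rw [h.pPrimeCore_eq_bot] at this
      exact hQbot (le_bot_iff.mp this)
    obtain ⟨O, hOH, hHO, hOcop, hcomm⟩ := h.exists_core hxQ hH
    obtain ⟨R₀, hQR₀, hR₀⟩ := exists_isSylowIn_ge hQ (Subgroup.le_normalizer (H := Q))
    have hYH : O ⊔ R₀ ≤ Subgroup.normalizer (Q : Set G) := sup_le hOH hR₀.le
    have hYcard : (Nat.card ↥(O ⊔ R₀ : Subgroup G)).Coprime p := by
      have h1 := Cfsg.Agent.Helper7.card_sup_dvd_mul_of_le_normalizer (hR₀.le.trans hHO)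
      obtain ⟨k₀, hk₀⟩ := hR₀.isPGroup.exists_card_eq
      have h2 : (Nat.card ↥O * Nat.card ↥R₀).Coprime p := by
        apply Nat.Coprime.mul_left hOcop
        rw [hk₀]; exact Nat.Coprime.pow_left k₀ hcopqp
      exact Nat.Coprime.coprime_dvd_left h1 h2
    -- `x` normalizes `O ⊔ R₀`
    have hxY : x ∈ Subgroup.normalizer ((O ⊔ R₀ : Subgroup G) : Set G) := by
      apply mem_normalizer_of_map_conj_eq
      rw [map_conj_eq_iff_le, Subgroup.map_sup]
      apply sup_le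
      · rw [map_conj_eq_of_mem_normalizer (hHO hxQ)]
        exact le_sup_left
      · rintro _ ⟨r, hr, rfl⟩
        have e : (MulAut.conj x).toMonoidHom r = (r * x * r⁻¹ * x⁻¹)⁻¹ * r := by
          simp only [MulEquiv.coe_toMonoidHom, MulAut.conj_apply]
          group
        rw [e]
        exact Subgroup.mul_mem _ (le_sup_left (a := O) (O.inv_mem (hcomm r (hR₀.le hr))))
          (le_sup_right (a := O) hr)
    have hAY : Subgroup.zpowers x ≤ Subgroup.normalizer ((O ⊔ R₀ : Subgroup G) : Set G) :=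
      (Subgroup.zpowers_le).2 hxY
    have hAcop : (Nat.card ↥(Subgroup.zpowers x)).Coprime (Nat.card ↥(O ⊔ R₀ : Subgroup G)) := by
      rw [Nat.card_zpowers, h.ord]
      exact hYcard.symm
    have hsol : Group.IsSolvable ↥(Subgroup.zpowers x) := inferInstance
    obtain ⟨P, hP⟩ := Cfsg.Agent.Helper1.exists_invariant_sylow (p := q) (K := O ⊔ R₀)
      (Subgroup.zpowers x) hAY hAcop (Or.inl hsol)
    have hR' := isSylowIn_map_subtype P
    set R' := (P : Subgroup ↥(O ⊔ R₀ : Subgroup G)).map (O ⊔ R₀ : Subgroup G).subtype with hR'def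
    have hQY : Q ≤ O ⊔ R₀ := hQR₀.trans le_sup_right
    obtain ⟨T, hQT, hT⟩ := exists_isSylowIn_ge hQ hQY
    obtain ⟨c, hcY, hc⟩ := hT.exists_conj hR'
    have hQR' : Q ≤ R' := by
      rw [← hc, ← map_conj_eq_of_mem_normalizer (hYH hcY)]
      exact map_conj_mono hQT c
    have hR'Q : R' = Q := hmax R' hR'.isPGroup (hP (Subgroup.mem_zpowers x)) hQR'
    rw [hR'Q] at hR'
    have hR₀Y : IsSylowIn q R₀ (O ⊔ R₀) := hR₀.of_le le_sup_right hYH
    have hcardeq : Nat.card ↥R₀ ≤ Nat.card ↥Q := by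
      rw [hR'.card_eq, hR₀Y.card_eq]
    have hQR₀eq : Q = R₀ := Subgroup.eq_of_le_of_card_ge hQR₀ hcardeq
    rw [← hQR₀eq] at hR₀
    have htop := isSylowIn_top_of_normalizer hR₀
    exact ⟨htop.sylowOfTop, rfl⟩

end MinCE

end Cfsg.Agent.Helper15.ZStarMin
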