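import Mathlib
import Cfsg.Agent.Lib.Helper11.HSub1
import Cfsg.Agent.Lib.Helper15.SylowIn
import Cfsg.Agent.Lib.Helper3.Supersolvable2
import Cfsg.Agent.S0579

set_option autoImplicit false

/-! Supersolvability from `H`-subgroups of fixed order, part 1: transfer of the `H`-subgroup
property to subgroups and quotients, normality inside a normal `p`-subgroup, Frattini lifting,
fixed points. -/

namespace Cfsg.Agent.Helper15.HSup

open Cfsg.Agent.Helper11.HSub

universe u

section basic

variable {G : Type*} [Group G]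

/-- the `H`-subgroup property passes to any subgroup containing the given one -/
theorem isH_subgroupOf {F X : Subgroup G} (hF : IsH F) (hFX : F ≤ X) : IsH (F.subgroupOf X) := by
  intro g x hx
  obtain ⟨hx1, hx2⟩ := Subgroup.mem_inf.mp hx
  rw [Subgroup.mem_subgroupOf]
  apply hF (g : G)
  refine Subgroup.mem_inf.mpr ⟨?_, ?_⟩
  · obtain ⟨y, hy, rfl⟩ := hx1
    refine ⟨(y : G), Subgroup.mem_subgroupOf.mp hy, ?_⟩
    simp [MulAut.conj_apply]
  · rw [Subgroup.mem_normalizer_iff]
    intro z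
    by_cases hz : z ∈ X
    · have := (Subgroup.mem_normalizer_iff.mp hx2) ⟨z, hz⟩
      simpa [Subgroup.mem_subgroupOf] using this
    · constructor
      · intro h; exact absurd (hFX h) hz
      · intro h
        exfalso; apply hz
        have h1 : (x : G) * z * (x : G)⁻¹ ∈ X := hFX h
        have : z = (x : G)⁻¹ * ((x : G) * z * (x : G)⁻¹) * (x : G) := by group
        rw [this]
        exact X.mul_mem (X.mul_mem (X.inv_mem x.2) h1) x.2

theorem isPGroup_zpowers_of_pow_eq_one {p : ℕ} {x : G} {k : ℕ} (h : x ^ (p ^ k) = 1) :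
    IsPGroup p (Subgroup.zpowers x) := by
  rintro ⟨z, hz⟩
  obtain ⟨i, rfl⟩ := Subgroup.mem_zpowers_iff.mp hz
  refine ⟨k, ?_⟩
  apply Subtype.ext
  simp only [Subgroup.coe_pow, Subgroup.coe_one]
  rw [← zpow_natCast, ← zpow_mul, mul_comm, zpow_mul, zpow_natCast, h, one_zpow]

/-- the `H`-subgroup property of a `p`-subgroup passes to every quotient -/
theorem isH_map [Finite G] {G' : Type*} [Group G'] {p : ℕ} [Fact p.Prime] (f : G →* G')
    (hf : Function.Surjective f) {F : Subgroup G} (hFp : IsPGroup p F) (hF : IsH F) :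
    IsH (F.map f) := by
  intro g' x' hx'
  obtain ⟨hx1, hx2⟩ := Subgroup.mem_inf.mp hx'
  obtain ⟨g, rfl⟩ := hf g'
  obtain ⟨y', ⟨y, hy, rfl⟩, rfl⟩ := hx1
  set x : G := g * y * g⁻¹ with hx
  have hfx : f x = f g * f y * (f g)⁻¹ := by simp [hx]
  have hx2' : f x ∈ Subgroup.normalizer ((F.map f : Subgroup G') : Set G') := by
    rw [hfx]
    simpa [MulAut.conj_apply] using hx2
  suffices key : f x ∈ F.map f by
    rw [hfx] at key
    simpa [MulAut.conj_apply] using key
  -- `x` is a `p`-element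
  obtain ⟨k, hk⟩ := hFp ⟨y, hy⟩
  have hyk : y ^ (p ^ k) = 1 := by simpa using congrArg Subtype.val hk
  have hxk : x ^ (p ^ k) = 1 := by
    rw [hx, conj_pow, hyk]; group
  have hxp : IsPGroup p (Subgroup.zpowers x) := isPGroup_zpowers_of_pow_eq_one hxk
  have hfxp : IsPGroup p (Subgroup.zpowers (f x)) := by
    apply isPGroup_zpowers_of_pow_eq_one (k := k)
    rw [← map_pow, hxk, map_one]
  -- the `p`-subgroup `T' = f(F)⟨f x⟩` of the quotient
  have hzn : Subgroup.zpowers (f x) ≤ Subgroup.normalizer ((F.map f : Subgroup G') : Set G') :=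
    Subgroup.zpowers_le.mpr hx2'
  set T' : Subgroup G' := F.map f ⊔ Subgroup.zpowers (f x) with hT'
  have hT'p : IsPGroup p T' := IsPGroup.to_sup_of_normal_left' (hFp.map f) hfxp hzn
  have hT'n : T' ≤ Subgroup.normalizer ((F.map f : Subgroup G') : Set G') :=
    sup_le Subgroup.le_normalizer hzn
  set B : Subgroup G := T'.comap f with hB
  have hFB : F ≤ B := by
    intro z hz
    rw [hB, Subgroup.mem_comap]
    exact (le_sup_left : F.map f ≤ T') (Subgroup.mem_map_of_mem f hz)
  have hxB : Subgroup.zpowers x ≤ B := by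
    rw [Subgroup.zpowers_le, hB, Subgroup.mem_comap]
    exact (le_sup_right : Subgroup.zpowers (f x) ≤ T') (Subgroup.mem_zpowers _)
  obtain ⟨T, hFT, hT⟩ := exists_isSylowIn_ge hFp hFB
  obtain ⟨T₂, hxT₂, hT₂⟩ := exists_isSylowIn_ge hxp hxB
  obtain ⟨b, hbB, hb⟩ := hT₂.exists_conj hT
  have hbx : b * x * b⁻¹ ∈ T := by
    rw [← hb]
    exact conj_mem_map T₂ b (hxT₂ (Subgroup.mem_zpowers x))
  have hTN : T ≤ Subgroup.normalizer (F : Set G) := le_normalizer_of_isH hT.isPGroup hFT hF
  have hbxF : b * x * b⁻¹ ∈ F := by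
    apply hF (b * g)
    refine Subgroup.mem_inf.mpr ⟨?_, hTN hbx⟩
    have : b * x * b⁻¹ = (b * g) * y * (b * g)⁻¹ := by rw [hx]; group
    rw [this]
    exact conj_mem_map F (b * g) hy
  have h1 : f b * f x * (f b)⁻¹ ∈ F.map f := by
    have := Subgroup.mem_map_of_mem f hbxF
    simpa using this
  have hfb : f b ∈ Subgroup.normalizer ((F.map f : Subgroup G') : Set G') := hT'n hbB
  exact (Subgroup.mem_normalizer_iff.mp hfb (f x)).mpr h1

/-- an `H`-subgroup inside a normal `p`-subgroup is normal -/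
theorem normal_of_isH [Finite G] {p : ℕ} [Fact p.Prime] {Q F : Subgroup G} [hQn : Q.Normal]
    (hQ : IsPGroup p Q) (hFQ : F ≤ Q) (hF : IsH F) : F.Normal := by
  have hQN : Q ≤ Subgroup.normalizer (F : Set G) := le_normalizer_of_isH hQ hFQ hF
  constructor
  intro n hn g
  apply hF g
  exact Subgroup.mem_inf.mpr ⟨conj_mem_map F g hn, hQN (hQn.conj_mem n (hFQ hn) g)⟩

/-- a `p`-subgroup acting on a nontrivial normal `p`-subgroup fixes a nontrivial element -/
theorem exists_fixed_of_isPGroup [Finite G] {p : ℕ} [Fact p.Prime] (S N : Subgroup G)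
    [hN : N.Normal] (hS : IsPGroup p S) (hNp : IsPGroup p N) (hne : N ≠ ⊥) :
    ∃ b ∈ N, b ≠ 1 ∧ ∀ s ∈ S, s * b * s⁻¹ = b := by
  let _inst : MulAction S N :=
    MulAction.compHom N ((MulAut.conjNormal : G →* MulAut N).comp S.subtype)
  have hsmul : ∀ (g : S) (n : N), ((g • n : N) : G) = g * n * (g : G)⁻¹ := fun g n => rfl
  have h1 : (1 : N) ∈ MulAction.fixedPoints S N := by
    intro g
    apply Subtype.ext
    rw [hsmul]
    simp
  have hdvd : p ∣ Nat.card N := by
    have : Nontrivial N := (Subgroup.nontrivial_iff_ne_bot N).mpr hne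
    obtain ⟨n, hn0, hn⟩ := hNp.nontrivial_iff_card.mp inferInstance
    rw [hn]
    exact dvd_pow_self _ (ne_of_gt hn0)
  obtain ⟨b, hb, hb1⟩ := hS.exists_fixed_point_of_prime_dvd_card_of_fixed_point N hdvd h1
  refine ⟨(b : G), b.2, ?_, ?_⟩
  · intro h
    apply hb1
    exact (Subtype.ext h).symm
  · intro s hs
    have := hb ⟨s, hs⟩
    rw [← hsmul ⟨s, hs⟩ b, this]

end basic

/-- a normal subgroup inside the Frattini subgroup with supersolvable quotient -/
theorem isSupersolvable_of_le_frattini {G : Type u} [Group G] [Finite G] (N : Subgroup G)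
    [N.Normal] (hN : N ≤ frattini G) (h : Cfsg.IsSupersolvable (G ⧸ N)) :
    Cfsg.IsSupersolvable G := by
  apply Cfsg.Agent.S0579.result
  intro M hM
  have hNM : N ≤ M := hN.trans (frattini_le_coatom hM)
  have h1 := Cfsg.Agent.Helper3.isCoatom_map_mk' N M hM hNM
  have h2 := Cfsg.Agent.Helper3.index_prime_of_isCoatom h _ h1
  rwa [Cfsg.Agent.Helper3.index_map_mk' N M hNM] at h2

end Cfsg.Agent.Helper15.HSup
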