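import Mathlib
import Cfsg.Agent.Lib.Helper15.HSup1
import Cfsg.Agent.Lib.Helper3.PrimSolv
import Cfsg.Agent.Lib.Helper3.Huppert
import Cfsg.Agent.Lib.Helper3.Supersolvable4

set_option autoImplicit false

/-! Supersolvability from `H`-subgroups of fixed order, part 2: minimal normal subgroups inside a
normal `q`-subgroup, and the criterion `isSupersolvable_of_ctrl`: a normal `q`-subgroup `Q` with
supersolvable quotient on which the group acts as a (`q`-group)-by-(abelian of exponent dividing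
`q - 1`). -/

namespace Cfsg.Agent.Helper15.HSup

open scoped commutatorElement

universe u

section minimal

variable {G : Type*} [Group G]

theorem exists_minimal_normal_le [Finite G] (L : Subgroup G) (hLn : L.Normal) (hL : L ≠ ⊥) :
    ∃ V : Subgroup G, V.Normal ∧ V ≠ ⊥ ∧ V ≤ L ∧
      ∀ W : Subgroup G, W.Normal → W ≤ V → W = ⊥ ∨ W = V := by
  have hL' : L.Normal ∧ L ≠ ⊥ := ⟨hLn, hL⟩
  obtain ⟨N, hNL, hN⟩ :=
    Finite.exists_le_minimal (p := fun K : Subgroup G => K.Normal ∧ K ≠ ⊥) hL'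
  refine ⟨N, hN.prop.1, hN.prop.2, hNL, ?_⟩
  intro K hKn hKN
  by_cases hK : K = ⊥
  · exact Or.inl hK
  · exact Or.inr (le_antisymm hKN (hN.le_of_le ⟨hKn, hK⟩ hKN))

/-- a minimal normal `q`-subgroup is centralized by every normal `q`-subgroup -/
theorem minimal_le_centralizer [Finite G] {q : ℕ} [Fact q.Prime] (N R : Subgroup G)
    [hNn : N.Normal] [hRn : R.Normal] (hNq : IsPGroup q N) (hR : IsPGroup q R) (hNne : N ≠ ⊥)
    (hmin : ∀ W : Subgroup G, W.Normal → W ≤ N → W = ⊥ ∨ W = N) :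
    N ≤ Subgroup.centralizer (R : Set G) := by
  obtain ⟨b, hbN, hb1, hb⟩ := exists_fixed_of_isPGroup R N hR hNq hNne
  set Z : Subgroup G := N ⊓ Subgroup.centralizer (R : Set G) with hZ
  have hZn : Z.Normal := inferInstance
  have hbZ : b ∈ Z := by
    refine Subgroup.mem_inf.mpr ⟨hbN, ?_⟩
    rw [Subgroup.mem_centralizer_iff]
    intro r hr
    have := hb r hr
    calc r * b = (r * b * r⁻¹) * r := by group
      _ = b * r := by rw [this]
  rcases hmin Z hZn inf_le_left with h | h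
  · exfalso
    rw [h, Subgroup.mem_bot] at hbZ
    exact hb1 hbZ
  · rw [← h]; exact inf_le_right

/-- if `C` acts on the minimal normal `q`-subgroup `N` through a `q`-group, it centralizes `N` -/
theorem le_centralizer_of_minimal [Finite G] {q : ℕ} [hq : Fact q.Prime]
    (N C : Subgroup G) [hNn : N.Normal] [hCn : C.Normal] (hNq : IsPGroup q N) (hNne : N ≠ ⊥)
    (hmin : ∀ W : Subgroup G, W.Normal → W ≤ N → W = ⊥ ∨ W = N)
    (hC : ∀ c ∈ C, ∃ m : ℕ, c ^ (q ^ m) ∈ Subgroup.centralizer (N : Set G)) :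
    C ≤ Subgroup.centralizer (N : Set G) := by
  set K : Subgroup G := C ⊓ Subgroup.centralizer (N : Set G) with hK
  have hKn : K.Normal := inferInstance
  set K' : Subgroup C := K.subgroupOf C with hK'
  have hK'n : K'.Normal := inferInstance
  have hquot : IsPGroup q (↥C ⧸ K') := by
    intro x
    induction x using QuotientGroup.induction_on with
    | H c =>
      obtain ⟨m, hm⟩ := hC c c.2
      refine ⟨m, ?_⟩
      rw [← QuotientGroup.mk_pow, QuotientGroup.eq_one_iff, hK', Subgroup.mem_subgroupOf]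
      refine Subgroup.mem_inf.mpr ⟨?_, ?_⟩
      · simpa using C.pow_mem c.2 _
      · simpa using hm
  let S' : Sylow q C := default
  have htop : (S' : Subgroup C) ⊔ K' = ⊤ := by
    rw [← Subgroup.index_eq_one]
    have h1 : ((S' : Subgroup C) ⊔ K').index ∣ (S' : Subgroup C).index :=
      Subgroup.index_dvd_of_le le_sup_left
    have h2 : ((S' : Subgroup C) ⊔ K').index ∣ K'.index := Subgroup.index_dvd_of_le le_sup_right
    obtain ⟨j, hj⟩ := IsPGroup.iff_card.mp hquot
    have hKi : K'.index = q ^ j := by rw [Subgroup.index_eq_card, hj]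
    rw [hKi] at h2
    obtain ⟨i, -, hi⟩ := (Nat.dvd_prime_pow hq.out).mp h2
    rcases Nat.eq_zero_or_pos i with h0 | hpos
    · rw [hi, h0, pow_zero]
    · exfalso
      apply S'.not_dvd_index
      exact (dvd_pow_self q hpos.ne').trans (hi ▸ h1)
  set S : Subgroup G := (S' : Subgroup C).map C.subtype with hS
  have hSq : IsPGroup q S := S'.isPGroup'.map _
  obtain ⟨b, hbN, hb1, hb⟩ := exists_fixed_of_isPGroup S N hSq hNq hNne
  set Z : Subgroup G := N ⊓ Subgroup.centralizer (C : Set G) with hZ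
  have hZn : Z.Normal := inferInstance
  have hbZ : b ∈ Z := by
    refine Subgroup.mem_inf.mpr ⟨hbN, ?_⟩
    rw [Subgroup.mem_centralizer_iff]
    intro c hc
    have hmem : (⟨c, hc⟩ : C) ∈ ((S' : Subgroup C) ⊔ K' : Subgroup C) := by
      rw [htop]; exact Subgroup.mem_top _
    rw [← SetLike.mem_coe, Subgroup.mul_normal, Set.mem_mul] at hmem
    obtain ⟨s, hs, k, hk, hsk⟩ := hmem
    have hsk' : (s : G) * (k : G) = c := by
      simpa using congrArg Subtype.val hsk
    have hsS : (s : G) ∈ S := ⟨s, hs, rfl⟩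
    have hkK : (k : G) ∈ K := Subgroup.mem_subgroupOf.mp hk
    have h1 := hb (s : G) hsS
    have h2 : b * (k : G) = (k : G) * b := Subgroup.mem_centralizer_iff.mp hkK.2 b hbN
    rw [← hsk']
    calc (s : G) * (k : G) * b = (s : G) * (b * (k : G)) := by rw [h2, mul_assoc]
      _ = ((s : G) * b * (s : G)⁻¹) * ((s : G) * (k : G)) := by group
      _ = b * ((s : G) * (k : G)) := by rw [h1]
  rcases hmin Z hZn inf_le_left with h | h
  · exfalso
    rw [h, Subgroup.mem_bot] at hbZ
    exact hb1 hbZ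
  · intro c hc
    rw [Subgroup.mem_centralizer_iff]
    intro n hn
    have hnZ : n ∈ Z := by rw [h]; exact hn
    exact (Subgroup.mem_centralizer_iff.mp hnZ.2 c hc).symm

/-- if `G / C_G(N)` is abelian of exponent dividing `q - 1` (witnessed by a normal subgroup `C`
centralizing `N`), the minimal normal elementary abelian `q`-subgroup `N` is cyclic -/
theorem isCyclic_of_minimal_of_ctrl [Finite G] {q : ℕ} [hq : Fact q.Prime]
    (N C : Subgroup G) [hNn : N.Normal] (hNne : N ≠ ⊥)
    (hmin : ∀ W : Subgroup G, W.Normal → W ≤ N → W = ⊥ ∨ W = N)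
    (hab : ∀ a ∈ N, ∀ b ∈ N, a * b = b * a) (hexp : ∀ m ∈ N, m ^ q = 1)
    (hCN : C ≤ Subgroup.centralizer (N : Set G))
    (h1 : ∀ g : G, g ^ (q - 1) ∈ C) (h2 : ∀ g h : G, ⁅g, h⁆ ∈ C) : IsCyclic N := by
  have hpow : ∀ g : G, ∃ a : ℕ, ∀ v ∈ N, g * v * g⁻¹ = v ^ a := by
    intro g
    let _ : CommGroup N :=
      { (inferInstance : Group N) with mul_comm := fun a b => Subtype.ext (hab a a.2 b b.2) }
    have : Nontrivial N := (Subgroup.nontrivial_iff_ne_bot N).mpr hNne
    have hV : ∀ v : N, v ^ q = 1 := fun v => Subtype.ext (by simpa using hexp v v.2)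
    let T : N →* N := (MulAut.conjNormal g : MulAut N).toMonoidHom
    have hTv : ∀ v : N, ((T v : N) : G) = g * v * g⁻¹ := fun v => by
      change ((MulAut.conjNormal g v : N) : G) = _
      rw [MulAut.conjNormal_apply]
    have hiter : ∀ (k : ℕ) (v : N), ((T^[k] v : N) : G) = g ^ k * v * (g ^ k)⁻¹ := by
      intro k
      induction k with
      | zero => intro v; simp
      | succ k ih =>
        intro v
        rw [Function.iterate_succ_apply', hTv, ih, pow_succ']
        group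
    have hT : ∀ v, T^[q] v = T v := by
      intro v
      apply Subtype.ext
      rw [hiter, hTv]
      have hq1 : q = (q - 1) + 1 := (Nat.sub_add_cancel hq.out.one_lt.le).symm
      have hc := hCN (h1 g)
      have hcv : v * g ^ (q - 1) = g ^ (q - 1) * (v : G) :=
        Subgroup.mem_centralizer_iff.mp hc v v.2
      have : g ^ q = g * g ^ (q - 1) := by
        conv_lhs => rw [hq1, pow_succ']
      rw [this]
      calc g * g ^ (q - 1) * (v : G) * (g * g ^ (q - 1))⁻¹
          = g * (g ^ (q - 1) * (v : G)) * (g ^ (q - 1))⁻¹ * g⁻¹ := by group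
        _ = g * ((v : G) * g ^ (q - 1)) * (g ^ (q - 1))⁻¹ * g⁻¹ := by rw [hcv]
        _ = g * v * g⁻¹ := by group
    obtain ⟨a, v, hv1, hva⟩ := Cfsg.Agent.Helper3.exists_pow_eigen hV T hT
    refine ⟨a, ?_⟩
    let W : Subgroup G :=
      { carrier := {w | w ∈ N ∧ g * w * g⁻¹ = w ^ a}
        one_mem' := ⟨N.one_mem, by simp⟩
        mul_mem' := by
          rintro x y ⟨hx, hx'⟩ ⟨hy, hy'⟩
          refine ⟨N.mul_mem hx hy, ?_⟩
          have : g * (x * y) * g⁻¹ = (g * x * g⁻¹) * (g * y * g⁻¹) := by group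
          rw [this, hx', hy', (show Commute x y from hab x hx y hy).mul_pow]
        inv_mem' := by
          rintro x ⟨hx, hx'⟩
          refine ⟨N.inv_mem hx, ?_⟩
          have : g * x⁻¹ * g⁻¹ = (g * x * g⁻¹)⁻¹ := by group
          rw [this, hx', inv_pow] }
    have hWmem : ∀ w, w ∈ W ↔ w ∈ N ∧ g * w * g⁻¹ = w ^ a := fun w => Iff.rfl
    have hWn : W.Normal := by
      constructor
      intro w hw h
      rw [hWmem] at hw ⊢
      obtain ⟨hwN, hw'⟩ := hw
      refine ⟨hNn.conj_mem w hwN h, ?_⟩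
      have hc : ⁅g⁻¹, h⁻¹⁆ ∈ C := h2 _ _
      have hcw : ⁅g⁻¹, h⁻¹⁆ * w = w * ⁅g⁻¹, h⁻¹⁆ :=
        (Subgroup.mem_centralizer_iff.mp (hCN hc) w hwN).symm
      calc g * (h * w * h⁻¹) * g⁻¹
          = h * (g * (⁅g⁻¹, h⁻¹⁆ * w * ⁅g⁻¹, h⁻¹⁆⁻¹) * g⁻¹) * h⁻¹ := by
            rw [commutatorElement_def]; group
        _ = h * (g * w * g⁻¹) * h⁻¹ := by rw [hcw, mul_inv_cancel_right]
        _ = h * w ^ a * h⁻¹ := by rw [hw']
        _ = (h * w * h⁻¹) ^ a := (conj_pow).symm
    have hWN : W ≤ N := fun w hw => ((hWmem w).mp hw).1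
    have hvW : (v : G) ∈ W := by
      rw [hWmem]
      refine ⟨v.2, ?_⟩
      rw [← hTv, hva]
      simp
    rcases hmin W hWn hWN with h | h
    · exfalso
      apply hv1
      rw [h, Subgroup.mem_bot] at hvW
      exact Subtype.ext hvW
    · intro w hw
      have : w ∈ W := by rw [h]; exact hw
      exact ((hWmem w).mp this).2
  -- a nontrivial element generates a normal subgroup
  obtain ⟨u, huN, hu1⟩ : ∃ u ∈ N, u ≠ 1 := by
    by_contra hcon
    push Not at hcon
    apply hNne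
    rw [eq_bot_iff]
    intro x hx
    rw [Subgroup.mem_bot]
    exact hcon x hx
  have hun : (Subgroup.zpowers u).Normal := by
    apply Cfsg.Agent.Helper3.zpowers_normal_of_conj_mem
    intro g
    obtain ⟨a, ha⟩ := hpow g
    rw [ha u huN]
    exact Subgroup.pow_mem _ (Subgroup.mem_zpowers u) a
  have hle : Subgroup.zpowers u ≤ N := Subgroup.zpowers_le.mpr huN
  rcases hmin _ hun hle with h | h
  · exfalso
    apply hu1
    have : u ∈ Subgroup.zpowers u := Subgroup.mem_zpowers u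
    rw [h, Subgroup.mem_bot] at this
    exact this
  · rw [← h]
    infer_instance

end minimal

/-- Supersolvability criterion: `Q` a normal `q`-subgroup with supersolvable quotient, `C` a
normal subgroup containing all `(q-1)`-th powers and commutators, acting on `Q` as a `q`-group. -/
theorem isSupersolvable_of_ctrl_aux (n : ℕ) : ∀ (G : Type u) [Group G] [Finite G],
    Nat.card G = n → ∀ (q : ℕ) [Fact q.Prime] (Q C : Subgroup G) [Q.Normal] [C.Normal],
    IsPGroup q Q → Cfsg.IsSupersolvable (G ⧸ Q) →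
    (∀ g : G, g ^ (q - 1) ∈ C) → (∀ g h : G, ⁅g, h⁆ ∈ C) →
    (∀ c ∈ C, ∃ m : ℕ, c ^ (q ^ m) ∈ Subgroup.centralizer (Q : Set G)) →
    Cfsg.IsSupersolvable G := by
  induction n using Nat.strong_induction_on with
  | _ n ih =>
  intro G _ _ hcard q hq Q C hQn hCn hQ hss h1 h2 h3
  by_cases hQbot : Q = ⊥
  · subst hQbot
    exact Cfsg.Agent.Helper3.isSupersolvable_of_mulEquiv hss QuotientGroup.quotientBot
  obtain ⟨N, hNn, hNne, hNQ, hNmin⟩ := exists_minimal_normal_le Q hQn hQbot
  have := hNn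
  have hNq : IsPGroup q N := hQ.to_le hNQ
  have hNcQ : N ≤ Subgroup.centralizer (Q : Set G) :=
    minimal_le_centralizer N Q hNq hQ hNne hNmin
  have hab : ∀ a ∈ N, ∀ b ∈ N, a * b = b * a := by
    intro a ha b hb
    exact (Subgroup.mem_centralizer_iff.mp (hNcQ ha) b (hNQ hb)).symm
  obtain ⟨p', d, hp', hd, hNcard, hexp⟩ :=
    Cfsg.Agent.Helper3.card_eq_prime_pow_of_minimal_normal N hNne hNmin hab
  have hp'q : p' = q := by
    obtain ⟨j, hj⟩ := IsPGroup.iff_card.mp hNq
    have : p' ∣ q ^ j := by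
      rw [← hj, hNcard]; exact dvd_pow_self p' hd.ne'
    exact (Nat.prime_dvd_prime_iff_eq hp' hq.out).mp (hp'.dvd_of_dvd_pow this)
  rw [hp'q] at hexp hNcard
  have hCN : C ≤ Subgroup.centralizer (N : Set G) := by
    apply le_centralizer_of_minimal N C hNq hNne hNmin
    intro c hc
    obtain ⟨m, hm⟩ := h3 c hc
    exact ⟨m, Subgroup.centralizer_le (SetLike.coe_subset_coe.mpr hNQ) hm⟩
  have hcyc : IsCyclic N := isCyclic_of_minimal_of_ctrl N C hNne hNmin hab hexp hCN h1 h2
  -- pass to the quotient by `N`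
  have hsurj : Function.Surjective (QuotientGroup.mk' N) := QuotientGroup.mk'_surjective N
  have hQ'n : (Q.map (QuotientGroup.mk' N)).Normal := hQn.map _ hsurj
  have hC'n : (C.map (QuotientGroup.mk' N)).Normal := hCn.map _ hsurj
  have hss' : Cfsg.IsSupersolvable ((G ⧸ N) ⧸ Q.map (QuotientGroup.mk' N)) :=
    Cfsg.Agent.Helper3.isSupersolvable_of_mulEquiv hss
      (QuotientGroup.quotientQuotientEquivQuotient N Q hNQ).symm
  have hlt : Nat.card (G ⧸ N) < n := by
    rw [← hcard]
    exact Cfsg.Agent.Helper3.card_quotient_lt N ((Subgroup.one_lt_card_iff_ne_bot N).mpr hNne)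
  have hquot : Cfsg.IsSupersolvable (G ⧸ N) := by
    refine ih _ hlt (G ⧸ N) rfl q (Q.map (QuotientGroup.mk' N)) (C.map (QuotientGroup.mk' N))
      (hQ.map _) hss' ?_ ?_ ?_
    · intro x
      obtain ⟨g, rfl⟩ := hsurj x
      exact ⟨g ^ (q - 1), h1 g, by simp⟩
    · intro x y
      obtain ⟨g, rfl⟩ := hsurj x
      obtain ⟨h, rfl⟩ := hsurj y
      exact ⟨⁅g, h⁆, h2 g h, by simp [map_commutatorElement]⟩
    · rintro _ ⟨c, hc, rfl⟩
      obtain ⟨m, hm⟩ := h3 c hc
      refine ⟨m, ?_⟩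
      rw [Subgroup.mem_centralizer_iff]
      rintro _ ⟨x, hx, rfl⟩
      have := Subgroup.mem_centralizer_iff.mp hm x hx
      rw [← map_pow, ← map_mul, ← map_mul, this]
  exact Cfsg.Agent.Helper3.isSupersolvable_of_cyclic_normal_of_quotient N hquot

theorem isSupersolvable_of_ctrl {G : Type u} [Group G] [Finite G] {q : ℕ} [Fact q.Prime]
    (Q C : Subgroup G) [Q.Normal] [C.Normal] (hQ : IsPGroup q Q)
    (hss : Cfsg.IsSupersolvable (G ⧸ Q))
    (h1 : ∀ g : G, g ^ (q - 1) ∈ C) (h2 : ∀ g h : G, ⁅g, h⁆ ∈ C)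
    (h3 : ∀ c ∈ C, ∃ m : ℕ, c ^ (q ^ m) ∈ Subgroup.centralizer (Q : Set G)) :
    Cfsg.IsSupersolvable G :=
  isSupersolvable_of_ctrl_aux _ G rfl q Q C hQ hss h1 h2 h3

end Cfsg.Agent.Helper15.HSup
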