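import Mathlib
import Cfsg.Prelude.Def_PLocal
import Cfsg.Agent.S0027
import Cfsg.Agent.Lib.Helper1.CommutatorBasic
import Cfsg.Agent.Lib.Helper1.CharacteristicMap
import Cfsg.Agent.Lib.Helper21.PGroupFrattini

set_option autoImplicit false

namespace Cfsg.Agent.Helper15

open scoped commutatorElement

variable {G : Type*} [Group G]

/-- class two: `⁅x ^ n, y⁆ = ⁅x, y⁆ ^ n` when `⁅x, y⁆` commutes with `x` -/
theorem commutatorElement_pow_left_of_commute {x y : G} (h : Commute ⁅x, y⁆ x) (n : ℕ) :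
    ⁅x ^ n, y⁆ = ⁅x, y⁆ ^ n := by
  induction n with
  | zero => simp
  | succ n ih =>
    have e1 : ⁅x ^ (n + 1), y⁆ = x * ⁅x ^ n, y⁆ * x⁻¹ * ⁅x, y⁆ := by
      simp only [commutatorElement_def, pow_succ']
      group
    rw [e1, ih]
    have h2 : Commute (⁅x, y⁆ ^ n) x := h.pow_left n
    have e2 : x * ⁅x, y⁆ ^ n * x⁻¹ = ⁅x, y⁆ ^ n := by
      rw [← h2.eq]; group
    rw [e2, pow_succ]

/-- class two: `y ^ n * x = c ^ n * x * y ^ n` for `c = ⁅y, x⁆` commuting with `x` and `y` -/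
theorem pow_mul_of_commutator_central {x y : G} (hx : Commute ⁅y, x⁆ x) (hy : Commute ⁅y, x⁆ y)
    (n : ℕ) : y ^ n * x = ⁅y, x⁆ ^ n * x * y ^ n := by
  have hyx : y * x = ⁅y, x⁆ * x * y := by
    rw [commutatorElement_def]; group
  induction n with
  | zero => simp
  | succ n ih =>
    have hcn : Commute (⁅y, x⁆ ^ n) y := hy.pow_left n
    calc y ^ (n + 1) * x = y * (y ^ n * x) := by rw [pow_succ']; group
      _ = y * (⁅y, x⁆ ^ n * x * y ^ n) := by rw [ih]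
      _ = (y * ⁅y, x⁆ ^ n) * x * y ^ n := by group
      _ = (⁅y, x⁆ ^ n * y) * x * y ^ n := by rw [hcn.eq]
      _ = ⁅y, x⁆ ^ n * (y * x) * y ^ n := by group
      _ = ⁅y, x⁆ ^ n * (⁅y, x⁆ * x * y) * y ^ n := by rw [hyx]
      _ = ⁅y, x⁆ ^ (n + 1) * x * y ^ (n + 1) := by rw [pow_succ, pow_succ']; group

/-- class two: `(x * y) ^ n = x ^ n * y ^ n * c ^ (0 + 1 + ... + (n-1))` -/
theorem mul_pow_of_commutator_central {x y : G} (hx : Commute ⁅y, x⁆ x) (hy : Commute ⁅y, x⁆ y)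
    (n : ℕ) : (x * y) ^ n = x ^ n * y ^ n * ⁅y, x⁆ ^ (∑ i ∈ Finset.range n, i) := by
  induction n with
  | zero => simp
  | succ n ih =>
    have h1 := pow_mul_of_commutator_central hx hy n
    have hcx : Commute (⁅y, x⁆ ^ n) (x ^ n) := (hx.pow_left n).pow_right n
    have hcT : ∀ k : ℕ, Commute (⁅y, x⁆ ^ k) x := fun k => hx.pow_left k
    have hcTy : ∀ k : ℕ, Commute (⁅y, x⁆ ^ k) y := fun k => hy.pow_left k
    rw [pow_succ, ih, Finset.sum_range_succ]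
    calc x ^ n * y ^ n * ⁅y, x⁆ ^ (∑ i ∈ Finset.range n, i) * (x * y)
        = x ^ n * y ^ n * (⁅y, x⁆ ^ (∑ i ∈ Finset.range n, i) * x) * y := by group
      _ = x ^ n * y ^ n * (x * ⁅y, x⁆ ^ (∑ i ∈ Finset.range n, i)) * y := by rw [(hcT _).eq]
      _ = x ^ n * (y ^ n * x) * (⁅y, x⁆ ^ (∑ i ∈ Finset.range n, i) * y) := by group
      _ = x ^ n * (⁅y, x⁆ ^ n * x * y ^ n) * (y * ⁅y, x⁆ ^ (∑ i ∈ Finset.range n, i)) := by
          rw [h1, (hcTy _).eq]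
      _ = (x ^ n * ⁅y, x⁆ ^ n) * x * y ^ n * y * ⁅y, x⁆ ^ (∑ i ∈ Finset.range n, i) := by group
      _ = (⁅y, x⁆ ^ n * x ^ n) * x * y ^ n * y * ⁅y, x⁆ ^ (∑ i ∈ Finset.range n, i) := by
          rw [hcx.eq]
      _ = ⁅y, x⁆ ^ n * (x ^ (n + 1) * y ^ (n + 1)) * ⁅y, x⁆ ^ (∑ i ∈ Finset.range n, i) := by
          rw [pow_succ, pow_succ]; group
      _ = (x ^ (n + 1) * y ^ (n + 1)) * ⁅y, x⁆ ^ n * ⁅y, x⁆ ^ (∑ i ∈ Finset.range n, i) := by
          have : Commute (⁅y, x⁆ ^ n) (x ^ (n + 1) * y ^ (n + 1)) :=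
            ((hx.pow_left n).pow_right (n + 1)).mul_right ((hy.pow_left n).pow_right (n + 1))
          rw [this.eq]
      _ = x ^ (n + 1) * y ^ (n + 1) * ⁅y, x⁆ ^ (∑ i ∈ Finset.range n, i + n) := by
          rw [mul_assoc (x ^ (n + 1) * y ^ (n + 1)), ← pow_add,
            add_comm n (∑ i ∈ Finset.range n, i)]

/-- for `p` odd, `p` divides `0 + 1 + ... + (p - 1)` -/
theorem dvd_sum_range_of_odd {p : ℕ} (hp : p.Prime) (hp2 : p ≠ 2) :
    p ∣ ∑ i ∈ Finset.range p, i := by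
  have h1 := Finset.sum_range_id_mul_two p
  have hodd : Odd p := hp.odd_of_ne_two hp2
  obtain ⟨m, hm⟩ := hodd
  have h2 : (∑ i ∈ Finset.range p, i) = p * m := by
    have h3 : p - 1 = 2 * m := by omega
    rw [h3] at h1
    have : (∑ i ∈ Finset.range p, i) * 2 = (p * m) * 2 := by rw [h1]; ring
    exact Nat.eq_of_mul_eq_mul_right (by norm_num) this
  exact ⟨m, h2⟩

/-- `Ω₁` is monotone -/
theorem omegaOne_mono {p : ℕ} {H K : Subgroup G} (h : H ≤ K) :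
    Cfsg.omegaOne p H ≤ Cfsg.omegaOne p K := by
  unfold Cfsg.omegaOne
  apply Subgroup.closure_mono
  rintro x ⟨hx, hxp⟩
  exact ⟨h hx, hxp⟩

theorem mem_omegaOne_of_pow_eq_one {p : ℕ} {H : Subgroup G} {x : G} (hx : x ∈ H)
    (hxp : x ^ p = 1) : x ∈ Cfsg.omegaOne p H :=
  Subgroup.subset_closure ⟨hx, hxp⟩

/-- **Ω₁-lemma** (`p` odd): a `p'`-group `A` normalizing the `p`-group `Q` and centralizing
`Ω₁(Q)` centralizes `Q`. -/
theorem le_centralizer_of_le_centralizer_omegaOne [Finite G] {p : ℕ} [Fact p.Prime] (hp2 : p ≠ 2)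
    (A : Subgroup G) (hA : (Nat.card ↥A).Coprime p) :
    ∀ (n : ℕ) (Q : Subgroup G), Nat.card ↥Q = n → IsPGroup p ↥Q →
      A ≤ Subgroup.normalizer (Q : Set G) →
      A ≤ Subgroup.centralizer (Cfsg.omegaOne p Q : Set G) →
      A ≤ Subgroup.centralizer (Q : Set G) := by
  have hpp : p.Prime := Fact.out
  intro n
  induction n using Nat.strong_induction_on with
  | _ n ih =>
  intro Q hn hQ hAQ hΩ
  subst hn
  -- induction hypothesis in convenient form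
  have IH : ∀ Q₁ : Subgroup G, Q₁ ≤ Q → Q₁ ≠ Q → A ≤ Subgroup.normalizer (Q₁ : Set G) →
      A ≤ Subgroup.centralizer (Q₁ : Set G) := by
    intro Q₁ h1 h2 h3
    have hlt : Nat.card ↥Q₁ < Nat.card ↥Q := by
      rcases lt_or_ge (Nat.card ↥Q₁) (Nat.card ↥Q) with h | h
      · exact h
      · exact absurd (Subgroup.eq_of_le_of_card_ge h1 h) h2
    exact ih _ hlt Q₁ rfl (hQ.to_le h1) h3
      (hΩ.trans (Subgroup.centralizer_le (omegaOne_mono h1)))
  have hcop : (Nat.card ↥A).Coprime (Nat.card ↥Q) := by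
    obtain ⟨k, hk⟩ := IsPGroup.iff_card.mp hQ
    rw [hk]
    exact Nat.Coprime.pow_right k hA
  haveI : Group.IsNilpotent ↥Q := hQ.isNilpotent
  -- reduce to `⁅Q, A⁆ = Q`
  by_cases hD : ⁅Q, A⁆ = Q
  swap
  · have hDQ : ⁅Q, A⁆ ≤ Q := Cfsg.Agent.Helper1.commutator_le_of_le_normalizer hAQ
    have h1 := IH ⁅Q, A⁆ hDQ hD (Cfsg.Agent.Helper1.le_normalizer_commutator_right Q A)
    have h2 : ⁅⁅Q, A⁆, A⁆ = ⊥ := by
      rw [Subgroup.commutator_comm]
      exact Subgroup.commutator_eq_bot_iff_le_centralizer.mpr h1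
    have h3 := Cfsg.Agent.S0027.result A Q hAQ hcop (Or.inr inferInstance)
    rw [h2] at h3
    rw [← Subgroup.commutator_eq_bot_iff_le_centralizer, Subgroup.commutator_comm]
    exact h3.symm
  by_cases hQ1 : Q = ⊥
  · rw [hQ1]
    intro a _
    rw [Subgroup.mem_centralizer_iff]
    intro x hx
    have : x = 1 := hx
    rw [this]; simp
  -- the Frattini subgroup
  set Φ : Subgroup G := (frattini ↥Q).map Q.subtype with hΦ
  have hΦQ : Φ ≤ Q := Subgroup.map_subtype_le _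
  have hΦne : Φ ≠ Q := by
    intro h
    have h1 : frattini ↥Q = ⊤ := by
      rw [eq_top_iff]
      intro x _
      have h2 : (x : G) ∈ Φ := by rw [h]; exact x.2
      obtain ⟨y, hy, hyx⟩ := h2
      have : y = x := Subtype.ext hyx
      rw [← this]; exact hy
    have h3 : (⊥ : Subgroup ↥Q) = ⊤ := frattini_nongenerating (by rw [h1]; exact bot_sup_eq _)
    apply hQ1
    rw [eq_bot_iff]
    intro x hx
    have h4 : (⟨x, hx⟩ : ↥Q) ∈ (⊥ : Subgroup ↥Q) := by rw [h3]; trivial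
    rw [Subgroup.mem_bot] at h4
    rw [Subgroup.mem_bot]
    exact congrArg Subtype.val h4
  have hNΦ : Subgroup.normalizer (Q : Set G) ≤ Subgroup.normalizer (Φ : Set G) :=
    Cfsg.Agent.Helper1.normalizer_le_normalizer_map_of_characteristic Q (frattini ↥Q)
  have hAΦ : A ≤ Subgroup.centralizer (Φ : Set G) := IH Φ hΦQ hΦne (hAQ.trans hNΦ)
  -- `Φ` is central in `Q`
  have hΦZ : ⁅Q, Φ⁆ = ⊥ := by
    have e1 : ⁅⁅A, Φ⁆, Q⁆ = ⊥ := by
      rw [Subgroup.commutator_eq_bot_iff_le_centralizer.mpr hAΦ, Subgroup.commutator_bot_left]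
    have e2 : ⁅⁅Φ, Q⁆, A⁆ = ⊥ := by
      rw [eq_bot_iff]
      have h1 : ⁅Φ, Q⁆ ≤ Φ :=
        Cfsg.Agent.Helper1.commutator_le_of_le_normalizer (Subgroup.le_normalizer.trans hNΦ)
      have h2 : ⁅Φ, A⁆ = ⊥ := by
        rw [Subgroup.commutator_comm]
        exact Subgroup.commutator_eq_bot_iff_le_centralizer.mpr hAΦ
      rw [← h2]
      exact Subgroup.commutator_mono h1 le_rfl
    have e3 := Subgroup.commutator_commutator_eq_bot_of_rotate e1 e2
    rw [hD] at e3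
    exact e3
  have hΦc : ∀ z ∈ Φ, ∀ x ∈ Q, Commute z x := by
    intro z hz x hx
    have h1 : x ∈ Subgroup.centralizer (Φ : Set G) :=
      (Subgroup.commutator_eq_bot_iff_le_centralizer.mp hΦZ) hx
    exact ((Subgroup.mem_centralizer_iff.mp h1) z hz)
  -- `p`-th powers and commutators lie in `Φ`
  have hpowΦ : ∀ x ∈ Q, x ^ p ∈ Φ := by
    intro x hx
    refine ⟨⟨x, hx⟩ ^ p, Cfsg.Agent.Helper21.pow_mem_frattini_of_isPGroup hQ _, ?_⟩
    simp
  have hcommΦ : ∀ x ∈ Q, ∀ y ∈ Q, ⁅x, y⁆ ∈ Φ := by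
    intro x hx y hy
    refine ⟨⟨x, hx⟩ * ⟨y, hy⟩ * ⟨x, hx⟩⁻¹ * ⟨y, hy⟩⁻¹,
      Cfsg.Agent.Helper21.commutator_mem_frattini_of_isPGroup hQ _ _, ?_⟩
    simp [commutatorElement_def]
  -- commutators have order dividing `p`
  have hcommp : ∀ x ∈ Q, ∀ y ∈ Q, ⁅x, y⁆ ^ p = 1 := by
    intro x hx y hy
    rw [← commutatorElement_pow_left_of_commute (hΦc _ (hcommΦ x hx y hy) x hx) p]
    have h1 : Commute (x ^ p) y := hΦc _ (hpowΦ x hx) y hy
    exact commutatorElement_eq_one_iff_commute.mpr h1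
  -- the `p`-power map is multiplicative
  have hmulpow : ∀ x ∈ Q, ∀ y ∈ Q, (x * y) ^ p = x ^ p * y ^ p := by
    intro x hx y hy
    have hc := hcommΦ y hy x hx
    rw [mul_pow_of_commutator_central (hΦc _ hc x hx) (hΦc _ hc y hy) p]
    obtain ⟨m, hm⟩ := dvd_sum_range_of_odd hpp hp2
    rw [hm, pow_mul, hcommp y hy x hx, one_pow, mul_one]
  -- `⁅Q, A⁆ ≤ Ω₁(Q)`
  have hle : ⁅Q, A⁆ ≤ Cfsg.omegaOne p Q := by
    rw [Subgroup.commutator_le]
    intro x hx a ha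
    have hx' : a * x⁻¹ * a⁻¹ ∈ Q :=
      (Subgroup.mem_normalizer_iff.mp (hAQ ha) _).mp (Q.inv_mem hx)
    have e : ⁅x, a⁆ = x * (a * x⁻¹ * a⁻¹) := by
      rw [commutatorElement_def]; group
    rw [e]
    apply mem_omegaOne_of_pow_eq_one (Q.mul_mem hx hx')
    rw [hmulpow x hx _ hx']
    have h1 : (a * x⁻¹ * a⁻¹) ^ p = a * (x⁻¹) ^ p * a⁻¹ := by
      rw [conj_pow]
    have h2 : (x⁻¹) ^ p ∈ Φ := hpowΦ _ (Q.inv_mem hx)
    have h3 : a * (x⁻¹) ^ p * a⁻¹ = (x⁻¹) ^ p := by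
      have := (Subgroup.mem_centralizer_iff.mp (hAΦ ha)) _ h2
      rw [← this]; group
    rw [h1, h3, inv_pow, mul_inv_cancel]
  rw [hD] at hle
  exact Subgroup.le_centralizer_iff.mp (hle.trans (Subgroup.le_centralizer_iff.mp hΩ))

end Cfsg.Agent.Helper15
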