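import Mathlib
import Cfsg.Agent.Lib.Helper15.HSup2
import Cfsg.Agent.Lib.Helper15.OmegaOne
import Cfsg.Agent.Lib.Helper3.Frattini
import Cfsg.Agent.Lib.Helper3.Supersolvable3

set_option autoImplicit false

/-! Supersolvability from `H`-subgroups of fixed order, part 3: a normal `q`-subgroup `Q` (`q` odd)
with supersolvable quotient all of whose subgroups of a fixed order `q ^ d` (`1 ≤ d`,
`q ^ d < |Q|`) are normal in the whole group. -/

namespace Cfsg.Agent.Helper15.HSup

open scoped commutatorElement
open Cfsg.Agent.Helper11.HSub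

universe u

section aux

variable {G : Type*} [Group G]

theorem card_mul_relIndex' {K L : Subgroup G} (h : K ≤ L) :
    Nat.card K * K.relIndex L = Nat.card L := by
  have := Subgroup.relIndex_mul_relIndex (H := ⊥) (K := K) (L := L) bot_le h
  rwa [Subgroup.relIndex_bot_left, Subgroup.relIndex_bot_left] at this

theorem card_sup_of_normal_of_inf_eq_bot (P Q : Subgroup G) [Q.Normal] (h : P ⊓ Q = ⊥) :
    Nat.card (P ⊔ Q : Subgroup G) = Nat.card P * Nat.card Q := by
  have h1 := card_mul_relIndex' (le_sup_right : Q ≤ P ⊔ Q)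
  rw [Subgroup.relIndex_sup_right, ← Subgroup.inf_relIndex_right, inf_comm, h,
    Subgroup.relIndex_bot_left] at h1
  rw [← h1, mul_comm]

theorem mem_centralizer_closure {S₀ : Set G} {c : G} (h : ∀ s ∈ S₀, s * c = c * s) :
    c ∈ Subgroup.centralizer ((Subgroup.closure S₀ : Subgroup G) : Set G) := by
  have key : ∀ x ∈ Subgroup.closure S₀, x * c = c * x := by
    intro x hx
    induction hx using Subgroup.closure_induction with
    | mem x hx => exact h x hx
    | one => simp
    | mul x y _ _ hx hy => rw [mul_assoc, hy, ← mul_assoc, hx, mul_assoc]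
    | inv x _ hx =>
      calc x⁻¹ * c = x⁻¹ * (c * x) * x⁻¹ := by group
        _ = x⁻¹ * (x * c) * x⁻¹ := by rw [hx]
        _ = c * x⁻¹ := by group
  rw [Subgroup.mem_centralizer_iff]
  intro x hx
  exact key x hx

/-- if `⟨u⟩` of prime order `q` is normal, `(q-1)`-th powers and commutators centralize `u` -/
theorem commutes_of_prime_normal [Finite G] {q : ℕ} [hq : Fact q.Prime] {u : G}
    (hun : (Subgroup.zpowers u).Normal) (hu : orderOf u = q) :
    (∀ g : G, u * g ^ (q - 1) = g ^ (q - 1) * u) ∧ (∀ g h : G, u * ⁅g, h⁆ = ⁅g, h⁆ * u) := by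
  set H : Subgroup G := Subgroup.zpowers u with hH
  let ρ : G →* MulAut H := MulAut.conjNormal
  have hcomm : ∀ σ τ : MulAut H, σ * τ = τ * σ := by
    intro σ τ
    apply (IsCyclic.mulAutMulEquiv H).injective
    rw [map_mul, map_mul, mul_comm]
  have hcard : Nat.card (MulAut H) = q - 1 := by
    rw [IsCyclic.card_mulAut H, hH, Nat.card_zpowers, hu, Nat.totient_prime hq.out]
  have hker : ∀ x : G, ρ x = 1 → u * x = x * u := by
    intro x hx
    have h1 : ((ρ x ⟨u, Subgroup.mem_zpowers u⟩ : H) : G) = x * u * x⁻¹ := by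
      change ((MulAut.conjNormal x ⟨u, Subgroup.mem_zpowers u⟩ : H) : G) = _
      rw [MulAut.conjNormal_apply]
    rw [hx] at h1
    have h2 : u = x * u * x⁻¹ := by simpa using h1
    calc u * x = (x * u * x⁻¹) * x := by rw [← h2]
      _ = x * u := by group
  refine ⟨fun g => hker _ ?_, fun g h => hker _ ?_⟩
  · rw [map_pow, ← hcard]
    exact pow_card_eq_one'
  · rw [map_commutatorElement, commutatorElement_eq_one_iff_commute]
    exact hcomm _ _

theorem omegaOne_normal {q : ℕ} (Q : Subgroup G) [hQn : Q.Normal] :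
    (Cfsg.omegaOne q Q).Normal := by
  constructor
  intro n hn g
  have hle : (Cfsg.omegaOne q Q).map (MulAut.conj g).toMonoidHom ≤ Cfsg.omegaOne q Q := by
    rw [Cfsg.omegaOne, MonoidHom.map_closure]
    apply Subgroup.closure_mono
    rintro _ ⟨x, ⟨hxQ, hxq⟩, rfl⟩
    refine ⟨?_, ?_⟩
    · simpa [MulAut.conj_apply] using hQn.conj_mem x hxQ g
    · simp only [MulEquiv.coe_toMonoidHom, MulAut.conj_apply]
      rw [conj_pow, hxq]; group
  exact hle ⟨n, hn, by simp [MulAut.conj_apply]⟩

end aux

section quot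

variable {G : Type u} [Group G] [Finite G]

theorem card_map_mk'_mul (N Q : Subgroup G) [N.Normal] (hNQ : N ≤ Q) :
    Nat.card (Q.map (QuotientGroup.mk' N)) * Nat.card N = Nat.card Q := by
  have h := Cfsg.Agent.Helper3.card_comap_mk' N (Q.map (QuotientGroup.mk' N))
  rw [Subgroup.comap_map_eq_self (by rw [QuotientGroup.ker_mk']; exact hNQ)] at h
  exact h.symm

/-- normality of all subgroups of a fixed order passes to the quotient by `N` -/
theorem quot_hyp {q : ℕ} (N Q : Subgroup G) [N.Normal] (hNQ : N ≤ Q) {k e : ℕ}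
    (hNcard : Nat.card N = q ^ k)
    (hnorm : ∀ F : Subgroup G, F ≤ Q → Nat.card F = q ^ (e + k) → F.Normal) :
    ∀ F' : Subgroup (G ⧸ N), F' ≤ Q.map (QuotientGroup.mk' N) → Nat.card F' = q ^ e →
      F'.Normal := by
  intro F' hF'Q hF'c
  set F : Subgroup G := F'.comap (QuotientGroup.mk' N) with hF
  have hFQ : F ≤ Q := by
    have := Subgroup.comap_mono (f := QuotientGroup.mk' N) hF'Q
    rwa [Subgroup.comap_map_eq_self (by rw [QuotientGroup.ker_mk']; exact hNQ)] at this
  have hFc : Nat.card F = q ^ (e + k) := by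
    rw [hF, Cfsg.Agent.Helper3.card_comap_mk', hF'c, hNcard, pow_add]
  have hFn : F.Normal := hnorm F hFQ hFc
  have : F' = F.map (QuotientGroup.mk' N) := by
    rw [hF, Subgroup.map_comap_eq_self_of_surjective (QuotientGroup.mk'_surjective N)]
  rw [this]
  exact hFn.map _ (QuotientGroup.mk'_surjective N)

end quot

/-- the case `d = 1`: all subgroups of order `q` of `Q` are normal, `q` odd -/
theorem isSupersolvable_of_prime_subgroups_normal {G : Type u} [Group G] [Finite G] {q : ℕ}
    [hq : Fact q.Prime] (hq2 : q ≠ 2) (Q : Subgroup G) [hQn : Q.Normal] (hQ : IsPGroup q Q)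
    (hss : Cfsg.IsSupersolvable (G ⧸ Q))
    (hnorm : ∀ F : Subgroup G, F ≤ Q → Nat.card F = q → F.Normal) :
    Cfsg.IsSupersolvable G := by
  set Ω : Subgroup G := Cfsg.omegaOne q Q with hΩ
  have hΩn : Ω.Normal := omegaOne_normal Q
  set C : Subgroup G := Subgroup.centralizer (Ω : Set G) with hC
  have hCn : C.Normal := inferInstance
  have hgen : ∀ u : G, u ∈ Q → u ^ q = 1 →
      (∀ g : G, u * g ^ (q - 1) = g ^ (q - 1) * u) ∧ (∀ g h : G, u * ⁅g, h⁆ = ⁅g, h⁆ * u) := by
    intro u huQ huq
    by_cases hu1 : u = 1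
    · subst hu1; simp
    · have hord : orderOf u = q := orderOf_eq_prime huq hu1
      have hun : (Subgroup.zpowers u).Normal :=
        hnorm _ (Subgroup.zpowers_le.mpr huQ) (by rw [Nat.card_zpowers, hord])
      exact commutes_of_prime_normal hun hord
  apply isSupersolvable_of_ctrl Q C hQ hss
  · intro g
    rw [hC, hΩ, Cfsg.omegaOne]
    apply mem_centralizer_closure
    rintro u ⟨huQ, huq⟩
    exact (hgen u huQ huq).1 g
  · intro g h
    rw [hC, hΩ, Cfsg.omegaOne]
    apply mem_centralizer_closure
    rintro u ⟨huQ, huq⟩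
    exact (hgen u huQ huq).2 g h
  · intro c hc
    have ho : orderOf c ≠ 0 := (orderOf_pos c).ne'
    obtain ⟨m, s, hs, hms⟩ := Nat.exists_eq_pow_mul_and_not_dvd ho q hq.out.ne_one
    refine ⟨m, ?_⟩
    set A : Subgroup G := Subgroup.zpowers (c ^ (q ^ m)) with hA
    have hpow : (c ^ (q ^ m)) ^ s = 1 := by
      rw [← pow_mul, ← hms, pow_orderOf_eq_one]
    have hAcard : (Nat.card A).Coprime q := by
      rw [hA, Nat.card_zpowers]
      have hdvd : orderOf (c ^ (q ^ m)) ∣ s := orderOf_dvd_of_pow_eq_one hpow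
      have hsq : s.Coprime q := ((Nat.Prime.coprime_iff_not_dvd hq.out).mpr hs).symm
      exact Nat.Coprime.coprime_dvd_left hdvd hsq
    have hAN : A ≤ Subgroup.normalizer (Q : Set G) := by
      rw [Subgroup.normalizer_eq_top]; exact le_top
    have hAΩ : A ≤ Subgroup.centralizer (Cfsg.omegaOne q Q : Set G) := by
      rw [hA, Subgroup.zpowers_le]
      exact C.pow_mem hc _
    have := le_centralizer_of_le_centralizer_omegaOne hq2 A hAcard _ Q rfl hQ hAN hAΩ
    exact this (Subgroup.mem_zpowers _)

/-- **Lemma N**: `Q` a normal `q`-subgroup (`q` odd) with supersolvable quotient, all subgroups of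
`Q` of order `q ^ d` normal in `G`, where `1 ≤ d` and `q ^ d < |Q|`. -/
theorem isSupersolvable_of_subgroups_normal_aux (n : ℕ) : ∀ (G : Type u) [Group G] [Finite G],
    Nat.card G = n → ∀ (q : ℕ) [Fact q.Prime], q ≠ 2 → ∀ (Q : Subgroup G) [Q.Normal],
    IsPGroup q Q → Cfsg.IsSupersolvable (G ⧸ Q) → ∀ d : ℕ, 1 ≤ d → q ^ d < Nat.card Q →
    (∀ F : Subgroup G, F ≤ Q → Nat.card F = q ^ d → F.Normal) → Cfsg.IsSupersolvable G := by
  induction n using Nat.strong_induction_on with
  | _ n ih =>
  intro G _ _ hcard q hq hq2 Q hQn hQ hss d hd hdQ hnorm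
  have hqpos : ∀ j : ℕ, 1 ≤ q ^ j := fun j => Nat.one_le_pow _ _ hq.out.pos
  have hQbot : Q ≠ ⊥ := by
    intro h
    rw [h, Subgroup.card_bot] at hdQ
    have := hqpos d
    omega
  obtain ⟨N, hNn, hNne, hNQ, hNmin⟩ := exists_minimal_normal_le Q hQn hQbot
  have := hNn
  have hNq : IsPGroup q N := hQ.to_le hNQ
  have hNcQ : N ≤ Subgroup.centralizer (Q : Set G) :=
    minimal_le_centralizer N Q hNq hQ hNne hNmin
  have hab : ∀ a ∈ N, ∀ b ∈ N, a * b = b * a := by
    intro a ha b hb
    exact (Subgroup.mem_centralizer_iff.mp (hNcQ ha) b (hNQ hb)).symm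
  obtain ⟨p', k, hp', hk, hNcard, hexp⟩ :=
    Cfsg.Agent.Helper3.card_eq_prime_pow_of_minimal_normal N hNne hNmin hab
  have hp'q : p' = q := by
    obtain ⟨j, hj⟩ := IsPGroup.iff_card.mp hNq
    have : p' ∣ q ^ j := by
      rw [← hj, hNcard]; exact dvd_pow_self p' hk.ne'
    exact (Nat.prime_dvd_prime_iff_eq hp' hq.out).mp (hp'.dvd_of_dvd_pow this)
  rw [hp'q] at hexp hNcard
  -- the quotient by `N`
  have hsurj : Function.Surjective (QuotientGroup.mk' N) := QuotientGroup.mk'_surjective N
  have hQ'n : (Q.map (QuotientGroup.mk' N)).Normal := hQn.map _ hsurj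
  have hss' : Cfsg.IsSupersolvable ((G ⧸ N) ⧸ Q.map (QuotientGroup.mk' N)) :=
    Cfsg.Agent.Helper3.isSupersolvable_of_mulEquiv hss
      (QuotientGroup.quotientQuotientEquivQuotient N Q hNQ).symm
  have hlt : Nat.card (G ⧸ N) < n := by
    rw [← hcard]
    exact Cfsg.Agent.Helper3.card_quotient_lt N ((Subgroup.one_lt_card_iff_ne_bot N).mpr hNne)
  have hQcard : Nat.card (Q.map (QuotientGroup.mk' N)) * q ^ k = Nat.card Q := by
    rw [← hNcard]; exact card_map_mk'_mul N Q hNQ
  have hstep : k < d → Cfsg.IsSupersolvable (G ⧸ N) := by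
    intro hkd
    refine ih _ hlt (G ⧸ N) rfl q hq2 (Q.map (QuotientGroup.mk' N)) (hQ.map _) hss' (d - k)
      (by omega) ?_ ?_
    · have : q ^ (d - k) * q ^ k < Nat.card (Q.map (QuotientGroup.mk' N)) * q ^ k := by
        rw [← pow_add, Nat.sub_add_cancel hkd.le, hQcard]; exact hdQ
      exact Nat.lt_of_mul_lt_mul_right this
    · apply quot_hyp N Q hNQ hNcard
      rwa [Nat.sub_add_cancel hkd.le]
  obtain ⟨u, huN, hu1⟩ : ∃ u ∈ N, u ≠ 1 := by
    by_contra hcon
    push Not at hcon
    apply hNne
    rw [eq_bot_iff]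
    intro x hx
    rw [Subgroup.mem_bot]
    exact hcon x hx
  have hucard : Nat.card (Subgroup.zpowers u) = q := by
    rw [Nat.card_zpowers]; exact orderOf_eq_prime (hexp u huN) hu1
  rcases Nat.lt_or_ge 1 k with hk2 | hk1
  · -- `|N| ≥ q ^ 2`
    have hA : ∀ F : Subgroup G, F ≤ Q → Nat.card F = q ^ d → N ≤ F := by
      intro F hFQ hFc
      have hFn : F.Normal := hnorm F hFQ hFc
      have hFNn : (F ⊓ N).Normal := inferInstance
      rcases hNmin (F ⊓ N) hFNn inf_le_right with h | h
      · exfalso
        set S : Subgroup G := Subgroup.zpowers u ⊔ F with hS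
        have hSQ : S ≤ Q := sup_le (Subgroup.zpowers_le.mpr (hNQ huN)) hFQ
        have hSq : IsPGroup q S := hQ.to_le hSQ
        obtain ⟨F₁, huF₁, hF₁S, hF₁c⟩ := exists_between hSq
          (le_sup_left : Subgroup.zpowers u ≤ S) (n := d)
          (by rw [hucard]; exact le_self_pow₀ hq.out.one_lt.le (by omega))
          (by rw [← hFc]; exact Subgroup.card_le_of_le le_sup_right)
        have hF₁n : F₁.Normal := hnorm F₁ (hF₁S.trans hSQ) hF₁c
        have hF₁Nn : (F₁ ⊓ N).Normal := inferInstance
        have hNF₁ : N ≤ F₁ := by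
          rcases hNmin (F₁ ⊓ N) hF₁Nn inf_le_right with h' | h'
          · exfalso
            have : u ∈ F₁ ⊓ N :=
              Subgroup.mem_inf.mpr ⟨huF₁ (Subgroup.mem_zpowers u), huN⟩
            rw [h', Subgroup.mem_bot] at this
            exact hu1 this
          · rw [← h']; exact inf_le_left
        have hc1 : Nat.card S = q * q ^ d := by
          rw [hS, card_sup_of_normal_of_inf_eq_bot _ F, hucard, hFc]
          rw [eq_bot_iff, ← h]
          exact le_inf inf_le_right (inf_le_left.trans (Subgroup.zpowers_le.mpr huN))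
        have hc2 : Nat.card (N ⊔ F : Subgroup G) = q ^ k * q ^ d := by
          rw [card_sup_of_normal_of_inf_eq_bot _ F, hNcard, hFc]
          rw [inf_comm]; exact h
        have hle : N ⊔ F ≤ S := sup_le (hNF₁.trans hF₁S) le_sup_right
        have h3 := Subgroup.card_le_of_le hle
        rw [hc1, hc2] at h3
        have h4 : q ^ k ≤ q := Nat.le_of_mul_le_mul_right h3 (hqpos d)
        have h5 : q ^ 2 ≤ q ^ k := Nat.pow_le_pow_right hq.out.pos hk2
        have h6 : q < q ^ 2 := by
          have := hq.out.one_lt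
          nlinarith
        omega
      · rw [← h]; exact inf_le_left
    have hkd : k ≤ d := by
      obtain ⟨F, -, hFQ, hFc⟩ := exists_between hQ (bot_le : (⊥ : Subgroup G) ≤ Q) (n := d)
        (by rw [Subgroup.card_bot]; exact hqpos d) hdQ.le
      have := Subgroup.card_le_of_le (hA F hFQ hFc)
      rw [hNcard, hFc] at this
      exact (Nat.pow_le_pow_iff_right hq.out.one_lt).mp this
    rcases hkd.eq_or_lt with hkd | hkd
    · -- `|N| = q ^ d`: then `N` is the only subgroup of that order, impossible
      exfalso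
      have hall : ∀ x ∈ Q, x ∈ N := by
        intro x hxQ
        have hxle : Subgroup.zpowers x ≤ Q := Subgroup.zpowers_le.mpr hxQ
        have hxq : IsPGroup q (Subgroup.zpowers x) := hQ.to_le hxle
        by_cases hle : Nat.card (Subgroup.zpowers x) ≤ q ^ d
        · obtain ⟨F, hxF, hFQ, hFc⟩ := exists_between hQ hxle hle hdQ.le
          have hNF := hA F hFQ hFc
          have : N = F := Subgroup.eq_of_le_of_card_ge hNF (by rw [hFc, hNcard, hkd])
          rw [this]; exact hxF (Subgroup.mem_zpowers x)
        · exfalso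
          push Not at hle
          obtain ⟨F, -, hFx, hFc⟩ := exists_between hxq
            (bot_le : (⊥ : Subgroup G) ≤ Subgroup.zpowers x) (n := d)
            (by rw [Subgroup.card_bot]; exact hqpos d) hle.le
          have hNF := hA F (hFx.trans hxle) hFc
          have hNx : N ≤ Subgroup.zpowers x := hNF.trans hFx
          have hcyc : IsCyclic N := by
            have : IsCyclic (N.subgroupOf (Subgroup.zpowers x)) := Subgroup.isCyclic _
            exact isCyclic_of_surjective (Subgroup.subgroupOfEquivOfLe hNx)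
              (Subgroup.subgroupOfEquivOfLe hNx).surjective
          obtain ⟨g, hg⟩ := hcyc.exists_generator
          have h1 : orderOf g = Nat.card N := orderOf_eq_card_of_forall_mem_zpowers hg
          have h2 : orderOf g ∣ q :=
            orderOf_dvd_of_pow_eq_one (Subtype.ext (by simpa using hexp g g.2))
          rw [h1, hNcard] at h2
          have h4 : q ^ k ≤ q := Nat.le_of_dvd hq.out.pos h2
          have h5 : q ^ 2 ≤ q ^ k := Nat.pow_le_pow_right hq.out.pos hk2
          have h6 : q < q ^ 2 := by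
            have := hq.out.one_lt
            nlinarith
          omega
      have hQN : Q ≤ N := hall
      have := Subgroup.card_le_of_le hQN
      rw [hNcard, hkd] at this
      omega
    · -- `|N| < q ^ d`: `N` lies in the Frattini subgroup
      have hquot := hstep hkd
      have hsub : N.subgroupOf Q ≤ frattini ↥Q := by
        unfold frattini Order.radical
        apply le_iInf₂
        intro M hM
        have hM₀Q : M.map Q.subtype ≤ Q := Subgroup.map_subtype_le M
        have hM₀c : Nat.card (M.map Q.subtype) = Nat.card M :=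
          Subgroup.card_map_of_injective Q.subtype_injective
        by_cases hc : q ^ d ≤ Nat.card (M.map Q.subtype)
        · obtain ⟨F, -, hFM, hFc⟩ := exists_between (hQ.to_le hM₀Q)
            (bot_le : (⊥ : Subgroup G) ≤ M.map Q.subtype) (n := d)
            (by rw [Subgroup.card_bot]; exact hqpos d) hc
          have hNF := hA F (hFM.trans hM₀Q) hFc
          intro x hx
          obtain ⟨y, hy, hyx⟩ := hFM (hNF (Subgroup.mem_subgroupOf.mp hx))
          have : y = x := Subtype.ext hyx
          rwa [← this]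
        · exfalso
          push Not at hc
          obtain ⟨F, hMF, hFQ, hFc⟩ := exists_between hQ hM₀Q hc.le hdQ.le
          have hMF' : M ≤ F.subgroupOf Q := by
            intro x hx
            rw [Subgroup.mem_subgroupOf]
            exact hMF ⟨x, hx, rfl⟩
          have hF'c : Nat.card (F.subgroupOf Q) = q ^ d := by
            rw [← hFc]
            exact Nat.card_congr (Subgroup.subgroupOfEquivOfLe hFQ).toEquiv
          rcases hM.le_iff.mp hMF' with h | h
          · have h1 : Nat.card (F.subgroupOf Q) = Nat.card Q := by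
              rw [h, Subgroup.card_top]
            rw [hF'c] at h1
            omega
          · rw [h, ← hM₀c] at hF'c
            omega
      have hfr : N ≤ frattini G := by
        apply Cfsg.Agent.Helper3.le_frattini_of_normal_of_le_frattini Q N
        intro x hx
        exact ⟨⟨x, hNQ hx⟩, hsub (Subgroup.mem_subgroupOf.mpr hx), rfl⟩
      exact isSupersolvable_of_le_frattini N hfr hquot
  · -- `|N| = q`
    have hk1' : k = 1 := by omega
    have hcyc : IsCyclic N := isCyclic_of_prime_card (p := q) (by rw [hNcard, hk1', pow_one])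
    rcases Nat.lt_or_ge 1 d with hd2 | hd1
    · exact Cfsg.Agent.Helper3.isSupersolvable_of_cyclic_normal_of_quotient N
        (hstep (by omega))
    · have hd1' : d = 1 := by omega
      apply isSupersolvable_of_prime_subgroups_normal hq2 Q hQ hss
      intro F hFQ hFc
      exact hnorm F hFQ (by rw [hFc, hd1', pow_one])

theorem isSupersolvable_of_subgroups_normal {G : Type u} [Group G] [Finite G] {q : ℕ}
    [Fact q.Prime] (hq2 : q ≠ 2) (Q : Subgroup G) [Q.Normal] (hQ : IsPGroup q Q)
    (hss : Cfsg.IsSupersolvable (G ⧸ Q)) (d : ℕ) (hd : 1 ≤ d) (hdQ : q ^ d < Nat.card Q)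
    (hnorm : ∀ F : Subgroup G, F ≤ Q → Nat.card F = q ^ d → F.Normal) :
    Cfsg.IsSupersolvable G :=
  isSupersolvable_of_subgroups_normal_aux _ G rfl q hq2 Q hQ hss d hd hdQ hnorm

end Cfsg.Agent.Helper15.HSup
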