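import Mathlib
import Cfsg.Agent.Lib.Helper15.HSup3

/-!
# Conjugation automorphisms of a normalized subgroup; order of a product (helper15)
-/

set_option autoImplicit false

namespace Cfsg.Agent.Helper15.ConjAut

variable {G : Type*} [Group G]

/-- conjugation by a normalizing element as an automorphism of the subgroup -/
def conjAut (R : Subgroup G) (a : G) (ha : a ∈ Subgroup.normalizer (R : Set G)) : MulAut R where
  toFun x := ⟨a * x * a⁻¹, (Subgroup.mem_normalizer_iff.mp ha x).mp x.2⟩
  invFun x := ⟨a⁻¹ * x * a, by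
    have h := (Subgroup.mem_normalizer_iff.mp (Subgroup.inv_mem _ ha) x).mp x.2
    simpa using h⟩
  left_inv x := by apply Subtype.ext; simp only []; group
  right_inv x := by apply Subtype.ext; simp only []; group
  map_mul' x y := by apply Subtype.ext; simp only [Subgroup.coe_mul]; group

theorem conjAut_apply_coe (R : Subgroup G) (a : G) (ha : a ∈ Subgroup.normalizer (R : Set G))
    (x : R) : ((conjAut R a ha x : R) : G) = a * x * a⁻¹ := rfl

theorem conjAut_pow_apply_coe (R : Subgroup G) (a : G) (ha : a ∈ Subgroup.normalizer (R : Set G))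
    (k : ℕ) (x : R) : ((((conjAut R a ha) ^ k) x : R) : G) = a ^ k * x * (a ^ k)⁻¹ := by
  induction k generalizing x with
  | zero => simp
  | succ k ih =>
    rw [pow_succ', MulAut.mul_apply, conjAut_apply_coe, ih, pow_succ']
    group

theorem conjAut_pow_eq_one (R : Subgroup G) (a : G) (ha : a ∈ Subgroup.normalizer (R : Set G))
    {k : ℕ} (hk : a ^ k = 1) : (conjAut R a ha) ^ k = 1 := by
  ext x
  rw [conjAut_pow_apply_coe, hk]
  simp

theorem commutator_eq_bot_of_conjAut_eq_one (R : Subgroup G) (a : G)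
    (ha : a ∈ Subgroup.normalizer (R : Set G)) (h : conjAut R a ha = 1) :
    ⁅R, Subgroup.zpowers a⁆ = ⊥ := by
  rw [Subgroup.commutator_eq_bot_iff_le_centralizer]
  intro x hx
  rw [Subgroup.mem_centralizer_iff]
  intro y hy
  rw [SetLike.mem_coe, Subgroup.mem_zpowers_iff] at hy
  obtain ⟨i, rfl⟩ := hy
  have h1 : a * x * a⁻¹ = x := by
    have := congrArg (fun f : MulAut R => ((f ⟨x, hx⟩ : R) : G)) h
    simpa [conjAut_apply_coe] using this
  have h2 : Commute a x := by
    show a * x = x * a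
    calc a * x = a * x * a⁻¹ * a := by group
      _ = x * a := by rw [h1]
  exact (h2.zpow_left i).eq

/-- order of `P ⊔ Q` when `P` normalizes `Q` and `P ⊓ Q = ⊥` -/
theorem card_sup_of_le_normalizer (P Q : Subgroup G)
    (hPQ : P ≤ Subgroup.normalizer (Q : Set G)) (h : P ⊓ Q = ⊥) :
    Nat.card (P ⊔ Q : Subgroup G) = Nat.card P * Nat.card Q := by
  set N := Subgroup.normalizer (Q : Set G) with hN
  have hQN : Q ≤ N := Subgroup.le_normalizer
  have hn : (Q.subgroupOf N).Normal := Subgroup.normal_in_normalizer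
  have h1 : P.subgroupOf N ⊓ Q.subgroupOf N = ⊥ := by
    rw [eq_bot_iff]
    intro x hx
    obtain ⟨hx1, hx2⟩ := Subgroup.mem_inf.mp hx
    rw [Subgroup.mem_subgroupOf] at hx1 hx2
    have : (x : G) ∈ P ⊓ Q := Subgroup.mem_inf.mpr ⟨hx1, hx2⟩
    rw [h, Subgroup.mem_bot] at this
    rw [Subgroup.mem_bot]
    exact Subtype.ext this
  have h2 := Cfsg.Agent.Helper15.HSup.card_sup_of_normal_of_inf_eq_bot (P.subgroupOf N)
    (Q.subgroupOf N) h1
  have h3 : (P ⊔ Q).subgroupOf N = P.subgroupOf N ⊔ Q.subgroupOf N :=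
    Subgroup.subgroupOf_sup hPQ hQN
  have c1 : Nat.card (P.subgroupOf N) = Nat.card P :=
    Nat.card_congr (Subgroup.subgroupOfEquivOfLe hPQ).toEquiv
  have c2 : Nat.card (Q.subgroupOf N) = Nat.card Q :=
    Nat.card_congr (Subgroup.subgroupOfEquivOfLe hQN).toEquiv
  have c3 : Nat.card ((P ⊔ Q).subgroupOf N) = Nat.card (P ⊔ Q : Subgroup G) :=
    Nat.card_congr (Subgroup.subgroupOfEquivOfLe (sup_le hPQ hQN)).toEquiv
  rw [← c3, h3, h2, c1, c2]

end Cfsg.Agent.Helper15.ConjAut
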