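import Mathlib
import Cfsg.Agent.Lib.Helper15.SylowIn
import Cfsg.Agent.Lib.Helper3.Subnormal
import Cfsg.Agent.Lib.Helper22.PResidual
import Cfsg.Agent.S0542

set_option autoImplicit false

/-! Sylow subgroups of joins of subnormal subgroups: basic tools. -/

namespace Cfsg.Agent.Helper15.SubSyl

open Subgroup Cfsg.Agent.Helper15

universe u

variable {G : Type u} [Group G]

/-- The intersection of a Sylow subgroup with a subnormal subgroup is a Sylow subgroup of it. -/
theorem isSylowIn_inf_of_isSubnormal [Finite G] {p : ℕ} [Fact p.Prime] (S : Sylow p G)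
    {H : Subgroup G} (hH : H.IsSubnormal) : IsSylowIn p (H ⊓ (S : Subgroup G)) H := by
  obtain ⟨Q, hQ⟩ := Cfsg.Agent.S0542.result p H hH S
  have := isSylowIn_map_subtype Q
  rw [hQ, Subgroup.subgroupOf_map_subtype] at this
  rwa [inf_comm] at this

/-- The image of a relative Sylow subgroup under a homomorphism is a relative Sylow subgroup of
the image. -/
theorem isSylowIn_map_hom [Finite G] {G' : Type*} [Group G'] {p : ℕ} [Fact p.Prime]
    {T K : Subgroup G} (h : IsSylowIn p T K) (f : G →* G') :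
    IsSylowIn p (T.map f) (K.map f) := by
  refine ⟨Subgroup.map_mono h.le, h.isPGroup.map f, ?_⟩
  intro T' hT' hle hK
  have hsurj := f.subgroupMap_surjective K
  have hP' : ((h.toSylow.mapSurjective hsurj : Sylow p ↥(K.map f)) : Subgroup ↥(K.map f))
      = (h.toSylow : Subgroup K).map (f.subgroupMap K) := Sylow.coe_mapSurjective _ _
  have h1 : ((h.toSylow.mapSurjective hsurj : Sylow p ↥(K.map f)) : Subgroup ↥(K.map f))
      ≤ T'.subgroupOf (K.map f) := by
    rw [hP']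
    rintro _ ⟨y, hy, rfl⟩
    rw [Subgroup.mem_subgroupOf]
    rw [SetLike.mem_coe, h.coe_toSylow, Subgroup.mem_subgroupOf] at hy
    exact hle ⟨(y : G), hy, rfl⟩
  have h2 : T'.subgroupOf (K.map f) = _ :=
    (h.toSylow.mapSurjective hsurj).is_maximal' hT'.comap_subtype h1
  apply le_antisymm _ hle
  intro x hx
  have hxK := hK hx
  have h3 : (⟨x, hxK⟩ : ↥(K.map f)) ∈ T'.subgroupOf (K.map f) := hx
  rw [h2, hP'] at h3
  obtain ⟨y, hy, hyx⟩ := h3
  rw [SetLike.mem_coe, h.coe_toSylow, Subgroup.mem_subgroupOf] at hy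
  refine ⟨(y : G), hy, ?_⟩
  exact congrArg Subtype.val hyx

/-- **Normal case**: if `A` is normal and `B ⊓ S` is a Sylow subgroup of `B`, then
`(A ⊔ B) ⊓ S ≤ (A ⊓ S) ⊔ (B ⊓ S)`. -/
theorem inf_sylow_le_of_normal [Finite G] {p : ℕ} [Fact p.Prime] (S : Sylow p G)
    (A B : Subgroup G) [hA : A.Normal] (hB : IsSylowIn p (B ⊓ (S : Subgroup G)) B) :
    (A ⊔ B) ⊓ (S : Subgroup G) ≤ (A ⊓ (S : Subgroup G)) ⊔ (B ⊓ (S : Subgroup G)) := by
  have hmap := isSylowIn_map_hom hB (QuotientGroup.mk' A)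
  have hY : IsPGroup p ↥(((A ⊔ B) ⊓ (S : Subgroup G)).map (QuotientGroup.mk' A)) :=
    (S.isPGroup'.to_le inf_le_right).map _
  have hle : (B ⊓ (S : Subgroup G)).map (QuotientGroup.mk' A)
      ≤ ((A ⊔ B) ⊓ (S : Subgroup G)).map (QuotientGroup.mk' A) :=
    Subgroup.map_mono (inf_le_inf_right _ le_sup_right)
  have hYB : ((A ⊔ B) ⊓ (S : Subgroup G)).map (QuotientGroup.mk' A)
      ≤ B.map (QuotientGroup.mk' A) := by
    refine (Subgroup.map_mono inf_le_left).trans ?_
    rw [Subgroup.map_sup]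
    refine sup_le ?_ le_rfl
    rw [(Subgroup.map_eq_bot_iff _).2 (by rw [QuotientGroup.ker_mk'])]
    exact bot_le
  have heq := hmap.eq_of_le hY hle hYB
  intro x hx
  have h1 : (QuotientGroup.mk' A) x ∈ ((A ⊔ B) ⊓ (S : Subgroup G)).map (QuotientGroup.mk' A) :=
    ⟨x, hx, rfl⟩
  rw [heq] at h1
  obtain ⟨b, hb, hbx⟩ := h1
  have h2 : b⁻¹ * x ∈ A := by
    have := QuotientGroup.eq.1 hbx
    exact this
  have h3 : b⁻¹ * x ∈ (S : Subgroup G) :=
    (S : Subgroup G).mul_mem ((S : Subgroup G).inv_mem hb.2) hx.2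
  have h4 : x = b * (b⁻¹ * x) := by group
  rw [h4]
  exact Subgroup.mul_mem _ (Subgroup.mem_sup_right hb) (Subgroup.mem_sup_left ⟨h2, h3⟩)

end Cfsg.Agent.Helper15.SubSyl
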