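import Mathlib
import Cfsg.Agent.Lib.Helper15.ZStarMin1
import Cfsg.Agent.S0542

/-!
# Minimal counterexamples to the `Z*_p`-statement, part 2 (helper15's shared library)
-/

set_option autoImplicit false
set_option linter.unusedSectionVars false
set_option linter.style.haveILetI false

namespace Cfsg.Agent.Helper15.ZStarMin

open Cfsg.Agent.Helper15

universe u

variable {G : Type u} [Group G]

/-- `T` is minimal among the nontrivial subgroups normalized by `K` -/
def IsMinInv (K T : Subgroup G) : Prop :=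
  T ≠ ⊥ ∧ K ≤ Subgroup.normalizer (T : Set G) ∧
    ∀ M : Subgroup G, K ≤ Subgroup.normalizer (M : Set G) → M ≤ T → M ≠ ⊥ → M = T

theorem exists_isMinInv_le [Finite G] {K M : Subgroup G} (hM : M ≠ ⊥)
    (hKM : K ≤ Subgroup.normalizer (M : Set G)) : ∃ T ≤ M, IsMinInv K T := by
  let S : Set (Subgroup G) := {T | T ≤ M ∧ T ≠ ⊥ ∧ K ≤ Subgroup.normalizer (T : Set G)}
  have hSne : S.Nonempty := ⟨M, le_rfl, hM, hKM⟩
  obtain ⟨T, hT, hmin⟩ := Set.exists_min_image S (fun T => Nat.card ↥T) (Set.toFinite S) hSne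
  refine ⟨T, hT.1, hT.2.1, hT.2.2, ?_⟩
  intro M' hKM' hM'T hM'ne
  have h1 := hmin M' ⟨hM'T.trans hT.1, hM'ne, hKM'⟩
  exact Subgroup.eq_of_le_of_card_ge hM'T h1

theorem IsMinInv.normal {T : Subgroup G} (h : IsMinInv ⊤ T) : T.Normal :=
  Subgroup.normalizer_eq_top_iff.mp (top_le_iff.mp h.2.1)

theorem IsMinInv.eq_of_normal {T M : Subgroup G} (h : IsMinInv ⊤ T) (hM : M.Normal) (hMT : M ≤ T)
    (hMne : M ≠ ⊥) : M = T :=
  h.2.2 M (by rw [Subgroup.normalizer_eq_top_iff.mpr hM]) hMT hMne

/-- a `p'`-subgroup normalized by a normal subgroup containing it lies in `O_{p'}` -/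
theorem le_pPrimeCore_of_le_normal [Finite G] (p : ℕ) {N M : Subgroup G} [hN : N.Normal]
    (hMN : M ≤ N) (hNM : N ≤ Subgroup.normalizer (M : Set G)) (hcop : (Nat.card ↥M).Coprime p) :
    M ≤ Cfsg.pPrimeCore p G := by
  apply Cfsg.Agent.Helper7.subnormal_coprime_le_pPrimeCore p M _ hcop
  exact Subgroup.IsSubnormal.step M N hMN hN.isSubnormal
    ((Subgroup.normal_subgroupOf_iff_le_normalizer hMN).mpr hNM)

/-- if `O_{p'}(G) = 1` and `N` is a central `p`-subgroup then `O_{p'}(G / N) = 1` -/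
theorem pPrimeCore_quotient_eq_bot_of_central [Finite G] {p : ℕ} [Fact p.Prime] {N : Subgroup G}
    [hNn : N.Normal] (hN : N ≤ Subgroup.center G) (hNp : IsPGroup p ↥N)
    (hO : Cfsg.pPrimeCore p G = ⊥) : Cfsg.pPrimeCore p (G ⧸ N) = ⊥ := by
  have hp : p.Prime := Fact.out
  set O' := Cfsg.pPrimeCore p (G ⧸ N) with hO'
  haveI hO'n : O'.Normal := Cfsg.Agent.Helper22.pPrimeCore_normal p
  set K : Subgroup G := O'.comap (QuotientGroup.mk' N) with hK
  haveI hKn : K.Normal := Subgroup.Normal.comap hO'n _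
  have hNK : N ≤ K := by
    intro n hn
    rw [hK, Subgroup.mem_comap, QuotientGroup.mk'_apply, (QuotientGroup.eq_one_iff n).mpr hn]
    exact one_mem _
  have hcardK : Nat.card ↥K = Nat.card ↥N * Nat.card ↥O' :=
    QuotientGroup.card_preimage_mk N (O' : Set (G ⧸ N))
  have hO'cop : (Nat.card ↥O').Coprime p := Cfsg.Agent.Helper22.card_pPrimeCore_coprime p
  obtain ⟨a, ha⟩ := hNp.exists_card_eq
  haveI hN'n : (N.subgroupOf K).Normal := Subgroup.normal_subgroupOf
  have hcardN' : Nat.card ↥(N.subgroupOf K) = Nat.card ↥N :=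
    Cfsg.Agent.Helper7.card_subgroupOf_of_le hNK
  have hidx : (N.subgroupOf K).index = Nat.card ↥O' := by
    have h1 := Subgroup.card_mul_index (N.subgroupOf K)
    rw [hcardN', hcardK] at h1
    have hpos : 0 < Nat.card ↥N := Nat.card_pos
    exact Nat.eq_of_mul_eq_mul_left hpos h1
  have hcop : (Nat.card ↥(N.subgroupOf K)).Coprime (N.subgroupOf K).index := by
    rw [hcardN', hidx, ha]
    exact Nat.Coprime.pow_left a hO'cop.symm
  obtain ⟨C', hC'⟩ := Subgroup.exists_right_complement'_of_coprime hcop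
  have hcardC' : Nat.card ↥C' = Nat.card ↥O' := by
    have h1 := hC'.card_mul_card
    rw [hcardN', hcardK] at h1
    have hpos : 0 < Nat.card ↥N := Nat.card_pos
    exact Nat.eq_of_mul_eq_mul_left hpos h1
  have hC'n : C'.Normal := by
    constructor
    intro c hc k
    obtain ⟨⟨⟨n, hn⟩, ⟨c₁, hc₁⟩⟩, hnc, -⟩ := hC'.existsUnique k
    have hnc' : n * c₁ = k := hnc
    have hncen : ∀ y : ↥K, n * y = y * n := by
      intro y
      apply Subtype.ext
      have := Subgroup.mem_center_iff.mp (hN (Subgroup.mem_subgroupOf.mp hn)) (y : G)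
      exact this.symm
    have e : k * c * k⁻¹ = c₁ * c * c₁⁻¹ := by
      rw [← hnc']
      calc n * c₁ * c * (n * c₁)⁻¹ = n * (c₁ * c * c₁⁻¹) * n⁻¹ := by group
        _ = (c₁ * c * c₁⁻¹) * n * n⁻¹ := by rw [hncen]
        _ = c₁ * c * c₁⁻¹ := by group
    rw [e]
    exact C'.mul_mem (C'.mul_mem hc₁ hc) (C'.inv_mem hc₁)
  have h1 : C' ≤ Cfsg.pPrimeCore p ↥K :=
    Cfsg.Agent.Helper22.le_pPrimeCore p C' hC'n (by rw [hcardC']; exact hO'cop)
  have h2 := Cfsg.Agent.Helper7.map_subtype_pPrimeCore_le p K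
  rw [hO, le_bot_iff] at h2
  have h3 : Cfsg.pPrimeCore p ↥K = ⊥ :=
    (Subgroup.map_eq_bot_iff_of_injective _ K.subtype_injective).mp h2
  rw [h3, le_bot_iff] at h1
  apply Subgroup.eq_bot_of_card_eq
  rw [← hcardC', h1, Subgroup.card_bot]

namespace MinCE

variable [Finite G] {p : ℕ} [Fact p.Prime] {x : G}

theorem normalClosure_eq_top (h : MinCE p x) : Subgroup.normalClosure ({x} : Set G) = ⊤ := by
  by_contra hne
  set H := Subgroup.normalClosure ({x} : Set G) with hHdef
  haveI hHn : H.Normal := Subgroup.normalClosure_normal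
  have hxH : x ∈ H := Subgroup.subset_normalClosure (Set.mem_singleton x)
  have hZ := h.min H hxH hne
  have h1 := Cfsg.Agent.Helper7.map_subtype_pPrimeCore_le p H
  rw [h.pPrimeCore_eq_bot, le_bot_iff] at h1
  have h2 : Cfsg.pPrimeCore p ↥H = ⊥ :=
    (Subgroup.map_eq_bot_iff_of_injective _ H.subtype_injective).mp h1
  have hcen : ∀ g ∈ H, g * x * g⁻¹ * x⁻¹ = 1 := by
    intro g hg
    have := hZ ⟨g, hg⟩
    rw [h2, Subgroup.mem_bot] at this
    exact congrArg Subtype.val this
  apply h.nz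
  intro g
  have hgx : g * x * g⁻¹ ∈ H := hHn.conj_mem x hxH g
  have h3 := hcen _ hgx
  have hc : Commute x (g * x * g⁻¹) := by
    have h4 : (g * x * g⁻¹) * x = x * (g * x * g⁻¹) := by
      calc (g * x * g⁻¹) * x = ((g * x * g⁻¹) * x * (g * x * g⁻¹)⁻¹ * x⁻¹) * x * (g * x * g⁻¹) := by
            group
        _ = x * (g * x * g⁻¹) := by rw [h3, one_mul]
    exact h4.symm
  rw [h.iso g hc, mul_inv_cancel]
  exact one_mem _

theorem eq_top_of_normal_of_mem (h : MinCE p x) {N : Subgroup G} [N.Normal] (hx : x ∈ N) :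
    N = ⊤ := by
  rw [← top_le_iff, ← h.normalClosure_eq_top]
  exact Subgroup.normalClosure_le_normal (Set.singleton_subset_iff.mpr hx)

theorem not_central (h : MinCE p x) : ¬ ∀ g : G, g * x = x * g := by
  intro hc
  apply h.nz
  intro g
  rw [hc g, mul_assoc x, mul_inv_cancel, mul_one, mul_inv_cancel]
  exact one_mem _

theorem ne_one (h : MinCE p x) : x ≠ 1 := by
  intro h1
  apply h.not_central
  intro g
  rw [h1, mul_one, one_mul]

theorem le_center_of_centralizes (h : MinCE p x) {N : Subgroup G} [N.Normal]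
    (hc : ∀ n ∈ N, n * x = x * n) : N ≤ Subgroup.center G := by
  have hxC : x ∈ Subgroup.centralizer (N : Set G) := by
    rw [Subgroup.mem_centralizer_iff]
    intro n hn
    exact hc n hn
  have htop := h.eq_top_of_normal_of_mem hxC
  intro n hn
  rw [Subgroup.mem_center_iff]
  intro g
  have hg : g ∈ Subgroup.centralizer (N : Set G) := by rw [htop]; exact Subgroup.mem_top g
  exact (Subgroup.mem_centralizer_iff.mp hg n hn).symm

/-- an isolated element which is central modulo a central subgroup is central -/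
theorem central_of_comm_mem_center (h : MinCE p x)
    (hc : ∀ g : G, g * x * g⁻¹ * x⁻¹ ∈ Subgroup.center G) : False := by
  apply h.not_central
  intro g
  have h1 := Subgroup.mem_center_iff.mp (hc g) x
  have hcomm : Commute x (g * x * g⁻¹) := by
    have e : g * x * g⁻¹ = (g * x * g⁻¹ * x⁻¹) * x := by group
    rw [e]
    exact (Commute.mul_right (h1 : Commute x _) (Commute.refl x))
  have h2 := h.iso g hcomm
  calc g * x = (g * x * g⁻¹) * g := by group
    _ = x * g := by rw [h2]

/-- a minimal normal subgroup together with `x` generates `G` -/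
theorem sup_zpowers_eq_top (h : MinCE p x) {N : Subgroup G} (hN : IsMinInv ⊤ N) :
    N ⊔ Subgroup.zpowers x = ⊤ := by
  have hp : p.Prime := Fact.out
  haveI hNn : N.Normal := hN.normal
  by_contra hH
  have hxH : x ∈ N ⊔ Subgroup.zpowers x := le_sup_right (a := N) (Subgroup.mem_zpowers x)
  obtain ⟨O, hOH, hHO, hOcop, hcomm⟩ := h.exists_core hxH hH
  -- `N ⊓ O = ⊥`
  have hNO : N ⊓ O = ⊥ := by
    have h1 : N ⊓ O ≤ Cfsg.pPrimeCore p G := by
      apply le_pPrimeCore_of_le_normal p (N := N) inf_le_left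
      · intro n hn
        rw [Subgroup.mem_normalizer_iff]
        intro y
        have hnO := hHO (le_sup_left (a := N) hn : n ∈ N ⊔ Subgroup.zpowers x)
        constructor
        · intro hy
          exact ⟨hNn.conj_mem y hy.1 n, (Subgroup.mem_normalizer_iff.mp hnO y).mp hy.2⟩
        · intro hy
          refine ⟨?_, (Subgroup.mem_normalizer_iff.mp hnO y).mpr hy.2⟩
          have := hNn.conj_mem _ hy.1 n⁻¹
          have e : n⁻¹ * (n * y * n⁻¹) * n⁻¹⁻¹ = y := by group
          rwa [e] at this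
      · exact Nat.Coprime.coprime_dvd_left (Subgroup.card_dvd_of_le inf_le_right) hOcop
    rw [h.pPrimeCore_eq_bot] at h1
    exact le_bot_iff.mp h1
  -- `x` centralizes `N`
  have hcen : ∀ n ∈ N, n * x = x * n := by
    intro n hn
    have h1 : n * x * n⁻¹ * x⁻¹ ∈ N ⊓ O := by
      refine ⟨?_, hcomm n (le_sup_left (a := N) hn)⟩
      have h2 : x * n⁻¹ * x⁻¹ ∈ N := hNn.conj_mem _ (N.inv_mem hn) x
      have e : n * x * n⁻¹ * x⁻¹ = n * (x * n⁻¹ * x⁻¹) := by group
      rw [e]
      exact N.mul_mem hn h2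
    rw [hNO, Subgroup.mem_bot] at h1
    calc n * x = (n * x * n⁻¹ * x⁻¹) * x * n := by group
      _ = x * n := by rw [h1, one_mul]
  have hNZ := h.le_center_of_centralizes hcen
  -- `N` is a `p`-group
  have hNp : IsPGroup p ↥N := by
    have hdvd : p ∣ Nat.card ↥N := by
      by_contra hnd
      have hcop : (Nat.card ↥N).Coprime p := ((Nat.Prime.coprime_iff_not_dvd hp).mpr hnd).symm
      have := Cfsg.Agent.Helper22.le_pPrimeCore p N hNn hcop
      rw [h.pPrimeCore_eq_bot] at this
      exact hN.1 (le_bot_iff.mp this)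
    obtain ⟨n, hn⟩ := exists_prime_orderOf_dvd_card' p hdvd
    have hZn : (Subgroup.zpowers (n : G)).Normal := by
      constructor
      intro z hz g
      have hzN : z ∈ N := (Subgroup.zpowers_le.mpr n.2) hz
      have := Subgroup.mem_center_iff.mp (hNZ hzN) g
      rw [this, mul_inv_cancel_right]
      exact hz
    have hne : Subgroup.zpowers (n : G) ≠ ⊥ := by
      intro hbot
      rw [Subgroup.zpowers_eq_bot] at hbot
      have : n = 1 := Subtype.ext hbot
      rw [this, orderOf_one] at hn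
      exact hp.ne_one hn.symm
    have heq := hN.eq_of_normal hZn (Subgroup.zpowers_le.mpr n.2) hne
    apply IsPGroup.of_card (n := 1)
    rw [← heq, Nat.card_zpowers, Subgroup.orderOf_coe, hn, pow_one]
  have hquot := pPrimeCore_quotient_eq_bot_of_central hNZ hNp h.pPrimeCore_eq_bot
  apply h.central_of_comm_mem_center
  intro g
  have h1 := h.quot N hN.1 (QuotientGroup.mk g)
  rw [hquot, Subgroup.mem_bot] at h1
  have h2 : (QuotientGroup.mk (g * x * g⁻¹ * x⁻¹) : G ⧸ N) = 1 := h1
  exact hNZ ((QuotientGroup.eq_one_iff _).mp h2)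

end MinCE

end Cfsg.Agent.Helper15.ZStarMin
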