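import Mathlib
import Cfsg.Prelude.Def_IsolatedElements
import Cfsg.Prelude.Def_CaseTheorems
import Cfsg.Agent.Lib.Helper15.Isolated
import Cfsg.Agent.Lib.Helper10.Frobenius5
import Cfsg.Agent.Lib.Helper10.OmegaLemma

set_option autoImplicit false

namespace Cfsg.Agent.Helper15.IsoRank

open Cfsg.Agent.Helper15
open Cfsg.Agent.Helper10 (NPC FrobCond npc_of_frobCond mem_centralizer_of_omega)

universe u

/-- For odd `p`: if every element of order `p` is isolated, the group has a normal
`p`-complement. -/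
theorem npc_of_forall_isIsolated {H : Type u} [Group H] [Finite H] {p : ℕ} [Fact p.Prime]
    (hp : p ≠ 2) (h : ∀ y : H, orderOf y = p → Cfsg.IsIsolated y) : NPC p H := by
  apply npc_of_frobCond _ H rfl
  intro Q hQ g hg hcop
  apply mem_centralizer_of_omega Q hQ g hcop hg
  intro y hy hyΩ
  rcases hyΩ with hyp | ⟨h2, _⟩
  · by_cases hy1 : y = 1
    · subst hy1; simp
    · have hord : orderOf y = p := orderOf_eq_prime hyp hy1
      have hiso := h y hord
      have hQC : Q ≤ Subgroup.centralizer ({y} : Set H) :=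
        IsIsolated.commute_of_mem hiso hQ hy
      have hgy : g * y * g⁻¹ ∈ Q := (Subgroup.mem_normalizer_iff.1 hg y).1 hy
      have hc : (g * y * g⁻¹) * y = y * (g * y * g⁻¹) :=
        mem_centralizer_singleton_iff.1 (hQC hgy)
      have := hiso g hc.symm
      exact conj_eq_self_iff.1 this
  · exact absurd h2 hp

/-- a nontrivial power of an element of prime order generates the same cyclic group -/
theorem exists_zpow_zpow_eq {H : Type*} [Group H] {p : ℕ} [hp : Fact p.Prime] {x : H}
    (hx : orderOf x = p) (i : ℤ) (hi : x ^ i ≠ 1) : ∃ k : ℤ, (x ^ i) ^ k = x := by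
  have hnd : ¬ (p : ℤ) ∣ i := by
    intro hd
    apply hi
    rw [← hx] at hd
    exact orderOf_dvd_iff_zpow_eq_one.1 hd
  have hcop : IsCoprime i (p : ℤ) := by
    have hpi : Prime (p : ℤ) := Nat.prime_iff_prime_int.1 hp.out
    exact (hpi.irreducible.coprime_iff_not_dvd.2 hnd).symm
  obtain ⟨a, b, hab⟩ := hcop
  refine ⟨a, ?_⟩
  have hxp : x ^ (p : ℤ) = 1 := by
    rw [zpow_natCast, ← hx, pow_orderOf_eq_one]
  calc (x ^ i) ^ a = x ^ (a * i) * (x ^ (p : ℤ)) ^ b := by
        rw [hxp, one_zpow, mul_one, ← zpow_mul, mul_comm]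
    _ = x ^ (a * i + b * p) := by
        rw [← zpow_mul, ← zpow_add, mul_comm (p : ℤ) b]
    _ = x := by rw [hab, zpow_one]

/-- a product of a power of an isolated element of prime order and a central element is
isolated -/
theorem isIsolated_zpow_mul_central {H : Type*} [Group H] [Finite H] {p : ℕ} [Fact p.Prime]
    {x : H} (hx : orderOf x = p) (hiso : Cfsg.IsIsolated x) {c : H}
    (hc : c ∈ Subgroup.center H) (i : ℤ) : Cfsg.IsIsolated (x ^ i * c) := by
  intro g hcomm
  have hcg : g * c * g⁻¹ = c := by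
    have := (Subgroup.mem_center_iff.1 hc) g
    rw [this, mul_inv_cancel_right]
  have e1 : g * (x ^ i * c) * g⁻¹ = (g * x * g⁻¹) ^ i * c := by
    rw [conj_zpow]
    calc g * (x ^ i * c) * g⁻¹ = (g * x ^ i * g⁻¹) * (g * c * g⁻¹) := by group
      _ = _ := by rw [hcg]
  rw [e1] at hcomm ⊢
  have hcc : ∀ a : H, c * a = a * c := fun a => ((Subgroup.mem_center_iff.1 hc) a).symm
  -- the powers commute
  have h2 : Commute (x ^ i) ((g * x * g⁻¹) ^ i) := by
    have := hcomm.eq
    unfold Commute SemiconjBy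
    have e2 : x ^ i * c * ((g * x * g⁻¹) ^ i * c) = (x ^ i * (g * x * g⁻¹) ^ i) * (c * c) := by
      calc x ^ i * c * ((g * x * g⁻¹) ^ i * c) = x ^ i * (c * (g * x * g⁻¹) ^ i) * c := by group
        _ = x ^ i * ((g * x * g⁻¹) ^ i * c) * c := by rw [hcc]
        _ = _ := by group
    have e3 : (g * x * g⁻¹) ^ i * c * (x ^ i * c) = ((g * x * g⁻¹) ^ i * x ^ i) * (c * c) := by
      calc (g * x * g⁻¹) ^ i * c * (x ^ i * c) = (g * x * g⁻¹) ^ i * (c * x ^ i) * c := by group
        _ = (g * x * g⁻¹) ^ i * (x ^ i * c) * c := by rw [hcc]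
        _ = _ := by group
    rw [e2, e3] at this
    exact mul_right_cancel this
  by_cases hxi : x ^ i = 1
  · have : (g * x * g⁻¹) ^ i = 1 := by
      rw [conj_zpow, hxi, mul_one, mul_inv_cancel]
    rw [this, hxi]
  · obtain ⟨k, hk⟩ := exists_zpow_zpow_eq hx i hxi
    have h3 : Commute x ((g * x * g⁻¹) ^ i) := by
      have := h2.zpow_left k
      rwa [hk] at this
    have := IsIsolated.conj_zpow_eq hiso ⟨1, by rw [hx, pow_one]⟩ g i h3
    rw [this]

end Cfsg.Agent.Helper15.IsoRank
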