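import Mathlib
import Cfsg.Agent.Lib.Helper15.SubSyl1
import Cfsg.Agent.Lib.Helper1.CrossedHom

set_option autoImplicit false

/-! Sylow subgroups of joins of subnormal subgroups: restriction, families, residuals. -/

namespace Cfsg.Agent.Helper15.SubSyl

open Subgroup Cfsg.Agent.Helper15

universe u

variable {G : Type u} [Group G]

/-- the join property for Sylow intersections of subnormal subgroups -/
def WJ (p : ℕ) (G : Type u) [Group G] : Prop :=
  ∀ (S : Sylow p G) (A B : Subgroup G), A.IsSubnormal → B.IsSubnormal →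
    (A ⊔ B) ⊓ (S : Subgroup G) ≤ (A ⊓ (S : Subgroup G)) ⊔ (B ⊓ (S : Subgroup G))

/-- If the join property holds in a subnormal subgroup `H`, it holds in `G` for subnormal subgroups
contained in `H`. -/
theorem wj_restrict [Finite G] {p : ℕ} [Fact p.Prime] (S : Sylow p G) (H : Subgroup G)
    (hH : H.IsSubnormal) (hWJ : WJ p ↥H) {A B : Subgroup G} (hA : A.IsSubnormal)
    (hB : B.IsSubnormal) (hAH : A ≤ H) (hBH : B ≤ H) :
    (A ⊔ B) ⊓ (S : Subgroup G) ≤ (A ⊓ (S : Subgroup G)) ⊔ (B ⊓ (S : Subgroup G)) := by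
  obtain ⟨Q, hQ⟩ := Cfsg.Agent.S0542.result p H hH S
  have h1 := hWJ Q (A.subgroupOf H) (B.subgroupOf H) hA.subgroupOf hB.subgroupOf
  intro x hx
  have hxH : x ∈ H := (sup_le hAH hBH) hx.1
  have h2 : (⟨x, hxH⟩ : ↥H) ∈ (A.subgroupOf H ⊔ B.subgroupOf H) ⊓ (Q : Subgroup ↥H) := by
    rw [Subgroup.mem_inf]
    refine ⟨?_, ?_⟩
    · rw [← Subgroup.subgroupOf_sup hAH hBH, Subgroup.mem_subgroupOf]
      exact hx.1
    · rw [hQ, Subgroup.mem_subgroupOf]
      exact hx.2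
  have h3 := h1 h2
  have h4 : x ∈ ((A.subgroupOf H ⊓ (Q : Subgroup ↥H)) ⊔ (B.subgroupOf H ⊓ (Q : Subgroup ↥H))).map
      H.subtype := ⟨⟨x, hxH⟩, h3, rfl⟩
  rw [Subgroup.map_sup] at h4
  refine SetLike.le_def.1 (sup_le_sup ?_ ?_) h4
  · rintro _ ⟨y, ⟨hy1, hy2⟩, rfl⟩
    rw [hQ] at hy2
    exact ⟨hy1, hy2⟩
  · rintro _ ⟨y, ⟨hy1, hy2⟩, rfl⟩
    rw [hQ] at hy2
    exact ⟨hy1, hy2⟩

/-- The join property for a finite family, from the property for pairs in a class closed under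
joins. -/
theorem finset_sup_inf_le {ι : Type*} (S : Subgroup G) (P : Subgroup G → Prop) (hbot : P ⊥)
    (hsup : ∀ X Y, P X → P Y → P (X ⊔ Y))
    (h2 : ∀ X Y, P X → P Y → (X ⊔ Y) ⊓ S ≤ (X ⊓ S) ⊔ (Y ⊓ S))
    (f : ι → Subgroup G) (s : Finset ι) (hf : ∀ i ∈ s, P (f i)) :
    P (s.sup f) ∧ (s.sup f) ⊓ S ≤ s.sup (fun i => f i ⊓ S) := by
  classical
  induction s using Finset.induction_on with
  | empty =>
    refine ⟨by simpa using hbot, ?_⟩
    simp
  | insert a s ha ih =>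
    have ih' := ih (fun i hi => hf i (Finset.mem_insert_of_mem hi))
    have hPa := hf a (Finset.mem_insert_self a s)
    rw [Finset.sup_insert, Finset.sup_insert]
    refine ⟨hsup _ _ hPa ih'.1, ?_⟩
    exact (h2 _ _ hPa ih'.1).trans (sup_le_sup_left ih'.2 _)

/-! ### The residual `O^p` of a subgroup -/

/-- `O^p(B)` as a subgroup of the ambient group -/
def pRes (p : ℕ) (B : Subgroup G) : Subgroup G := (Cfsg.pResidual p ↥B).map B.subtype

theorem pRes_le (p : ℕ) (B : Subgroup G) : pRes p B ≤ B := Subgroup.map_subtype_le _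

theorem pRes_isSubnormal (p : ℕ) {B : Subgroup G} (hB : B.IsSubnormal) :
    (pRes p B).IsSubnormal :=
  (Cfsg.Agent.Helper22.pResidual_normal (G := ↥B) (p := p)).isSubnormal.trans' hB

theorem exists_mul_of_mem [Finite G] {p : ℕ} [Fact p.Prime] {B T : Subgroup G}
    (hT : IsSylowIn p T B) {b : G} (hb : b ∈ B) :
    ∃ s ∈ T, ∃ b₀ ∈ pRes p B, b = s * b₀ := by
  have hn : (Cfsg.pResidual p ↥B).Normal := Cfsg.Agent.Helper22.pResidual_normal
  have h1 := Cfsg.Agent.Helper22.sylow_sup_pResidual_eq_top hT.toSylow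
  have h2 : (⟨b, hb⟩ : ↥B) ∈ (((hT.toSylow : Subgroup ↥B) ⊔ Cfsg.pResidual p ↥B : Subgroup ↥B) :
      Set ↥B) := by
    rw [h1]; exact Subgroup.mem_top _
  rw [Subgroup.mul_normal] at h2
  obtain ⟨s, hs, b₀, hb₀, hsb⟩ := h2
  rw [SetLike.mem_coe, hT.coe_toSylow, Subgroup.mem_subgroupOf] at hs
  refine ⟨(s : G), hs, (b₀ : G), ⟨b₀, hb₀, rfl⟩, ?_⟩
  have := congrArg Subtype.val hsb
  simpa using this.symm

theorem pRes_le_pResidual (p : ℕ) (A : Subgroup G) : pRes p A ≤ Cfsg.pResidual p G := by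
  unfold pRes
  rw [Subgroup.map_le_iff_le_comap]
  unfold Cfsg.pResidual
  rw [Subgroup.closure_le]
  intro y hy
  rw [SetLike.mem_coe, Subgroup.mem_comap]
  apply Subgroup.subset_closure
  change Nat.Coprime (orderOf (y : G)) p
  rw [Subgroup.orderOf_coe]
  exact hy

theorem pResidual_eq_top_of_sup {p : ℕ} {A B : Subgroup G} (hA : pRes p A = A)
    (hB : pRes p B = B) (hAB : A ⊔ B = ⊤) : Cfsg.pResidual p G = ⊤ := by
  rw [eq_top_iff, ← hAB]
  refine sup_le ?_ ?_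
  · rw [← hA]; exact pRes_le_pResidual p A
  · rw [← hB]; exact pRes_le_pResidual p B

end Cfsg.Agent.Helper15.SubSyl
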