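import Mathlib
import Cfsg.Agent.Lib.Helper15.SubSyl2

set_option autoImplicit false

/-! A central subgroup of order `p` with a complement in a Sylow subgroup, in a group with no
nontrivial `p`-quotient. -/

namespace Cfsg.Agent.Helper15.SubSyl

open Subgroup Cfsg.Agent.Helper15

universe u

variable {G : Type u} [Group G]

theorem normal_of_le_center {N : Subgroup G} (hN : N ≤ Subgroup.center G) : N.Normal := by
  constructor
  intro n hn g
  have h := Subgroup.mem_center_iff.1 (hN hn) g
  have : g * n * g⁻¹ = n := by rw [h, mul_assoc, mul_inv_cancel, mul_one]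
  rw [this]; exact hn

theorem le_of_central_of_pResidual_eq_top [Finite G] {p : ℕ} [Fact p.Prime] (S : Sylow p G)
    (T N : Subgroup G) (hTS : T ≤ (S : Subgroup G)) (hN : N ≤ Subgroup.center G)
    (hNc : Nat.card N = p) (hS : (S : Subgroup G) ≤ T ⊔ N)
    (hres : Cfsg.pResidual p G = ⊤) : N ≤ T := by
  have hp : p.Prime := Fact.out
  by_contra hNT
  have hNn : N.Normal := normal_of_le_center hN
  have hNcomm : IsMulCommutative N := by
    refine ⟨⟨?_⟩⟩
    intro a b
    have h := Subgroup.mem_center_iff.1 (hN a.2) (b : G)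
    exact Subtype.ext h.symm
  have hNp : IsPGroup p N := IsPGroup.of_card (n := 1) (by rw [hNc, pow_one])
  have hNS : N ≤ (S : Subgroup G) := hNp.le_sylow_of_normal S
  -- `T ⊓ N = ⊥`
  have hTN : T ⊓ N = ⊥ := by
    have h1 : Nat.card ↥(T ⊓ N) ∣ p := by
      rw [← hNc]; exact Subgroup.card_dvd_of_le inf_le_right
    rcases (Nat.dvd_prime hp).1 h1 with h | h
    · exact Subgroup.card_eq_one.1 h
    · exfalso
      apply hNT
      have : T ⊓ N = N := Subgroup.eq_of_le_of_card_ge inf_le_right (by rw [h, hNc])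
      rw [← this]; exact inf_le_left
  have hsup : N ⊔ T = (S : Subgroup G) :=
    le_antisymm (sup_le hNS hTS) (by rw [sup_comm]; exact hS)
  have hcop : (Nat.card N).Coprime (S : Subgroup G).index := by
    rw [hNc]
    exact (Nat.Prime.coprime_iff_not_dvd hp).2 S.not_dvd_index
  obtain ⟨H, hH⟩ := Cfsg.Agent.Helper1.gaschutz_exists N (S : Subgroup G) hNS hcop T hTN hsup
  have hHn : H.Normal := by
    constructor
    intro x hx g
    obtain ⟨⟨⟨n, hn⟩, ⟨h, hh⟩⟩, hnh⟩ := hH.2 g
    simp only at hnh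
    have hnc := Subgroup.mem_center_iff.1 (hN hn)
    have h1 : g * x * g⁻¹ = h * x * h⁻¹ := by
      rw [← hnh, mul_inv_rev]
      have e1 : n * h * x * (h⁻¹ * n⁻¹) = n * (h * x * h⁻¹) * n⁻¹ := by group
      rw [e1, ← hnc (h * x * h⁻¹), mul_assoc, mul_inv_cancel, mul_one]
    rw [h1]
    exact H.mul_mem (H.mul_mem hh hx) (H.inv_mem hh)
  have hidx : H.index = p := by rw [hH.index_eq_card, hNc]
  have hq : IsPGroup p (G ⧸ H) := IsPGroup.of_card (n := 1) (by
    rw [← Subgroup.index_eq_card, hidx, pow_one])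
  have hle := Cfsg.Agent.Helper22.pResidual_le_ker_of_isPGroup (QuotientGroup.mk' H) hq
  rw [hres, QuotientGroup.ker_mk', top_le_iff] at hle
  rw [hle, Subgroup.index_top] at hidx
  exact hp.one_lt.ne hidx

end Cfsg.Agent.Helper15.SubSyl
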