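import Mathlib
import Cfsg.Prelude.Def_IsolatedElements
import Cfsg.Prelude.Def_CaseTheorems
import Cfsg.Agent.Lib.Helper15.IsoRank1
import Cfsg.Agent.Lib.Helper15.SubSyl3
import Cfsg.Agent.Lib.Helper7.Basic

set_option autoImplicit false

namespace Cfsg.Agent.Helper15.IsoRank

open Cfsg.Agent.Helper15
open Cfsg.Agent.Helper10 (NPC)

universe u

section
variable {H : Type*} [Group H]

theorem commute_of_mem_closure {k : Set H} (hcomm : ∀ a ∈ k, ∀ b ∈ k, a * b = b * a)
    {a b : H} (ha : a ∈ Subgroup.closure k) (hb : b ∈ Subgroup.closure k) : a * b = b * a := by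
  have hI : IsMulCommutative ↥(Subgroup.closure k) := Subgroup.isMulCommutative_closure hcomm
  have := mul_comm' (⟨a, ha⟩ : Subgroup.closure k) ⟨b, hb⟩
  exact congrArg Subtype.val this

theorem pow_eq_one_of_mem_closure {k : Set H} (hcomm : ∀ a ∈ k, ∀ b ∈ k, a * b = b * a)
    {n : ℕ} (hk : ∀ a ∈ k, a ^ n = 1) : ∀ a ∈ Subgroup.closure k, a ^ n = 1 := by
  intro a ha
  induction ha using Subgroup.closure_induction with
  | mem x hx => exact hk x hx
  | one => exact one_pow n
  | mul x y hx hy ihx ihy =>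
    have hc : Commute x y := commute_of_mem_closure hcomm hx hy
    rw [hc.mul_pow, ihx, ihy, one_mul]
  | inv x hx ih => rw [inv_pow, ih, inv_one]

/-- rank at most two: three commuting elements of order dividing `p` are dependent -/
theorem mem_sup_zpowers_of_pRankLE [Finite H] {p : ℕ} [hp : Fact p.Prime]
    (hrank : Cfsg.PRankLE p 2 H) {x z y : H} (hx : orderOf x = p) (hz : z ^ p = 1)
    (hy : y ^ p = 1) (hxz : x * z = z * x) (hxy : x * y = y * x) (hzy : z * y = y * z)
    (hzx : z ∉ Subgroup.zpowers x) : y ∈ Subgroup.zpowers x ⊔ Subgroup.zpowers z := by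
  set k : Set H := {x, z, y} with hk
  have hcomm : ∀ a ∈ k, ∀ b ∈ k, a * b = b * a := by
    intro a ha b hb
    simp only [hk, Set.mem_insert_iff, Set.mem_singleton_iff] at ha hb
    rcases ha with rfl | rfl | rfl <;> rcases hb with rfl | rfl | rfl <;>
      first | rfl | assumption | (symm; assumption)
  have hxp : x ^ p = 1 := by rw [← hx, pow_orderOf_eq_one]
  have hpow : ∀ a ∈ k, a ^ p = 1 := by
    intro a ha
    simp only [hk, Set.mem_insert_iff, Set.mem_singleton_iff] at ha
    rcases ha with rfl | rfl | rfl <;> assumption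
  set A := Subgroup.closure k with hA
  have hAc : IsMulCommutative ↥A := Subgroup.isMulCommutative_closure hcomm
  have hAp : ∀ a ∈ A, a ^ p = 1 := pow_eq_one_of_mem_closure hcomm hpow
  have hcardA : Nat.card ↥A ≤ p ^ 2 := hrank A hAc hAp
  have hxA : x ∈ A := Subgroup.subset_closure (by simp [hk])
  have hzA : z ∈ A := Subgroup.subset_closure (by simp [hk])
  have hyA : y ∈ A := Subgroup.subset_closure (by simp [hk])
  set B := Subgroup.zpowers x ⊔ Subgroup.zpowers z with hB
  have hBA : B ≤ A := sup_le (Subgroup.zpowers_le.2 hxA) (Subgroup.zpowers_le.2 hzA)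
  have hAP : IsPGroup p ↥A := by
    intro a
    refine ⟨1, ?_⟩
    rw [pow_one]
    exact Subtype.ext (by simpa using hAp a a.2)
  have hBP : IsPGroup p ↥B := hAP.to_le hBA
  obtain ⟨j, hj⟩ := hBP.exists_card_eq
  have hlt : Subgroup.zpowers x < B := by
    refine lt_of_le_of_ne le_sup_left ?_
    intro h
    apply hzx
    rw [h]
    exact (le_sup_right : Subgroup.zpowers z ≤ B) (Subgroup.mem_zpowers z)
  have hcardlt : Nat.card ↥(Subgroup.zpowers x) < Nat.card ↥B := by
    refine lt_of_le_of_ne (Subgroup.card_le_of_le hlt.le) ?_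
    intro h
    exact hlt.ne (Subgroup.eq_of_le_of_card_ge hlt.le h.ge)
  rw [Nat.card_zpowers, hx, hj] at hcardlt
  have hj2 : 2 ≤ j := by
    by_contra hcon
    have : j ≤ 1 := by omega
    have := Nat.pow_le_pow_right hp.out.pos this
    rw [pow_one] at this
    omega
  have hcardB : p ^ 2 ≤ Nat.card ↥B := by
    rw [hj]; exact Nat.pow_le_pow_right hp.out.pos hj2
  have hBeq : B = A := Subgroup.eq_of_le_of_card_ge hBA (hcardA.trans hcardB)
  rw [hBeq]
  exact hyA

/-- rank at most two, an isolated element `x` of order `p` and a central element of order `p`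
outside `⟨x⟩`: every element of order `p` is isolated -/
theorem isIsolated_of_central [Finite H] {p : ℕ} [Fact p.Prime]
    (hrank : Cfsg.PRankLE p 2 H) {x z : H} (hx : orderOf x = p) (hiso : Cfsg.IsIsolated x)
    (hz : orderOf z = p) (hzc : z ∈ Subgroup.center H) (hzx : z ∉ Subgroup.zpowers x)
    (y : H) (hy : orderOf y = p) : Cfsg.IsIsolated y := by
  have hPx : IsPGroup p ↥(Subgroup.zpowers x) :=
    isPGroup_zpowers_of_orderOf ⟨1, by rw [hx, pow_one]⟩
  have hPy : IsPGroup p ↥(Subgroup.zpowers y) :=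
    isPGroup_zpowers_of_orderOf ⟨1, by rw [hy, pow_one]⟩
  obtain ⟨P, hP⟩ := hPx.exists_le_sylow
  obtain ⟨Q, hQ⟩ := hPy.exists_le_sylow
  have hxP : x ∈ (P : Subgroup H) := hP (Subgroup.mem_zpowers x)
  obtain ⟨c, hc⟩ := MulAction.exists_smul_eq H Q P
  have hyP : c * y * c⁻¹ ∈ (P : Subgroup H) := by
    rw [← hc, Sylow.coe_subgroup_smul]
    exact Cfsg.Agent.Helper7.conj_mem_conj_smul _ c y (hQ (Subgroup.mem_zpowers y))
  set y' := c * y * c⁻¹ with hy'def
  have hy' : y' ^ p = 1 := by
    rw [hy'def, conj_pow, ← hy, pow_orderOf_eq_one, mul_one, mul_inv_cancel]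
  have hPC : (P : Subgroup H) ≤ Subgroup.centralizer ({x} : Set H) :=
    IsIsolated.commute_of_mem hiso P.isPGroup' hxP
  have hxy' : x * y' = y' * x := (mem_centralizer_singleton_iff.1 (hPC hyP)).symm
  have hzall : ∀ a : H, z * a = a * z := fun a => ((Subgroup.mem_center_iff.1 hzc) a).symm
  have hzp : z ^ p = 1 := by rw [← hz, pow_orderOf_eq_one]
  have hmem := mem_sup_zpowers_of_pRankLE hrank hx hzp hy' (hzall x).symm hxy' (hzall y') hzx
  haveI : (Subgroup.zpowers z).Normal := Cfsg.Agent.Helper15.SubSyl.normal_of_le_center (Subgroup.zpowers_le.2 hzc)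
  obtain ⟨a, ha, b, hb, hab⟩ := Subgroup.mem_sup_of_normal_right.1 hmem
  obtain ⟨i, rfl⟩ := Subgroup.mem_zpowers_iff.1 ha
  have hbc : b ∈ Subgroup.center H := (Subgroup.zpowers_le.2 hzc) hb
  have hisoy' : Cfsg.IsIsolated y' := by
    rw [← hab]; exact isIsolated_zpow_mul_central hx hiso hbc i
  have h1 := IsIsolated.conj hisoy' c⁻¹
  have e : c⁻¹ * y' * c⁻¹⁻¹ = y := by rw [hy'def]; group
  rwa [e] at h1

/-- the resulting normal `p`-complement -/
theorem npc_of_central {H : Type u} [Group H] [Finite H] {p : ℕ} [Fact p.Prime] (hp : p ≠ 2)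
    (hrank : Cfsg.PRankLE p 2 H) {x z : H} (hx : orderOf x = p) (hiso : Cfsg.IsIsolated x)
    (hz : orderOf z = p) (hzc : z ∈ Subgroup.center H) (hzx : z ∉ Subgroup.zpowers x) :
    NPC p H :=
  npc_of_forall_isIsolated hp (isIsolated_of_central hrank hx hiso hz hzc hzx)

end

end Cfsg.Agent.Helper15.IsoRank
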