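import Mathlib
import Cfsg.Prelude.Def_IsolatedElements
import Cfsg.Prelude.Def_CaseTheorems
import Cfsg.Agent.Lib.Helper15.IsoRank2

set_option autoImplicit false

namespace Cfsg.Agent.Helper15.IsoRank

open Cfsg.Agent.Helper15
open Cfsg.Agent.Helper10 (NPC)

universe u

section
variable {G : Type*} [Group G]

/-- `y` is isolated relative to the subgroup `H` -/
def IsolIn (H : Subgroup G) (y : G) : Prop :=
  ∀ g ∈ H, y * (g * y * g⁻¹) = (g * y * g⁻¹) * y → g * y * g⁻¹ = y

theorem IsolIn.mono {H K : Subgroup G} (hKH : K ≤ H) {y : G} (h : IsolIn H y) : IsolIn K y :=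
  fun g hg hc => h g (hKH hg) hc

theorem isolIn_top_iff {y : G} : IsolIn (⊤ : Subgroup G) y ↔ Cfsg.IsIsolated y := by
  constructor
  · intro h g hc; exact h g (Subgroup.mem_top g) hc.eq
  · intro h g _ hc; exact h g hc

theorem isolIn_iff_subtype {H : Subgroup G} {y : G} (hy : y ∈ H) :
    IsolIn H y ↔ Cfsg.IsIsolated (⟨y, hy⟩ : ↥H) := by
  constructor
  · intro h g hc
    have hc' := congrArg Subtype.val hc.eq
    have := h (g : G) g.2 (by simpa using hc')
    exact Subtype.ext (by simpa using this)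
  · intro h g hg hc
    have hc' : Commute (⟨y, hy⟩ : ↥H) ((⟨g, hg⟩ : ↥H) * ⟨y, hy⟩ * (⟨g, hg⟩ : ↥H)⁻¹) := by
      unfold Commute SemiconjBy
      exact Subtype.ext (by simpa using hc)
    have := congrArg Subtype.val (h ⟨g, hg⟩ hc')
    simpa using this

theorem pRankLE_subgroup {p k : ℕ} (h : Cfsg.PRankLE p k G) (H : Subgroup G) :
    Cfsg.PRankLE p k ↥H := by
  intro A hA hAp
  have hc : IsMulCommutative ↥(A.map H.subtype) := by
    refine ⟨⟨?_⟩⟩
    rintro ⟨a, ha⟩ ⟨b, hb⟩
    obtain ⟨a', ha', rfl⟩ := ha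
    obtain ⟨b', hb', rfl⟩ := hb
    apply Subtype.ext
    have := mul_comm' (⟨a', ha'⟩ : ↥A) ⟨b', hb'⟩
    have h2 := congrArg (fun t : ↥A => ((t : ↥H) : G)) this
    simpa using h2
  have hp : ∀ a ∈ A.map H.subtype, a ^ p = 1 := by
    rintro a ⟨a', ha', rfl⟩
    have := hAp a' ha'
    have h2 := congrArg Subtype.val this
    simpa using h2
  have := h (A.map H.subtype) hc hp
  rwa [Nat.card_congr (A.equivMapOfInjective H.subtype H.subtype_injective).symm.toEquiv] at this

end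

section
variable {G : Type u} [Group G] [Finite G]

/-- relative form: in a subgroup `H` centralizing `z`, every element of order `p` is isolated
relative to `H`, and `H` has a normal `p`-complement -/
theorem isolIn_of_central {p : ℕ} [Fact p.Prime] (hrank : Cfsg.PRankLE p 2 G) {x z : G}
    (hx : orderOf x = p) (hz : orderOf z = p) (hzx : z ∉ Subgroup.zpowers x)
    {H : Subgroup G} (hxH : x ∈ H) (hzH : z ∈ H) (hiso : IsolIn H x)
    (hzc : ∀ h ∈ H, h * z = z * h) {y : G} (hyH : y ∈ H) (hy : orderOf y = p) : IsolIn H y := by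
  rw [isolIn_iff_subtype hyH]
  have hiso' : Cfsg.IsIsolated (⟨x, hxH⟩ : ↥H) := (isolIn_iff_subtype hxH).1 hiso
  have hx' : orderOf (⟨x, hxH⟩ : ↥H) = p := by rw [← hx]; exact (Subgroup.orderOf_mk x hxH)
  have hz' : orderOf (⟨z, hzH⟩ : ↥H) = p := by rw [← hz]; exact (Subgroup.orderOf_mk z hzH)
  have hy' : orderOf (⟨y, hyH⟩ : ↥H) = p := by rw [← hy]; exact (Subgroup.orderOf_mk y hyH)
  have hzc' : (⟨z, hzH⟩ : ↥H) ∈ Subgroup.center ↥H := by
    rw [Subgroup.mem_center_iff]
    intro g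
    exact Subtype.ext (hzc g g.2)
  have hzx' : (⟨z, hzH⟩ : ↥H) ∉ Subgroup.zpowers (⟨x, hxH⟩ : ↥H) := by
    intro hmem
    apply hzx
    obtain ⟨i, hi⟩ := Subgroup.mem_zpowers_iff.1 hmem
    rw [Subgroup.mem_zpowers_iff]
    refine ⟨i, ?_⟩
    have := congrArg Subtype.val hi
    simpa using this
  exact isIsolated_of_central (pRankLE_subgroup hrank H) hx' hiso' hz' hzc' hzx' _ hy'

theorem npc_of_forall_isolIn {p : ℕ} [Fact p.Prime] (hp : p ≠ 2) (K : Subgroup G)
    (h : ∀ y ∈ K, orderOf y = p → IsolIn K y) : NPC p ↥K := by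
  apply npc_of_forall_isIsolated hp
  intro y hy
  have := h (y : G) y.2 (by rw [← hy]; exact (Subgroup.orderOf_coe y))
  exact (isolIn_iff_subtype y.2).1 this

end

end Cfsg.Agent.Helper15.IsoRank
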