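import Mathlib
import Cfsg.Agent.Lib.Helper1.M22LocDefs
import Cfsg.Agent.Lib.Helper23.M22VAL2

/-!
# S0429 LOCAL piece COC4, core (helper15 for helper1): `five_to_coc`, `cocOf_inj` with the facts of the pieces
CLS / COUNT (`cls_eq`, `card_cls`, `mem_cls_self`, `nearC_iff`) as hypotheses.
-/

set_option autoImplicit false
set_option linter.unusedSectionVars false
set_option linter.unusedVariables false

namespace Cfsg.Agent.Helper1.M22

open Finset

variable {V : Type*} [Fintype V] [DecidableEq V] {G : SimpleGraph V} [DecidableRel G.Adj]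
  (hG : G.IsSRGWith 77 16 0 4) (o : V)
include hG

omit hG in
/-- a class is `cls` of each of its elements -/
theorem coc4_class_eq
    (hcls_eq : ∀ b b' : V, b ∈ nB G o → b' ∈ nB G o → pp G o b b' = 1 / 12 → cls G o b = cls G o b')
    {X : Finset V} (hX : X ∈ classes G o) {x : V} (hx : x ∈ X) :
    x ∈ nB G o ∧ X = cls G o x := by
  unfold classes at hX
  obtain ⟨b, hb, rfl⟩ := mem_image.mp hX
  have hx' := hx
  unfold cls at hx'
  rw [mem_filter] at hx'
  exact ⟨hx'.1, hcls_eq b x hb hx'.1 hx'.2⟩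

omit hG in
/-- different classes are disjoint -/
theorem coc4_disjoint
    (hcls_eq : ∀ b b' : V, b ∈ nB G o → b' ∈ nB G o → pp G o b b' = 1 / 12 → cls G o b = cls G o b')
    {X Y : Finset V} (hX : X ∈ classes G o) (hY : Y ∈ classes G o) (hne : X ≠ Y) :
    Disjoint X Y := by
  rw [disjoint_left]
  intro x hx hy
  obtain ⟨_, h1⟩ := coc4_class_eq o hcls_eq hX hx
  obtain ⟨_, h2⟩ := coc4_class_eq o hcls_eq hY hy
  exact hne (h1.trans h2.symm)

omit hG in
/-- the classes have 4 elements -/
theorem coc4_card (hcard_cls : ∀ b : V, b ∈ nB G o → (cls G o b).card = 4)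
    {X : Finset V} (hX : X ∈ classes G o) : X.card = 4 := by
  unfold classes at hX
  obtain ⟨b, hb, rfl⟩ := mem_image.mp hX
  exact hcard_cls b hb

omit hG in
/-- the classes lie in `nB` -/
theorem coc4_sub {X : Finset V} (hX : X ∈ classes G o) : X ⊆ nB G o := by
  intro x hx
  unfold classes at hX
  obtain ⟨b, hb, rfl⟩ := mem_image.mp hX
  unfold cls at hx
  exact (mem_filter.mp hx).1

omit hG in
/-- the union of a set of classes -/
theorem coc4_card_biUnion
    (hcls_eq : ∀ b b' : V, b ∈ nB G o → b' ∈ nB G o → pp G o b b' = 1 / 12 → cls G o b = cls G o b')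
    (hcard_cls : ∀ b : V, b ∈ nB G o → (cls G o b).card = 4)
    {Q : Finset (Finset V)} (hQ : Q ⊆ classes G o) :
    (Q.biUnion id).card = 4 * Q.card := by
  rw [card_biUnion]
  · have : ∀ X ∈ Q, (id X : Finset V).card = 4 := fun X hX => coc4_card o hcard_cls (hQ hX)
    rw [sum_congr rfl this, sum_const, smul_eq_mul, mul_comm]
  · intro X hX Y hY hne
    exact coc4_disjoint o hcls_eq (hQ hX) (hQ hY) hne

omit hG in
theorem coc4_o_notMem : o ∉ nB G o := by
  unfold nB
  rw [mem_filter]
  intro h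
  exact h.2.1 rfl

/-- PIECE COC4, core -/
theorem five_to_coc_core
    (hcls_eq : ∀ b b' : V, b ∈ nB G o → b' ∈ nB G o → pp G o b b' = 1 / 12 → cls G o b = cls G o b')
    (hcard_cls : ∀ b : V, b ∈ nB G o → (cls G o b).card = 4)
    (hnear : ∀ b c : V, b ∈ nB G o → c ∈ nB G o →
      (NearC G o (cls G o b) (cls G o c) ↔ pp G o b c = 1 / 48))
    {Q : Finset (Finset V)} (hQ : IsFive G o Q) : cocOf o Q ∈ cocs G o := by
  obtain ⟨hsub, h5, hnearQ⟩ := hQ
  unfold cocs
  rw [mem_filter]
  refine ⟨mem_univ _, ⟨?_, ?_⟩, ?_⟩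
  · -- card
    unfold cocOf
    rw [card_insert_of_notMem, coc4_card_biUnion o hcls_eq hcard_cls hsub, h5]
    intro ho
    obtain ⟨X, hX, hoX⟩ := mem_biUnion.mp ho
    exact coc4_o_notMem o (coc4_sub o (hsub hX) hoX)
  · -- pairwise non-adjacent
    have key : ∀ x ∈ Q.biUnion id, ∀ y ∈ Q.biUnion id, ¬ G.Adj x y := by
      intro x hx y hy hadj
      obtain ⟨X, hX, hxX⟩ := mem_biUnion.mp hx
      obtain ⟨Y, hY, hyY⟩ := mem_biUnion.mp hy
      have hxX' : x ∈ X := hxX
      have hyY' : y ∈ Y := hyY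
      obtain ⟨hxB, hXx⟩ := coc4_class_eq o hcls_eq (hsub hX) hxX'
      obtain ⟨hyB, hYy⟩ := coc4_class_eq o hcls_eq (hsub hY) hyY'
      have hxy : x ≠ y := fun h => by
        rw [h] at hadj; exact G.irrefl hadj
      by_cases hXY : X = Y
      · -- same class
        have hyX : y ∈ cls G o x := by rw [← hXx, hXY]; exact hyY'
        unfold cls at hyX
        rw [mem_filter] at hyX
        rcases pp_values hG o hxB hyB hxy with h | h | h
        · exact h.1 hadj
        · rw [hyX.2] at h; norm_num at h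
        · rw [hyX.2] at h; norm_num at h
      · have hn := hnearQ X hX Y hY hXY
        rw [hXx, hYy, hnear x y hxB hyB] at hn
        rcases pp_values hG o hxB hyB hxy with h | h | h
        · exact h.1 hadj
        · exact h.1 hadj
        · rw [hn] at h; norm_num at h
    have hoB : ∀ y ∈ Q.biUnion id, ¬ G.Adj o y := by
      intro y hy
      obtain ⟨Y, hY, hyY⟩ := mem_biUnion.mp hy
      have h1 : y ∈ nB G o := coc4_sub o (hsub hY) hyY
      exact (mem_filter.mp h1).2.2
    intro x hx y hy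
    have hx' : x = o ∨ x ∈ Q.biUnion id := mem_insert.mp hx
    have hy' : y = o ∨ y ∈ Q.biUnion id := mem_insert.mp hy
    rcases hx' with hxo | hx'
    · rcases hy' with hyo | hy'
      · rw [hxo, hyo]; exact G.irrefl
      · rw [hxo]; exact hoB y hy'
    · rcases hy' with hyo | hy'
      · rw [hyo]; exact fun h => hoB x hx' h.symm
      · exact key x hx' y hy'
  · unfold cocOf
    exact mem_insert_self _ _

omit hG in
/-- PIECE COC4, core (the classes are disjoint and nonempty) -/
theorem cocOf_inj_core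
    (hcls_eq : ∀ b b' : V, b ∈ nB G o → b' ∈ nB G o → pp G o b b' = 1 / 12 → cls G o b = cls G o b')
    (hmem : ∀ b : V, b ∈ nB G o → b ∈ cls G o b)
    {Q Q' : Finset (Finset V)} (hQ : Q ⊆ classes G o) (hQ' : Q' ⊆ classes G o)
    (h : cocOf o Q = cocOf o Q') : Q = Q' := by
  have key : ∀ R R' : Finset (Finset V), R ⊆ classes G o → R' ⊆ classes G o →
      cocOf o R = cocOf o R' → R ⊆ R' := by
    intro R R' hR hR' hRR X hX
    have hXc := hR hX
    have hXc' := hXc
    unfold classes at hXc'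
    obtain ⟨b, hb, rfl⟩ := mem_image.mp hXc'
    have hbX : b ∈ cls G o b := hmem b hb
    have hbin : b ∈ cocOf o R := by
      unfold cocOf
      exact mem_insert_of_mem (mem_biUnion.mpr ⟨cls G o b, hX, hbX⟩)
    rw [hRR] at hbin
    unfold cocOf at hbin
    rcases mem_insert.mp hbin with hbo | hbin
    · exfalso
      rw [hbo] at hb
      exact coc4_o_notMem o hb
    · obtain ⟨Y, hY, hbY⟩ := mem_biUnion.mp hbin
      have hbY' : b ∈ Y := hbY
      obtain ⟨_, hYb⟩ := coc4_class_eq o hcls_eq (hR' hY) hbY'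
      rw [← hYb]; exact hY
  exact Subset.antisymm (key Q Q' hQ hQ' h) (key Q' Q hQ' hQ h.symm)

end Cfsg.Agent.Helper1.M22
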