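import Mathlib
import Cfsg.Agent.Lib.Helper1.M22LocDefs
import Cfsg.Agent.Lib.Helper23.M22VAL2
import Cfsg.Agent.Lib.Helper15.M22COC4Core

/-!
# S0429 LOCAL piece COC3, core (helper15 for helper1): `coc_to_five` with the facts of the pieces
CLS / COUNT / FARADJ / COC2 as hypotheses.
-/

set_option autoImplicit false
set_option linter.unusedSectionVars false
set_option linter.unusedVariables false

namespace Cfsg.Agent.Helper1.M22

open Finset

variable {V : Type*} [Fintype V] [DecidableEq V] {G : SimpleGraph V} [DecidableRel G.Adj]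
  (hG : G.IsSRGWith 77 16 0 4) (o : V)
include hG

/-- PIECE COC3, core -/
theorem coc_to_five_core
    (hcls_eq : ∀ b b' : V, b ∈ nB G o → b' ∈ nB G o → pp G o b b' = 1 / 12 → cls G o b = cls G o b')
    (hcard_cls : ∀ b : V, b ∈ nB G o → (cls G o b).card = 4)
    (hmem : ∀ b : V, b ∈ nB G o → b ∈ cls G o b)
    (hnear : ∀ b c : V, b ∈ nB G o → c ∈ nB G o →
      (NearC G o (cls G o b) (cls G o c) ↔ pp G o b c = 1 / 48))
    (hfar : ∀ b c : V, b ∈ nB G o → c ∈ nB G o → pp G o b c = -1 / 24 → ∃ c' ∈ cls G o c, G.Adj b c')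
    (hclosed : ∀ C : Finset V, C ∈ cocs G o → ∀ b b' : V, b ∈ nB G o → b' ∈ nB G o →
      pp G o b b' = 1 / 12 → b ∈ C → b' ∈ C)
    {C : Finset V} (hC : C ∈ cocs G o) : ∃ Q, IsFive G o Q ∧ C = cocOf o Q := by
  have hC' : IsCoc G C ∧ o ∈ C := (mem_filter.mp hC).2
  obtain ⟨⟨hcard, hcoc⟩, hoC⟩ := hC'
  -- `C.erase o ⊆ nB`
  have hsubB : ∀ c ∈ C.erase o, c ∈ nB G o := by
    intro c hc
    obtain ⟨hco, hcC⟩ := mem_erase.mp hc
    exact mem_filter.mpr ⟨mem_univ _, hco, hcoc o hoC c hcC⟩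
  set Q : Finset (Finset V) := (C.erase o).image (cls G o) with hQ
  have hQcls : Q ⊆ classes G o := by
    intro X hX
    obtain ⟨c, hc, rfl⟩ := mem_image.mp hX
    exact mem_image.mpr ⟨c, hsubB c hc, rfl⟩
  -- `C = cocOf o Q`
  have hCeq : C = cocOf o Q := by
    ext x
    constructor
    · intro hx
      by_cases hxo : x = o
      · rw [hxo]; exact mem_insert_self _ _
      · have hxe : x ∈ C.erase o := mem_erase.mpr ⟨hxo, hx⟩
        refine mem_insert_of_mem (mem_biUnion.mpr ⟨cls G o x, mem_image.mpr ⟨x, hxe, rfl⟩, ?_⟩)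
        exact hmem x (hsubB x hxe)
    · intro hx
      have hx' : x = o ∨ x ∈ Q.biUnion id := mem_insert.mp hx
      rcases hx' with hxo | hx'
      · rw [hxo]; exact hoC
      · obtain ⟨X, hX, hxX⟩ := mem_biUnion.mp hx'
        obtain ⟨c, hc, rfl⟩ := mem_image.mp hX
        have hxX' : x ∈ cls G o c := hxX
        have h1 := mem_filter.mp hxX'
        exact hclosed C hC c x (hsubB c hc) h1.1 h1.2 (mem_erase.mp hc).2
  refine ⟨Q, ⟨hQcls, ?_, ?_⟩, hCeq⟩
  · -- `|Q| = 5`
    have h1 : (cocOf o Q).card = 1 + 4 * Q.card := by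
      unfold cocOf
      rw [card_insert_of_notMem, coc4_card_biUnion o hcls_eq hcard_cls hQcls, add_comm]
      intro ho
      obtain ⟨X, hX, hoX⟩ := mem_biUnion.mp ho
      exact coc4_o_notMem o (coc4_sub o (hQcls hX) hoX)
    rw [← hCeq, hcard] at h1
    omega
  · -- pairwise near
    intro X hX Y hY hXY
    obtain ⟨b, hb, rfl⟩ := mem_image.mp hX
    obtain ⟨c, hc, rfl⟩ := mem_image.mp hY
    have hbB := hsubB b hb
    have hcB := hsubB c hc
    have hbc : b ≠ c := fun h => hXY (by rw [h])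
    rcases pp_values hG o hbB hcB hbc with h | h | h
    · exact absurd (hcls_eq b c hbB hcB h.2.2) hXY
    · exact (hnear b c hbB hcB).mpr h.2.2
    · exfalso
      obtain ⟨c', hc', hadj⟩ := hfar b c hbB hcB h.2
      have h1 := mem_filter.mp hc'
      have hc'C : c' ∈ C := hclosed C hC c c' hcB h1.1 h1.2 (mem_erase.mp hc).2
      exact hcoc b (mem_erase.mp hb).2 c' hc'C hadj

end Cfsg.Agent.Helper1.M22
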