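import Mathlib
import Cfsg.Agent.Lib.Helper1.M22LocDefs
import Cfsg.Agent.Lib.Helper1.M22CLS
import Cfsg.Agent.Lib.Helper1.M22COUNT
import Cfsg.Agent.Lib.Helper14.M22COC2
import Cfsg.Agent.Lib.Helper4.M22FARADJ
import Cfsg.Agent.Lib.Helper15.M22COC3Core

/-!
# S0429 LOCAL piece COC3 (helper15 for helper1): `coc_to_five`.
-/

set_option autoImplicit false
set_option linter.unusedSectionVars false
set_option linter.unusedVariables false

namespace Cfsg.Agent.Helper1.M22

open Finset

variable {V : Type*} [Fintype V] [DecidableEq V] {G : SimpleGraph V} [DecidableRel G.Adj]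
  (hG : G.IsSRGWith 77 16 0 4) (o : V)
include hG

/-- PIECE COC3 -/
theorem coc_to_five {C : Finset V} (hC : C ∈ cocs G o) : ∃ Q, IsFive G o Q ∧ C = cocOf o Q :=
  coc_to_five_core hG o (fun b b' hb hb' h => cls_eq hG o hb hb' h) (fun b hb => card_cls hG o hb)
    (fun b hb => mem_cls_self hG o hb) (fun b c hb hc => nearC_iff hG o hb hc)
    (fun b c hb hc h => far_adj hG o hb hc h)
    (fun C hC b b' hb hb' h hbC => coc_closed hG o hC hb hb' h hbC) hC

end Cfsg.Agent.Helper1.M22
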