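import Mathlib
import Cfsg.Agent.Lib.Helper1.M22LocDefs
import Cfsg.Agent.Lib.Helper1.M22CLS
import Cfsg.Agent.Lib.Helper1.M22COUNT
import Cfsg.Agent.Lib.Helper15.M22COC4Core

/-!
# S0429 LOCAL piece COC4 (helper15 for helper1): `five_to_coc`, `cocOf_inj`.
-/

set_option autoImplicit false
set_option linter.unusedSectionVars false
set_option linter.unusedVariables false

namespace Cfsg.Agent.Helper1.M22

open Finset

variable {V : Type*} [Fintype V] [DecidableEq V] {G : SimpleGraph V} [DecidableRel G.Adj]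
  (hG : G.IsSRGWith 77 16 0 4) (o : V)
include hG

/-- PIECE COC4 -/
theorem five_to_coc {Q : Finset (Finset V)} (hQ : IsFive G o Q) : cocOf o Q ∈ cocs G o :=
  five_to_coc_core hG o (fun b b' hb hb' h => cls_eq hG o hb hb' h) (fun b hb => card_cls hG o hb)
    (fun b c hb hc => nearC_iff hG o hb hc) hQ

/-- PIECE COC4 (the classes are disjoint and nonempty) -/
theorem cocOf_inj {Q Q' : Finset (Finset V)} (hQ : Q ⊆ classes G o) (hQ' : Q' ⊆ classes G o)
    (h : cocOf o Q = cocOf o Q') : Q = Q' :=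
  cocOf_inj_core o (fun b b' hb hb' h => cls_eq hG o hb hb' h) (fun b hb => mem_cls_self hG o hb) hQ hQ' h

end Cfsg.Agent.Helper1.M22
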