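import Mathlib
import Cfsg.Prelude.Def_LocalStructure

/-!
# S3875: the least order of a non-`p`-closed group  (helper15)   definitions
-/

set_option autoImplicit false
open Cfsg

namespace Cfsg.Agent.Helper15.NPC

/-- the frozen statement of S0999 (Brauer--Reynolds), for groups in `Type` -/
def Hyp999 : Prop :=
  ∀ (G : Type) [Group G] [Finite G] [IsSimpleGroup G] (_ : ¬ IsCyclic G) (p : ℕ) (_ : p.Prime)
    (_ : p ∣ Nat.card G) (_ : Nat.card G < p ^ 3),
    (∃ (F : Type) (_ : Field F) (_ : Fintype F), Fintype.card F = p ∧ 3 < p ∧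
      Nonempty (G ≃* Matrix.ProjectiveSpecialLinearGroup (Fin 2) F)) ∨
    (∃ (m : ℕ) (F : Type) (_ : Field F) (_ : Fintype F), Fintype.card F = 2 ^ m ∧ p = 2 ^ m + 1 ∧
      3 < p ∧ Nonempty (G ≃* Matrix.ProjectiveSpecialLinearGroup (Fin 2) F))

end Cfsg.Agent.Helper15.NPC
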