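import Mathlib
import Cfsg.Agent.Lib.Helper17.GLkDefs

/-!
# S2478, piece GLK-CONJ (helper15): `isConj_of_equiv`.
-/

open Polynomial

namespace Cfsg.Agent.Helper17.GLk

universe u

variable {F : Type u} [Field F]

/-- an `F[X]`-linear equivalence of the `AEval'` modules gives an intertwining `F`-linear
equivalence of the underlying spaces -/
theorem conj_intertwine {V W : Type*} [AddCommGroup V] [Module F V] [AddCommGroup W] [Module F W]
    (a : Module.End F V) (b : Module.End F W)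
    (φ : Module.AEval' a ≃ₗ[F[X]] Module.AEval' b) :
    ∃ ψ : V ≃ₗ[F] W, ∀ v, ψ (a v) = b (ψ v) := by
  refine ⟨(Module.AEval'.of a) ≪≫ₗ φ.restrictScalars F ≪≫ₗ (Module.AEval'.of b).symm, ?_⟩
  intro v
  simp only [LinearEquiv.trans_apply, LinearEquiv.restrictScalars_apply]
  rw [← Module.AEval'.X_smul_of, map_smul, Module.AEval'.of_symm_X_smul]

/-- PIECE GLK-CONJ. -/
theorem isConj_of_equiv {n : ℕ} (A B : Matrix.GeneralLinearGroup (Fin n) F)
    (h : Nonempty (Module.AEval' (Matrix.toLin' (A : Matrix (Fin n) (Fin n) F))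
      ≃ₗ[F[X]] Module.AEval' (Matrix.toLin' (B : Matrix (Fin n) (Fin n) F)))) :
    IsConj A B := by
  obtain ⟨φ⟩ := h
  obtain ⟨ψ, hψ⟩ := conj_intertwine _ _ φ
  set P : Matrix (Fin n) (Fin n) F := LinearMap.toMatrix' (ψ : (Fin n → F) →ₗ[F] (Fin n → F))
    with hP
  set Q : Matrix (Fin n) (Fin n) F := LinearMap.toMatrix' (ψ.symm : (Fin n → F) →ₗ[F] (Fin n → F))
    with hQ
  have hPQ : P * Q = 1 := by
    rw [hP, hQ, ← LinearMap.toMatrix'_comp]
    have : (ψ : (Fin n → F) →ₗ[F] (Fin n → F)) ∘ₗ (ψ.symm : (Fin n → F) →ₗ[F] (Fin n → F))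
        = LinearMap.id := by
      refine LinearMap.ext (fun v => ?_)
      simp
    rw [this, LinearMap.toMatrix'_id]
  have hQP : Q * P = 1 := by
    rw [hP, hQ, ← LinearMap.toMatrix'_comp]
    have : (ψ.symm : (Fin n → F) →ₗ[F] (Fin n → F)) ∘ₗ (ψ : (Fin n → F) →ₗ[F] (Fin n → F))
        = LinearMap.id := by
      refine LinearMap.ext (fun v => ?_)
      simp
    rw [this, LinearMap.toMatrix'_id]
  have hPA : P * (A : Matrix (Fin n) (Fin n) F) = (B : Matrix (Fin n) (Fin n) F) * P := by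
    have e1 : P * (A : Matrix (Fin n) (Fin n) F) =
        LinearMap.toMatrix' ((ψ : (Fin n → F) →ₗ[F] (Fin n → F)) ∘ₗ
          Matrix.toLin' (A : Matrix (Fin n) (Fin n) F)) := by
      rw [LinearMap.toMatrix'_comp, LinearMap.toMatrix'_toLin']
    have e2 : (B : Matrix (Fin n) (Fin n) F) * P =
        LinearMap.toMatrix' (Matrix.toLin' (B : Matrix (Fin n) (Fin n) F) ∘ₗ
          (ψ : (Fin n → F) →ₗ[F] (Fin n → F))) := by
      rw [LinearMap.toMatrix'_comp, LinearMap.toMatrix'_toLin']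
    rw [e1, e2]
    congr 1
    refine LinearMap.ext (fun v => ?_)
    simpa using hψ v
  rw [isConj_iff]
  refine ⟨⟨P, Q, hPQ, hQP⟩, ?_⟩
  apply Units.ext
  simp only [Units.val_mul, Units.inv_mk]
  change P * (A : Matrix (Fin n) (Fin n) F) * Q = (B : Matrix (Fin n) (Fin n) F)
  rw [hPA, Matrix.mul_assoc, hPQ, Matrix.mul_one]

end Cfsg.Agent.Helper17.GLk
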