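import Mathlib
import Cfsg.Agent.Lib.Helper17.GLkDefs

/-!
# S2478, piece GLK-DIM (helper15): `decomp_dim`.
-/

open Polynomial

namespace Cfsg.Agent.Helper17.GLk

universe u

variable {F : Type u} [Field F]
variable {V : Type u} [AddCommGroup V] [Module F V]

/-- PIECE GLK-DIM. -/
theorem decomp_dim [FiniteDimensional F V] (a : Module.End F V) {ι : Type u} [Fintype ι]
    {p : ι → F[X]} {e : ι → ℕ} (h : IsDecomp a ι p e) :
    ∑ i, e i * (p i).natDegree = Module.finrank F V := by
  obtain ⟨hirr, he, ⟨φ⟩⟩ := h
  have h1 : Module.finrank F V = Module.finrank F (Module.AEval' a) :=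
    (Module.AEval'.of a).finrank_eq
  have h2 : Module.finrank F (Module.AEval' a) =
      Module.finrank F ((i : ι) → F[X] ⧸ Ideal.span {p i ^ e i}) :=
    (φ.restrictScalars F).finrank_eq
  have h3 : ∀ i, Module.finrank F (F[X] ⧸ Ideal.span {p i ^ e i}) = e i * (p i).natDegree := by
    intro i
    rw [finrank_quotient_span_eq_natDegree, natDegree_pow]
  have : ∀ i, Module.Finite F (F[X] ⧸ Ideal.span {p i ^ e i}) := by
    intro i
    apply Module.finite_of_finrank_pos
    rw [h3 i]
    have hd : 0 < (p i).natDegree := (hirr i).natDegree_pos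
    have := he i
    positivity
  rw [h1, h2, Module.finrank_pi_fintype]
  exact Finset.sum_congr rfl (fun i _ => (h3 i).symm)

end Cfsg.Agent.Helper17.GLk
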