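import Mathlib
import Cfsg.Agent.Lib.Helper17.SLkDefs
import Cfsg.Agent.Lib.Helper22.CentralQuotClasses

/-!
# Definitions for S2480 (class number of `PSL_n(q)`), on top of the S2478/S2479 developments
-/

open Polynomial

namespace Cfsg.Agent.Helper15.PSLk

open Cfsg.Agent.Helper17.GLk Cfsg.Agent.Helper17.SLk

universe u

variable {F : Type u} [Field F]

/-- a tuple is invariant under scaling the roots by `c` -/
def InvT {n : ℕ} (c : F) (f : Fin n → F[X]) : Prop := ∀ j, scaleRoots (f j) c = f j

/-- the contraction map on tuples: `f_j(x) = h_j(x^e)` is sent to `h_j` with roots scaled by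
`(-1)^(e-1)` (this makes `uconst` of the entries, hence `detT`, unchanged). -/
noncomputable def theta (e : ℕ) {m n : ℕ} (h : m ≤ n) (f : Fin n → F[X]) : Fin m → F[X] :=
  fun j => scaleRoots (contract e (f (Fin.castLE h j))) ((-1) ^ (e - 1))

theorem tup_finite [Fintype F] (n : ℕ) : (Tup F n 1 n).Finite :=
  (Tup_finite_ncard_le (F := F) n 1 n le_rfl).1

/-- the finite set of type tuples of `GL_n(F)` -/
noncomputable def TupFin [Fintype F] (n : ℕ) : Finset (Fin n → F[X]) := (tup_finite n).toFinset

theorem mem_TupFin [Fintype F] (n : ℕ) (f : Fin n → F[X]) : f ∈ TupFin n ↔ f ∈ Tup F n 1 n :=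
  Set.Finite.mem_toFinset _

open Classical in
/-- `K_n = ∑_{τ, det τ = 1} gcd(q-1, γ(τ))`, the S2479 upper bound expression for `k(SL_n(q))`. -/
noncomputable def Ksum (F : Type u) [Field F] [Fintype F] (n : ℕ) : ℕ :=
  ∑ f ∈ (TupFin (F := F) n).filter (fun f => detT f = 1), Nat.gcd (Fintype.card F - 1) (gam f)

end Cfsg.Agent.Helper15.PSLk
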