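import Mathlib
import Cfsg.Agent.Lib.Helper2.AffExt

/-!
# S3452 (groups of unbounded order with the spectrum of `PGL₂(q)`, `q` prime or `9`): definitions

For a prime `p ≥ 5` the group is `H₀ = W ⋊ PSL₂(p)`, where `W` is the elementary abelian `2`-group of
"cuspidal" functions `m : PSL₂(p) → ZMod 2` (the sums of `m` over all sets `g U h` vanish, `U` the
unipotent subgroup), with `PSL₂(p)` acting by left translation.
See `plans/S3452_plan.md`.
-/

set_option autoImplicit false
set_option linter.unusedSectionVars false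

namespace Cfsg.Agent.Helper15.S52

open Cfsg.Agent.Helper2

/-! ### cuspidal functions -/

section cusp

variable {G : Type*} [Group G] {ι : Type*} [Fintype ι]

/-- the functions `G → ZMod 2` whose sums over all the sets `g * s(ι) * h` vanish -/
def cuspSub (s : ι → G) : AddSubgroup (G → ZMod 2) where
  carrier := {m | ∀ g h : G, ∑ i, m (g * s i * h) = 0}
  zero_mem' := by
    intro g h
    simp
  add_mem' := by
    intro a b ha hb g h
    simp only [Pi.add_apply, Finset.sum_add_distrib]
    rw [ha g h, hb g h, add_zero]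
  neg_mem' := by
    intro a ha g h
    simp only [Pi.neg_apply, Finset.sum_neg_distrib]
    rw [ha g h, neg_zero]

theorem mem_cuspSub {s : ι → G} {m : G → ZMod 2} :
    m ∈ cuspSub s ↔ ∀ g h : G, ∑ i, m (g * s i * h) = 0 := Iff.rfl

/-- the module of cuspidal functions -/
abbrev W (s : ι → G) : Type _ := ↥(cuspSub s)

/-- left translation -/
def ltrans (s : ι → G) (g : G) (m : W s) : W s :=
  ⟨fun x => m.1 (g⁻¹ * x), by
    intro a h
    have := m.2 (g⁻¹ * a) h
    simpa only [mul_assoc] using this⟩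

/-- right translation -/
def rtrans {s : ι → G} (m : W s) (x : G) : W s :=
  ⟨fun z => m.1 (z * x), by
    intro a h
    have := m.2 a (h * x)
    simpa only [mul_assoc] using this⟩

theorem rtrans_apply {s : ι → G} (m : W s) (x z : G) : (rtrans m x).1 z = m.1 (z * x) := rfl

instance instActW (s : ι → G) : DistribMulAction G (W s) where
  smul := ltrans s
  one_smul := by
    intro m
    apply Subtype.ext
    funext x
    show m.1 (1⁻¹ * x) = m.1 x
    rw [inv_one, one_mul]
  mul_smul := by
    intro a b m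
    apply Subtype.ext
    funext x
    show m.1 ((a * b)⁻¹ * x) = m.1 (b⁻¹ * (a⁻¹ * x))
    rw [mul_inv_rev, mul_assoc]
  smul_zero := by
    intro a
    apply Subtype.ext
    funext x
    rfl
  smul_add := by
    intro a m n
    apply Subtype.ext
    funext x
    rfl

theorem smul_apply {s : ι → G} (g : G) (m : W s) (x : G) : (g • m).1 x = m.1 (g⁻¹ * x) := rfl

theorem add_self {s : ι → G} (m : W s) : m + m = 0 := by
  apply Subtype.ext
  funext x
  show m.1 x + m.1 x = 0
  exact CharTwo.add_self_eq_zero _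

theorem sum_apply {s : ι → G} (t : Finset ℕ) (f : ℕ → W s) (x : G) :
    (∑ k ∈ t, f k).1 x = ∑ k ∈ t, (f k).1 x := by
  induction t using Finset.cons_induction with
  | empty => rfl
  | cons a t ha ih =>
    rw [Finset.sum_cons, Finset.sum_cons, ← ih]
    rfl

/-- the affine extension `W ⋊ G` -/
abbrev Hgrp (s : ι → G) : Type _ := AffExt.Aff G (W s)

instance instFiniteW [Finite G] (s : ι → G) : Finite (W s) := inferInstance

end cusp

/-! ### the concrete groups -/

section psl

variable (F : Type*) [Field F]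

/-- `SL₂(F)` -/
abbrev SL2 : Type _ := Matrix.SpecialLinearGroup (Fin 2) F

/-- `PSL₂(F)` -/
abbrev P2 : Type _ := SL2 F ⧸ Subgroup.center (SL2 F)

/-- `PGL₂(F)`, as in the statement -/
abbrev PGL2 : Type _ :=
  Matrix.GeneralLinearGroup (Fin 2) F ⧸ Subgroup.center (Matrix.GeneralLinearGroup (Fin 2) F)

/-- the projection `SL₂(F) → PSL₂(F)` -/
def mk : SL2 F →* P2 F := QuotientGroup.mk' _

theorem mk_surjective : Function.Surjective (mk F) := QuotientGroup.mk'_surjective _

theorem mk_eq_one_iff (A : SL2 F) : mk F A = 1 ↔ A ∈ Subgroup.center (SL2 F) :=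
  QuotientGroup.eq_one_iff A

/-- the upper unitriangular matrices -/
def ub (b : F) : SL2 F := ⟨!![1, b; 0, 1], by simp [Matrix.det_fin_two]⟩

/-- their images in `PSL₂(F)` -/
def us [Fintype F] : F → P2 F := fun b => mk F (ub F b)

/-- the group `H₀ = W ⋊ PSL₂(F)` -/
abbrev H0 [Fintype F] : Type _ := Hgrp (us F)

/-- a trace `s` such that the elements of trace `± s` are semisimple, nonsplit and not involutions -/
def GoodS {F : Type*} [Field F] (s : F) : Prop :=
  s ≠ 0 ∧ ∀ a : F, a ≠ 0 → a + a⁻¹ ≠ s ∧ a + a⁻¹ ≠ -s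

open Classical in
/-- the indicator function of the matrices of trace `± s` -/
noncomputable def trfun0 (s : F) (A : SL2 F) : ZMod 2 := if A.1.trace ^ 2 = s ^ 2 then 1 else 0

theorem trfun0_eq_one {s : F} {A : SL2 F} (h : A.1.trace ^ 2 = s ^ 2) : trfun0 F s A = 1 := by
  unfold trfun0
  rw [if_pos h]

theorem trfun0_eq_zero {s : F} {A : SL2 F} (h : A.1.trace ^ 2 ≠ s ^ 2) : trfun0 F s A = 0 := by
  unfold trfun0
  rw [if_neg h]

/-- the indicator function of the elements of `PSL₂(F)` of trace `± s` -/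
noncomputable def trfun (s : F) : P2 F → ZMod 2 := fun g => trfun0 F s (Quotient.out g)

theorem trfun_mk (s : F) (A : SL2 F) : trfun F s (mk F A) = trfun0 F s A := by
  obtain ⟨h, hh⟩ := QuotientGroup.mk_out_eq_mul (Subgroup.center (SL2 F)) A
  obtain ⟨r, hr, hrh⟩ := Matrix.SpecialLinearGroup.mem_center_iff.1 h.2
  have hr2 : r ^ 2 = 1 := by simpa using hr
  have htr : (Quotient.out (mk F A)).1.trace ^ 2 = A.1.trace ^ 2 := by
    have h1 : (Quotient.out (mk F A)) = A * h.1 := hh
    rw [h1, Matrix.SpecialLinearGroup.coe_mul, ← hrh]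
    have h2 : (A.1 * (Matrix.scalar (Fin 2)) r).trace = r * A.1.trace := by
      simp [Matrix.trace_fin_two, Matrix.mul_apply, Fin.sum_univ_two, Matrix.scalar_apply]
      ring
    rw [h2, mul_pow, hr2, one_mul]
  unfold trfun trfun0
  rw [htr]

end psl

/-! ### `q = 9`: the Frobenius group `3⁴ : (5 : 8)` -/

/-- the vectors -/
abbrev W9 : Type := Fin 4 → ZMod 3

/-- the ambient linear group -/
abbrev G9 : Type := Matrix.GeneralLinearGroup (Fin 4) (ZMod 3)

/-- the matrix of order `5` -/
def A9 : Matrix (Fin 4) (Fin 4) (ZMod 3) := !![0, 0, 0, 2; 1, 0, 0, 2; 0, 1, 0, 2; 0, 0, 1, 2]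

/-- the matrix of order `8` -/
def B9 : Matrix (Fin 4) (Fin 4) (ZMod 3) := !![2, 0, 2, 1; 1, 1, 0, 0; 2, 0, 0, 2; 2, 2, 1, 0]

theorem smul9_def (g : G9) (v : W9) : g • v = Matrix.mulVec g.1 v := rfl

end Cfsg.Agent.Helper15.S52
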