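import Mathlib
import Cfsg.Prelude.Def_Classical

/-!
# S2362 (helper15): shared definitions

`ω(PΩ_{2n+1}(q)) ≠ ω(PSp_{2n}(q))` for `q` odd, `n ≥ 3`.  See `plans/S2362_plan.md`.
Everything on the orthogonal side is phrased with a symmetric bilinear form `B` (`B v v = 2 Q v`),
and endomorphisms `Module.End F V` (finite order ⇒ invertible).
-/

set_option autoImplicit false

namespace Cfsg.Agent.Helper15.S62

universe u

variable {F : Type u} [Field F] {V : Type u} [AddCommGroup V] [Module F V]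

/-- the fixed space of `t` -/
def Cpart (t : Module.End F V) : Submodule F V := LinearMap.ker (t - 1)

/-- the kernel of `1 + t + ... + t^(r-1)` -/
def Wpart (t : Module.End F V) (r : ℕ) : Submodule F V :=
  LinearMap.ker (∑ i ∈ Finset.range r, t ^ i)

theorem mem_Cpart {t : Module.End F V} {v : V} : v ∈ Cpart t ↔ t v = v := by
  unfold Cpart
  rw [LinearMap.mem_ker, LinearMap.sub_apply, Module.End.one_apply, sub_eq_zero]

theorem mem_Wpart {t : Module.End F V} {r : ℕ} {v : V} :
    v ∈ Wpart t r ↔ ∑ i ∈ Finset.range r, (t ^ i) v = 0 := by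
  unfold Wpart
  rw [LinearMap.mem_ker, LinearMap.sum_apply]

/-- endomorphisms commuting with `t` preserve the fixed space -/
theorem Cpart_invariant {t a : Module.End F V} (h : Commute a t) {v : V} (hv : v ∈ Cpart t) :
    a v ∈ Cpart t := by
  rw [mem_Cpart] at hv ⊢
  have : t (a v) = a (t v) := by
    have := congrArg (fun f : Module.End F V => f v) h.eq
    simpa [Module.End.mul_apply] using this.symm
  rw [this, hv]

/-- endomorphisms commuting with `t` preserve `Wpart` -/
theorem Wpart_invariant {t a : Module.End F V} (h : Commute a t) {r : ℕ} {v : V}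
    (hv : v ∈ Wpart t r) : a v ∈ Wpart t r := by
  rw [mem_Wpart] at hv ⊢
  have hc : ∀ i : ℕ, (t ^ i) (a v) = a ((t ^ i) v) := by
    intro i
    have := congrArg (fun f : Module.End F V => f v) (h.pow_right i).eq
    simpa [Module.End.mul_apply] using this.symm
  simp_rw [hc]
  rw [← map_sum, hv, map_zero]

section wrapper

open Matrix

/-- the index type of `quadFormOdd` -/
abbrev Idx (n : ℕ) : Type := Unit ⊕ (Fin n ⊕ Fin n)

/-- the Gram matrix of the polar form of `quadFormOdd n F` -/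
def gramOdd (n : ℕ) (F : Type*) [Field F] : Matrix (Idx n) (Idx n) F :=
  Matrix.fromBlocks (2 : Matrix Unit Unit F) 0 0 (Matrix.fromBlocks 0 1 1 0)

/-- the polar form of `quadFormOdd n F`: `bstd x y = Q (x + y) - Q x - Q y`, `bstd x x = 2 Q x` -/
noncomputable def bstd (n : ℕ) (F : Type*) [Field F] : LinearMap.BilinForm F (Idx n → F) :=
  Matrix.toBilin' (gramOdd n F)

/-- the permutation induced by an isometry on a level set of `Q` -/
def lvlPerm {ι : Type} [Fintype ι] [DecidableEq ι] {F : Type*} [Field F] (Q : (ι → F) → F) (c : F)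
    (g : Cfsg.isometryGroup F Q) : Equiv.Perm {v : ι → F // Q v = c} where
  toFun v := ⟨(g.1 : Matrix ι ι F) *ᵥ v.1, (g.2 v.1 v.1).trans v.2⟩
  invFun v := ⟨((g⁻¹).1 : Matrix ι ι F) *ᵥ v.1, ((g⁻¹).2 v.1 v.1).trans v.2⟩
  left_inv v := by
    apply Subtype.ext
    show ((g⁻¹).1 : Matrix ι ι F) *ᵥ ((g.1 : Matrix ι ι F) *ᵥ v.1) = v.1
    rw [Matrix.mulVec_mulVec]
    have : ((g⁻¹).1 : Matrix ι ι F) * (g.1 : Matrix ι ι F) = 1 := by
      simp
    rw [this, Matrix.one_mulVec]
  right_inv v := by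
    apply Subtype.ext
    show (g.1 : Matrix ι ι F) *ᵥ (((g⁻¹).1 : Matrix ι ι F) *ᵥ v.1) = v.1
    rw [Matrix.mulVec_mulVec]
    have : (g.1 : Matrix ι ι F) * ((g⁻¹).1 : Matrix ι ι F) = 1 := by
      simp
    rw [this, Matrix.one_mulVec]

theorem lvlPerm_apply {ι : Type} [Fintype ι] [DecidableEq ι] {F : Type*} [Field F]
    (Q : (ι → F) → F) (c : F) (g : Cfsg.isometryGroup F Q) (v : {v : ι → F // Q v = c}) :
    ((lvlPerm Q c g v : {v : ι → F // Q v = c}) : ι → F) = (g.1 : Matrix ι ι F) *ᵥ v.1 := rfl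

/-- `lvlPerm` as a group homomorphism -/
def lvlPermHom {ι : Type} [Fintype ι] [DecidableEq ι] {F : Type*} [Field F] (Q : (ι → F) → F)
    (c : F) : Cfsg.isometryGroup F Q →* Equiv.Perm {v : ι → F // Q v = c} where
  toFun := lvlPerm Q c
  map_one' := by
    ext v
    rw [lvlPerm_apply]
    simp
  map_mul' a b := by
    ext v
    rw [lvlPerm_apply, Equiv.Perm.mul_apply, lvlPerm_apply, lvlPerm_apply, Matrix.mulVec_mulVec]
    simp


/-- the endomorphism of `F^ι` attached to an isometry of `quadFormOdd` -/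
noncomputable def toEnd {n : ℕ} {F : Type*} [Field F]
    (g : Cfsg.isometryGroup F (Cfsg.quadFormOdd n F)) : Module.End F (Idx n → F) :=
  Matrix.toLin' ((g.1 : GL (Idx n) F) : Matrix (Idx n) (Idx n) F)

theorem toEnd_apply {n : ℕ} {F : Type*} [Field F]
    (g : Cfsg.isometryGroup F (Cfsg.quadFormOdd n F)) (v : Idx n → F) :
    toEnd g v = ((g.1 : GL (Idx n) F) : Matrix (Idx n) (Idx n) F) *ᵥ v := by
  unfold toEnd
  rw [Matrix.toLin'_apply]

end wrapper

end Cfsg.Agent.Helper15.S62
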