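import Mathlib
import Cfsg.Agent.Lib.Helper2.SzAut1
import Cfsg.Agent.Lib.Helper2.AffExt

/-!
# S3664: definitions

`L = Sz(8) ⋊ Aut(F_8)` acting on the 4 × 4 matrices `X` over `F_8` by
`(n, φ) • X = n * φ(X) * (n^(2))ᵀ` (the module `V ⊗ V^(2)` with the semilinear field automorphism),
and the affine extensions `W^N ⋊ L`.
-/

set_option autoImplicit false
set_option linter.unusedSectionVars false
set_option linter.unusedVariables false

namespace Cfsg.Agent.Helper15.S64

open Matrix Cfsg.Agent.Helper2 Cfsg.Agent.Helper2.Sz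

variable {F : Type*} [Field F] [Fintype F] (S : SzData F 1)
  (hF : Fintype.card F = 2 ^ (2 * 1 + 1))

/-- the squaring endomorphism, as the square of the Tits endomorphism -/
def sq : F →+* F := S.s.comp S.s

theorem sq_apply (t : F) : sq S t = t ^ 2 := S.hs t

/-- the matrix of an element of the Suzuki group -/
def mat (n : Cfsg.Sz F 1) : Matrix (Fin 4) (Fin 4) F :=
  ((n : SpecialLinearGroup (Fin 4) F) : Matrix (Fin 4) (Fin 4) F)

theorem mat_one : mat (1 : Cfsg.Sz F 1) = 1 := rfl

theorem mat_mul (a b : Cfsg.Sz F 1) : mat (a * b) = mat a * mat b := rfl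

/-- the group `Sz(8) ⋊ Aut(F)` -/
abbrev Lgrp : Type _ := SemidirectProduct (Cfsg.Sz F 1) (F ≃+* F) (S.fieldAut le_rfl hF)

theorem finite_aut : Finite (F ≃+* F) :=
  Finite.of_injective (fun e : F ≃+* F => (e : F → F)) DFunLike.coe_injective

instance instFiniteL : Finite (Lgrp S hF) :=
  haveI := finite_aut (F := F)
  Finite.of_equiv _ SemidirectProduct.equivProd.symm

theorem mat_fieldAut (φ : F ≃+* F) (n : Cfsg.Sz F 1) :
    mat (S.fieldAut le_rfl hF φ n) = (mat n).map φ := by
  ext i j
  rfl

/-- the action on matrices -/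
def act (x : Lgrp S hF) (X : Matrix (Fin 4) (Fin 4) F) : Matrix (Fin 4) (Fin 4) F :=
  mat x.left * X.map x.right * ((mat x.left).map (sq S))ᵀ

theorem map_sq_comm (φ : F ≃+* F) (M : Matrix (Fin 4) (Fin 4) F) :
    (M.map φ).map (sq S) = (M.map (sq S)).map φ := by
  ext i j
  simp only [Matrix.map_apply, sq_apply, map_pow]

theorem act_one (X : Matrix (Fin 4) (Fin 4) F) : act S hF 1 X = X := by
  unfold act
  rw [SemidirectProduct.one_left, SemidirectProduct.one_right, mat_one]
  have h1 : X.map (1 : F ≃+* F) = X := by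
    ext i j
    rfl
  have h2 : ((1 : Matrix (Fin 4) (Fin 4) F).map (sq S)) = 1 := by
    rw [Matrix.map_one _ (map_zero _) (map_one _)]
  rw [h1, h2, Matrix.transpose_one, Matrix.one_mul, Matrix.mul_one]

theorem act_mul (x y : Lgrp S hF) (X : Matrix (Fin 4) (Fin 4) F) :
    act S hF (x * y) X = act S hF x (act S hF y X) := by
  unfold act
  rw [SemidirectProduct.mul_left, SemidirectProduct.mul_right, mat_mul, mat_fieldAut]
  have h1 : X.map (x.right * y.right) = (X.map y.right).map x.right := by
    ext i j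
    rfl
  have h3 : (mat y.left * X.map y.right * ((mat y.left).map (sq S))ᵀ).map x.right =
      (mat y.left).map x.right * (X.map y.right).map x.right *
        (((mat y.left).map x.right).map (sq S))ᵀ := by
    have e1 := Matrix.map_mul (L := mat y.left * X.map y.right)
      (M := ((mat y.left).map (sq S))ᵀ) (f := (x.right : F →+* F))
    have e2 := Matrix.map_mul (L := mat y.left) (M := X.map y.right) (f := (x.right : F →+* F))
    have e3 : ((mat y.left).map (sq S))ᵀ.map (x.right : F →+* F) =
        (((mat y.left).map x.right).map (sq S))ᵀ := by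
      rw [map_sq_comm]
      rfl
    calc (mat y.left * X.map y.right * ((mat y.left).map (sq S))ᵀ).map x.right
        = (mat y.left * X.map y.right * ((mat y.left).map (sq S))ᵀ).map
            (x.right : F →+* F) := rfl
      _ = _ := by
        rw [e1, e2, e3]
        rfl
  rw [h1, h3]
  have h4 : ((mat x.left * (mat y.left).map x.right).map (sq S)) =
      (mat x.left).map (sq S) * ((mat y.left).map x.right).map (sq S) :=
    Matrix.map_mul
  rw [h4, Matrix.transpose_mul]
  simp only [Matrix.mul_assoc]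

theorem act_zero (x : Lgrp S hF) : act S hF x 0 = 0 := by
  unfold act
  have h : (0 : Matrix (Fin 4) (Fin 4) F).map x.right = 0 := by
    ext i j
    simp
  rw [h, Matrix.mul_zero, Matrix.zero_mul]

theorem act_add (x : Lgrp S hF) (X Y : Matrix (Fin 4) (Fin 4) F) :
    act S hF x (X + Y) = act S hF x X + act S hF x Y := by
  unfold act
  have h : (X + Y).map x.right = X.map x.right + Y.map x.right := by
    ext i j
    simp
  rw [h, Matrix.mul_add, Matrix.add_mul]

instance instAct : DistribMulAction (Lgrp S hF) (Matrix (Fin 4) (Fin 4) F) where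
  smul := act S hF
  one_smul := act_one S hF
  mul_smul := act_mul S hF
  smul_zero := act_zero S hF
  smul_add := act_add S hF

theorem smul_def (x : Lgrp S hF) (X : Matrix (Fin 4) (Fin 4) F) :
    x • X = mat x.left * X.map x.right * ((mat x.left).map (sq S))ᵀ := rfl

/-- the groups of unbounded order -/
abbrev Hgrp (N : ℕ) : Type _ :=
  AffExt.Aff (Lgrp S hF) (Fin N → Matrix (Fin 4) (Fin 4) F)

/-- the edges of the common prime graph -/
def Edge (p q : ℕ) : Prop :=
  (p = 2 ∧ q = 3) ∨ (p = 3 ∧ q = 2) ∨ (p = 2 ∧ q = 5) ∨ (p = 5 ∧ q = 2) ∨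
    (p = 3 ∧ q = 5) ∨ (p = 5 ∧ q = 3) ∨ (p = 2 ∧ q = 7) ∨ (p = 7 ∧ q = 2)

theorem edge_symm {p q : ℕ} (h : Edge p q) : Edge q p := by
  unfold Edge at *
  omega

end Cfsg.Agent.Helper15.S64
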