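import Mathlib
import Cfsg.Prelude.Def_LocalEven
import Cfsg.Agent.Lib.Helper15.PCore
import Cfsg.Agent.Lib.Helper15.SylowIn
import Cfsg.Agent.Lib.Helper22.PResidual
import Cfsg.Agent.Lib.Helper16.SylowNormal
import Cfsg.Agent.Lib.Helper19.SylowNormal
import Cfsg.Agent.Lib.Helper3.Subnormal
import Cfsg.Agent.Lib.Helper1.CoprimeSylow
import Cfsg.Agent.Lib.Helper1.CommutatorBasic
import Cfsg.Agent.Lib.Helper7.Cores

/-!
# `p`-minimal groups (helper15's shared library)
-/

set_option autoImplicit false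

namespace Cfsg.Agent.Helper15

open Cfsg

section RelClosure

variable {G : Type*} [Group G]

/-- the `N₁`-normal closure of `Q`, in ambient form -/
def relClosure (N₁ Q : Subgroup G) : Subgroup G :=
  Subgroup.closure {x | ∃ n ∈ N₁, ∃ q ∈ Q, x = n * q * n⁻¹}

theorem le_relClosure (N₁ Q : Subgroup G) : Q ≤ relClosure N₁ Q := by
  intro q hq
  apply Subgroup.subset_closure
  exact ⟨1, N₁.one_mem, q, hq, by group⟩

theorem relClosure_le {N₁ Q : Subgroup G} (hQN : Q ≤ N₁) : relClosure N₁ Q ≤ N₁ := by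
  unfold relClosure
  rw [Subgroup.closure_le]
  rintro x ⟨n, hn, q, hq, rfl⟩
  exact N₁.mul_mem (N₁.mul_mem hn (hQN hq)) (N₁.inv_mem hn)

theorem conj_mem_relClosure {N₁ Q : Subgroup G} {g : G}
    (hgN : ∀ n ∈ N₁, g * n * g⁻¹ ∈ N₁) (hgQ : ∀ q ∈ Q, g * q * g⁻¹ ∈ Q) {x : G}
    (hx : x ∈ relClosure N₁ Q) : g * x * g⁻¹ ∈ relClosure N₁ Q := by
  unfold relClosure at hx ⊢
  induction hx using Subgroup.closure_induction with
  | mem x hx =>
    obtain ⟨n, hn, q, hq, rfl⟩ := hx
    apply Subgroup.subset_closure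
    refine ⟨g * n * g⁻¹, hgN n hn, g * q * g⁻¹, hgQ q hq, by group⟩
  | one => simp
  | mul x y _ _ hx hy =>
    have : g * (x * y) * g⁻¹ = (g * x * g⁻¹) * (g * y * g⁻¹) := by group
    rw [this]
    exact Subgroup.mul_mem _ hx hy
  | inv x _ hx =>
    have : g * x⁻¹ * g⁻¹ = (g * x * g⁻¹)⁻¹ := by group
    rw [this]
    exact Subgroup.inv_mem _ hx

theorem conj_mem_relClosure_of_mem {N₁ Q : Subgroup G} {g : G} (hg : g ∈ N₁) {x : G}
    (hx : x ∈ relClosure N₁ Q) : g * x * g⁻¹ ∈ relClosure N₁ Q := by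
  unfold relClosure at hx ⊢
  induction hx using Subgroup.closure_induction with
  | mem x hx =>
    obtain ⟨n, hn, q, hq, rfl⟩ := hx
    apply Subgroup.subset_closure
    refine ⟨g * n, N₁.mul_mem hg hn, q, hq, by group⟩
  | one => simp
  | mul x y _ _ hx hy =>
    have : g * (x * y) * g⁻¹ = (g * x * g⁻¹) * (g * y * g⁻¹) := by group
    rw [this]
    exact Subgroup.mul_mem _ hx hy
  | inv x _ hx =>
    have : g * x⁻¹ * g⁻¹ = (g * x * g⁻¹)⁻¹ := by group
    rw [this]
    exact Subgroup.inv_mem _ hx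

/-- If `Q` is subnormal, normalized by `S`, and `G` is generated by `S` and the normal closure
of `Q`, then `Q` is normal. -/
theorem normalClosure_le_of_isSubnormal_of_sup_eq_top {Q S : Subgroup G} (hQ : Q.IsSubnormal)
    (hSQ : S ≤ Subgroup.normalizer (Q : Set G))
    (htop : Subgroup.normalClosure (Q : Set G) ⊔ S = ⊤) :
    Subgroup.normalClosure (Q : Set G) ≤ Q := by
  set N₁ := Subgroup.normalClosure (Q : Set G) with hN₁
  have hQN : Q ≤ N₁ := Subgroup.le_normalClosure
  have hN₁n : N₁.Normal := Subgroup.normalClosure_normal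
  set L₀ := relClosure N₁ Q with hL₀
  have h1 : N₁ ≤ Subgroup.normalizer (L₀ : Set G) :=
    Cfsg.Agent.Helper1.le_normalizer_of_forall_conj_mem
      (fun g hg x hx => conj_mem_relClosure_of_mem hg hx)
  have h2 : S ≤ Subgroup.normalizer (L₀ : Set G) := by
    apply Cfsg.Agent.Helper1.le_normalizer_of_forall_conj_mem
    intro g hg x hx
    apply conj_mem_relClosure (fun n hn => hN₁n.conj_mem n hn g) _ hx
    intro q hq
    exact ((Subgroup.mem_normalizer_iff.mp (hSQ hg)) q).mp hq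
  have hL₀n : L₀.Normal := by
    rw [← Subgroup.normalizer_eq_top_iff, eq_top_iff, ← htop]
    exact sup_le h1 h2
  have hN₁L₀ : N₁ ≤ L₀ := Subgroup.normalClosure_le_normal (le_relClosure N₁ Q)
  rcases (hQ.subgroupOf (K := N₁)).lt_normal with h | ⟨K', hK'n, hQK', hK'⟩
  · exact Subgroup.subgroupOf_eq_top.mp h
  · exfalso
    apply hK'.ne
    have h3 : L₀ ≤ K'.map N₁.subtype := by
      rw [hL₀]
      unfold relClosure
      rw [Subgroup.closure_le]
      rintro x ⟨n, hn, q, hq, rfl⟩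
      have hq' : (⟨q, hQN hq⟩ : N₁) ∈ K' := hQK' (Subgroup.mem_subgroupOf.mpr hq)
      have := hK'n.conj_mem _ hq' ⟨n, hn⟩
      exact ⟨_, this, rfl⟩
    rw [eq_top_iff]
    intro y _
    obtain ⟨y', hy', hyy'⟩ := h3 (hN₁L₀ y.2)
    have : y' = y := Subtype.ext hyy'
    rw [← this]
    exact hy'

end RelClosure

section PMinimal

variable {P : Type*} [Group P] [Finite P] {p : ℕ} [Fact p.Prime]

/-- In a `p`-minimal group every proper subgroup containing the Sylow subgroup `S` lies in the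
unique maximal subgroup over `S`. -/
theorem pMin_le_of_sylow_le (hP : Cfsg.IsPMinimal p P) (S : Sylow p P) {M : Subgroup P}
    (hM : IsCoatom M) (hSM : (S : Subgroup P) ≤ M) {H : Subgroup P} (hSH : (S : Subgroup P) ≤ H)
    (hH : H ≠ ⊤) : H ≤ M := by
  obtain ⟨M', hM', hHM'⟩ := (eq_top_or_exists_le_coatom H).resolve_left hH
  obtain ⟨-, M₀, -, huniq⟩ := hP S
  have h1 : M' = M₀ := huniq M' ⟨hM', hSH.trans hHM'⟩
  have h2 : M = M₀ := huniq M ⟨hM, hSM⟩
  rw [h2, ← h1]
  exact hHM'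

/-- A subgroup over `S` not contained in `M` is everything. -/
theorem pMin_eq_top_of_not_le (hP : Cfsg.IsPMinimal p P) (S : Sylow p P) {M : Subgroup P}
    (hM : IsCoatom M) (hSM : (S : Subgroup P) ≤ M) {H : Subgroup P} (hSH : (S : Subgroup P) ≤ H)
    (hH : ¬ H ≤ M) : H = ⊤ := by
  by_contra hne
  exact hH (pMin_le_of_sylow_le hP S hM hSM hSH hne)

/-- `O^p(P)` is not contained in `M`. -/
theorem pMin_pResidual_not_le (hP : Cfsg.IsPMinimal p P) (S : Sylow p P) {M : Subgroup P}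
    (hM : IsCoatom M) (hSM : (S : Subgroup P) ≤ M) : ¬ Cfsg.pResidual p P ≤ M := by
  intro h
  have := Cfsg.Agent.Helper22.sylow_sup_pResidual_eq_top S
  have h2 : (⊤ : Subgroup P) ≤ M := by
    rw [← this]; exact sup_le hSM h
  exact hM.1 (top_le_iff.mp h2)

/-- A normal subgroup of a `p`-minimal group contains `O^p(P)` or lies in `M`. -/
theorem pMin_pResidual_le_or_le (hP : Cfsg.IsPMinimal p P) (S : Sylow p P) {M : Subgroup P}
    (hM : IsCoatom M) (hSM : (S : Subgroup P) ≤ M) (N : Subgroup P) [hN : N.Normal] :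
    Cfsg.pResidual p P ≤ N ∨ N ≤ M := by
  by_cases hNM : N ≤ M
  · exact Or.inr hNM
  left
  have htop : (S : Subgroup P) ⊔ N = ⊤ :=
    pMin_eq_top_of_not_le hP S hM hSM le_sup_left (fun h => hNM (le_sup_right.trans h))
  have hpg : IsPGroup p (P ⧸ N) :=
    Cfsg.Agent.Helper16.isPGroup_quotient_of_sup_eq_top (S : Subgroup P) N S.2 htop
  have := Cfsg.Agent.Helper22.pResidual_le_ker_of_isPGroup (QuotientGroup.mk' N) hpg
  rwa [QuotientGroup.ker_mk'] at this

/-- An `S`-invariant subnormal subgroup inside `M` has its normal closure inside `M`. -/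
theorem pMin_normalClosure_le (hP : Cfsg.IsPMinimal p P) (S : Sylow p P) {M : Subgroup P}
    (hM : IsCoatom M) (hSM : (S : Subgroup P) ≤ M) {Q : Subgroup P} (hQ : Q.IsSubnormal)
    (hQM : Q ≤ M) (hSQ : (S : Subgroup P) ≤ Subgroup.normalizer (Q : Set P)) :
    Subgroup.normalClosure (Q : Set P) ≤ M := by
  by_contra h
  have htop : Subgroup.normalClosure (Q : Set P) ⊔ (S : Subgroup P) = ⊤ :=
    pMin_eq_top_of_not_le hP S hM hSM le_sup_right (fun h' => h (le_sup_left.trans h'))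
  exact h ((normalClosure_le_of_isSubnormal_of_sup_eq_top hQ hSQ htop).trans hQM)

/-- A normal subgroup inside `M` meets `S` inside `O_p(P)`. -/
theorem pMin_normal_inf_sylow_le_pCore (hP : Cfsg.IsPMinimal p P) (S : Sylow p P) {M : Subgroup P}
    (hM : IsCoatom M) (hSM : (S : Subgroup P) ≤ M) (N : Subgroup P) [hN : N.Normal] (hNM : N ≤ M) :
    N ⊓ (S : Subgroup P) ≤ Cfsg.pCore p P := by
  have hfr := Cfsg.Agent.Helper16.normalizer_inf_sup_eq_top S N
  have hS : (S : Subgroup P) ≤ Subgroup.normalizer (((S : Subgroup P) ⊓ N : Subgroup P) : Set P) :=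
    Subgroup.le_normalizer.trans (Cfsg.Agent.Helper19.le_normalizer_inf_normal (S : Subgroup P) N)
  have htop : Subgroup.normalizer (((S : Subgroup P) ⊓ N : Subgroup P) : Set P) = ⊤ := by
    by_contra hne
    have h1 := pMin_le_of_sylow_le hP S hM hSM hS hne
    have h2 : (⊤ : Subgroup P) ≤ M := by
      rw [← hfr]; exact sup_le h1 hNM
    exact hM.1 (top_le_iff.mp h2)
  have hn : ((S : Subgroup P) ⊓ N).Normal := Subgroup.normalizer_eq_top_iff.mp htop
  rw [inf_comm]
  exact le_pCore hn (S.2.to_le inf_le_left)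

/-- A subnormal subgroup inside `M` meets `S` inside `O_p(P)`. -/
theorem pMin_subnormal_inf_sylow_le_pCore (hP : Cfsg.IsPMinimal p P) (S : Sylow p P)
    {M : Subgroup P} (hM : IsCoatom M) (hSM : (S : Subgroup P) ≤ M) {N : Subgroup P}
    (hN : N.IsSubnormal) (hNM : N ≤ M) : N ⊓ (S : Subgroup P) ≤ Cfsg.pCore p P := by
  set Q : Subgroup P := ⨆ s : ↥(S : Subgroup P), N.map (MulAut.conj (s : P)).toMonoidHom with hQ
  have hNQ : N ≤ Q := by
    have := le_iSup (fun s : ↥(S : Subgroup P) => N.map (MulAut.conj (s : P)).toMonoidHom) 1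
    simp only [OneMemClass.coe_one] at this
    rwa [map_conj_one] at this
  have hQsn : Q.IsSubnormal := by
    rw [hQ]
    apply Cfsg.Agent.Helper3.isSubnormal_sSup
    rintro U ⟨s, rfl⟩
    exact hN.map (MulAut.conj (s : P)).surjective
  have hQM : Q ≤ M := by
    rw [hQ]
    apply iSup_le
    rintro s x ⟨n, hn, rfl⟩
    exact M.mul_mem (M.mul_mem (hSM s.2) (hNM hn)) (M.inv_mem (hSM s.2))
  have hSQ : (S : Subgroup P) ≤ Subgroup.normalizer (Q : Set P) := by
    apply Cfsg.Agent.Helper1.le_normalizer_of_forall_conj_mem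
    intro g hg x hx
    have h1 : g * x * g⁻¹ ∈ Q.map (MulAut.conj g).toMonoidHom := ⟨x, hx, rfl⟩
    have h2 : Q.map (MulAut.conj g).toMonoidHom ≤ Q := by
      rw [hQ, Subgroup.map_iSup]
      apply iSup_le
      intro s
      rw [map_conj_map_conj]
      exact le_iSup (fun s : ↥(S : Subgroup P) => N.map (MulAut.conj (s : P)).toMonoidHom)
        (⟨g, hg⟩ * s)
    exact h2 h1
  have hcl := pMin_normalClosure_le hP S hM hSM hQsn hQM hSQ
  have := pMin_normal_inf_sylow_le_pCore hP S hM hSM (Subgroup.normalClosure (Q : Set P)) hcl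
  exact (inf_le_inf_right _ (hNQ.trans Subgroup.le_normalClosure)).trans this

/-- If `O^p(P)` has a normal Sylow `p`-subgroup, then `|O^p(P)| = p^c r^a` for a prime `r`. -/
theorem pMin_card_pResidual (hP : Cfsg.IsPMinimal p P) (S : Sylow p P) {M : Subgroup P}
    (hM : IsCoatom M) (hSM : (S : Subgroup P) ≤ M)
    (hT : ∀ T : Sylow p ↥(Cfsg.pResidual p P), (T : Subgroup ↥(Cfsg.pResidual p P)).Normal) :
    ∃ r a c : ℕ, r.Prime ∧ Nat.card ↥(Cfsg.pResidual p P) = p ^ c * r ^ a := by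
  have hp : p.Prime := Fact.out
  set Q := Cfsg.pResidual p P with hQ
  haveI hQn : Q.Normal := Cfsg.Agent.Helper22.pResidual_normal
  set T : Subgroup P := (S : Subgroup P) ⊓ Q with hTdef
  have hTn : T.Normal := by
    haveI : Subsingleton (Sylow p Q) := by
      have := Sylow.unique_of_normal (Cfsg.Agent.Helper16.sylowInfNormal S Q) (hT _)
      exact Unique.instSubsingleton
    have key : ∀ S' : Sylow p P, (S' : Subgroup P) ⊓ Q = T := by
      intro S'
      have h1 : Cfsg.Agent.Helper16.sylowInfNormal S' Q = Cfsg.Agent.Helper16.sylowInfNormal S Q :=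
        Subsingleton.elim _ _
      have h2 := congrArg (fun R : Sylow p Q => (R : Subgroup Q).map Q.subtype) h1
      simp only [Cfsg.Agent.Helper16.coe_sylowInfNormal, Subgroup.subgroupOf_map_subtype] at h2
      exact h2
    constructor
    intro x hx g
    have hx' := Subgroup.mem_inf.mp hx
    have : g * x * g⁻¹ ∈ ((g • S : Sylow p P) : Subgroup P) ⊓ Q := by
      refine Subgroup.mem_inf.mpr ⟨?_, hQn.conj_mem x hx'.2 g⟩
      show g * x * g⁻¹ ∈ (S : Subgroup P).map (MulAut.conj g).toMonoidHom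
      exact ⟨x, hx'.1, rfl⟩
    rw [key] at this
    exact this
  set π := QuotientGroup.mk' T with hπdef
  have hπ : Function.Surjective π := QuotientGroup.mk'_surjective T
  set Qb := Q.map π with hQb
  set Sb := (S : Subgroup P).map π with hSb
  set Mb := M.map π with hMb
  have hTM : T ≤ M := inf_le_left.trans hSM
  have hcomapM : Mb.comap π = M := by
    rw [hMb, Subgroup.comap_map_eq, hπdef, QuotientGroup.ker_mk']
    exact sup_of_le_left hTM
  have hQbMb : ¬ Qb ≤ Mb := by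
    intro h
    apply pMin_pResidual_not_le hP S hM hSM
    intro x hx
    have : π x ∈ Mb := h ⟨x, hx, rfl⟩
    rw [← hcomapM]
    exact this
  have hcardQb : ¬ p ∣ Nat.card Qb := by
    rw [hQb, ← Subgroup.relIndex_ker, hπdef, QuotientGroup.ker_mk']
    have : T.subgroupOf Q = ((Cfsg.Agent.Helper16.sylowInfNormal S Q : Sylow p Q) : Subgroup Q) := by
      rw [Cfsg.Agent.Helper16.coe_sylowInfNormal, hTdef, Subgroup.inf_subgroupOf_right]
    unfold Subgroup.relIndex
    rw [this]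
    exact Sylow.not_dvd_index _
  have hQbn : Qb.Normal := hQn.map π hπ
  have hSbp : IsPGroup p Sb := S.2.map π
  have hcop : (Nat.card Sb).Coprime (Nat.card Qb) := by
    obtain ⟨k, hk⟩ := hSbp.exists_card_eq
    rw [hk]
    exact Nat.Coprime.pow_left _ ((Nat.Prime.coprime_iff_not_dvd hp).mpr hcardQb)
  have hSbQb : Sb ≤ Subgroup.normalizer (Qb : Set (P ⧸ T)) := by
    rw [Subgroup.normalizer_eq_top_iff.mpr hQbn]
    exact le_top
  set X := Mb.subgroupOf Qb with hX
  have hXtop : X ≠ ⊤ := fun h => hQbMb (Subgroup.subgroupOf_eq_top.mp h)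
  have hXi : X.index ≠ 1 := fun h => hXtop (Subgroup.index_eq_one.mp h)
  obtain ⟨r, hr, hrX⟩ := Nat.exists_prime_and_dvd hXi
  haveI : Fact r.Prime := ⟨hr⟩
  have hsolv : Group.IsSolvable ↥Sb := by
    haveI := hSbp.isNilpotent
    infer_instance
  obtain ⟨R, hR⟩ := Cfsg.Agent.Helper1.exists_invariant_sylow (p := r) (K := Qb) Sb hSbQb hcop
    (Or.inl hsolv)
  set R' := (R : Subgroup Qb).map Qb.subtype with hR'
  have hRM : ¬ R' ≤ Mb := by
    intro h
    have hRX : (R : Subgroup Qb) ≤ X := by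
      intro y hy
      exact Subgroup.mem_subgroupOf.mpr (h ⟨y, hy, rfl⟩)
    exact R.not_dvd_index (hrX.trans (Subgroup.index_dvd_of_le hRX))
  set H := (R' ⊔ Sb).comap π with hH
  have hSH : (S : Subgroup P) ≤ H := by
    intro x hx
    rw [hH, Subgroup.mem_comap]
    exact (le_sup_right : Sb ≤ R' ⊔ Sb) ⟨x, hx, rfl⟩
  have hHM : ¬ H ≤ M := by
    intro h
    apply hRM
    intro y hy
    obtain ⟨x, rfl⟩ := hπ y
    have hx : x ∈ H := by
      rw [hH, Subgroup.mem_comap]
      exact (le_sup_left : R' ≤ R' ⊔ Sb) hy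
    exact ⟨x, h hx, rfl⟩
  have hHtop : H = ⊤ := pMin_eq_top_of_not_le hP S hM hSM hSH hHM
  have hsup : Sb ⊔ R' = ⊤ := by
    rw [eq_top_iff]
    intro y _
    obtain ⟨x, rfl⟩ := hπ y
    have hx : x ∈ H := by rw [hHtop]; trivial
    rw [hH, Subgroup.mem_comap, sup_comm] at hx
    exact hx
  have hR'n : R'.Normal := by
    rw [← Subgroup.normalizer_eq_top_iff, eq_top_iff, ← hsup]
    exact sup_le hR Subgroup.le_normalizer
  have hquot : IsPGroup p ((P ⧸ T) ⧸ R') :=
    Cfsg.Agent.Helper16.isPGroup_quotient_of_sup_eq_top Sb R' hSbp hsup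
  have hR'r : IsPGroup r R' := R.2.map _
  obtain ⟨a, ha⟩ := hR'r.exists_card_eq
  have hTp : IsPGroup p T := S.2.to_le inf_le_left
  obtain ⟨c, hc⟩ := hTp.exists_card_eq
  -- `Qb ≤ R'`
  have hQbR' : Qb ≤ R' := by
    have h1 := Cfsg.Agent.Helper22.pResidual_le_ker_of_isPGroup
      ((QuotientGroup.mk' R').comp π) hquot
    rintro y ⟨x, hx, rfl⟩
    have h2 := h1 hx
    rw [MonoidHom.mem_ker, MonoidHom.comp_apply] at h2
    exact (QuotientGroup.eq_one_iff _).mp h2
  have hQbcard : Nat.card Qb ∣ r ^ a := by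
    rw [← ha]
    exact Subgroup.card_dvd_of_le hQbR'
  obtain ⟨a', -, ha'⟩ := (Nat.dvd_prime_pow hr).mp hQbcard
  have hTQ : T ≤ Q := inf_le_right
  have hQcard : Nat.card ↥Q = p ^ c * r ^ a' := by
    have h1 : T.relIndex Q = Nat.card Qb := by
      rw [hQb, ← Subgroup.relIndex_ker, hπdef, QuotientGroup.ker_mk']
    have h2 := Subgroup.card_mul_index (T.subgroupOf Q)
    rw [Cfsg.Agent.Helper7.card_subgroupOf_of_le hTQ] at h2
    rw [← h2, hc, ← ha', ← h1]
    rfl
  exact ⟨r, a', c, hr, hQcard⟩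

/-- If `O^p(P)` has a normal Sylow `p`-subgroup, then `|P|` has at most two prime divisors. -/
theorem pMin_card_primeFactors_le_two (hP : Cfsg.IsPMinimal p P) (S : Sylow p P) {M : Subgroup P}
    (hM : IsCoatom M) (hSM : (S : Subgroup P) ≤ M)
    (hT : ∀ T : Sylow p ↥(Cfsg.pResidual p P), (T : Subgroup ↥(Cfsg.pResidual p P)).Normal) :
    (Nat.card P).primeFactors.card ≤ 2 := by
  have hp : p.Prime := Fact.out
  obtain ⟨r, a, c, hr, hQcard⟩ := pMin_card_pResidual hP S hM hSM hT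
  obtain ⟨n, hn⟩ := Cfsg.Agent.Helper22.index_pResidual (G := P) (p := p)
  have hcard : Nat.card P = p ^ c * r ^ a * p ^ n := by
    rw [← Subgroup.card_mul_index (Cfsg.pResidual p P), hQcard, hn]
  have hsub : (Nat.card P).primeFactors ⊆ {p, r} := by
    intro q hq
    have hqp : q.Prime := Nat.prime_of_mem_primeFactors hq
    have hqd : q ∣ Nat.card P := Nat.dvd_of_mem_primeFactors hq
    rw [hcard] at hqd
    simp only [Finset.mem_insert, Finset.mem_singleton]
    rcases (Nat.Prime.dvd_mul hqp).mp hqd with h | h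
    · rcases (Nat.Prime.dvd_mul hqp).mp h with h | h
      · exact Or.inl ((Nat.prime_dvd_prime_iff_eq hqp hp).mp (hqp.dvd_of_dvd_pow h))
      · exact Or.inr ((Nat.prime_dvd_prime_iff_eq hqp hr).mp (hqp.dvd_of_dvd_pow h))
    · exact Or.inl ((Nat.prime_dvd_prime_iff_eq hqp hp).mp (hqp.dvd_of_dvd_pow h))
  exact (Finset.card_le_card hsub).trans Finset.card_le_two

end PMinimal

end Cfsg.Agent.Helper15
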