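import Mathlib

/-!
# Decomposition of an abelian group under a noncyclic group of automorphisms of order `p²`
(helper15's shared library)
-/

set_option autoImplicit false

namespace Cfsg.Agent.Helper15.ExtraMod

section Abstract

variable {A : Type*} [CommGroup A]

/-- the subgroup of fixed points of an automorphism -/
def fixedSub (ρ : MulAut A) : Subgroup A where
  carrier := {a | ρ a = a}
  one_mem' := map_one ρ
  mul_mem' := by
    intro a b ha hb
    show ρ (a * b) = a * b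
    rw [map_mul, ha, hb]
  inv_mem' := by
    intro a ha
    show ρ a⁻¹ = a⁻¹
    rw [map_inv, ha]

theorem mem_fixedSub {ρ : MulAut A} {a : A} : a ∈ fixedSub ρ ↔ ρ a = a := Iff.rfl

/-- the norm map `a ↦ ∏_{m<p} σ^m a` -/
def nrm (p : ℕ) (σ : MulAut A) (a : A) : A := ∏ m ∈ Finset.range p, (σ ^ m) a

theorem nrm_mul (p : ℕ) (σ : MulAut A) (a b : A) : nrm p σ (a * b) = nrm p σ a * nrm p σ b := by
  unfold nrm
  rw [← Finset.prod_mul_distrib]
  exact Finset.prod_congr rfl (fun m _ => map_mul _ a b)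

theorem nrm_one (p : ℕ) (σ : MulAut A) : nrm p σ (1 : A) = 1 := by
  unfold nrm
  exact Finset.prod_eq_one (fun m _ => map_one _)

theorem nrm_inv (p : ℕ) (σ : MulAut A) (a : A) : nrm p σ a⁻¹ = (nrm p σ a)⁻¹ := by
  rw [eq_inv_iff_mul_eq_one, ← nrm_mul, inv_mul_cancel, nrm_one]

theorem nrm_prod {ι : Type*} (p : ℕ) (σ : MulAut A) (s : Finset ι) (f : ι → A) :
    nrm p σ (∏ i ∈ s, f i) = ∏ i ∈ s, nrm p σ (f i) := by
  classical
  induction s using Finset.induction_on with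
  | empty => simp [nrm_one]
  | insert i s hi ih => rw [Finset.prod_insert hi, Finset.prod_insert hi, nrm_mul, ih]

theorem nrm_fixed {p : ℕ} {σ : MulAut A} (hσ : σ ^ p = 1) (a : A) :
    σ (nrm p σ a) = nrm p σ a := by
  unfold nrm
  rw [map_prod]
  have h1 : ∀ m, σ ((σ ^ m) a) = (σ ^ (m + 1)) a := by
    intro m
    rw [pow_succ']
    rfl
  simp only [h1]
  have h2 := Finset.prod_range_succ' (fun m => (σ ^ m) a) p
  have h3 := Finset.prod_range_succ (fun m => (σ ^ m) a) p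
  rw [h3] at h2
  simp only [hσ, pow_zero, MulAut.one_apply] at h2
  exact (mul_right_cancel h2).symm

theorem nrm_eq_one {p : ℕ} {σ : MulAut A} (hσ : σ ^ p = 1) (hfix : ∀ a : A, σ a = a → a = 1)
    (a : A) : nrm p σ a = 1 :=
  hfix _ (nrm_fixed hσ a)

theorem nrm_of_fixed {p : ℕ} {σ : MulAut A} {a : A} (h : σ a = a) : nrm p σ a = a ^ p := by
  unfold nrm
  have : ∀ m : ℕ, (σ ^ m) a = a := by
    intro m
    induction m with
    | zero => simp
    | succ m ih =>
      rw [pow_succ]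
      show (σ ^ m) (σ a) = a
      rw [h, ih]
  simp only [this, Finset.prod_const, Finset.card_range]

section Main

variable [Finite A] {p : ℕ} [Fact p.Prime]

theorem eq_one_of_pow_eq_one_of_coprime (hcop : (Nat.card A).Coprime p) {a : A} (h : a ^ p = 1) :
    a = 1 := by
  have h1 : orderOf a ∣ p := orderOf_dvd_of_pow_eq_one h
  have h2 : orderOf a ∣ Nat.card A := orderOf_dvd_natCard a
  have h3 : orderOf a ∣ Nat.gcd (Nat.card A) p := Nat.dvd_gcd h2 h1
  rw [hcop, Nat.dvd_one] at h3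
  exact orderOf_eq_one_iff.mp h3

/-- a power `τ ^ e`, `p ∤ e`, of a fixed-point-free `τ` of order `p` is fixed-point-free -/
theorem fix_of_pow_fix {τ : MulAut A} (hτ : τ ^ p = 1) {e : ℕ} (he : ¬ p ∣ e) {a : A}
    (h : (τ ^ e) a = a) : τ a = a := by
  have hp : p.Prime := Fact.out
  have hcop : Nat.Coprime e p := ((Nat.Prime.coprime_iff_not_dvd hp).mpr he).symm
  obtain ⟨m, -, hm⟩ := Nat.exists_mul_mod_eq_one_of_coprime hcop hp.one_lt
  have h1 : ∀ j : ℕ, ((τ ^ e) ^ j) a = a := by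
    intro j
    induction j with
    | zero => simp
    | succ j ih =>
      rw [pow_succ]
      show ((τ ^ e) ^ j) ((τ ^ e) a) = a
      rw [h, ih]
  have h2 : (τ ^ e) ^ m = τ := by
    rw [← pow_mul, pow_eq_pow_mod (e * m) hτ, hm, pow_one]
  have := h1 m
  rwa [h2] at this

variable {σ τ : MulAut A}

theorem rho_pow (hc : Commute σ τ) (i m : ℕ) : (σ * τ ^ i) ^ m = σ ^ m * τ ^ (i * m) := by
  rw [(hc.pow_right i).mul_pow, ← pow_mul]

theorem rho_pow_eq_one (hc : Commute σ τ) (hσ : σ ^ p = 1) (hτ : τ ^ p = 1) (i : ℕ) :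
    (σ * τ ^ i) ^ p = 1 := by
  rw [rho_pow hc, hσ, one_mul, mul_comm i p, pow_mul, hτ, one_pow]

/-- on the fixed points of `σ τ^k`, the norm of `σ τ^i` is the norm of a power of `τ` -/
theorem nrm_rho_of_fixed (hc : Commute σ τ) (hτ : τ ^ p = 1) {i k : ℕ} {b : A}
    (hb : (σ * τ ^ k) b = b) : nrm p (σ * τ ^ i) b = nrm p (τ ^ (i + (p - 1) * k)) b := by
  have hp : p.Prime := Fact.out
  unfold nrm
  apply Finset.prod_congr rfl
  intro m hmr
  clear hmr
  have h1 : ((σ * τ ^ k) ^ m) b = b := by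
    induction m with
    | zero => simp
    | succ j ih =>
      rw [pow_succ]
      show ((σ * τ ^ k) ^ j) ((σ * τ ^ k) b) = b
      rw [hb, ih]
  rw [rho_pow hc] at h1
  rw [rho_pow hc, ← pow_mul]
  -- `σ^m τ^(i m) b = τ^((i + (p-1) k) m) b`
  have h2 : τ ^ ((i + (p - 1) * k) * m) = τ ^ (i * m) * τ ^ ((p - 1) * (k * m)) := by
    rw [← pow_add]
    congr 1
    ring
  have h3 : (τ ^ ((p - 1) * (k * m))) b = (σ ^ m) b := by
    conv_lhs => rw [← h1]
    show (τ ^ ((p - 1) * (k * m)) * (σ ^ m * τ ^ (k * m))) b = (σ ^ m) b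
    have hcm : Commute (τ ^ ((p - 1) * (k * m))) (σ ^ m) := (hc.pow_pow m _).symm
    rw [← mul_assoc, hcm.eq, mul_assoc, ← pow_add]
    have : (p - 1) * (k * m) + k * m = p * (k * m) := by
      have := hp.one_lt
      obtain ⟨q, hq⟩ : ∃ q, p = q + 1 := ⟨p - 1, by omega⟩
      rw [hq]
      simp only [Nat.add_sub_cancel]
      ring
    rw [this, pow_mul, hτ, one_pow, mul_one]
  rw [h2]
  show (σ ^ m) ((τ ^ (i * m)) b) = (τ ^ (i * m)) ((τ ^ ((p - 1) * (k * m))) b)
  rw [h3]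
  have hcm : Commute (σ ^ m) (τ ^ (i * m)) := hc.pow_pow m _
  show (σ ^ m * τ ^ (i * m)) b = (τ ^ (i * m) * σ ^ m) b
  rw [hcm.eq]

theorem not_dvd_of_ne {i k : ℕ} (hi : i < p) (hk : k < p) (hik : i ≠ k) :
    ¬ p ∣ i + (p - 1) * k := by
  have hp : p.Prime := Fact.out
  intro h
  apply hik
  have h1 : i + (p - 1) * k + k = i + p * k := by
    obtain ⟨q, hq⟩ : ∃ q, p = q + 1 := ⟨p - 1, by have := hp.one_lt; omega⟩
    rw [hq]
    simp only [Nat.add_sub_cancel]
    ring
  have h2 : (i + (p - 1) * k + k) ≡ (0 + k) [MOD p] :=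
    Nat.ModEq.add_right k ((Nat.modEq_zero_iff_dvd).mpr h)
  rw [h1, zero_add] at h2
  have h3 : i + p * k ≡ i [MOD p] := by
    have : p * k ≡ 0 [MOD p] := (Nat.modEq_zero_iff_dvd).mpr (dvd_mul_right p k)
    simpa using Nat.ModEq.add_left i this
  exact Nat.ModEq.eq_of_lt_of_lt (h3.symm.trans h2) hi hk

/-- independence of the fixed point subgroups of the `σ τ^i` -/
theorem eq_one_of_prod_eq_one (hc : Commute σ τ) (hτ : τ ^ p = 1)
    (hfix : ∀ a : A, τ a = a → a = 1) (hcop : (Nat.card A).Coprime p)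
    (b : Fin p → A) (hb : ∀ k : Fin p, (σ * τ ^ (k : ℕ)) (b k) = b k)
    (hprod : ∏ k, b k = 1) (i : Fin p) : b i = 1 := by
  have h1 : nrm p (σ * τ ^ (i : ℕ)) (∏ k, b k) = 1 := by rw [hprod, nrm_one]
  rw [nrm_prod] at h1
  rw [Finset.prod_eq_single i] at h1
  · rw [nrm_of_fixed (hb i)] at h1
    exact eq_one_of_pow_eq_one_of_coprime hcop h1
  · intro k _ hki
    rw [nrm_rho_of_fixed hc hτ (hb k)]
    have hnd : ¬ p ∣ (i : ℕ) + (p - 1) * (k : ℕ) :=
      not_dvd_of_ne i.2 k.2 (fun h => hki (Fin.ext h.symm))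
    apply nrm_eq_one
    · rw [← pow_mul, mul_comm, pow_mul, hτ, one_pow]
    · intro a ha
      exact hfix a (fix_of_pow_fix hτ hnd ha)
  · intro h
    exact absurd (Finset.mem_univ i) h

/-- `|A| ≥ ∏ |C_A(σ τ^i)|` -/
theorem prod_card_fixedSub_le (hc : Commute σ τ) (hτ : τ ^ p = 1)
    (hfix : ∀ a : A, τ a = a → a = 1) (hcop : (Nat.card A).Coprime p) :
    ∏ i : Fin p, Nat.card (fixedSub (σ * τ ^ (i : ℕ))) ≤ Nat.card A := by
  rw [← Nat.card_pi]
  apply Nat.card_le_card_of_injective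
    (fun f : (∀ i : Fin p, fixedSub (σ * τ ^ (i : ℕ))) => ∏ i, (f i : A))
  intro f g hfg
  have hfg' : ∏ i, (f i : A) = ∏ i, (g i : A) := hfg
  funext i
  have h1 : ∏ k : Fin p, ((f k : A) * (g k : A)⁻¹) = 1 := by
    rw [Finset.prod_mul_distrib, Finset.prod_inv_distrib, hfg', mul_inv_cancel]
  have h2 := eq_one_of_prod_eq_one hc hτ hfix hcop (fun k => (f k : A) * (g k : A)⁻¹)
    (fun k => by
      show (σ * τ ^ (k : ℕ)) ((f k : A) * (g k : A)⁻¹) = (f k : A) * (g k : A)⁻¹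
      rw [map_mul, map_inv, mem_fixedSub.mp (f k).2, mem_fixedSub.mp (g k).2]) h1 i
  exact Subtype.ext (mul_inv_eq_one.mp h2)

/-- `a ^ p` is the product of the norms of `a` under the `σ τ^i` -/
theorem prod_nrm_rho (hc : Commute σ τ) (hτ : τ ^ p = 1)
    (hfix : ∀ a : A, τ a = a → a = 1) (a : A) :
    ∏ i ∈ Finset.range p, nrm p (σ * τ ^ i) a = a ^ p := by
  have hp : p.Prime := Fact.out
  unfold nrm
  simp only [rho_pow hc]
  rw [Finset.prod_comm]
  have h1 : ∀ m ∈ Finset.range p, ∏ i ∈ Finset.range p, (σ ^ m * τ ^ (i * m)) a =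
      (σ ^ m) (nrm p (τ ^ m) a) := by
    intro m _
    unfold nrm
    rw [map_prod]
    apply Finset.prod_congr rfl
    intro i _
    rw [← pow_mul, mul_comm m i]
    rfl
  rw [Finset.prod_congr rfl h1]
  rw [Finset.prod_eq_single 0]
  · simp only [pow_zero, MulAut.one_apply]
    exact nrm_of_fixed (σ := (1 : MulAut A)) rfl
  · intro m hm hm0
    have hnd : ¬ p ∣ m := by
      intro hd
      have := Nat.le_of_dvd (Nat.pos_of_ne_zero hm0) hd
      have := Finset.mem_range.mp hm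
      omega
    rw [nrm_eq_one (σ := τ ^ m) (by rw [← pow_mul, mul_comm, pow_mul, hτ, one_pow])
      (fun a ha => hfix a (fix_of_pow_fix hτ hnd ha)), map_one]
  · intro h
    exact absurd (Finset.mem_range.mpr hp.pos) h

/-- if all the `σ τ^i` are fixed-point-free, `A` is trivial -/
theorem eq_one_of_forall_fixedSub_eq_bot (hc : Commute σ τ) (hσ : σ ^ p = 1) (hτ : τ ^ p = 1)
    (hfix : ∀ a : A, τ a = a → a = 1) (hcop : (Nat.card A).Coprime p)
    (hall : ∀ i < p, fixedSub (σ * τ ^ i) = ⊥) (a : A) : a = 1 := by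
  apply eq_one_of_pow_eq_one_of_coprime hcop
  rw [← prod_nrm_rho hc hτ hfix a]
  apply Finset.prod_eq_one
  intro i hi
  have h1 : nrm p (σ * τ ^ i) a ∈ fixedSub (σ * τ ^ i) :=
    mem_fixedSub.mpr (nrm_fixed (rho_pow_eq_one hc hσ hτ i) a)
  rw [hall i (Finset.mem_range.mp hi), Subgroup.mem_bot] at h1
  exact h1

/-- a fixed-point-free automorphism of order dividing `p`: `|A| ≡ 1 mod p` -/
theorem card_modEq_one {τ : MulAut A} (hτ : τ ^ p = 1) (hfix : ∀ a : A, τ a = a → a = 1) :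
    Nat.card A ≡ 1 [MOD p] := by
  have hP : IsPGroup p (Subgroup.zpowers τ) := by
    intro g
    refine ⟨1, ?_⟩
    obtain ⟨k, hk⟩ := Subgroup.mem_zpowers_iff.mp g.2
    apply Subtype.ext
    rw [pow_one]
    show (g : MulAut A) ^ p = 1
    rw [← hk, ← zpow_natCast, ← zpow_mul, mul_comm, zpow_mul, zpow_natCast, hτ, one_zpow]
  have h1 := hP.card_modEq_card_fixedPoints A
  have h2 : MulAction.fixedPoints (Subgroup.zpowers τ) A = {1} := by
    ext a
    constructor
    · intro h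
      have := h ⟨τ, Subgroup.mem_zpowers τ⟩
      exact hfix a this
    · intro h
      rw [Set.mem_singleton_iff] at h
      subst h
      intro g
      exact map_one (g : MulAut A)
  rw [h2] at h1
  have h3 : Nat.card ↥({1} : Set A) = 1 := by
    rw [Nat.card_coe_set_eq, Set.ncard_singleton]
  rwa [h3] at h1

end Main

end Abstract

end Cfsg.Agent.Helper15.ExtraMod
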