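import Mathlib
import Cfsg.Agent.Lib.Helper11.D4TDefs

/-!
# S2376 piece CHIA (helper11's skeleton; clone of helper13's G2TCHIA by helper15): the diagonal entries of the
elements of `T(L)`
-/

set_option autoImplicit false

namespace Cfsg.Agent.Helper11.D4T

open Cfsg Cfsg.Lie Cfsg.Agent.Lead.Chev Cfsg.Agent.Lead.Tw

section L

variable {L : Type*} [Field L]

theorem d4tchia_ev_eq (h : GL chevD4.Idx L) (c : ℕ → L)
    (hh : (h : Matrix chevD4.Idx chevD4.Idx L) = Tmat chevD4 c) (v : ℕ) (hv : v < chevD4.nroots) :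
    ev h v = chi chevD4 c v := by
  unfold ev
  rw [dif_pos hv, hh]
  unfold Tmat
  rw [Matrix.diagonal_apply_eq]
  rfl

theorem ev_one (v : ℕ) : ev (1 : GL chevD4.Idx L) v = 1 := by
  unfold ev
  split_ifs with h
  · rw [Units.val_one, Matrix.one_apply_eq]
  · rfl

theorem ev_mul (h h' : GL chevD4.Idx L) (hh : h ∈ chevD4.diagonalSubgroup L)
    (hh' : h' ∈ chevD4.diagonalSubgroup L) (v : ℕ) : ev (h * h') v = ev h v * ev h' v := by
  by_cases hv : v < chevD4.nroots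
  · obtain ⟨c, hc, hhc⟩ := exists_Tmat_of_mem chevD4 (d4F L).hall h hh
    obtain ⟨c', hc', hhc'⟩ := exists_Tmat_of_mem chevD4 (d4F L).hall h' hh'
    have hprod : ((h * h' : GL chevD4.Idx L) : Matrix chevD4.Idx chevD4.Idx L) =
        Tmat chevD4 (fun i => c i * c' i) := by
      rw [Units.val_mul, hhc, hhc', Tmat_mul]
    rw [d4tchia_ev_eq _ _ hprod v hv, d4tchia_ev_eq _ _ hhc v hv, d4tchia_ev_eq _ _ hhc' v hv, chi_mul]
  · unfold ev
    rw [dif_neg hv, dif_neg hv, dif_neg hv, mul_one]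

theorem d4tchia_mul_inv (h : GL chevD4.Idx L) (hh : h ∈ chevD4.diagonalSubgroup L) (v : ℕ) :
    ev h v * ev h⁻¹ v = 1 := by
  rw [← ev_mul h h⁻¹ hh (inv_mem hh), mul_inv_cancel, ev_one]

theorem ev_ne_zero (h : GL chevD4.Idx L) (hh : h ∈ chevD4.diagonalSubgroup L) (v : ℕ) : ev h v ≠ 0 := by
  intro h0
  have := d4tchia_mul_inv h hh v
  rw [h0, zero_mul] at this
  exact zero_ne_one this

theorem ev_inv (h : GL chevD4.Idx L) (hh : h ∈ chevD4.diagonalSubgroup L) (v : ℕ) :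
    ev h⁻¹ v = (ev h v)⁻¹ :=
  eq_inv_of_mul_eq_one_right (d4tchia_mul_inv h hh v)

/-- `h x_v(s) h⁻¹ = x_v(χ_h(v) s)` -/
theorem ev_conj (h : GL chevD4.Idx L) (hh : h ∈ chevD4.diagonalSubgroup L) (v : ℕ) (hv : v < 24) (s : L) :
    h * xGL chevD4 (d4F L).xadd v s * h⁻¹ = xGL chevD4 (d4F L).xadd v (ev h v * s) := by
  obtain ⟨c, hc, hhc⟩ := exists_Tmat_of_mem chevD4 (d4F L).hall h hh
  have hv' : v < chevD4.nroots := hv
  rw [d4tchia_ev_eq _ _ hhc v hv']
  rw [mul_inv_eq_iff_eq_mul]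
  apply Units.ext
  rw [Units.val_mul, Units.val_mul, hhc, xGL_val, xGL_val]
  exact Tmat_conj chevD4 (d4F L).hconj v hv' c hc s

end L

end Cfsg.Agent.Helper11.D4T
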