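import Mathlib
import Cfsg.Agent.Lib.Helper11.D4TTab

/-!
# S2376 piece ARITH (helper15): arithmetic of `Mq q = (q³ - 1)(q + 1)`
-/

set_option autoImplicit false

namespace Cfsg.Agent.Helper11.D4T

theorem d4tarith_pow6 (q : ℕ) : q ^ 6 - 1 = (q ^ 3 - 1) * (q ^ 3 + 1) := by
  have h1 : 1 ≤ q ^ 3 ∨ q = 0 := by
    rcases Nat.eq_zero_or_pos q with h | h
    · exact Or.inr h
    · exact Or.inl (Nat.one_le_pow _ _ h)
  rcases h1 with h1 | rfl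
  · obtain ⟨t, ht⟩ : ∃ t, q ^ 3 = t + 1 := ⟨q ^ 3 - 1, by omega⟩
    have h6 : q ^ 6 = (q ^ 3) ^ 2 := by ring
    rw [h6, ht, Nat.add_sub_cancel]
    have : (t + 1) ^ 2 = t * (t + 1 + 1) + 1 := by ring
    rw [this, Nat.add_sub_cancel]
  · simp

theorem d4tarith_cube (q : ℕ) : q ^ 3 + 1 = (q + 1) * (q ^ 2 - q + 1) := by
  have hq : q ≤ q ^ 2 := by nlinarith [Nat.zero_le q]
  obtain ⟨t, ht⟩ : ∃ t, q ^ 2 = q + t := ⟨q ^ 2 - q, by omega⟩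
  rw [ht, Nat.add_sub_cancel_left]
  have h3 : q ^ 3 = q * q ^ 2 := by ring
  rw [h3, ht]
  nlinarith [ht]

theorem mq_dvd (q : ℕ) (hq : 2 ≤ q) : Mq q ∣ q ^ 6 - 1 := by
  unfold Mq
  rw [d4tarith_pow6, d4tarith_cube]
  exact Nat.mul_dvd_mul_left _ (Dvd.intro _ rfl)

theorem mq_dvd' (q : ℕ) (hq : 2 ≤ q) : q + 1 ∣ q ^ 6 - 1 := by
  rw [d4tarith_pow6, d4tarith_cube]
  exact Dvd.dvd.mul_left (Dvd.intro _ rfl) _

/-- `e₀ = q + 1 - q²` is prime to `(q³ - 1)(q + 1)` -/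
theorem mq_coprime (q : ℕ) (hq : 2 ≤ q) : Nat.Coprime (q ^ 2 - q - 1) (Mq q) := by
  unfold Mq
  obtain ⟨s, rfl⟩ : ∃ s, q = s + 2 := ⟨q - 2, by omega⟩
  -- `e = s² + 3 s + 1`
  have he : (s + 2) ^ 2 - (s + 2) - 1 = s ^ 2 + 3 * s + 1 := by
    have : (s + 2) ^ 2 = s ^ 2 + 3 * s + 1 + 1 + (s + 2) := by ring
    omega
  rw [he]
  have h3 : (s + 2) ^ 3 - 1 = (s + 1) * ((s + 2) ^ 2 + (s + 2) + 1) := by
    have : (s + 2) ^ 3 = (s + 1) * ((s + 2) ^ 2 + (s + 2) + 1) + 1 := by ring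
    omega
  rw [h3]
  -- the three factors
  have c1 : Nat.Coprime (s ^ 2 + 3 * s + 1) (s + 2 + 1) := by
    have : s ^ 2 + 3 * s + 1 = 1 + s * (s + 2 + 1) := by ring
    rw [this, Nat.Coprime, Nat.gcd_add_mul_right_left]
    exact Nat.gcd_one_left _
  have c2 : Nat.Coprime (s ^ 2 + 3 * s + 1) (s + 1) := by
    -- `e + 1 = (s + 1) (s + 2)`
    rw [Nat.Coprime]
    have hd := Nat.gcd_dvd_left (s ^ 2 + 3 * s + 1) (s + 1)
    have hd2 := Nat.gcd_dvd_right (s ^ 2 + 3 * s + 1) (s + 1)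
    have hd3 : Nat.gcd (s ^ 2 + 3 * s + 1) (s + 1) ∣ (s + 1) * (s + 2) := Dvd.dvd.mul_right hd2 _
    have hd4 : (s + 1) * (s + 2) = s ^ 2 + 3 * s + 1 + 1 := by ring
    rw [hd4] at hd3
    exact Nat.dvd_one.mp ((Nat.dvd_add_right hd).mp hd3)
  have hodd : ¬ 2 ∣ s ^ 2 + 3 * s + 1 := by
    have hev : 2 ∣ s ^ 2 + 3 * s := by
      have : s ^ 2 + 3 * s = s * (s + 1) + 2 * s := by ring
      rw [this]
      exact Dvd.dvd.add (Nat.even_mul_succ_self s).two_dvd (Dvd.intro _ rfl)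
    intro h
    have := (Nat.dvd_add_right hev).mp h
    omega
  have c3 : Nat.Coprime (s ^ 2 + 3 * s + 1) ((s + 2) ^ 2 + (s + 2) + 1) := by
    rw [Nat.Coprime]
    set g := Nat.gcd (s ^ 2 + 3 * s + 1) ((s + 2) ^ 2 + (s + 2) + 1) with hg
    have hd := Nat.gcd_dvd_left (s ^ 2 + 3 * s + 1) ((s + 2) ^ 2 + (s + 2) + 1)
    have hd2 := Nat.gcd_dvd_right (s ^ 2 + 3 * s + 1) ((s + 2) ^ 2 + (s + 2) + 1)
    rw [← hg] at hd hd2
    -- the difference is `2 (s + 3)`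
    have hdiff : (s + 2) ^ 2 + (s + 2) + 1 = (s ^ 2 + 3 * s + 1) + 2 * (s + 2 + 1) := by ring
    rw [hdiff] at hd2
    have h4 : g ∣ 2 * (s + 2 + 1) := (Nat.dvd_add_right hd).mp hd2
    have hcop : Nat.Coprime g (s + 2 + 1) := Nat.Coprime.coprime_dvd_left hd c1
    have h5 : g ∣ 2 := hcop.dvd_of_dvd_mul_right h4
    rcases (Nat.dvd_prime Nat.prime_two).mp h5 with h6 | h6
    · exact h6
    · exfalso
      rw [h6] at hd
      exact hodd hd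
  exact Nat.Coprime.mul_right (Nat.Coprime.mul_right c2 c3) c1

end Cfsg.Agent.Helper11.D4T
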