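import Mathlib
import Cfsg.Prelude.Def_Classical
import Cfsg.Agent.Lib.Helper15.S62Defs

/-!
# S2474 (helper15, with helper21): shared definitions

For `q` odd, `n ≥ 3` and distinct primes `r`, `s`:
`r * s ∈ ω(PΩ_{2n+1}(q)) ↔ r * s ∈ ω(PSp_{2n}(q))`.  Both sides are shown equivalent to the numeric
predicate `Phi q p n r s` below (`p` the characteristic).  See `plans/S2474_plan.md`.
-/

set_option autoImplicit false

namespace Cfsg.Agent.Helper15.S74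

/-- `t ∣ q^(2d) - 1` for some `1 ≤ d ≤ m`: an element of order `t` lives in dimension `2d ≤ 2m` -/
def Small (q t m : ℕ) : Prop := ∃ d : ℕ, 1 ≤ d ∧ d ≤ m ∧ t ∣ q ^ (2 * d) - 1

/-- the criterion for `2 * t`, `t` an odd prime different from the characteristic -/
def PhiC (q n t : ℕ) : Prop :=
  Small q t (n - 1) ∨ (t ∣ q ^ n - 1 ∧ 4 ∣ q ^ n - 1) ∨ (t ∣ q ^ n + 1 ∧ 4 ∣ q ^ n + 1)

/-- the criterion for `r * s`, `r ≠ s` odd primes different from the characteristic -/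
def PhiA (q n r s : ℕ) : Prop :=
  (∃ a b : ℕ, 1 ≤ a ∧ 1 ≤ b ∧ a + b ≤ n ∧ r ∣ q ^ (2 * a) - 1 ∧ s ∣ q ^ (2 * b) - 1) ∨
    ∃ d : ℕ, 1 ≤ d ∧ d ≤ n ∧ (r * s ∣ q ^ d - 1 ∨ r * s ∣ q ^ d + 1)

/-- the criterion for `r * s ∈ ω(G)`, `G = PΩ_{2n+1}(q)` or `PSp_{2n}(q)`, `q` odd of
characteristic `p`, `r ≠ s` primes -/
def Phi (q p n r s : ℕ) : Prop :=
  (r = p ∧ (s = 2 ∨ Small q s (n - 1))) ∨
  (s = p ∧ (r = 2 ∨ Small q r (n - 1))) ∨
  (r ≠ p ∧ s ≠ p ∧ r = 2 ∧ PhiC q n s) ∨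
  (r ≠ p ∧ s ≠ p ∧ s = 2 ∧ PhiC q n r) ∨
  (r ≠ p ∧ s ≠ p ∧ r ≠ 2 ∧ s ≠ 2 ∧ PhiA q n r s)

theorem phiA_symm {q n r s : ℕ} (h : PhiA q n r s) : PhiA q n s r := by
  rcases h with ⟨a, b, ha, hb, hab, hr, hs⟩ | ⟨d, hd1, hd, h⟩
  · exact Or.inl ⟨b, a, hb, ha, by omega, hs, hr⟩
  · exact Or.inr ⟨d, hd1, hd, by rwa [mul_comm s r]⟩

theorem phi_symm {q p n r s : ℕ} (h : Phi q p n r s) : Phi q p n s r := by
  rcases h with h | h | ⟨h1, h2, h3, h4⟩ | ⟨h1, h2, h3, h4⟩ | ⟨h1, h2, h3, h4, h5⟩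
  · exact Or.inr (Or.inl h)
  · exact Or.inl h
  · exact Or.inr (Or.inr (Or.inr (Or.inl ⟨h2, h1, h3, h4⟩)))
  · exact Or.inr (Or.inr (Or.inl ⟨h2, h1, h3, h4⟩))
  · exact Or.inr (Or.inr (Or.inr (Or.inr ⟨h2, h1, h4, h3, phiA_symm h5⟩)))

/-! ### linear-algebra vocabulary for the nonexistence cores -/

section linalg

universe u

variable {F : Type u} [Field F] {V : Type u} [AddCommGroup V] [Module F V]

/-- `U` is invariant under `g` (definitionally `∀ v ∈ U, g v ∈ U`, so that `g.restrict h` typechecks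
for `h : Invar g U`) -/
abbrev Invar (g : Module.End F V) (U : Submodule F V) : Prop := ∀ v ∈ U, g v ∈ U

/-- `g` acts irreducibly on the nonzero module `V` -/
def Irred (g : Module.End F V) : Prop :=
  Nontrivial V ∧ ∀ U : Submodule F V, Invar g U → U = ⊥ ∨ U = ⊤

/-- `g` is an isometry of the bilinear form `B` -/
def Isom (B : LinearMap.BilinForm F V) (g : Module.End F V) : Prop :=
  ∀ x y, B (g x) (g y) = B x y

/-- `B` is left-nondegenerate -/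
def LND (B : LinearMap.BilinForm F V) : Prop := ∀ x, (∀ y, B x y = 0) → x = 0

end linalg

end Cfsg.Agent.Helper15.S74
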