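import Cfsg.Agent.Lib.Helper5.S62ZSIG
import Cfsg.Agent.Lib.Helper19.S62COMPL
import Cfsg.Agent.Lib.Helper28.S62ORTH
import Cfsg.Agent.Lib.Helper27.S62SQFREE
import Cfsg.Agent.Lib.Helper1.S62WF1
import Cfsg.Agent.Lib.Helper19.S62CENTL
import Cfsg.Agent.Lib.Helper5.S62ADJ
import Cfsg.Agent.Lib.Helper1.S62SIGMA
import Cfsg.Agent.Lib.Helper1.S62NORMFIB
import Cfsg.Agent.Lib.Helper9.S62DETW
import Cfsg.Agent.Lib.Helper20.S62DIM3A
import Cfsg.Agent.Lib.Helper27.S62NILP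
import Cfsg.Agent.Lib.Helper20.S62DIM3B
import Cfsg.Agent.Lib.Helper27.S62DIM3C
import Cfsg.Agent.Lib.Helper28.S62DETSPLIT
import Cfsg.Agent.Lib.Helper25.S62PARITY
import Cfsg.Agent.Lib.Helper20.S62CARDFIB
import Cfsg.Agent.Lib.Helper21.S62WF2
import Cfsg.Agent.Lib.Helper21.S62WF3
import Cfsg.Agent.Lib.Helper10.S62COUNT

/-!
# S2362 (helper15): aggregator of the part-1 pieces (abstract orthogonal core)
-/
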