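import Mathlib
import Cfsg.Agent.Lib.Helper15.S62PiecesA

/-!
# S2362 assembly, part 1 (helper15): the field structure on `W`
-/

set_option autoImplicit false

open Polynomial

namespace Cfsg.Agent.Helper15.S62

universe u

variable {F : Type u} [Field F] {V : Type u} [AddCommGroup V] [Module F V]

/-- `W = Wpart t r` is a one-dimensional vector space over a field `L = F[ζ]` with `q^(2k)` elements,
`t` acting as multiplication by `ζ`; and `dim C = 3`. -/
theorem exists_field [Fintype F] [FiniteDimensional F V] (t : Module.End F V) (r k : ℕ)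
    (hr : r.Prime) (hrF : (r : F) ≠ 0) (ht : t ^ r = 1) (ht1 : t ≠ 1) (hk : 2 ≤ k)
    (hord : ∀ j : ℕ, 0 < j → r ∣ Fintype.card F ^ j - 1 → 2 * k ∣ j)
    (hdim : Module.finrank F V = 2 * k + 3) :
    ∃ (L : Type u) (_ : Field L) (_ : Algebra F L) (_ : Module.Finite F L)
      (φ : L ≃ₗ[F] Wpart t r) (ζ : L),
      Module.finrank F L = 2 * k ∧ Algebra.adjoin F {ζ} = ⊤ ∧ ζ ^ r = 1 ∧ ζ ≠ 1 ∧
      (∀ x : L, ((φ (ζ * x) : Wpart t r) : V) = t (φ x)) ∧
      Module.finrank F (Cpart t) = 3 := by
  classical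
  have hWinv : ∀ x ∈ Wpart t r, t x ∈ Wpart t r := fun x hx =>
    Wpart_invariant (Commute.refl t) hx
  set t' : Module.End F (Wpart t r) := t.restrict hWinv with ht'
  have hcompl := isCompl_Cpart_Wpart t r hr.pos hrF ht
  have hpow : ∀ (i : ℕ) (w : Wpart t r), (((t' ^ i) w : Wpart t r) : V) = (t ^ i) (w : V) := by
    intro i w
    rw [ht', Module.End.pow_restrict]
    rfl
  have hsum : ∑ i ∈ Finset.range r, t' ^ i = 0 := by
    apply LinearMap.ext
    intro w
    apply Subtype.ext
    rw [LinearMap.sum_apply, Submodule.coe_sum]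
    simp_rw [hpow]
    rw [LinearMap.zero_apply, Submodule.coe_zero]
    exact mem_Wpart.mp w.2
  have hnt : Nontrivial (Wpart t r) := by
    by_contra hcon
    rw [not_nontrivial_iff_subsingleton, Submodule.subsingleton_iff_eq_bot] at hcon
    have htop : Cpart t = ⊤ := by
      have := hcompl.sup_eq_top
      rwa [hcon, sup_bot_eq] at this
    apply ht1
    apply LinearMap.ext
    intro v
    have : v ∈ Cpart t := by rw [htop]; trivial
    rw [Module.End.one_apply]
    exact mem_Cpart.mp this
  have hlt : Module.finrank F (Wpart t r) < 4 * k := by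
    have := Submodule.finrank_le (Wpart t r)
    omega
  obtain ⟨hirr, hdeg, hfin⟩ := irreducible_minpoly t' r k (by omega) hsum (squarefree_geom r hrF)
    (fun f hf hd => natDegree_factor r k hr hrF hord f hf hd) hlt
  haveI : Fact (Irreducible (minpoly F t')) := ⟨hirr⟩
  obtain ⟨φ, hφ⟩ := exists_cyclic_equiv t' (minpoly F t') (minpoly.aeval F t')
    (hfin.trans hdeg.symm)
  have hne : minpoly F t' ≠ 0 := hirr.ne_zero
  have ht'r : t' ^ r = 1 := by
    apply LinearMap.ext
    intro w
    apply Subtype.ext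
    rw [hpow, ht]
    rfl
  have hroot : (AdjoinRoot.root (minpoly F t')) ^ r = 1 := by
    have hdvd : minpoly F t' ∣ X ^ r - 1 := by
      apply minpoly.dvd
      rw [map_sub, map_pow, aeval_X, map_one, ht'r, sub_self]
    have h0 : AdjoinRoot.mk (minpoly F t') (X ^ r - 1) = 0 := AdjoinRoot.mk_eq_zero.mpr hdvd
    rw [map_sub, map_pow, AdjoinRoot.mk_X, map_one, sub_eq_zero] at h0
    exact h0
  refine ⟨AdjoinRoot (minpoly F t'), inferInstance, inferInstance,
    (AdjoinRoot.powerBasis hne).finite, φ, AdjoinRoot.root (minpoly F t'), ?_, ?_, hroot, ?_, ?_, ?_⟩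
  · rw [(AdjoinRoot.powerBasis hne).finrank, AdjoinRoot.powerBasis_dim, hdeg]
  · exact AdjoinRoot.adjoinRoot_eq_top
  · intro h1
    have hall : ∀ w : Wpart t r, t' w = w := by
      intro w
      obtain ⟨x, rfl⟩ := φ.surjective w
      rw [← hφ, h1, one_mul]
    obtain ⟨w, hw⟩ := exists_ne (0 : Wpart t r)
    apply hw
    have h1 : (w : V) ∈ Cpart t := by
      rw [mem_Cpart]
      have := congrArg (fun z : Wpart t r => (z : V)) (hall w)
      simpa [ht'] using this
    have h2 : (w : V) ∈ Cpart t ⊓ Wpart t r := ⟨h1, w.2⟩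
    rw [hcompl.inf_eq_bot, Submodule.mem_bot] at h2
    exact Subtype.ext h2
  · intro x
    rw [hφ]
    rfl
  · have := Submodule.finrank_add_eq_of_isCompl hcompl
    omega

end Cfsg.Agent.Helper15.S62
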