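import Mathlib
import Cfsg.Agent.Lib.Helper15.S62Asm1

/-!
# S2362 assembly, part 2 (helper15): auxiliary lemmas for the abstract core
-/

set_option autoImplicit false

open Polynomial

namespace Cfsg.Agent.Helper15.S62

universe u

variable {F : Type u} [Field F] {V : Type u} [AddCommGroup V] [Module F V]

/-- powers of an isometry are isometries -/
theorem isometry_pow (B : LinearMap.BilinForm F V) (s : Module.End F V)
    (hs : ∀ x y, B (s x) (s y) = B x y) (j : ℕ) : ∀ x y, B ((s ^ j) x) ((s ^ j) y) = B x y := by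
  induction j with
  | zero => intro x y; simp
  | succ j ih =>
    intro x y
    rw [pow_succ, Module.End.mul_apply, Module.End.mul_apply, ih, hs]

/-- powers of a map acting as a multiplication -/
theorem pow_apply_of_mul {L : Type u} [Field L] [Algebra F L] (W : Submodule F V)
    (φ : L ≃ₗ[F] W) (a : Module.End F V) (μ : L)
    (h : ∀ x : L, a (φ x : V) = (φ (μ * x) : W)) (j : ℕ) :
    ∀ x : L, (a ^ j) (φ x : V) = (φ (μ ^ j * x) : W) := by
  induction j with
  | zero => intro x; simp
  | succ j ih =>
    intro x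
    rw [pow_succ, Module.End.mul_apply, h, ih, pow_succ, mul_assoc]

/-- a nonzero nondegenerate symmetric form in characteristic `≠ 2` has a non-isotropic vector -/
theorem exists_anisotropic {C : Type u} [AddCommGroup C] [Module F C] [Nontrivial C]
    (h2 : (2 : F) ≠ 0) (B : LinearMap.BilinForm F C) (hsymm : ∀ x y, B x y = B y x)
    (hnd : ∀ x, (∀ y, B x y = 0) → x = 0) : ∃ x, B x x ≠ 0 := by
  by_contra hcon
  push Not at hcon
  obtain ⟨x, hx⟩ := exists_ne (0 : C)
  apply hx
  apply hnd
  intro y
  have h := hcon (x + y)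
  rw [map_add, map_add, LinearMap.add_apply, LinearMap.add_apply, hcon x, hcon y, hsymm y x] at h
  have h' : (2 : F) * B x y = 0 := by linear_combination h
  rcases mul_eq_zero.mp h' with h0 | h0
  · exact absurd h0 h2
  · exact h0

/-- fixed points of powers -/
theorem pow_apply_of_fixed (s : Module.End F V) {x : V} (hx : s x = x) (j : ℕ) :
    (s ^ j) x = x := by
  induction j with
  | zero => simp
  | succ j ih => rw [pow_succ, Module.End.mul_apply, hx, ih]

/-- in characteristic `p ≠ 2`, `2 ≠ 0` -/
theorem two_ne_zero_of_char (p : ℕ) [Fact p.Prime] [CharP F p] (hp2 : p ≠ 2) : (2 : F) ≠ 0 := by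
  intro h
  have h' : ((2 : ℕ) : F) = 0 := by exact_mod_cast h
  rw [CharP.cast_eq_zero_iff F p] at h'
  have := (Nat.prime_dvd_prime_iff_eq (Fact.out : p.Prime) Nat.prime_two).mp h'
  exact hp2 this

/-- the order of a finite field of odd characteristic is odd and at least three -/
theorem card_odd [Fintype F] (p : ℕ) [Fact p.Prime] [CharP F p] (hp2 : p ≠ 2) :
    Odd (Fintype.card F) ∧ 3 ≤ Fintype.card F ∧ p ∣ Fintype.card F := by
  obtain ⟨n, hp, hn⟩ := FiniteField.card F p
  have hpodd : Odd p := hp.odd_of_ne_two hp2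
  have h1 : Odd (Fintype.card F) := by rw [hn]; exact hpodd.pow
  have h3 : p ∣ Fintype.card F := by rw [hn]; exact dvd_pow_self p n.ne_zero
  refine ⟨h1, ?_, h3⟩
  have := Fintype.one_lt_card (α := F)
  rcases h1 with ⟨j, hj⟩
  omega

end Cfsg.Agent.Helper15.S62
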