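import Cfsg.Agent.Lib.Helper23.S62BSTD
import Cfsg.Agent.Lib.Helper9.S62TOEND
import Cfsg.Agent.Lib.Helper5.S62SIGNTRIV
import Cfsg.Agent.Lib.Helper19.S62BRIDGE
import Cfsg.Agent.Lib.Helper6.S62LIFT
import Cfsg.Agent.Lib.Helper1.S62LAMBDA
import Cfsg.Agent.Lib.Helper1.S62THETA
import Cfsg.Agent.Lib.Helper24.S62F2
import Cfsg.Agent.Lib.Helper9.S62PROD
import Cfsg.Agent.Lib.Helper19.S62TRANSFER
import Cfsg.Agent.Lib.Helper19.S62PSPORD
import Cfsg.Agent.Lib.Helper10.S62FORMK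

/-!
# S2362 (helper15): aggregator of the part-2 pieces (bridge and symplectic model)
-/
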