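import Mathlib
import Cfsg.Agent.Lib.Helper15.S62Asm2
import Cfsg.Agent.Lib.Helper15.S62PiecesB

/-!
# S2362 assembly, part 6 (helper15): `p (q^(n-1)+1)` is an element order of `PSp_{2n}(q)`
-/

set_option autoImplicit false
set_option linter.style.haveILetI false

namespace Cfsg.Agent.Helper15.S62

universe u

/-- multiplication by a nonzero element as a linear equivalence -/
noncomputable def mulEquiv (F : Type*) [Field F] {K : Type*} [Field K] [Algebra F K] (l : K)
    (hl : l ≠ 0) : K ≃ₗ[F] K :=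
  LinearEquiv.ofLinearMap (LinearMap.mulLeft F l) (LinearMap.mulLeft F l⁻¹)
    (by
      apply LinearMap.ext
      intro x
      simp [hl])
    (by
      apply LinearMap.ext
      intro x
      simp [hl])

theorem mulEquiv_apply (F : Type*) [Field F] {K : Type*} [Field K] [Algebra F K] (l : K)
    (hl : l ≠ 0) (x : K) : mulEquiv F l hl x = l * x := rfl

theorem mulEquiv_pow_apply (F : Type*) [Field F] {K : Type*} [Field K] [Algebra F K] (l : K)
    (hl : l ≠ 0) (j : ℕ) (x : K) : (mulEquiv F l hl ^ j) x = l ^ j * x := by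
  induction j generalizing x with
  | zero => simp
  | succ j ih =>
    rw [pow_succ, LinearEquiv.mul_apply, ih, mulEquiv_apply, pow_succ, mul_assoc]

theorem orderOf_mulEquiv (F : Type*) [Field F] {K : Type*} [Field K] [Algebra F K] (l : K)
    (hl : l ≠ 0) : orderOf (mulEquiv F l hl) = orderOf l := by
  apply Nat.dvd_antisymm
  · apply orderOf_dvd_of_pow_eq_one
    apply LinearEquiv.ext
    intro x
    rw [mulEquiv_pow_apply, pow_orderOf_eq_one, one_mul]
    rfl
  · apply orderOf_dvd_of_pow_eq_one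
    have h := mulEquiv_pow_apply F l hl (orderOf (mulEquiv F l hl)) 1
    rw [pow_orderOf_eq_one, mul_one] at h
    exact h.symm

/-- `p * (q^(n-1) + 1)` is the order of an element of `PSp_{2n}(q)`, `q` odd, `n ≥ 3`. -/
theorem exists_order_PSp {F : Type u} [Field F] [Fintype F] (p : ℕ) [Fact p.Prime] [CharP F p]
    (hp2 : p ≠ 2) (n : ℕ) (hn : 3 ≤ n) :
    ∃ x : Cfsg.PSp n F, orderOf x = p * (Fintype.card F ^ (n - 1) + 1) := by
  classical
  have hp : p.Prime := Fact.out
  have h2 : (2 : F) ≠ 0 := two_ne_zero_of_char p hp2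
  obtain ⟨hqodd, hq3, hpq⟩ := card_odd (F := F) p hp2
  set q := Fintype.card F with hq
  set k := n - 1 with hk
  have hk2 : 2 ≤ k := by omega
  have hQodd : Odd (q ^ k) := hqodd.pow
  have hQ3 : 3 ≤ q ^ k := by
    calc 3 ≤ q := hq3
      _ = q ^ 1 := (pow_one q).symm
      _ ≤ q ^ k := Nat.pow_le_pow_right (by omega) (by omega)
  haveI : NeZero (2 * k) := ⟨by omega⟩
  let K := FiniteField.Extension F p (2 * k)
  letI : Fintype K := Fintype.ofFinite K
  have hdim : Module.finrank F K = 2 * k := FiniteField.finrank_extension F p (2 * k)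
  have hK : Fintype.card K = (q ^ k) ^ 2 := by
    rw [Fintype.card_eq_nat_card, FiniteField.natCard_extension F p (2 * k),
      Nat.card_eq_fintype_card, ← hq, ← pow_mul, mul_comm]
  obtain ⟨θ, hθ0, hθ⟩ := exists_theta (K := K) (q ^ k) hQodd hQ3 hK
  obtain ⟨l, hl⟩ := exists_orderOf_eq (K := K) (q ^ k) (by omega) hK
  have hl0 : l ≠ 0 := by
    intro h
    rw [h, orderOf_zero] at hl
    omega
  obtain ⟨ω₁, halt₁, hnd₁, hinv₁⟩ := exists_alt_form (F := F) (K := K) k (by omega) h2 hdim θ hθ0 hθ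
  obtain ⟨ω₂, g₂, halt₂, hnd₂, hinv₂, hord₂, hneg₂⟩ := exists_f2 (F := F) p h2
  set g₁ : K ≃ₗ[F] K := mulEquiv F l hl0 with hg₁
  have hord₁ : orderOf g₁ = q ^ k + 1 := by rw [hg₁, orderOf_mulEquiv, hl]
  have hi₁ : ∀ x y, ω₁ (g₁ x) (g₁ y) = ω₁ x y := by
    intro x y
    rw [hg₁, mulEquiv_apply, mulEquiv_apply]
    apply hinv₁
    rw [← hl]
    exact pow_orderOf_eq_one l
  have hcop : Nat.Coprime (orderOf g₁) (orderOf g₂) := by
    rw [hord₁, hord₂, Nat.coprime_comm, hp.coprime_iff_not_dvd]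
    intro hd
    have h1 : p ∣ q ^ k := dvd_pow hpq (by omega)
    have : p ∣ 1 := (Nat.dvd_add_right h1).mp hd
    exact hp.one_lt.ne' (Nat.dvd_one.mp this)
  obtain ⟨ω, g, halt, hnd, hinv, hord, hneg⟩ := prod_model ω₁ ω₂ halt₁ halt₂ hnd₁ hnd₂ g₁ g₂ hi₁ hinv₂
    hcop (by rw [hord₁]; omega) (by rw [hord₂]; exact hp.pos) hneg₂
  have hfin : Module.finrank F (K × (Fin 2 → F)) = 2 * n := by
    rw [Module.finrank_prod, hdim, Module.finrank_fin_fun]
    omega
  obtain ⟨A, hA, hAneg⟩ := exists_symplectic_of_model ω g halt hnd n hfin hinv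
  refine ⟨QuotientGroup.mk A, ?_⟩
  rw [orderOf_mk_PSp n (by omega) A (fun j => hAneg j (hneg j)), hA, hord, hord₁, hord₂, mul_comm]

end Cfsg.Agent.Helper15.S62
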