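import Mathlib

/-!
# Zsigmondy's theorem (helper15's shared library)

Values of cyclotomic polynomials at natural numbers and primitive prime divisors.
-/

set_option autoImplicit false

namespace Cfsg.Agent.Helper15.Zsig

open Polynomial

/-- the value `Φ_n(a)` as a natural number -/
noncomputable def cycN (n a : ℕ) : ℕ := ((cyclotomic n ℤ).eval (a : ℤ)).natAbs

theorem cast_cycN {n a : ℕ} (ha : 1 < a) :
    ((cycN n a : ℕ) : ℤ) = (cyclotomic n ℤ).eval (a : ℤ) := by
  unfold cycN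
  rw [Int.natAbs_of_nonneg]
  exact cyclotomic_nonneg n (by exact_mod_cast ha.le)

theorem cycN_pos {n a : ℕ} (ha : 1 < a) : 0 < cycN n a := by
  have h : (0 : ℤ) < (cyclotomic n ℤ).eval (a : ℤ) := cyclotomic_pos' n (by exact_mod_cast ha)
  rw [← cast_cycN ha] at h
  exact_mod_cast h

/-- `a ^ n - 1 = ∏_{d ∣ n} Φ_d(a)` -/
theorem prod_cycN {n a : ℕ} (hn : 0 < n) (ha : 1 < a) :
    ∏ d ∈ n.divisors, cycN d a = a ^ n - 1 := by
  have h := congrArg (fun P : ℤ[X] => P.eval (a : ℤ)) (prod_cyclotomic_eq_X_pow_sub_one hn ℤ)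
  simp only [eval_prod, eval_sub, eval_pow, eval_X, eval_one] at h
  have h1 : ((∏ d ∈ n.divisors, cycN d a : ℕ) : ℤ) = ((a ^ n - 1 : ℕ) : ℤ) := by
    rw [Nat.cast_prod, Nat.cast_sub (Nat.one_le_pow _ _ (by omega)), Nat.cast_pow, Nat.cast_one,
      ← h]
    exact Finset.prod_congr rfl (fun d _ => cast_cycN ha)
  exact_mod_cast h1

theorem cycN_dvd {n a : ℕ} (hn : 0 < n) (ha : 1 < a) : cycN n a ∣ a ^ n - 1 := by
  rw [← prod_cycN hn ha]
  exact Finset.dvd_prod_of_mem _ (Nat.mem_divisors_self n hn.ne')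

/-- the value modulo a prime -/
theorem cast_cycN_zmod {n a : ℕ} (ha : 1 < a) (r : ℕ) :
    ((cycN n a : ℕ) : ZMod r) = (cyclotomic n (ZMod r)).eval (a : ZMod r) := by
  have h1 : ((cycN n a : ℕ) : ZMod r) = (((cycN n a : ℕ) : ℤ) : ZMod r) := by push_cast; rfl
  rw [h1, cast_cycN ha, ← map_cyclotomic_int n (ZMod r)]
  have := eval_intCast_map (Int.castRingHom (ZMod r)) (cyclotomic n ℤ) (a : ℤ)
  simpa using this.symm

/-- a prime divisor of `Φ_n(a)` makes `a` a root of the cyclotomic polynomial mod `r` -/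
theorem isRoot_of_dvd {n a r : ℕ} (ha : 1 < a) (h : r ∣ cycN n a) :
    (cyclotomic n (ZMod r)).IsRoot (a : ZMod r) := by
  rw [IsRoot.def, ← cast_cycN_zmod ha]
  exact (ZMod.natCast_eq_zero_iff _ _).mpr h

/-- powers of `a` modulo `r` -/
theorem dvd_pow_sub_one_iff {a r k : ℕ} (ha : 1 < a) :
    r ∣ a ^ k - 1 ↔ (a : ZMod r) ^ k = 1 := by
  rw [← ZMod.natCast_eq_zero_iff, Nat.cast_sub (Nat.one_le_pow _ _ (by omega)), sub_eq_zero]
  push_cast
  rfl

/-- a prime divisor `r` of `Φ_n(a)` not dividing `n` is a primitive prime divisor -/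
theorem primitive_of_dvd_of_not_dvd {n a r : ℕ} (ha : 1 < a) (hr : r.Prime)
    (h : r ∣ cycN n a) (hrn : ¬ r ∣ n) : ∀ k : ℕ, 0 < k → k < n → ¬ r ∣ a ^ k - 1 := by
  haveI : Fact r.Prime := ⟨hr⟩
  haveI : NeZero ((n : ℕ) : ZMod r) := ⟨fun h0 => hrn ((ZMod.natCast_eq_zero_iff _ _).mp h0)⟩
  have hprim : IsPrimitiveRoot (a : ZMod r) n := isRoot_cyclotomic_iff.mp (isRoot_of_dvd ha h)
  intro k hk hkn hdvd
  have := hprim.dvd_of_pow_eq_one k ((dvd_pow_sub_one_iff ha).mp hdvd)
  exact absurd (Nat.le_of_dvd hk this) (not_le.mpr hkn)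

/-- structure of a prime divisor `r` of `Φ_n(a)` dividing `n` -/
theorem bad_prime {n a r : ℕ} (hn : 0 < n) (ha : 1 < a) (hr : r.Prime)
    (h : r ∣ cycN n a) (hrn : r ∣ n) :
    ∃ e m : ℕ, 0 < e ∧ n = r ^ e * m ∧ ¬ r ∣ m ∧ 0 < m ∧ IsPrimitiveRoot (a : ZMod r) m ∧
      m ∣ r - 1 := by
  haveI : Fact r.Prime := ⟨hr⟩
  obtain ⟨e, m, hm, hnem⟩ := Nat.exists_eq_pow_mul_and_not_dvd hn.ne' r hr.ne_one
  have he : 0 < e := by
    rcases Nat.eq_zero_or_pos e with h0 | h0
    · exfalso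
      rw [h0, pow_zero, one_mul] at hnem
      exact hm (hnem ▸ hrn)
    · exact h0
  have hm0 : 0 < m := by
    rcases Nat.eq_zero_or_pos m with h0 | h0
    · rw [h0, mul_zero] at hnem; omega
    · exact h0
  have hroot := isRoot_of_dvd ha h
  rw [hnem, cyclotomic_mul_prime_pow_eq (ZMod r) hm he, IsRoot.def, eval_pow] at hroot
  have hroot' : (cyclotomic m (ZMod r)).IsRoot (a : ZMod r) := pow_eq_zero_iff
    (by
      have : r ^ (e - 1) < r ^ e := Nat.pow_lt_pow_right hr.one_lt (by omega)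
      omega) |>.mp hroot
  haveI : NeZero ((m : ℕ) : ZMod r) := ⟨fun h0 => hm ((ZMod.natCast_eq_zero_iff _ _).mp h0)⟩
  have hprim : IsPrimitiveRoot (a : ZMod r) m := isRoot_cyclotomic_iff.mp hroot'
  refine ⟨e, m, he, hnem, hm, hm0, hprim, ?_⟩
  have ha0 : (a : ZMod r) ≠ 0 := by
    intro h0
    have := hprim.pow_eq_one
    rw [h0, zero_pow hm0.ne'] at this
    exact zero_ne_one this
  exact hprim.dvd_of_pow_eq_one _ (ZMod.pow_card_sub_one_eq_one ha0)

/-- a prime divisor of `Φ_n(a)` dividing `n` is the largest prime divisor of `n` -/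
theorem bad_prime_largest {n a r : ℕ} (hn : 0 < n) (ha : 1 < a) (hr : r.Prime)
    (h : r ∣ cycN n a) (hrn : r ∣ n) {q : ℕ} (hq : q.Prime) (hqn : q ∣ n) : q ≤ r := by
  obtain ⟨e, m, he, hnem, hm, hm0, -, hmr⟩ := bad_prime hn ha hr h hrn
  rw [hnem] at hqn
  rcases (Nat.Prime.dvd_mul hq).mp hqn with h1 | h1
  · exact le_of_eq ((Nat.prime_dvd_prime_iff_eq hq hr).mp (hq.dvd_of_dvd_pow h1))
  · have h2 : q ≤ m := Nat.le_of_dvd hm0 h1
    have h3 : m ≤ r - 1 := Nat.le_of_dvd (by have := hr.two_le; omega) hmr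
    omega

/-- geometric sum identity in `ℕ` -/
theorem geom_mul {b r : ℕ} (hb : 1 ≤ b) :
    (b - 1) * ∑ i ∈ Finset.range r, b ^ i = b ^ r - 1 := by
  have h : ((b : ℤ) - 1) * ∑ i ∈ Finset.range r, (b : ℤ) ^ i = (b : ℤ) ^ r - 1 := mul_geom_sum _ _
  have h2 : (((b - 1) * ∑ i ∈ Finset.range r, b ^ i : ℕ) : ℤ) = ((b ^ r - 1 : ℕ) : ℤ) := by
    rw [Nat.cast_mul, Nat.cast_sub hb, Nat.cast_sub (Nat.one_le_pow _ _ hb)]
    push_cast
    exact h
  exact_mod_cast h2

/-- `Φ_n(a)` divides `(a^n - 1)/(a^(n/r) - 1)` -/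
theorem cycN_dvd_geom {n a r : ℕ} (hn : 0 < n) (ha : 1 < a) (hr : 1 < r) (hrn : r ∣ n) :
    cycN n a ∣ ∑ i ∈ Finset.range r, (a ^ (n / r)) ^ i := by
  set n' := n / r with hn'
  have hnn' : n = n' * r := (Nat.div_mul_cancel hrn).symm
  have hn'0 : 0 < n' := by
    rcases Nat.eq_zero_or_pos n' with h | h
    · rw [h, zero_mul] at hnn'; omega
    · exact h
  have hn'n : n' < n := by rw [hnn']; nlinarith
  set b := a ^ n' with hb
  have hb1 : 1 < b := Nat.one_lt_pow hn'0.ne' ha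
  have hsub : n'.divisors ⊆ n.divisors := Nat.divisors_subset_of_dvd hn.ne' ⟨r, hnn'⟩
  have h1 := prod_cycN hn ha
  have h2 := prod_cycN hn'0 ha
  rw [← Finset.prod_sdiff hsub, h2] at h1
  have h3 : a ^ n - 1 = (b - 1) * ∑ i ∈ Finset.range r, b ^ i := by
    rw [geom_mul hb1.le, hb, ← pow_mul, ← hnn']
  rw [h3, mul_comm] at h1
  have h4 : ∏ d ∈ n.divisors \ n'.divisors, cycN d a = ∑ i ∈ Finset.range r, b ^ i :=
    Nat.eq_of_mul_eq_mul_left (by omega : 0 < b - 1) h1
  rw [← h4]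
  apply Finset.dvd_prod_of_mem
  rw [Finset.mem_sdiff]
  refine ⟨Nat.mem_divisors_self n hn.ne', fun h => ?_⟩
  exact absurd (Nat.le_of_dvd hn'0 (Nat.dvd_of_mem_divisors h)) (not_le.mpr hn'n)

/-- an odd prime divides the geometric sum only once -/
theorem not_sq_dvd_geom_of_odd {b r : ℕ} (hb : 1 < b) (hr : r.Prime) (hodd : Odd r)
    (hrb : r ∣ b - 1) : ¬ r ^ 2 ∣ ∑ i ∈ Finset.range r, b ^ i := by
  haveI : Fact r.Prime := ⟨hr⟩
  intro hdvd
  have hx : ¬ r ∣ b := by
    intro h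
    have h1 : r ∣ b - (b - 1) := Nat.dvd_sub h hrb
    have h2 : b - (b - 1) = 1 := by omega
    rw [h2] at h1
    exact hr.one_lt.ne' (Nat.dvd_one.mp h1)
  have hb1 : b - 1 ≠ 0 := by omega
  have hbr : b ^ r - 1 ≠ 0 := by
    have : 1 < b ^ r := Nat.one_lt_pow hr.ne_zero hb
    omega
  have hg0 : ∑ i ∈ Finset.range r, b ^ i ≠ 0 := by
    intro h0
    have := geom_mul (r := r) hb.le
    rw [h0, mul_zero] at this
    exact hbr this.symm
  have e1 : padicValNat r (b ^ r - 1) = padicValNat r (b - 1) + 1 := by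
    have := Nat.emultiplicity_pow_sub_pow hr hodd (x := b) (y := 1) (by simpa using hrb) hx r
    rw [one_pow] at this
    rw [← padicValNat_eq_emultiplicity hbr, ← padicValNat_eq_emultiplicity hb1,
      ← padicValNat_eq_emultiplicity hr.ne_zero, padicValNat_self] at this
    exact_mod_cast this
  have e2 : padicValNat r (b ^ r - 1) =
      padicValNat r (b - 1) + padicValNat r (∑ i ∈ Finset.range r, b ^ i) := by
    rw [← geom_mul hb.le, padicValNat.mul hb1 hg0]
  have e3 : 2 ≤ padicValNat r (∑ i ∈ Finset.range r, b ^ i) := (padicValNat_dvd_iff_le hg0).mp hdvd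
  omega

/-- a prime dividing both `n ≥ 3` and `Φ_n(a)` divides `Φ_n(a)` only once -/
theorem not_sq_dvd_cycN {n a r : ℕ} (hn : 3 ≤ n) (ha : 1 < a) (hr : r.Prime)
    (h : r ∣ cycN n a) (hrn : r ∣ n) : ¬ r ^ 2 ∣ cycN n a := by
  intro hsq
  have hn0 : 0 < n := by omega
  have hg := hsq.trans (cycN_dvd_geom hn0 ha hr.one_lt hrn)
  obtain ⟨e, m, he, hnem, hm, hm0, hprim, hmr⟩ := bad_prime hn0 ha hr h hrn
  have hdiv : n / r = r ^ (e - 1) * m := by
    have : n = r * (r ^ (e - 1) * m) := by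
      rw [hnem, ← mul_assoc, ← pow_succ']
      congr 2
      omega
    rw [this, Nat.mul_div_cancel_left _ hr.pos]
  set b := a ^ (n / r) with hb
  have hn'0 : 0 < n / r := by
    rw [hdiv]
    exact Nat.mul_pos (pow_pos hr.pos _) hm0
  have hb1 : 1 < b := Nat.one_lt_pow hn'0.ne' ha
  have hrb : r ∣ b - 1 := by
    rw [hb, dvd_pow_sub_one_iff ha, hdiv, mul_comm, pow_mul, hprim.pow_eq_one, one_pow]
  rcases hr.eq_two_or_odd' with h2 | hodd
  · subst h2
    have hm1 : m = 1 := by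
      have : m ∣ 1 := by simpa using hmr
      exact Nat.dvd_one.mp this
    rw [hm1, mul_one] at hnem hdiv
    have he2 : 2 ≤ e := by
      by_contra hlt
      have : e = 1 := by omega
      rw [this, pow_one] at hnem
      omega
    have hdiv2 : n / 2 = 2 * 2 ^ (e - 2) := by
      rw [hdiv, ← pow_succ']
      congr 1
      omega
    set c := a ^ (2 ^ (e - 2)) with hc
    have hbc : b = c * c := by
      rw [hb, hdiv2, hc, ← pow_two, ← pow_mul, mul_comm]
    have hsum : ∑ i ∈ Finset.range 2, b ^ i = 1 + b := by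
      simp [Finset.sum_range_succ]
    rw [hsum, hbc] at hg
    have hcodd : c % 2 = 1 := by
      have h3 : 2 ∣ c * c - 1 := by rw [← hbc]; exact hrb
      have h4 : 1 ≤ c * c := by rw [← hbc]; exact hb1.le
      rcases Nat.even_or_odd c with hce | hco
      · exfalso
        obtain ⟨k, hk⟩ := hce
        obtain ⟨j, hj⟩ := h3
        have : c * c = 2 * j + 1 := by omega
        rw [hk] at this
        have h5 : (k + k) * (k + k) = 2 * (2 * k * k) := by ring
        omega
      · exact Nat.odd_iff.mp hco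
    obtain ⟨k, hk⟩ : ∃ k, c = 2 * k + 1 := ⟨c / 2, by omega⟩
    rw [hk] at hg
    obtain ⟨j, hj⟩ := hg
    have h6 : 1 + (2 * k + 1) * (2 * k + 1) = 4 * (k * k + k) + 2 := by ring
    omega
  · exact not_sq_dvd_geom_of_odd hb1 hr hodd hrb hg

theorem one_lt_cycN {n a : ℕ} (hn : 1 < n) (ha : 1 < a) : 1 < cycN n a := by
  have h := sub_one_pow_totient_lt_natAbs_cyclotomic_eval hn (show a ≠ 1 by omega)
  have h1 : 1 ≤ (a - 1) ^ Nat.totient n := Nat.one_le_pow _ _ (by omega)
  exact lt_of_le_of_lt h1 h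

/-- without a primitive prime divisor, `Φ_n(a)` is a prime dividing `n` -/
theorem cycN_eq_prime_of_no_primitive {n a : ℕ} (hn : 3 ≤ n) (ha : 1 < a)
    (hno : ∀ r : ℕ, r.Prime → r ∣ a ^ n - 1 → ∃ k : ℕ, 0 < k ∧ k < n ∧ r ∣ a ^ k - 1) :
    ∃ r : ℕ, r.Prime ∧ r ∣ n ∧ cycN n a = r := by
  have hn0 : 0 < n := by omega
  have hN1 : 1 < cycN n a := one_lt_cycN (by omega) ha
  have hbad : ∀ q : ℕ, q.Prime → q ∣ cycN n a → q ∣ n := by
    intro q hq hqN
    by_contra hqn
    obtain ⟨k, hk0, hkn, hk⟩ := hno q hq (hqN.trans (cycN_dvd hn0 ha))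
    exact primitive_of_dvd_of_not_dvd ha hq hqN hqn k hk0 hkn hk
  obtain ⟨r, hr, hrN⟩ := Nat.exists_prime_and_dvd hN1.ne'
  have hrn := hbad r hr hrN
  have huniq : ∀ {d : ℕ}, d.Prime → d ∣ cycN n a → d = r := by
    intro d hd hdN
    have hdn := hbad d hd hdN
    exact le_antisymm (bad_prime_largest hn0 ha hr hrN hrn hd hdn)
      (bad_prime_largest hn0 ha hd hdN hdn hr hrn)
  have hpow := Nat.eq_prime_pow_of_unique_prime_dvd (by omega : cycN n a ≠ 0) huniq
  set k := (cycN n a).primeFactorsList.length with hk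
  have hk1 : k ≤ 1 := by
    by_contra hlt
    apply not_sq_dvd_cycN hn ha hr hrN hrn
    rw [hpow]
    exact pow_dvd_pow r (by omega)
  have hk0 : k ≠ 0 := by
    intro h0
    rw [h0, pow_zero] at hpow
    omega
  have : k = 1 := by omega
  rw [this, pow_one] at hpow
  exact ⟨r, hr, hrn, hpow⟩

theorem cycN_expand_of_dvd {k r x : ℕ} (hr : r.Prime) (hdiv : r ∣ k) (hx : 1 < x) :
    cycN (k * r) x = cycN k (x ^ r) := by
  have h := congrArg (fun P : ℤ[X] => P.eval (x : ℤ)) (cyclotomic_expand_eq_cyclotomic hr hdiv ℤ)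
  simp only [expand_eval] at h
  have hx' : 1 < x ^ r := Nat.one_lt_pow hr.ne_zero hx
  have h2 : ((cycN (k * r) x : ℕ) : ℤ) = ((cycN k (x ^ r) : ℕ) : ℤ) := by
    rw [cast_cycN hx, cast_cycN hx', ← h]
    push_cast
    rfl
  exact_mod_cast h2

theorem cycN_expand_of_not_dvd {k r x : ℕ} (hr : r.Prime) (hdiv : ¬ r ∣ k) (hx : 1 < x) :
    cycN k (x ^ r) = cycN (k * r) x * cycN k x := by
  have h := congrArg (fun P : ℤ[X] => P.eval (x : ℤ))
    (cyclotomic_expand_eq_cyclotomic_mul hr hdiv ℤ)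
  simp only [expand_eval, eval_mul] at h
  have hx' : 1 < x ^ r := Nat.one_lt_pow hr.ne_zero hx
  have h2 : ((cycN k (x ^ r) : ℕ) : ℤ) = ((cycN (k * r) x * cycN k x : ℕ) : ℤ) := by
    rw [Nat.cast_mul, cast_cycN hx, cast_cycN hx, cast_cycN hx', ← h]
    push_cast
    rfl
  exact_mod_cast h2

theorem cycN_one {x : ℕ} (hx : 1 < x) : cycN 1 x = x - 1 := by
  have h2 : ((cycN 1 x : ℕ) : ℤ) = ((x - 1 : ℕ) : ℤ) := by
    rw [cast_cycN hx, cyclotomic_one, Nat.cast_sub hx.le]
    simp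
  exact_mod_cast h2

theorem cycN_two {x : ℕ} (hx : 1 < x) : cycN 2 x = x + 1 := by
  have h2 : ((cycN 2 x : ℕ) : ℤ) = ((x + 1 : ℕ) : ℤ) := by
    rw [cast_cycN hx, cyclotomic_two]
    simp
  exact_mod_cast h2

theorem cast_cycN_real {n a : ℕ} (ha : 1 < a) :
    ((cycN n a : ℕ) : ℝ) = (cyclotomic n ℝ).eval (a : ℝ) := by
  have h := cyclotomic.eval_apply (a : ℤ) n (Int.castRingHom ℝ)
  rw [← cast_cycN ha] at h
  simpa using h.symm

theorem cycN_lt_add_one_pow {m a : ℕ} (hm : 3 ≤ m) (ha : 1 < a) :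
    cycN m a < (a + 1) ^ Nat.totient m := by
  have h := cyclotomic_eval_lt_add_one_pow_totient hm (q := (a : ℝ)) (by exact_mod_cast ha)
  rw [← cast_cycN_real ha] at h
  exact_mod_cast h

theorem sub_one_pow_lt_cycN {m a : ℕ} (hm : 1 < m) (ha : 1 < a) :
    (a - 1) ^ Nat.totient m < cycN m a :=
  sub_one_pow_totient_lt_natAbs_cyclotomic_eval hm (show a ≠ 1 by omega)

theorem three_mul_lt_two_pow : ∀ r : ℕ, 5 ≤ r → 3 * r + 1 ≤ 2 ^ r := by
  intro r hr
  induction r, hr using Nat.le_induction with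
  | base => norm_num
  | succ k hk ih =>
    rw [pow_succ]
    omega

theorem add_one_lt_two_pow : ∀ r : ℕ, 2 ≤ r → r + 1 < 2 ^ r := by
  intro r hr
  induction r, hr using Nat.le_induction with
  | base => norm_num
  | succ k hk ih =>
    rw [pow_succ]
    omega

/-- the size argument: `Φ_n(a)` is a prime dividing `n ≥ 3` only for `(a, n) = (2, 6)` -/
theorem eq_two_six_of_cycN_eq_prime {n a r : ℕ} (hn : 3 ≤ n) (ha : 1 < a) (hr : r.Prime)
    (hrn : r ∣ n) (h : cycN n a = r) : a = 2 ∧ n = 6 := by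
  have hn0 : 0 < n := by omega
  have hrN : r ∣ cycN n a := h ▸ dvd_rfl
  obtain ⟨e, m, he, hnem, hm, hm0, hprim, hmr⟩ := bad_prime hn0 ha hr hrN hrn
  have hr2 := hr.two_le
  have hphi : r - 1 ≤ Nat.totient n := by
    have h1 := Nat.totient_dvd_of_dvd hrn
    rw [Nat.totient_prime hr] at h1
    exact Nat.le_of_dvd (Nat.totient_pos.mpr hn0) h1
  by_cases ha3 : 3 ≤ a
  · exfalso
    have h1 := sub_one_pow_lt_cycN (m := n) (by omega) ha
    have h2 : r ≤ (a - 1) ^ Nat.totient n := by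
      calc r ≤ 2 ^ (r - 1) := by
            have := Nat.lt_two_pow_self (n := r - 1)
            omega
        _ ≤ 2 ^ Nat.totient n := Nat.pow_le_pow_right (by norm_num) hphi
        _ ≤ (a - 1) ^ Nat.totient n := Nat.pow_le_pow_left (by omega) _
    omega
  · have ha2 : a = 2 := by omega
    subst ha2
    refine ⟨rfl, ?_⟩
    by_cases he2 : 2 ≤ e
    · exfalso
      set k := r ^ (e - 2) * m * r with hk
      have hnk : n = k * r := by
        rw [hnem, hk]
        have : r ^ e = r ^ (e - 2) * r * r := by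
          rw [mul_assoc, ← pow_two, ← pow_add]
          congr 1
          omega
        rw [this]
        ring
      have hrk : r ∣ k := ⟨r ^ (e - 2) * m, by rw [hk]; ring⟩
      have hk0 : 0 < k := by
        rw [hk]
        exact Nat.mul_pos (Nat.mul_pos (pow_pos hr.pos _) hm0) hr.pos
      have hk2 : 1 < k := by
        have := Nat.le_of_dvd hk0 hrk
        omega
      have h1 := cycN_expand_of_dvd hr hrk (x := 2) (by norm_num)
      rw [← hnk, h] at h1
      have hx : 1 < 2 ^ r := Nat.one_lt_pow hr.ne_zero (by norm_num)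
      have h2 := sub_one_pow_lt_cycN hk2 hx
      have h3 : 2 ^ r - 1 ≤ (2 ^ r - 1) ^ Nat.totient k :=
        Nat.le_self_pow (Nat.totient_pos.mpr hk0).ne' _
      have h4 := add_one_lt_two_pow r hr2
      omega
    · have he1 : e = 1 := by omega
      rw [he1, pow_one] at hnem
      have hnm : n = m * r := by rw [hnem, mul_comm]
      have hexp := cycN_expand_of_not_dvd hr hm (x := 2) (by norm_num)
      rw [← hnm, h] at hexp
      have hx : 1 < 2 ^ r := Nat.one_lt_pow hr.ne_zero (by norm_num)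
      have hm_le : m ≤ r - 1 := Nat.le_of_dvd (by omega) hmr
      rcases Nat.lt_or_ge m 3 with hm3 | hm3
      · interval_cases m
        · exfalso
          rw [cycN_one hx, cycN_one (by norm_num : 1 < 2)] at hexp
          have h4 := add_one_lt_two_pow r hr2
          omega
        · rw [cycN_two hx, cycN_two (by norm_num : 1 < 2)] at hexp
          have hr3 : r ≠ 2 := by
            rintro rfl
            exact hm (dvd_refl 2)
          rcases Nat.lt_or_ge r 5 with hr5 | hr5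
          · have : r = 3 := by
              interval_cases r
              · exact absurd rfl hr3
              · rfl
              · exact absurd hr (by decide)
            rw [hnem, this]
          · exfalso
            have := three_mul_lt_two_pow r hr5
            omega
      · exfalso
        have hr5 : 5 ≤ r := by
          have h4 : 4 ≤ r := by omega
          rcases Nat.eq_or_lt_of_le h4 with h5 | h5
          · rw [← h5] at hr
            exact absurd hr (by decide)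
          · omega
        set φ := Nat.totient m with hφ
        have hφ0 : φ ≠ 0 := (Nat.totient_pos.mpr hm0).ne'
        have h1 := sub_one_pow_lt_cycN (m := m) (by omega) hx
        have h2 := cycN_lt_add_one_pow hm3 (a := 2) (by norm_num)
        have h3 : (3 * r) ^ φ ≤ (2 ^ r - 1) ^ φ := by
          apply Nat.pow_le_pow_left
          have := three_mul_lt_two_pow r hr5
          omega
        have h4 : 3 ^ φ * r ≤ (3 * r) ^ φ := by
          rw [mul_pow]
          exact Nat.mul_le_mul_left _ (Nat.le_self_pow hφ0 r)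
        have h5 : r * cycN m 2 < r * 3 ^ φ := (Nat.mul_lt_mul_left hr.pos).mpr h2
        rw [← hφ] at h1
        have h6 : 3 ^ φ * r < r * cycN m 2 := by
          calc 3 ^ φ * r ≤ (3 * r) ^ φ := h4
            _ ≤ (2 ^ r - 1) ^ φ := h3
            _ < cycN m (2 ^ r) := h1
            _ = r * cycN m 2 := hexp
        linarith

/-- **Zsigmondy's theorem** (case `b = 1`). -/
theorem zsigmondy (a n : ℕ) (ha : 1 < a) (hn : 1 < n) (h6 : ¬ (a = 2 ∧ n = 6))
    (h2 : ¬ (n = 2 ∧ ∃ m : ℕ, a + 1 = 2 ^ m)) :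
    ∃ r : ℕ, r.Prime ∧ r ∣ a ^ n - 1 ∧ ∀ k : ℕ, 0 < k → k < n → ¬ r ∣ a ^ k - 1 := by
  rcases Nat.lt_or_ge n 3 with hn3 | hn3
  · have hn2 : n = 2 := by omega
    subst hn2
    have hex : ∃ r : ℕ, r.Prime ∧ r ∣ a + 1 ∧ r ≠ 2 := by
      by_contra hcon
      push Not at hcon
      apply h2
      refine ⟨rfl, _, Nat.eq_prime_pow_of_unique_prime_dvd (by omega) ?_⟩
      intro d hd hda
      exact hcon d hd hda
    obtain ⟨r, hr, hra, hr2⟩ := hex
    refine ⟨r, hr, ?_, ?_⟩
    · have : a ^ 2 - 1 = (a - 1) * (a + 1) := by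
        have h1 : 1 ≤ a := by omega
        obtain ⟨b, rfl⟩ : ∃ b, a = b + 1 := ⟨a - 1, by omega⟩
        simp only [Nat.add_sub_cancel]
        have : (b + 1) ^ 2 = b * (b + 1 + 1) + 1 := by ring
        omega
      rw [this]
      exact Dvd.dvd.mul_left hra _
    · intro k hk0 hk2 hdvd
      have hk1 : k = 1 := by omega
      rw [hk1, pow_one] at hdvd
      have h3 : r ∣ (a + 1) - (a - 1) := Nat.dvd_sub hra hdvd
      have h4 : (a + 1) - (a - 1) = 2 := by omega
      rw [h4] at h3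
      exact hr2 ((Nat.prime_dvd_prime_iff_eq hr Nat.prime_two).mp h3)
  · by_contra hno
    push Not at hno
    have hno' : ∀ r : ℕ, r.Prime → r ∣ a ^ n - 1 → ∃ k : ℕ, 0 < k ∧ k < n ∧ r ∣ a ^ k - 1 := by
      intro r hr hrd
      exact hno r hr hrd
    obtain ⟨r, hr, hrn, hreq⟩ := cycN_eq_prime_of_no_primitive hn3 ha hno'
    exact h6 (eq_two_six_of_cycN_eq_prime hn3 ha hr hrn hreq)

end Cfsg.Agent.Helper15.Zsig
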