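import Mathlib
import Cfsg.Agent.Lib.Helper13.InvNDefs

/-!
# INVN: precautionary copy of the CELLU facts under other names (helper15).
`invol_cell_unique`, `invol_cell_inv`, `invol_exists_cell`.
-/

set_option autoImplicit false
set_option linter.unusedSectionVars false
set_option linter.unusedVariables false

namespace Cfsg.Agent.Helper13.InvN

open Cfsg Cfsg.Lie Cfsg.Agent.Lead.Chev Cfsg.Agent.Helper6.ChevL

variable {F : Type*} [Field F] {D : ChevalleyDatum} (hF : ChevFacts D F) (hS : CorSize D) (hI : CorInj D)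
include hF hS hI

/-- the cell determines the action of the word -/
theorem invol_cell_unique (g : GL D.Idx F) (w w' : List ℕ) (hw : WOK D w) (hw' : WOK D w')
    (h : InCell hF g w) (h' : InCell hF g w') : ∀ r < D.nroots, reflWord D w r = reflWord D w' r := by
  obtain ⟨b, hb, u, hu, e1⟩ := h
  obtain ⟨b', hb', u', hu', e2⟩ := h'
  have hn : nWordGL D hF.xadd w ∈ D.monomialSubgroup F :=
    nWordGL_mem_monomial D hF.xadd hF.simple_lt w hw
  have hn' : nWordGL D hF.xadd w' ∈ D.monomialSubgroup F :=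
    nWordGL_mem_monomial D hF.xadd hF.simple_lt w' hw'
  apply hF.reflWord_eq_of_inv_mul_mem w w' hw hw'
  set n := nWordGL D hF.xadd w with hndef
  set n' := nWordGL D hF.xadd w' with hn'def
  have e : b * n * u = b' * n' * u' := e1.symm.trans e2
  set P := hF.bnPair
  have hnG := hF.monomial_le_group hn
  have hn'G := hF.monomial_le_group hn'
  have hbG := hF.borel_le_group hb
  have hb'G := hF.borel_le_group hb'
  have huG := hF.borel_le_group hu
  have hu'G := hF.borel_le_group hu'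
  have h1 : (⟨b * n * u, mul_mem (mul_mem hbG hnG) huG⟩ : ↥(D.group F)) ∈
      DoubleCoset.doubleCoset (⟨n, hnG⟩ : ↥(D.group F)) (P.B : Set ↥(D.group F)) P.B :=
    DoubleCoset.mem_doubleCoset.2 ⟨⟨b, hbG⟩, hb, ⟨u, huG⟩, hu, rfl⟩
  have h2 : (⟨b * n * u, mul_mem (mul_mem hbG hnG) huG⟩ : ↥(D.group F)) ∈
      DoubleCoset.doubleCoset (⟨n', hn'G⟩ : ↥(D.group F)) (P.B : Set ↥(D.group F)) P.B :=
    DoubleCoset.mem_doubleCoset.2 ⟨⟨b', hb'G⟩, hb', ⟨u', hu'G⟩, hu', Subtype.ext e⟩
  have h3 := (DoubleCoset.doubleCoset_eq_of_mem h1).symm.trans (DoubleCoset.doubleCoset_eq_of_mem h2)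
  have h4 := (Cfsg.Agent.S0309.result P (n := ⟨n, hnG⟩) (n' := ⟨n', hn'G⟩) hn hn').1 h3
  have h5 : n⁻¹ * n' ∈ D.borelSubgroup F := h4
  have h7 : n⁻¹ * n' ∈ D.monomialSubgroup F := mul_mem (inv_mem hn) hn'
  have h6 : n⁻¹ * n' ∈ D.borelSubgroup F ⊓ D.monomialSubgroup F := ⟨h5, h7⟩
  rwa [hF.borel_inf_monomial] at h6

/-- the inverse of an element of the cell of `w` lies in the cell of `w.reverse` -/
theorem invol_cell_inv (g : GL D.Idx F) (w : List ℕ) (hw : WOK D w) (h : InCell hF g w) :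
    InCell hF g⁻¹ w.reverse := by
  obtain ⟨b, hb, b', hb', rfl⟩ := h
  obtain ⟨k, hk, e⟩ := nWordGL_inv D hF.xadd (etaOf D) hF.nsimple hF.simple_lt w hw
  refine ⟨b'⁻¹ * k, mul_mem (inv_mem hb') (diagonal_le_borel D hk), b⁻¹, inv_mem hb, ?_⟩
  rw [mul_inv_rev, mul_inv_rev, e]
  group

/-- every element of the group lies in a cell -/
theorem invol_exists_cell (g : GL D.Idx F) (hg : g ∈ D.group F) : ∃ w, WOK D w ∧ InCell hF g w := by
  obtain ⟨b, hb, w, hw, u, hu, e⟩ := hF.exists_bruhat hS g hg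
  refine ⟨w, hw, b, hb, u, ?_, e⟩
  exact posUnipotent_le_borel D (hF.negPartN_le_posUnipotent _ (hF.negPart_le_negPartN w hw hu))

end Cfsg.Agent.Helper13.InvN
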