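import Mathlib
import Cfsg.Agent.Lib.Helper13.InvNDefs

/-!
# INVN piece INVOL (helper15 for helper13), core: `invol_of_sq` with the two CELLU facts as hypotheses.
-/

set_option autoImplicit false
set_option linter.unusedSectionVars false
set_option linter.unusedVariables false

namespace Cfsg.Agent.Helper13.InvN

open Cfsg Cfsg.Lie Cfsg.Agent.Lead.Chev Cfsg.Agent.Helper6.ChevL

variable {F : Type*} [Field F] {D : ChevalleyDatum} (hF : ChevFacts D F) (hS : CorSize D) (hI : CorInj D)
include hF hS hI

/-- core of PIECE INVOL -/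
theorem invol_of_sq_core
    (hcu : ∀ (g : GL D.Idx F) (w w' : List ℕ), WOK D w → WOK D w' → InCell hF g w → InCell hF g w' →
      ∀ r < D.nroots, reflWord D w r = reflWord D w' r)
    (hci : ∀ (g : GL D.Idx F) (w : List ℕ), WOK D w → InCell hF g w → InCell hF g⁻¹ w.reverse)
    (g : GL D.Idx F) (hgg : g * g = 1) (w : List ℕ) (hw : WOK D w) (h : InCell hF g w) :
    Invol D w ∧ ∀ r < D.nroots, reflWord D w.reverse r = reflWord D w r := by
  have hginv : g⁻¹ = g := inv_eq_of_mul_eq_one_left hgg
  have h1 : InCell hF g w.reverse := by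
    have := hci g w hw h
    rwa [hginv] at this
  have h2 : ∀ r < D.nroots, reflWord D w.reverse r = reflWord D w r :=
    hcu g w.reverse w hw.reverse hw h1 h
  refine ⟨?_, h2⟩
  intro r hr
  rw [← h2 r hr]
  exact reflWord_reverse_cancel D (etaOf D) hF.facts w hw r hr

end Cfsg.Agent.Helper13.InvN
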