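import Mathlib
import Cfsg.Agent.Lib.Helper13.InvNDefs
import Cfsg.Agent.Lib.Helper15.InvNCELLUPre
import Cfsg.Agent.Lib.Helper15.InvNINVOLCore

/-!
# INVN piece INVOL (helper15 for helper13): `invol_of_sq`.
-/

set_option autoImplicit false
set_option linter.unusedSectionVars false
set_option linter.unusedVariables false

namespace Cfsg.Agent.Helper13.InvN

open Cfsg Cfsg.Lie Cfsg.Agent.Lead.Chev Cfsg.Agent.Helper6.ChevL

variable {F : Type*} [Field F] {D : ChevalleyDatum} (hF : ChevFacts D F) (hS : CorSize D) (hI : CorInj D)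
include hF hS hI

/-- PIECE INVOL: the word of the cell of an involution acts as an involution -/
theorem invol_of_sq (g : GL D.Idx F) (hgg : g * g = 1) (w : List ℕ) (hw : WOK D w) (h : InCell hF g w) :
    Invol D w ∧ ∀ r < D.nroots, reflWord D w.reverse r = reflWord D w r :=
  invol_of_sq_core hF hS hI (fun g w w' hw hw' h h' => invol_cell_unique hF hS hI g w w' hw hw' h h')
    (fun g w hw h => invol_cell_inv hF hS hI g w hw h) g hgg w hw h

end Cfsg.Agent.Helper13.InvN
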