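import Mathlib
import Cfsg.Agent.Lib.Helper13.InvNDefs
import Cfsg.Agent.Lib.Helper6.InvNLEN

/-!
# INVN piece LONGJ (helper15 for helper13): `exists_longJ`, the longest word of `W_J`.
-/

set_option autoImplicit false
set_option linter.unusedSectionVars false
set_option linter.unusedVariables false

namespace Cfsg.Agent.Helper13.InvN

open Cfsg Cfsg.Lie Cfsg.Agent.Lead.Chev Cfsg.Agent.Helper6.ChevL

variable {F : Type*} [Field F] {D : ChevalleyDatum} (hF : ChevFacts D F) (hS : CorSize D) (hI : CorInj D)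
include hF hS hI

/-- PIECE LONGJ: the longest word of `W_J` -/
theorem exists_longJ (J : Set ℕ) :
    ∃ c : List ℕ, WOK D c ∧ (∀ i ∈ c, i ∈ J) ∧
      ∀ j ∈ J, j < D.rank → D.IsNegRoot (reflWord D c (D.simple j)) := by
  classical
  -- the property "some J-word has length n"
  let P : ℕ → Prop := fun n => ∃ c : List ℕ, WOK D c ∧ (∀ i ∈ c, i ∈ J) ∧ len D c = n
  have hP0 : P (len D ([] : List ℕ)) :=
    ⟨[], WOK.nil D, fun i hi => absurd hi List.not_mem_nil, rfl⟩
  have hle : len D ([] : List ℕ) ≤ D.nroots := len_le D []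
  have hmax := Nat.findGreatest_spec (P := P) hle hP0
  obtain ⟨c, hc, hcJ, hlen⟩ := hmax
  refine ⟨c, hc, hcJ, ?_⟩
  intro j hjJ hj
  rcases hF.sign.pos_or_neg _ (reflWord_lt D (etaOf D) hF.facts c hc _ (hF.simple_lt j hj)) with hp | hn
  · exfalso
    have h1 := len_snoc_lt hF hS hI c hc j hj hp
    have hP1 : P (len D (c ++ [j])) := by
      refine ⟨c ++ [j], hc.snoc hj, ?_, rfl⟩
      intro i hi
      rcases List.mem_append.1 hi with h2 | h2
      · exact hcJ i h2
      · rw [List.mem_singleton.1 h2]; exact hjJ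
    have h2 := Nat.le_findGreatest (P := P) (len_le D (c ++ [j])) hP1
    omega
  · exact hn

end Cfsg.Agent.Helper13.InvN
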