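import Mathlib
import Cfsg.Agent.Lib.Helper13.InvNDefs
import Cfsg.Agent.Lib.Helper15.InvNCELLUPre

/-!
# INVN: precautionary copy of MAX under another name (helper15): `invol_exists_max`.
-/

set_option autoImplicit false
set_option linter.unusedSectionVars false
set_option linter.unusedVariables false

namespace Cfsg.Agent.Helper13.InvN

open Cfsg Cfsg.Lie Cfsg.Agent.Lead.Chev Cfsg.Agent.Helper6.ChevL

variable {F : Type*} [Field F] {D : ChevalleyDatum} (hF : ChevFacts D F) (hS : CorSize D) (hI : CorInj D)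
include hF hS hI

/-- a conjugate in a cell of maximal length -/
theorem invol_exists_max (g : GL D.Idx F) (hg : g ∈ D.group F) :
    ∃ c ∈ D.group F, ∃ w, WOK D w ∧ IsMaxCell hF (c * g * c⁻¹) w := by
  classical
  let P : ℕ → Prop := fun n =>
    ∃ c ∈ D.group F, ∃ w, WOK D w ∧ InCell hF (c * g * c⁻¹) w ∧ len D w = n
  obtain ⟨w0, hw0, hc0⟩ := invol_exists_cell hF hS hI g hg
  have hP0 : P (len D w0) := by
    refine ⟨1, one_mem _, w0, hw0, ?_, rfl⟩
    simpa using hc0
  have hmax := Nat.findGreatest_spec (P := P) (len_le D w0) hP0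
  obtain ⟨c, hc, w, hw, hcell, hlen⟩ := hmax
  refine ⟨c, hc, w, hw, hcell, ?_⟩
  intro c' hc' w' hw' hcell'
  have hP1 : P (len D w') := by
    refine ⟨c' * c, mul_mem hc' hc, w', hw', ?_, rfl⟩
    have e : c' * c * g * (c' * c)⁻¹ = c' * (c * g * c⁻¹) * c'⁻¹ := by group
    rw [e]
    exact hcell'
  have h2 := Nat.le_findGreatest (P := P) (len_le D w') hP1
  omega

end Cfsg.Agent.Helper13.InvN
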