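import Mathlib
import Cfsg.Agent.Lib.Helper13.InvNDefs

/-!
# INVN piece STEP3 (helper15 for helper13): `good_conj`, conjugation by `n_i` keeps the form `t = v h n_w`.
-/

set_option autoImplicit false
set_option linter.unusedSectionVars false
set_option linter.unusedVariables false

namespace Cfsg.Agent.Helper13.InvN

open Cfsg Cfsg.Lie Cfsg.Agent.Lead.Chev Cfsg.Agent.Helper6.ChevL

variable {F : Type*} [Field F] {D : ChevalleyDatum} (hF : ChevFacts D F) (hS : CorSize D) (hI : CorInj D)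
include hF hS hI

/-- `n_i⁻¹ k n_i ∈ H` for `k ∈ H` -/
theorem step3_inv_conj_diag (i : ℕ) (hi : i < D.rank) (k : GL D.Idx F) (hk : k ∈ D.diagonalSubgroup F) :
    (nGL D hF.xadd (D.simple i))⁻¹ * k * nGL D hF.xadd (D.simple i) ∈ D.diagonalSubgroup F := by
  obtain ⟨h0, hh0, e0⟩ := nGL_inv_eq D hF.xadd (D.simple i) (hF.simple_lt i hi)
  have h1 : h0 * k * h0⁻¹ ∈ D.diagonalSubgroup F := mul_mem (mul_mem hh0 hk) (inv_mem hh0)
  have h2 := nGL_conj_mem_diagonal D hF.xadd i (etaOf D i) (hF.nsimple i hi) _ h1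
  have e : (nGL D hF.xadd (D.simple i))⁻¹ * k * nGL D hF.xadd (D.simple i) =
      nGL D hF.xadd (D.simple i) * (h0 * k * h0⁻¹) * (nGL D hF.xadd (D.simple i))⁻¹ := by
    have e1 : nGL D hF.xadd (D.simple i) = h0⁻¹ * (nGL D hF.xadd (D.simple i))⁻¹ := by
      have h3 := congrArg (fun x => x⁻¹) e0
      simp only [inv_inv, mul_inv_rev] at h3
      exact h3
    calc (nGL D hF.xadd (D.simple i))⁻¹ * k * nGL D hF.xadd (D.simple i)
        = (nGL D hF.xadd (D.simple i) * h0) * k * nGL D hF.xadd (D.simple i) := by rw [← e0]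
      _ = (nGL D hF.xadd (D.simple i) * h0) * k * (h0⁻¹ * (nGL D hF.xadd (D.simple i))⁻¹) := by
          rw [← e1]
      _ = _ := by group
  rw [e]
  exact h2

/-- `n_w⁻¹ n_i n_w = n_i k` with `k ∈ H`, when `w` fixes `α_i` -/
theorem step3_conj_simple (w : List ℕ) (hw : WOK D w) (i : ℕ) (hi : i < D.rank)
    (hfix : reflWord D w (D.simple i) = D.simple i) :
    ∃ k ∈ D.diagonalSubgroup F,
      (nWordGL D hF.xadd w)⁻¹ * nGL D hF.xadd (D.simple i) * nWordGL D hF.xadd w =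
        nGL D hF.xadd (D.simple i) * k := by
  have hsl := hF.simple_lt i hi
  have hrev : reflWord D w.reverse (D.simple i) = D.simple i := by
    have := reflWord_reverse_cancel' D (etaOf D) hF.facts w hw (D.simple i) hsl
    rwa [hfix] at this
  obtain ⟨k0, hk0, e0⟩ := nWordGL_inv D hF.xadd (etaOf D) hF.nsimple hF.simple_lt w hw
  have h1 := nWordGL_conj_nGLt D hF.xadd (etaOf D) hF.nsimple w.reverse hw.reverse (D.simple i) hsl 1
  rw [hrev, ← nGL_eq_nGLt] at h1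
  -- the sign
  have hsign : ∃ k1 ∈ D.diagonalSubgroup F,
      nGLt D hF.xadd (D.simple i) (((signWord D (etaOf D) w.reverse (D.simple i) : ℤ) : F) * 1) =
        nGL D hF.xadd (D.simple i) * k1 := by
    rcases signWord_sq D (etaOf D) w.reverse
      (fun j hj s => (hF.nsimple j (hw.reverse j hj)).sign s) (D.simple i) with h2 | h2
    · refine ⟨1, one_mem _, ?_⟩
      rw [h2, nGL_eq_nGLt]
      simp
    · obtain ⟨h0, hh0, e1⟩ := nGL_inv_eq D hF.xadd (D.simple i) hsl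
      refine ⟨h0, hh0, ?_⟩
      rw [h2, ← e1, nGL_eq_nGLt, nGLt_inv]
      simp
  obtain ⟨k1, hk1, e1⟩ := hsign
  rw [e1] at h1
  -- assemble
  have hn : nWordGL D hF.xadd w = (nWordGL D hF.xadd w.reverse)⁻¹ * k0⁻¹ := by
    have : nWordGL D hF.xadd w = ((nWordGL D hF.xadd w)⁻¹)⁻¹ := (inv_inv _).symm
    rw [this, e0]
    group
  have hk2 := step3_inv_conj_diag hF hS hI i hi k0 hk0
  refine ⟨((nGL D hF.xadd (D.simple i))⁻¹ * k0 * nGL D hF.xadd (D.simple i)) * k1 * k0⁻¹,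
    mul_mem (mul_mem hk2 hk1) (inv_mem hk0), ?_⟩
  calc (nWordGL D hF.xadd w)⁻¹ * nGL D hF.xadd (D.simple i) * nWordGL D hF.xadd w
      = (k0 * nWordGL D hF.xadd w.reverse) * nGL D hF.xadd (D.simple i) *
          ((nWordGL D hF.xadd w.reverse)⁻¹ * k0⁻¹) := by rw [← e0, ← hn]
    _ = k0 * (nWordGL D hF.xadd w.reverse * nGL D hF.xadd (D.simple i) *
          (nWordGL D hF.xadd w.reverse)⁻¹) * k0⁻¹ := by group
    _ = k0 * (nGL D hF.xadd (D.simple i) * k1) * k0⁻¹ := by rw [h1]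
    _ = _ := by group

/-- PIECE STEP3: conjugation by `n_i` keeps the form -/
theorem good_conj (t : GL D.Idx F) (w : List ℕ) (hw : WOK D w) (v h : GL D.Idx F) (hG : Good hF t w v h)
    (i : ℕ) (hi : i < D.rank) (hfix : reflWord D w (D.simple i) = D.simple i)
    (hv : v ∈ posExcept D F (D.simple i))
    (hv' : (nWordGL D hF.xadd w)⁻¹ * v * nWordGL D hF.xadd w ∈ posExcept D F (D.simple i)) :
    ∃ h', Good hF (nGL D hF.xadd (D.simple i) * t * (nGL D hF.xadd (D.simple i))⁻¹) w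
      (nGL D hF.xadd (D.simple i) * v * (nGL D hF.xadd (D.simple i))⁻¹) h' := by
  obtain ⟨et, hvU, hh, hvU'⟩ := hG
  obtain ⟨k2, hk2, e2⟩ := step3_conj_simple hF hS hI w hw i hi hfix
  set ni := nGL D hF.xadd (D.simple i) with hni
  set n := nWordGL D hF.xadd w with hn
  -- `n_i n n_i⁻¹ = k n`
  have hk3 : ni * k2 * ni⁻¹ ∈ D.diagonalSubgroup F :=
    nGL_conj_mem_diagonal D hF.xadd i (etaOf D i) (hF.nsimple i hi) k2 hk2
  have hk : n * (ni * k2 * ni⁻¹) * n⁻¹ ∈ D.diagonalSubgroup F :=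
    nWordGL_conj_mem_diagonal D hF.xadd (etaOf D) hF.nsimple w hw _ hk3
  have e3 : ni * n * ni⁻¹ = (n * (ni * k2 * ni⁻¹) * n⁻¹) * n := by
    have : ni * n = n * (ni * k2) := by
      rw [← e2]; group
    calc ni * n * ni⁻¹ = n * (ni * k2) * ni⁻¹ := by rw [this]
      _ = _ := by group
  have hhc : ni * h * ni⁻¹ ∈ D.diagonalSubgroup F :=
    nGL_conj_mem_diagonal D hF.xadd i (etaOf D i) (hF.nsimple i hi) h hh
  refine ⟨(ni * h * ni⁻¹) * (n * (ni * k2 * ni⁻¹) * n⁻¹), ?_, ?_, mul_mem hhc hk, ?_⟩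
  · show ni * t * ni⁻¹ = (ni * v * ni⁻¹) * ((ni * h * ni⁻¹) * (n * (ni * k2 * ni⁻¹) * n⁻¹)) * n
    calc ni * t * ni⁻¹ = (ni * v * ni⁻¹) * (ni * h * ni⁻¹) * (ni * n * ni⁻¹) := by rw [et]; group
      _ = _ := by rw [e3]; group
  · exact hF.posExcept_le_posUnipotent i hi (hF.nGL_conj_posExcept i hi v hv)
  · -- `n⁻¹ (n_i v n_i⁻¹) n = (n⁻¹ n_i n) (n⁻¹ v n) (n⁻¹ n_i n)⁻¹`
    show n⁻¹ * (ni * v * ni⁻¹) * n ∈ D.posUnipotent F
    have e4 : n⁻¹ * (ni * v * ni⁻¹) * n =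
        (ni * k2 * ni⁻¹) * (ni * (n⁻¹ * v * n) * ni⁻¹) * (ni * k2 * ni⁻¹)⁻¹ := by
      calc n⁻¹ * (ni * v * ni⁻¹) * n = (n⁻¹ * ni * n) * (n⁻¹ * v * n) * (n⁻¹ * ni * n)⁻¹ := by group
        _ = (ni * k2) * (n⁻¹ * v * n) * (ni * k2)⁻¹ := by rw [e2]
        _ = _ := by group
    rw [e4]
    have h5 : ni * (n⁻¹ * v * n) * ni⁻¹ ∈ D.posUnipotent F :=
      hF.posExcept_le_posUnipotent i hi (hF.nGL_conj_posExcept i hi _ hv')
    exact conj_mem_posUnipotent D hF.hall hF.hconj _ hk3 _ h5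

end Cfsg.Agent.Helper13.InvN
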