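import Mathlib

set_option autoImplicit false
set_option linter.unusedSectionVars false
set_option linter.unusedVariables false

/-!
Groups generated by 3-cycles: a set `S` of points is `Good` for a permutation group `N`
when every 3-cycle supported in `S` lies in `N`.  Good sets grow along 3-cycles of `N`
meeting them, so a group generated by 3-cycles contains all 3-cycles on an invariant set.
-/

namespace Cfsg.Agent.Helper15.ThreeCyc

open Equiv Equiv.Perm

variable {α : Type*} [Fintype α] [DecidableEq α]

/-- an even permutation moving at most three points is trivial or a 3-cycle -/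
theorem even_small {v : Perm α} (hs : Perm.sign v = 1) (hc : v.support.card ≤ 3) :
    v = 1 ∨ v.IsThreeCycle := by
  rcases Nat.lt_or_ge v.support.card 3 with h | h
  · left
    have h0 : v.support.card = 0 ∨ v.support.card = 1 ∨ v.support.card = 2 := by omega
    rcases h0 with hv | hv | hv
    · exact card_support_eq_zero.1 hv
    · exact absurd hv (card_support_ne_one v)
    · have := (card_support_eq_two.1 hv).sign_eq
      rw [hs] at this; exact absurd this (by decide)
  · right
    exact card_support_eq_three_iff.1 (le_antisymm hc h)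

theorem isThreeCycle_conj {t : Perm α} (g : Perm α) (ht : t.IsThreeCycle) :
    (g * t * g⁻¹).IsThreeCycle := by
  unfold IsThreeCycle at *
  rw [cycleType_conj]; exact ht

theorem mem_support_conj {t g : Perm α} {x : α} :
    x ∈ (g * t * g⁻¹).support ↔ g⁻¹ x ∈ t.support := by
  rw [mem_support, mem_support, Perm.mul_apply, Perm.mul_apply]
  constructor
  · intro h h2; apply h; rw [h2]; simp
  · intro h h2; apply h
    have := congrArg (fun z => g⁻¹ z) h2
    simpa using this

theorem stable_of_support_subset {g : Perm α} {X : Finset α} (h : g.support ⊆ X) (x : α) :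
    x ∈ X ↔ g x ∈ X := by
  by_cases hx : x ∈ g.support
  · exact ⟨fun _ => h (apply_mem_support.2 hx), fun _ => h hx⟩
  · rw [notMem_support.1 hx]

theorem exists_threeCycle {a b c : α} (ab : a ≠ b) (ac : a ≠ c) (bc : b ≠ c) :
    ∃ σ : Perm α, σ.IsThreeCycle ∧ σ a = b ∧ σ.support ⊆ {a, b, c} := by
  refine ⟨swap a c * swap a b, isThreeCycle_swap_mul_swap_same ac ab bc.symm, ?_, ?_⟩
  · rw [Perm.mul_apply, swap_apply_left, swap_apply_of_ne_of_ne ab.symm bc]
  · refine (support_mul_le _ _).trans ?_
    rw [support_swap ac, support_swap ab]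
    intro x hx
    simp only [Finset.sup_eq_union, Finset.mem_union, Finset.mem_insert,
      Finset.mem_singleton] at hx ⊢
    tauto

/-- every 3-cycle supported in `S` lies in `N` -/
def Good (N : Subgroup (Perm α)) (S : Finset α) : Prop :=
  ∀ u : Perm α, u.IsThreeCycle → u.support ⊆ S → u ∈ N

theorem exists_third {S : Finset α} (h3 : 3 ≤ S.card) (a b : α) :
    ∃ w ∈ S, w ≠ a ∧ w ≠ b := by
  have h1 : 1 ≤ ((S.erase a).erase b).card := by
    have := Finset.pred_card_le_card_erase (s := S) (a := a)
    have := Finset.pred_card_le_card_erase (s := S.erase a) (a := b)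
    omega
  obtain ⟨w, hw⟩ := Finset.card_pos.1 h1
  rw [Finset.mem_erase, Finset.mem_erase] at hw
  exact ⟨w, hw.2.2, hw.2.1, hw.1⟩

theorem good_insert {N : Subgroup (Perm α)} {S : Finset α} (hG : Good N S) (h3 : 3 ≤ S.card)
    {t : Perm α} (htN : t ∈ N) (ht : t.IsThreeCycle) {y : α} (hy : y ∉ S)
    (hts : t.support ⊆ insert y S) (hyt : y ∈ t.support) : Good N (insert y S) := by
  intro u hu hus
  by_cases hyu : y ∈ u.support
  swap
  · apply hG u hu
    intro x hx
    rcases Finset.mem_insert.1 (hus hx) with rfl | h
    · exact absurd hx hyu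
    · exact h
  have hex : ∃ z ∈ insert y S, z ∉ u.support := by
    by_contra hcon
    push Not at hcon
    have h1 : insert y S ⊆ u.support := hcon
    have h2 := Finset.card_le_card h1
    rw [Finset.card_insert_of_notMem hy, hu.card_support] at h2
    omega
  obtain ⟨z, hzS, hzu⟩ := hex
  have hzy : z ≠ y := fun h => hzu (h ▸ hyu)
  have hzS' : z ∈ S := by
    rcases Finset.mem_insert.1 hzS with h | h
    · exact absurd h hzy
    · exact h
  have ha'y : t y ≠ y := mem_support.1 hyt
  have ha'S : t y ∈ S := by
    have h1 : t y ∈ t.support := apply_mem_support.2 hyt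
    rcases Finset.mem_insert.1 (hts h1) with h | h
    · exact absurd h ha'y
    · exact h
  obtain ⟨g, hgN, hgs, hgy⟩ :
      ∃ g ∈ N, (∀ x, x ∈ insert y S ↔ g x ∈ insert y S) ∧ g y = z := by
    by_cases haz : t y = z
    · exact ⟨t, htN, stable_of_support_subset hts, haz⟩
    · obtain ⟨w, hwS, hwa, hwz⟩ := exists_third h3 (t y) z
      obtain ⟨σ, hσ3, hσa, hσs⟩ := exists_threeCycle haz hwa.symm hwz.symm
      have hσS : σ.support ⊆ S := by
        refine hσs.trans ?_
        intro x hx
        simp only [Finset.mem_insert, Finset.mem_singleton] at hx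
        rcases hx with rfl | rfl | rfl
        · exact ha'S
        · exact hzS'
        · exact hwS
      have hσN : σ ∈ N := hG σ hσ3 hσS
      refine ⟨σ * t, N.mul_mem hσN htN, ?_, ?_⟩
      · intro x
        rw [Perm.mul_apply, stable_of_support_subset hts x]
        exact stable_of_support_subset (hσS.trans (Finset.subset_insert y S)) (t x)
      · rw [Perm.mul_apply, hσa]
  have hconj : g⁻¹ * u * g ∈ N := by
    apply hG
    · have := isThreeCycle_conj g⁻¹ hu
      simpa using this
    · intro x hx
      have h1 : x ∈ (g⁻¹ * u * g⁻¹⁻¹).support := by simpa using hx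
      rw [mem_support_conj, inv_inv] at h1
      have h2 : g x ∈ insert y S := hus h1
      have h3 : x ∈ insert y S := (hgs x).2 h2
      rcases Finset.mem_insert.1 h3 with rfl | h
      · rw [hgy] at h1; exact absurd h1 hzu
      · exact h
  have hu_eq : u = g * (g⁻¹ * u * g) * g⁻¹ := by group
  rw [hu_eq]
  exact N.mul_mem (N.mul_mem hgN hconj) (N.inv_mem hgN)


theorem cube_apply {t : Perm α} (ht : t.IsThreeCycle) (a : α) : t (t (t a)) = a := by
  have h : t ^ 3 = 1 := by rw [← ht.orderOf]; exact pow_orderOf_eq_one t
  have := congrArg (fun f : Perm α => f a) h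
  simpa [pow_succ, Perm.mul_apply] using this

theorem inv_apply_of_apply {t : Perm α} {a b : α} (h : t a = b) : t⁻¹ b = a := by
  rw [← h]; simp

/-- the support of a 3-cycle in `N` is good -/
theorem good_support {N : Subgroup (Perm α)} {t : Perm α} (htN : t ∈ N) (ht : t.IsThreeCycle) :
    Good N t.support := by
  intro u hu hus
  have hsupp : u.support = t.support :=
    Finset.eq_of_subset_of_card_le hus (by rw [hu.card_support, ht.card_support])
  obtain ⟨a, ha⟩ : t.support.Nonempty := by
    rw [← Finset.card_pos, ht.card_support]; norm_num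
  have hsup := ht.support_eq_iff_mem_support.2 ha
  have hnd := ht.nodup_iff_mem_support.2 ha
  have hua : u a ∈ t.support := by
    rw [← hsupp]; exact apply_mem_support.2 (hsupp ▸ ha)
  have hua' : u a ≠ a := mem_support.1 (hsupp ▸ ha)
  rw [hsup] at hua
  simp only [Finset.mem_insert, Finset.mem_singleton] at hua
  have key : ∀ w : Perm α, w.IsThreeCycle → w.support = t.support → w a = u a →
      w⁻¹ * u = 1 := by
    intro w hw hws hwa
    have hv1 : (w⁻¹ * u) a = a := by
      rw [Perm.mul_apply, ← hwa]; simp
    have hvs : (w⁻¹ * u).support ⊆ t.support.erase a := by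
      intro x hx
      rw [Finset.mem_erase]
      refine ⟨fun h => (mem_support.1 hx) (h ▸ hv1), ?_⟩
      have := (support_mul_le _ _) hx
      rw [support_inv, hws, hsupp] at this
      simpa using this
    have hcard : (w⁻¹ * u).support.card ≤ 2 := by
      have h1 := Finset.card_le_card hvs
      rw [Finset.card_erase_of_mem ha, ht.card_support] at h1
      exact h1
    have hsign : Perm.sign (w⁻¹ * u) = 1 := by
      rw [map_mul, map_inv, hw.sign, hu.sign]; simp
    rcases even_small hsign (by omega) with h | h
    · exact h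
    · rw [h.card_support] at hcard; omega
  rcases hua with h | h | h
  · exact absurd h hua'
  · -- u a = t a
    have := key t ht rfl h.symm
    have hut : u = t := by
      have h2 : t * (t⁻¹ * u) = t * 1 := by rw [this]
      simpa using h2
    rw [hut]; exact htN
  · -- u a = t (t a) = t⁻¹ a
    have hta : t⁻¹ a = t (t a) := inv_apply_of_apply (cube_apply ht a)
    have hsi : t⁻¹.support = t.support := support_inv t
    have := key t⁻¹ ht.inv hsi (by rw [hta, h])
    have hut : u = t⁻¹ := by
      have h2 : t⁻¹ * (t⁻¹⁻¹ * u) = t⁻¹ * 1 := by rw [this]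
      simpa using h2
    rw [hut]; exact N.inv_mem htN


/-- a 3-cycle of `N` with exactly one point in a good set yields one with two points in it -/
theorem exists_two_in {N : Subgroup (Perm α)} {S : Finset α} (hG : Good N S) (h3 : 3 ≤ S.card)
    {t : Perm α} (htN : t ∈ N) (ht : t.IsThreeCycle) {p : α} (hp : p ∈ S)
    (hx : t p ∉ S) (hq : t (t p) ∉ S) :
    ∃ u ∈ N, u.IsThreeCycle ∧ u.support ⊆ insert (t (t p)) S ∧ t (t p) ∈ u.support := by
  have hpx : t p ≠ p := fun h => hx (h.symm ▸ hp)
  have hpt : p ∈ t.support := mem_support.2 hpx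
  have hsup := ht.support_eq_iff_mem_support.2 hpt
  have htq : t (t (t p)) = p := cube_apply ht p
  obtain ⟨p', hp'S, hp'p, -⟩ := exists_third h3 p p
  obtain ⟨r, hrS, hrp, hrp'⟩ := exists_third h3 p p'
  obtain ⟨σ, hσ3, hσp, hσs⟩ := exists_threeCycle hp'p.symm hrp.symm hrp'.symm
  have hσS : σ.support ⊆ S := by
    refine hσs.trans ?_
    intro z hz
    simp only [Finset.mem_insert, Finset.mem_singleton] at hz
    rcases hz with rfl | rfl | rfl
    · exact hp
    · exact hp'S
    · exact hrS
  have hσN : σ ∈ N := hG σ hσ3 hσS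
  have hσx : σ (t p) = t p := notMem_support.1 (fun h => hx (hσS h))
  have hσq : σ (t (t p)) = t (t p) := notMem_support.1 (fun h => hq (hσS h))
  have hσix : σ⁻¹ (t p) = t p := inv_apply_of_apply hσx
  have hσiq : σ⁻¹ (t (t p)) = t (t p) := inv_apply_of_apply hσq
  have hp'x : p' ≠ t p := fun h => hx (h ▸ hp'S)
  have hp'q : p' ≠ t (t p) := fun h => hq (h ▸ hp'S)
  have htp' : t p' = p' := by
    apply notMem_support.1
    rw [hsup]
    simp only [Finset.mem_insert, Finset.mem_singleton, not_or]
    exact ⟨hp'p, hp'x, hp'q⟩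
  have htip' : t⁻¹ p' = p' := inv_apply_of_apply htp'
  have ht'N : σ * t * σ⁻¹ ∈ N := N.mul_mem (N.mul_mem hσN htN) (N.inv_mem hσN)
  have ht'3 : (σ * t * σ⁻¹).IsThreeCycle := isThreeCycle_conj σ ht
  have huN : t⁻¹ * (σ * t * σ⁻¹) ∈ N := N.mul_mem (N.inv_mem htN) ht'N
  have hsign : Perm.sign (t⁻¹ * (σ * t * σ⁻¹)) = 1 := by
    rw [map_mul, map_inv, ht.sign, ht'3.sign]; simp
  have hux : (t⁻¹ * (σ * t * σ⁻¹)) (t p) = t p := by
    simp only [Perm.mul_apply]
    rw [hσix, hσq]
    exact inv_apply_of_apply rfl
  have huq : (t⁻¹ * (σ * t * σ⁻¹)) (t (t p)) = p' := by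
    simp only [Perm.mul_apply]
    rw [hσiq, htq, hσp, htip']
  have hus : (t⁻¹ * (σ * t * σ⁻¹)).support ⊆ {p, p', t (t p)} := by
    intro z hz
    by_contra hzn
    simp only [Finset.mem_insert, Finset.mem_singleton, not_or] at hzn
    apply mem_support.1 hz
    by_cases hzx : z = t p
    · rw [hzx]; exact hux
    · have h1 : (σ * t * σ⁻¹) z = z := by
        apply notMem_support.1
        rw [mem_support_conj, hsup]
        simp only [Finset.mem_insert, Finset.mem_singleton, not_or]
        refine ⟨?_, ?_, ?_⟩
        · intro h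
          apply hzn.2.1
          have := congrArg (fun y => σ y) h
          simp at this
          rw [this, hσp]
        · intro h
          apply hzx
          have := congrArg (fun y => σ y) h
          simp at this
          rw [this, hσx]
        · intro h
          apply hzn.2.2
          have := congrArg (fun y => σ y) h
          simp at this
          rw [this, hσq]
      have h2 : t⁻¹ z = z := by
        apply notMem_support.1
        rw [support_inv, hsup]
        simp only [Finset.mem_insert, Finset.mem_singleton, not_or]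
        exact ⟨hzn.1, hzx, hzn.2.2⟩
      rw [Perm.mul_apply, h1, h2]
  have hqsupp : t (t p) ∈ (t⁻¹ * (σ * t * σ⁻¹)).support := by
    rw [mem_support, huq]; exact hp'q
  have hcard : (t⁻¹ * (σ * t * σ⁻¹)).support.card ≤ 3 :=
    (Finset.card_le_card hus).trans Finset.card_le_three
  refine ⟨_, huN, ?_, ?_, hqsupp⟩
  · rcases even_small hsign hcard with h | h
    · rw [h] at hqsupp; simp at hqsupp
    · exact h
  · refine hus.trans ?_
    intro z hz
    simp only [Finset.mem_insert, Finset.mem_singleton] at hz
    rcases hz with rfl | rfl | rfl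
    · exact Finset.mem_insert_of_mem hp
    · exact Finset.mem_insert_of_mem hp'S
    · exact Finset.mem_insert_self _ _


theorem stable_closure {T : Set (Perm α)} {S : Finset α}
    (h : ∀ t ∈ T, ∀ x, x ∈ S ↔ t x ∈ S) :
    ∀ g ∈ Subgroup.closure T, ∀ x, x ∈ S ↔ g x ∈ S := by
  intro g hg
  induction hg using Subgroup.closure_induction with
  | mem t ht => exact h t ht
  | one => intro x; simp
  | mul a b _ _ iha ihb => intro x; rw [Perm.mul_apply, ihb x, iha (b x)]
  | inv a _ iha => intro x; rw [iha (a⁻¹ x)]; simp

/-- a group generated by 3-cycles contains every 3-cycle on some invariant set containing the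
support of a given generator -/
theorem exists_invariant_good (T : Set (Perm α)) (hT : ∀ t ∈ T, t.IsThreeCycle) {t₀ : Perm α}
    (ht₀ : t₀ ∈ T) :
    ∃ S : Finset α, t₀.support ⊆ S ∧ Good (Subgroup.closure T) S ∧
      ∀ g ∈ Subgroup.closure T, ∀ x, x ∈ S ↔ g x ∈ S := by
  have hTN : T ⊆ Subgroup.closure T := Subgroup.subset_closure
  obtain ⟨S, hS0, hSmax⟩ := Finite.exists_le_maximal
    (p := fun S : Finset α => t₀.support ⊆ S ∧ Good (Subgroup.closure T) S)
    (a := t₀.support) ⟨le_rfl, good_support (hTN ht₀) (hT t₀ ht₀)⟩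
  have hS3 : 3 ≤ S.card := by
    have := Finset.card_le_card hS0
    rw [(hT t₀ ht₀).card_support] at this; exact this
  refine ⟨S, hSmax.prop.1, hSmax.prop.2, ?_⟩
  apply stable_closure
  intro t ht
  have key : ∀ x ∈ S, t x ∈ S := by
    intro p hp
    by_contra hx
    have hgrow : ∀ y, y ∉ S → Good (Subgroup.closure T) (insert y S) → False := by
      intro y hy hgood
      have := hSmax.le_of_ge
        (⟨hSmax.prop.1.trans (Finset.subset_insert _ _), hgood⟩) (Finset.subset_insert y S)
      exact hy (this (Finset.mem_insert_self y S))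
    have hpx : t p ≠ p := fun h => hx (h.symm ▸ hp)
    have hpt : p ∈ t.support := mem_support.2 hpx
    by_cases hq : t (t p) ∈ S
    · apply hgrow (t p) hx
      apply good_insert hSmax.prop.2 hS3 (hTN ht) (hT t ht) hx
      · rw [(hT t ht).support_eq_iff_mem_support.2 hpt]
        intro z hz
        simp only [Finset.mem_insert, Finset.mem_singleton] at hz
        rcases hz with rfl | rfl | rfl
        · exact Finset.mem_insert_of_mem hp
        · exact Finset.mem_insert_self _ _
        · exact Finset.mem_insert_of_mem hq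
      · exact apply_mem_support.2 hpt
    · obtain ⟨u, huN, hu3, hus, hqu⟩ :=
        exists_two_in hSmax.prop.2 hS3 (hTN ht) (hT t ht) hp hx hq
      exact hgrow _ hq (good_insert hSmax.prop.2 hS3 huN hu3 hq hus hqu)
  intro x
  refine ⟨key x, fun h => ?_⟩
  have := key _ (key _ h)
  rwa [cube_apply (hT t ht)] at this

end Cfsg.Agent.Helper15.ThreeCyc
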