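import Mathlib
import Cfsg.Agent.Lib.Helper15.ThreeCyc1

set_option autoImplicit false
set_option linter.unusedSectionVars false
set_option linter.unusedVariables false

/-!
The alternating group on a subset `S` of the points, as a subgroup of the full symmetric group.
-/

namespace Cfsg.Agent.Helper15.ThreeCyc

open Equiv Equiv.Perm

variable {α : Type*} [Fintype α] [DecidableEq α]

/-- even permutations supported in `S` -/
def altOn (S : Finset α) : Subgroup (Perm α) where
  carrier := {σ | Perm.sign σ = 1 ∧ σ.support ⊆ S}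
  mul_mem' := by
    rintro a b ⟨ha1, ha2⟩ ⟨hb1, hb2⟩
    refine ⟨by rw [map_mul, ha1, hb1, one_mul], (support_mul_le a b).trans ?_⟩
    exact Finset.union_subset ha2 hb2
  one_mem' := ⟨map_one _, by simp⟩
  inv_mem' := by
    rintro a ⟨ha1, ha2⟩
    exact ⟨by rw [map_inv, ha1, inv_one], by rw [support_inv]; exact ha2⟩

theorem mem_altOn {S : Finset α} {σ : Perm α} :
    σ ∈ altOn S ↔ Perm.sign σ = 1 ∧ σ.support ⊆ S := Iff.rfl

theorem threeCycle_mem_altOn {S : Finset α} {σ : Perm α} (h : σ.IsThreeCycle)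
    (hs : σ.support ⊆ S) : σ ∈ altOn S := ⟨h.sign, hs⟩

theorem altOn_eq_map (S : Finset α) :
    altOn S = (alternatingGroup {x // x ∈ S}).map (ofSubtype (p := fun x => x ∈ S)) := by
  ext σ
  constructor
  · rintro ⟨hs, hsup⟩
    have h₁ : ∀ x, σ x ∈ S ↔ x ∈ S := fun x => (stable_of_support_subset hsup x).symm
    have h₂ : ∀ x, σ x ≠ x → x ∈ S := fun x hx => hsup (mem_support.2 hx)
    refine ⟨σ.subtypePerm h₁, ?_, ofSubtype_subtypePerm h₁ h₂⟩
    rw [SetLike.mem_coe, mem_alternatingGroup]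
    convert (sign_subtypePerm σ h₁ h₂).trans hs
  · rintro ⟨τ, hτ, rfl⟩
    rw [SetLike.mem_coe, mem_alternatingGroup] at hτ
    refine ⟨by rw [sign_ofSubtype, hτ], ?_⟩
    rw [support_ofSubtype]
    intro x hx
    rw [Finset.mem_map] at hx
    obtain ⟨y, -, rfl⟩ := hx
    exact y.2

theorem good_altOn_le {N : Subgroup (Perm α)} {S : Finset α} (hG : Good N S) : altOn S ≤ N := by
  rw [altOn_eq_map, ← closure_three_cycles_eq_alternating, MonoidHom.map_closure,
    Subgroup.closure_le]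
  rintro _ ⟨τ, hτ, rfl⟩
  apply hG
  · unfold IsThreeCycle
    rw [cycleType_ofSubtype]; exact hτ
  · rw [support_ofSubtype]
    intro x hx
    rw [Finset.mem_map] at hx
    obtain ⟨y, -, rfl⟩ := hx
    exact y.2

/-- `altOn S` is an alternating group of degree `|S|` -/
noncomputable def altOnEquiv (S : Finset α) : ↥(altOn S) ≃* ↥(alternatingGroup (Fin S.card)) :=
  ((MulEquiv.subgroupCongr (altOn_eq_map S)).trans
    (Subgroup.equivMapOfInjective _ _ ofSubtype_injective).symm).trans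
    (Equiv.altCongrHom S.equivFin)

theorem isSimpleGroup_altOn {S : Finset α} (h5 : 5 ≤ S.card) : IsSimpleGroup ↥(altOn S) := by
  have : IsSimpleGroup ↥(alternatingGroup (Fin S.card)) :=
    alternatingGroup.isSimpleGroup (by simpa using h5)
  exact (altOnEquiv S).isSimpleGroup

theorem conj_mem_altOn {S : Finset α} {g σ : Perm α} (hg : ∀ x, x ∈ S ↔ g x ∈ S)
    (hσ : σ ∈ altOn S) : g * σ * g⁻¹ ∈ altOn S := by
  refine ⟨?_, ?_⟩
  · rw [map_mul, map_mul, map_inv, mul_comm, ← mul_assoc, inv_mul_cancel, one_mul]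
    exact hσ.1
  · intro x hx
    rw [mem_support_conj] at hx
    have h1 : g⁻¹ x ∈ S := hσ.2 hx
    have h2 := (hg (g⁻¹ x)).1 h1
    simpa using h2

theorem exists_mem_altOn_moving {S : Finset α} (h3 : 3 ≤ S.card) {x : α} (hx : x ∈ S) :
    ∃ σ ∈ altOn S, σ x ≠ x := by
  obtain ⟨b, hbS, hbx, -⟩ := exists_third h3 x x
  obtain ⟨c, hcS, hcx, hcb⟩ := exists_third h3 x b
  obtain ⟨σ, hσ3, hσx, hσs⟩ := exists_threeCycle hbx.symm hcx.symm hcb.symm
  refine ⟨σ, threeCycle_mem_altOn hσ3 (hσs.trans ?_), by rw [hσx]; exact hbx⟩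
  intro z hz
  simp only [Finset.mem_insert, Finset.mem_singleton] at hz
  rcases hz with rfl | rfl | rfl
  · exact hx
  · exact hbS
  · exact hcS

end Cfsg.Agent.Helper15.ThreeCyc
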