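import Mathlib
import Cfsg.Agent.S4337
import Cfsg.Agent.Lib.Helper15.ThreeCyc2

set_option autoImplicit false
set_option linter.unusedSectionVars false
set_option linter.unusedVariables false
set_option linter.style.haveILetI false
set_option linter.deprecated false

/-!
Perfect groups act trivially on invariant sets of at most four points.
-/

namespace Cfsg.Agent.Helper15.ThreeCyc

open Equiv Equiv.Perm

theorem perm_isSolvable_of_card_le_four {β : Type*} [Fintype β] [DecidableEq β]
    (h : Fintype.card β ≤ 4) : Group.IsSolvable (Perm β) := by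
  obtain ⟨ι⟩ : Nonempty (β ↪ Fin 4) :=
    Function.Embedding.nonempty_of_card_le (by simpa using h)
  haveI := Cfsg.Agent.S4337.perm4_solvable
  exact solvable_of_solvable_injective (viaEmbeddingHom_injective ι)

variable {α : Type*} [Fintype α] [DecidableEq α]

theorem fixes_of_perfect {Kt : Type*} [Group Kt] [Group.IsPerfect Kt] (ι : Kt →* Perm α)
    (X : Finset α) (hX : X.card ≤ 4) (hstab : ∀ k x, x ∈ X ↔ ι k x ∈ X) :
    ∀ k, ∀ x ∈ X, ι k x = x := by
  let ρ : Kt →* Perm {x // x ∈ X} :=
    { toFun := fun k => (ι k).subtypePerm (fun x => (hstab k x).symm)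
      map_one' := by ext x; simp
      map_mul' := by
        intro a b; ext x
        simp only [map_mul, subtypePerm_apply, Perm.mul_apply] }
  haveI : Group.IsSolvable (Perm {x // x ∈ X}) :=
    perm_isSolvable_of_card_le_four (by simpa using hX)
  haveI : Group.IsPerfect ρ.range := Group.IsPerfect.range ρ
  have hsub : Subsingleton ρ.range := by
    by_contra hns
    rw [not_subsingleton_iff_nontrivial] at hns
    exact Group.IsPerfect.not_isSolvable ρ.range
      (solvable_of_solvable_injective (Subgroup.subtype_injective ρ.range))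
  have hρ : ∀ k, ρ k = 1 := by
    intro k
    have := Subsingleton.elim (⟨ρ k, ⟨k, rfl⟩⟩ : ρ.range) 1
    exact congrArg Subtype.val this
  intro k x hx
  have := congrArg (fun f => (f ⟨x, hx⟩ : α)) (hρ k)
  simpa [ρ] using this

end Cfsg.Agent.Helper15.ThreeCyc
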