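import Mathlib
import Cfsg.Agent.Lib.Helper13.InvNDefsC

/-!
# INVN piece NACT (helper15 for helper13): `nGL_froot`, `n_β` for `β = c α_i` is the word
`c ++ [i] ++ c.reverse` up to `H`.
-/

set_option autoImplicit false
set_option linter.unusedSectionVars false
set_option linter.unusedVariables false

namespace Cfsg.Agent.Helper13.InvN

open Cfsg Cfsg.Lie Cfsg.Agent.Lead.Chev Cfsg.Agent.Helper6.ChevL

variable {F : Type*} [Field F] {D : ChevalleyDatum} (hF : ChevFacts D F) (hS : CorSize D) (hI : CorInj D)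
include hF hS hI

section char2

variable [CharP F 2]

/-- `n_β = n_c (n_i h₁) n_c⁻¹` with `h₁ ∈ H`, for `β = c α_i` -/
theorem nact_conj (c : List ℕ) (hc : WOK D c) (i : ℕ) (hi : i < D.rank) :
    ∃ h1 ∈ D.diagonalSubgroup F, nGL D hF.xadd (reflWord D c (D.simple i)) =
      nWordGL D hF.xadd c * (nGL D hF.xadd (D.simple i) * h1) * (nWordGL D hF.xadd c)⁻¹ := by
  have hsl := hF.simple_lt i hi
  have h1 := nWordGL_conj_nGLt D hF.xadd (etaOf D) hF.nsimple c hc (D.simple i) hsl 1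
  rw [← nGL_eq_nGLt] at h1
  rcases signWord_sq D (etaOf D) c (fun j hj s => (hF.nsimple j (hc j hj)).sign s) (D.simple i) with h2 | h2
  · refine ⟨1, one_mem _, ?_⟩
    rw [h2] at h1
    rw [mul_one, h1, nGL_eq_nGLt]
    simp
  · obtain ⟨h0, hh0, e0⟩ := nGL_inv_eq D hF.xadd (D.simple i) hsl
    refine ⟨h0, hh0, ?_⟩
    rw [h2] at h1
    have h3 : (nGL D hF.xadd (reflWord D c (D.simple i)))⁻¹ =
        nWordGL D hF.xadd c * nGL D hF.xadd (D.simple i) * (nWordGL D hF.xadd c)⁻¹ := by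
      rw [h1, nGL_eq_nGLt, nGLt_inv]
      simp
    have h4 := congrArg (fun x => x⁻¹) h3
    simp only [inv_inv] at h4
    rw [h4, ← e0]
    group

/-- PIECE NACT: `n_β` for `β = c α_i` is `n_c n_i n_c⁻¹` up to `H`, i.e. the word `c ++ [i] ++ c.reverse` up to `H` -/
theorem nGL_froot (e : List ℕ × ℕ) (hc : WOK D e.1) (hi : e.2 < D.rank) :
    ∃ k ∈ D.diagonalSubgroup F, nGL D hF.xadd (froot D e) = k * nWordGL D hF.xadd (e.1 ++ [e.2] ++ e.1.reverse) := by
  obtain ⟨c, i⟩ := e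
  simp only at hc hi ⊢
  unfold froot
  simp only
  obtain ⟨h1, hh1, e1⟩ := nact_conj hF hS hI c hc i hi
  obtain ⟨k0, hk0, e0⟩ := nWordGL_inv D hF.xadd (etaOf D) hF.nsimple hF.simple_lt c hc
  have hci : WOK D (c ++ [i]) := hc.snoc hi
  have hk : nWordGL D hF.xadd (c ++ [i]) * (h1 * k0) * (nWordGL D hF.xadd (c ++ [i]))⁻¹ ∈ D.diagonalSubgroup F :=
    nWordGL_conj_mem_diagonal D hF.xadd (etaOf D) hF.nsimple (c ++ [i]) hci _ (mul_mem hh1 hk0)
  refine ⟨_, hk, ?_⟩
  have hs : nWordGL D hF.xadd [i] = nGL D hF.xadd (D.simple i) := by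
    rw [nWordGL_cons, nWordGL_nil, mul_one]
  rw [e1, e0, nWordGL_append D hF.xadd (c ++ [i]) c.reverse, nWordGL_append D hF.xadd c [i], hs]
  group

end char2

end Cfsg.Agent.Helper13.InvN
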