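import Mathlib
import Cfsg.Agent.Lib.Helper13.InvNDefsC
import Cfsg.Agent.Lib.Helper15.InvNNACT

/-!
# INVN piece FRAME (helper15 for helper13), core: `frame_prod` with the ORTHO and SL2 facts as hypotheses.
-/

set_option autoImplicit false
set_option linter.unusedSectionVars false
set_option linter.unusedVariables false

namespace Cfsg.Agent.Helper13.InvN

open Cfsg Cfsg.Lie Cfsg.Agent.Lead.Chev Cfsg.Agent.Helper6.ChevL

variable {F : Type*} [Field F] {D : ChevalleyDatum} (hF : ChevFacts D F) (hS : CorSize D) (hI : CorInj D)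

/-- the product of the `x_{-r}(1)` -/
def frame_zprod (hF : ChevFacts D F) (L : List ℕ) : GL D.Idx F :=
  (L.map fun r => xGL D hF.xadd (D.neg r) 1).prod

/-- the product of the `n_r` -/
def frame_mprod (hF : ChevFacts D F) (L : List ℕ) : GL D.Idx F :=
  (L.map fun r => nGL D hF.xadd r).prod

/-- the centralizer of `x_β(1)` and `x_{-β}(1)` -/
def frame_cen (hF : ChevFacts D F) (β : ℕ) : Subgroup (GL D.Idx F) :=
  Subgroup.centralizer {xGL D hF.xadd β 1, xGL D hF.xadd (D.neg β) 1}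

theorem frame_zprod_cons (r : ℕ) (L : List ℕ) :
    frame_zprod hF (r :: L) = xGL D hF.xadd (D.neg r) 1 * frame_zprod hF L := by
  unfold frame_zprod
  rw [List.map_cons, List.prod_cons]

theorem frame_mprod_cons (r : ℕ) (L : List ℕ) :
    frame_mprod hF (r :: L) = nGL D hF.xadd r * frame_mprod hF L := by
  unfold frame_mprod
  rw [List.map_cons, List.prod_cons]

theorem frame_xprod_cons (r : ℕ) (L : List ℕ) :
    xprod hF (r :: L) = xGL D hF.xadd r 1 * xprod hF L := by
  unfold xprod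
  rw [List.map_cons, List.prod_cons]

theorem frame_mem_cen {β : ℕ} {g : GL D.Idx F} (h1 : xGL D hF.xadd β 1 * g = g * xGL D hF.xadd β 1)
    (h2 : xGL D hF.xadd (D.neg β) 1 * g = g * xGL D hF.xadd (D.neg β) 1) : g ∈ frame_cen hF β := by
  unfold frame_cen
  rw [Subgroup.mem_centralizer_iff]
  intro h hh
  rcases hh with rfl | hh
  · exact h1
  · rw [Set.mem_singleton_iff] at hh
    rw [hh]; exact h2

theorem frame_cen_comm {β : ℕ} {g : GL D.Idx F} (hg : g ∈ frame_cen hF β) :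
    xGL D hF.xadd β 1 * g = g * xGL D hF.xadd β 1 ∧
      xGL D hF.xadd (D.neg β) 1 * g = g * xGL D hF.xadd (D.neg β) 1 := by
  unfold frame_cen at hg
  rw [Subgroup.mem_centralizer_iff] at hg
  exact ⟨hg _ (Set.mem_insert _ _), hg _ (Set.mem_insert_of_mem _ rfl)⟩

include hS hI

section char2

variable [CharP F 2]

section core

variable (hO : ∀ r s : ℕ, r < D.nroots → s < D.nroots → evenComm D r s = true → ∀ t u : F,
    xGL D hF.xadd s u * xGL D hF.xadd r t = xGL D hF.xadd r t * xGL D hF.xadd s u)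
  (hN1 : ∀ r < D.nroots,
    nGL D hF.xadd r = xGL D hF.xadd (D.neg r) 1 * xGL D hF.xadd r 1 * (xGL D hF.xadd (D.neg r) 1)⁻¹)
  (hN2 : ∀ r < D.nroots, nGL D hF.xadd r * nGL D hF.xadd r = 1)
include hO hN1 hN2

/-- strongly orthogonal roots: `x_{±γ}(1)` and `n_γ` centralize `x_{±β}(1)` -/
theorem frame_root_mem_cen (β γ : ℕ) (hβ : β < D.nroots) (hγ : γ < D.nroots)
    (h : strongOrtho D β γ = true) :
    xGL D hF.xadd γ 1 ∈ frame_cen hF β ∧ xGL D hF.xadd (D.neg γ) 1 ∈ frame_cen hF β ∧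
      nGL D hF.xadd γ ∈ frame_cen hF β := by
  unfold strongOrtho at h
  simp only [Bool.and_eq_true] at h
  obtain ⟨⟨⟨h1, h2⟩, h3⟩, h4⟩ := h
  have hnβ := hF.sign.neg_lt β hβ
  have hnγ := hF.sign.neg_lt γ hγ
  have a1 : xGL D hF.xadd γ 1 ∈ frame_cen hF β :=
    frame_mem_cen hF ((hO β γ hβ hγ h1 1 1).symm) ((hO (D.neg β) γ hnβ hγ h3 1 1).symm)
  have a2 : xGL D hF.xadd (D.neg γ) 1 ∈ frame_cen hF β :=
    frame_mem_cen hF ((hO β (D.neg γ) hβ hnγ h2 1 1).symm) ((hO (D.neg β) (D.neg γ) hnβ hnγ h4 1 1).symm)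
  refine ⟨a1, a2, ?_⟩
  rw [hN1 γ hγ]
  exact mul_mem (mul_mem a2 a1) (inv_mem a2)

theorem frame_prod_mem_cen (β : ℕ) (hβ : β < D.nroots) (L : List ℕ)
    (hL : ∀ γ ∈ L, γ < D.nroots ∧ strongOrtho D β γ = true) :
    xprod hF L ∈ frame_cen hF β ∧ frame_zprod hF L ∈ frame_cen hF β ∧ frame_mprod hF L ∈ frame_cen hF β := by
  induction L with
  | nil =>
    unfold xprod frame_zprod frame_mprod
    simp only [List.map_nil, List.prod_nil]
    exact ⟨one_mem _, one_mem _, one_mem _⟩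
  | cons γ L ih =>
    obtain ⟨i1, i2, i3⟩ := ih (fun δ hδ => hL δ (List.mem_cons_of_mem _ hδ))
    obtain ⟨hγ, hγo⟩ := hL γ List.mem_cons_self
    obtain ⟨a1, a2, a3⟩ := frame_root_mem_cen hF hS hI hO hN1 hN2 β γ hβ hγ hγo
    rw [frame_xprod_cons, frame_zprod_cons, frame_mprod_cons]
    exact ⟨mul_mem a1 i1, mul_mem a2 i2, mul_mem a3 i3⟩

/-- `z (∏ x_β(1)) z⁻¹ = ∏ n_β` and `(∏ n_β)² = 1` -/
theorem frame_conj (L : List ℕ) (hlt : ∀ γ ∈ L, γ < D.nroots)
    (hp : L.Pairwise fun r s => strongOrtho D r s = true) :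
    frame_zprod hF L * xprod hF L * (frame_zprod hF L)⁻¹ = frame_mprod hF L ∧
      frame_mprod hF L * frame_mprod hF L = 1 := by
  induction L with
  | nil =>
    unfold xprod frame_zprod frame_mprod
    simp
  | cons β L ih =>
    rw [List.pairwise_cons] at hp
    obtain ⟨hβL, hpL⟩ := hp
    have hβ := hlt β List.mem_cons_self
    have hltL : ∀ γ ∈ L, γ < D.nroots := fun γ hγ => hlt γ (List.mem_cons_of_mem _ hγ)
    obtain ⟨ih1, ih2⟩ := ih hltL hpL
    obtain ⟨c1, c2, c3⟩ := frame_prod_mem_cen hF hS hI hO hN1 hN2 β hβ L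
      (fun γ hγ => ⟨hltL γ hγ, hβL γ hγ⟩)
    obtain ⟨y1, y2⟩ := frame_cen_comm hF c1
    obtain ⟨z1, z2⟩ := frame_cen_comm hF c2
    obtain ⟨m1, m2⟩ := frame_cen_comm hF c3
    rw [frame_xprod_cons, frame_zprod_cons, frame_mprod_cons]
    set a := xGL D hF.xadd (D.neg β) 1 with ha
    set b := xGL D hF.xadd β 1 with hb
    set z := frame_zprod hF L with hz
    set y := xprod hF L with hy
    set m := frame_mprod hF L with hm
    have hn : nGL D hF.xadd β = a * b * a⁻¹ := hN1 β hβ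
    have hma : m * a⁻¹ = a⁻¹ * m := by
      calc m * a⁻¹ = a⁻¹ * (a * m) * a⁻¹ := by group
        _ = a⁻¹ * (m * a) * a⁻¹ := by rw [m2]
        _ = a⁻¹ * m := by group
    have hmn : m * nGL D hF.xadd β = nGL D hF.xadd β * m := by
      rw [hn]
      calc m * (a * b * a⁻¹) = (m * a) * b * a⁻¹ := by group
        _ = (a * m) * b * a⁻¹ := by rw [m2]
        _ = a * (m * b) * a⁻¹ := by group
        _ = a * (b * m) * a⁻¹ := by rw [m1]
        _ = a * b * (m * a⁻¹) := by group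
        _ = a * b * (a⁻¹ * m) := by rw [hma]
        _ = a * b * a⁻¹ * m := by group
    constructor
    · calc a * z * (b * y) * (a * z)⁻¹ = a * (z * b) * y * z⁻¹ * a⁻¹ := by group
        _ = a * (b * z) * y * z⁻¹ * a⁻¹ := by rw [z1]
        _ = a * b * (z * y * z⁻¹) * a⁻¹ := by group
        _ = a * b * (m * a⁻¹) := by rw [ih1]; group
        _ = a * b * (a⁻¹ * m) := by rw [hma]
        _ = nGL D hF.xadd β * m := by rw [hn]; group
    · calc nGL D hF.xadd β * m * (nGL D hF.xadd β * m)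
          = nGL D hF.xadd β * (m * nGL D hF.xadd β) * m := by group
        _ = nGL D hF.xadd β * (nGL D hF.xadd β * m) * m := by rw [hmn]
        _ = (nGL D hF.xadd β * nGL D hF.xadd β) * (m * m) := by group
        _ = 1 := by rw [hN2 β hβ, ih2, one_mul]

end core

theorem frame_zprod_mem_group (L : List ℕ) : frame_zprod hF L ∈ D.group F := by
  unfold frame_zprod
  apply Subgroup.list_prod_mem
  intro x hx
  obtain ⟨r, -, rfl⟩ := List.mem_map.1 hx
  exact xGL_mem_group D hF.xadd _ _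

theorem frame_mprod_mem_monomial (L : List ℕ) (hlt : ∀ γ ∈ L, γ < D.nroots) :
    frame_mprod hF L ∈ D.monomialSubgroup F := by
  unfold frame_mprod
  apply Subgroup.list_prod_mem
  intro x hx
  obtain ⟨r, hr, rfl⟩ := List.mem_map.1 hx
  exact nGL_mem_monomial D hF.xadd r (hlt r hr)

/-- `∏ n_β = k n_{frameWord S}` -/
theorem frame_mprod_word (S : Frame) (hv : ∀ e ∈ S, WOK D e.1 ∧ e.2 < D.rank) :
    ∃ k ∈ D.diagonalSubgroup F, frame_mprod hF (frameRoots D S) = k * nWordGL D hF.xadd (frameWord S) ∧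
      WOK D (frameWord S) := by
  induction S with
  | nil =>
    refine ⟨1, one_mem _, ?_, ?_⟩
    · unfold frame_mprod frameRoots frameWord
      simp [nWordGL_nil]
    · unfold frameWord
      simp only [List.flatMap_nil]
      exact WOK.nil D
  | cons e S ih =>
    obtain ⟨k', hk', e', hw'⟩ := ih (fun f hf => hv f (List.mem_cons_of_mem _ hf))
    obtain ⟨hc, hi⟩ := hv e List.mem_cons_self
    obtain ⟨k1, hk1, e1⟩ := nGL_froot hF hS hI e hc hi
    have hwe : WOK D (e.1 ++ [e.2] ++ e.1.reverse) := (hc.snoc hi).append hc.reverse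
    have hfw : frameWord (e :: S) = (e.1 ++ [e.2] ++ e.1.reverse) ++ frameWord S := by
      unfold frameWord
      rw [List.flatMap_cons]
    have hfr : frameRoots D (e :: S) = froot D e :: frameRoots D S := by
      unfold frameRoots
      rw [List.map_cons]
    have hk2 : nWordGL D hF.xadd (e.1 ++ [e.2] ++ e.1.reverse) * k' *
        (nWordGL D hF.xadd (e.1 ++ [e.2] ++ e.1.reverse))⁻¹ ∈ D.diagonalSubgroup F :=
      nWordGL_conj_mem_diagonal D hF.xadd (etaOf D) hF.nsimple _ hwe k' hk'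
    refine ⟨k1 * (nWordGL D hF.xadd (e.1 ++ [e.2] ++ e.1.reverse) * k' *
        (nWordGL D hF.xadd (e.1 ++ [e.2] ++ e.1.reverse))⁻¹), mul_mem hk1 hk2, ?_, ?_⟩
    · rw [hfr, frame_mprod_cons, e', e1, hfw,
        nWordGL_append D hF.xadd (e.1 ++ [e.2] ++ e.1.reverse) (frameWord S)]
      group
    · rw [hfw]
      exact hwe.append hw'

/-- core of PIECE FRAME -/
theorem frame_prod_core
    (hO : ∀ r s : ℕ, r < D.nroots → s < D.nroots → evenComm D r s = true → ∀ t u : F,
      xGL D hF.xadd s u * xGL D hF.xadd r t = xGL D hF.xadd r t * xGL D hF.xadd s u)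
    (hN1 : ∀ r < D.nroots,
      nGL D hF.xadd r = xGL D hF.xadd (D.neg r) 1 * xGL D hF.xadd r 1 * (xGL D hF.xadd (D.neg r) 1)⁻¹)
    (hN2 : ∀ r < D.nroots, nGL D hF.xadd r * nGL D hF.xadd r = 1)
    (S : Frame) (hS' : frameOK D S = true) :
    ∃ z ∈ D.group F, ∃ n ∈ D.monomialSubgroup F,
      z * xprod hF (frameRoots D S) * z⁻¹ = n ∧ n * n = 1 ∧
      ∃ k ∈ D.diagonalSubgroup F, n = k * nWordGL D hF.xadd (frameWord S) := by
  unfold frameOK at hS'
  rw [Bool.and_eq_true, List.all_eq_true, decide_eq_true_eq] at hS'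
  obtain ⟨hval, hp⟩ := hS'
  have hv : ∀ e ∈ S, WOK D e.1 ∧ e.2 < D.rank := by
    intro e he
    have := hval e he
    rw [Bool.and_eq_true, List.all_eq_true, decide_eq_true_eq] at this
    refine ⟨?_, this.2⟩
    intro i hi
    exact of_decide_eq_true (this.1 i hi)
  have hlt : ∀ γ ∈ frameRoots D S, γ < D.nroots := by
    intro γ hγ
    unfold frameRoots at hγ
    obtain ⟨e, he, rfl⟩ := List.mem_map.1 hγ
    unfold froot
    exact reflWord_lt D (etaOf D) hF.facts e.1 (hv e he).1 _ (hF.simple_lt e.2 (hv e he).2)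
  obtain ⟨c1, c2⟩ := frame_conj hF hS hI hO hN1 hN2 (frameRoots D S) hlt hp
  obtain ⟨k, hk, ek, -⟩ := frame_mprod_word hF hS hI S hv
  exact ⟨frame_zprod hF (frameRoots D S), frame_zprod_mem_group hF hS hI _,
    frame_mprod hF (frameRoots D S), frame_mprod_mem_monomial hF hS hI _ hlt, c1, c2, k, hk, ek⟩

end char2

end Cfsg.Agent.Helper13.InvN
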