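import Mathlib
import Cfsg.Agent.Lib.Helper13.InvNDefsC
import Cfsg.Agent.Lib.Helper23.InvNORTHO
import Cfsg.Agent.Lib.Helper25.InvNSL2
import Cfsg.Agent.Lib.Helper15.InvNFRAMECore

/-!
# INVN piece FRAME (helper15 for helper13): `frame_prod`.
-/

set_option autoImplicit false
set_option linter.unusedSectionVars false
set_option linter.unusedVariables false

namespace Cfsg.Agent.Helper13.InvN

open Cfsg Cfsg.Lie Cfsg.Agent.Lead.Chev Cfsg.Agent.Helper6.ChevL

variable {F : Type*} [Field F] {D : ChevalleyDatum} (hF : ChevFacts D F) (hS : CorSize D) (hI : CorInj D)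
include hF hS hI

section char2

variable [CharP F 2]

/-- PIECE FRAME: the three products over a frame -/
theorem frame_prod (hd : ∀ j < D.rank, D.cartan j (D.simple j) = 2) (S : Frame) (hS' : frameOK D S = true) :
    ∃ z ∈ D.group F, ∃ n ∈ D.monomialSubgroup F,
      z * xprod hF (frameRoots D S) * z⁻¹ = n ∧ n * n = 1 ∧
      ∃ k ∈ D.diagonalSubgroup F, n = k * nWordGL D hF.xadd (frameWord S) :=
  frame_prod_core hF hS hI
    (fun r s hr hs h t u => comm_of_evenComm_B hF hS hI r s hr hs h t u)
    (fun r hr => nGL_eq_conj hF hS hI hd r hr)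
    (fun r hr => nGL_sq hF hS hI hd r hr) S hS'

end char2

end Cfsg.Agent.Helper13.InvN
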