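import Mathlib
import Cfsg.Prelude.Def_JComponents
import Cfsg.Agent.Lib.Helper13.JCFFDefs
import Cfsg.Agent.Lib.Helper3.Thompson
import Cfsg.Agent.Lib.Helper10.Cores

/-!
# KS12, piece SUBN, core (helper15, for helper13's skeleton): the F1/F4 facts are hypotheses

`K_i = O²(N_i)` is characteristic in `N_i = O_i ⊓ JQ`, `N_i ⊴ M = (⨆ O_i) ⊓ JQ` because
`[M, M] ≤ C ⊓ JQ = Q ≤ N_i`, and `M ⊴ X`.
-/

set_option autoImplicit false
set_option linter.unusedSectionVars false
set_option linter.unusedVariables false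
set_option linter.style.haveILetI false

namespace Cfsg.Agent.Helper13.JCFF

open Cfsg
open scoped commutatorElement

variable {X : Type*} [Group X] [Finite X]

/-- a subgroup generated by a conjugation-stable (under `N`) set is normalized by `N` -/
theorem subn_closure_normal {N : Subgroup X} {s : Set X}
    (hs : ∀ n ∈ N, ∀ x ∈ s, n * x * n⁻¹ ∈ s) (hle : Subgroup.closure s ≤ N) :
    ((Subgroup.closure s).subgroupOf N).Normal := by
  rw [Subgroup.normal_subgroupOf_iff_le_normalizer hle]
  intro n hn
  have key : ∀ m ∈ N, ∀ y ∈ Subgroup.closure s, m * y * m⁻¹ ∈ Subgroup.closure s := by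
    intro m hm y hy
    induction hy using Subgroup.closure_induction with
    | mem x hx => exact Subgroup.subset_closure (hs m hm x hx)
    | one => simp
    | mul a b _ _ iha ihb =>
      have : m * (a * b) * m⁻¹ = (m * a * m⁻¹) * (m * b * m⁻¹) := by group
      rw [this]; exact Subgroup.mul_mem _ iha ihb
    | inv a _ iha =>
      have : m * a⁻¹ * m⁻¹ = (m * a * m⁻¹)⁻¹ := by group
      rw [this]; exact Subgroup.inv_mem _ iha
  rw [Subgroup.mem_normalizer_iff]
  intro y
  constructor
  · exact key n hn y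
  · intro hy
    have := key n⁻¹ (N.inv_mem hn) _ hy
    simpa [mul_assoc] using this

/-- `⨆ O_i` is normal -/
theorem subn_iSup_O_normal {V : Subgroup X} (F : FFData X V) : (⨆ i, F.O i).Normal := by
  constructor
  intro n hn g
  have h1 : (⨆ i, F.O i).map (MulAut.conj g).toMonoidHom ≤ ⨆ i, F.O i := by
    rw [Subgroup.map_iSup]
    apply iSup_le
    intro i
    obtain ⟨j, -, hj⟩ := F.conj g i
    rw [hj]
    exact le_iSup (fun i => F.O i) j
  have h2 : (MulAut.conj g).toMonoidHom n ∈ (⨆ i, F.O i).map (MulAut.conj g).toMonoidHom :=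
    Subgroup.mem_map_of_mem _ hn
  have := h1 h2
  simpa using this

/-- commutators of elements of `⨆ O_i` lie in `C` -/
theorem subn_comm_mem {V : Subgroup X} [V.Normal] (F : FFData X V) {x y : X}
    (hx : x ∈ ⨆ i, F.O i) (hy : y ∈ ⨆ i, F.O i) : ⁅x, y⁆ ∈ Subgroup.centralizer (V : Set X) := by
  -- pairwise statement
  have hpair : ∀ i j : Fin F.r, ∀ a ∈ F.O i, ∀ b ∈ F.O j, ⁅a, b⁆ ∈ Subgroup.centralizer (V : Set X) := by
    intro i j a ha b hb
    by_cases hij : i = j
    · subst hij
      -- `O_i / C` has order 3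
      have hle : Subgroup.centralizer (V : Set X) ≤ F.O i := F.C_le_O i
      haveI hn : ((Subgroup.centralizer (V : Set X)).subgroupOf (F.O i)).Normal :=
        Subgroup.Normal.subgroupOf inferInstance _
      have hidx : ((Subgroup.centralizer (V : Set X)).subgroupOf (F.O i)).index = 3 := F.relIndex_O i
      have hcard : Nat.card (↥(F.O i) ⧸ (Subgroup.centralizer (V : Set X)).subgroupOf (F.O i)) = 3 := by
        rw [← Subgroup.index_eq_card]; exact hidx
      haveI : Fact (Nat.Prime 3) := ⟨Nat.prime_three⟩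
      haveI hcyc : IsCyclic (↥(F.O i) ⧸ (Subgroup.centralizer (V : Set X)).subgroupOf (F.O i)) :=
        isCyclic_of_prime_card hcard
      have hcomm : IsMulCommutative
          (↥(F.O i) ⧸ (Subgroup.centralizer (V : Set X)).subgroupOf (F.O i)) :=
        IsCyclic.isMulCommutative
      have h1 := Subgroup.Normal.quotient_commutative_iff_commutator_le.mp hcomm
      have h2 : ⁅(⟨a, ha⟩ : F.O i), (⟨b, hb⟩ : F.O i)⁆ ∈ _root_.commutator (F.O i) := by
        rw [commutator_eq_closure]
        exact Subgroup.subset_closure (commutator_mem_commutatorSet _ _)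
      have h3 := h1 h2
      rw [Subgroup.mem_subgroupOf] at h3
      simpa [commutatorElement_def] using h3
    · exact F.comm_DD i j hij
        (Subgroup.commutator_mem_commutator (F.O_le_D i ha) (F.O_le_D j hb))
  -- the preimage of the centralizer of the images of all `O_j` in `X ⧸ C`
  set C : Subgroup X := Subgroup.centralizer (V : Set X) with hC
  set π := QuotientGroup.mk' C with hπ
  have hker : ∀ z : X, π z = 1 ↔ z ∈ C := fun z => QuotientGroup.eq_one_iff z
  have hcommπ : ∀ a b : X, ⁅a, b⁆ ∈ C ↔ π a * π b = π b * π a := by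
    intro a b
    rw [← hker, map_commutatorElement, commutatorElement_eq_one_iff_mul_comm]
  -- every element of `⨆ O_i` commutes mod `C` with every element of every `O_j`
  have h1 : ∀ z ∈ ⨆ i, F.O i, ∀ j : Fin F.r, ∀ b ∈ F.O j, π z * π b = π b * π z := by
    intro z hz
    induction hz using Subgroup.iSup_induction' with
    | hp i a ha =>
      intro j b hb
      exact (hcommπ a b).1 (hpair i j a ha b hb)
    | h1 => intro j b hb; simp
    | hmul a c _ _ iha ihc =>
      intro j b hb
      rw [map_mul, mul_assoc, ihc j b hb, ← mul_assoc, iha j b hb, mul_assoc]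
  rw [hcommπ]
  -- now induct on `y`
  induction hy using Subgroup.iSup_induction' with
  | hp j b hb => exact h1 x hx j b hb
  | h1 => simp
  | hmul a c _ _ iha ihc =>
    rw [map_mul, ← mul_assoc, iha, mul_assoc, ihc, mul_assoc]

/-- PIECE SUBN, with the facts of F1 and F4 as hypotheses. -/
theorem subn_core (F : FFData X (VX X)) (i : Fin F.r) (hVn : (VX X).Normal)
    (hQC : pCore 2 X ≤ Subgroup.centralizer (VX X : Set X))
    (hJC : thompsonSubgroup 2 X ⊓ Subgroup.centralizer (VX X : Set X) ≤ pCore 2 X) :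
    (Kc F i).IsSubnormal := by
  haveI := hVn
  haveI hJn : (thompsonSubgroup 2 X).Normal :=
    @Subgroup.normal_of_characteristic _ _ _ (Cfsg.Agent.Helper3.thompsonSubgroup_characteristic 2)
  haveI hQn : (pCore 2 X).Normal := Cfsg.Agent.Helper10.pCore_normal 2
  haveI hJQn : (thompsonSubgroup 2 X ⊔ pCore 2 X).Normal := Subgroup.sup_normal _ _
  haveI hOn : (⨆ j, F.O j).Normal := subn_iSup_O_normal F
  -- `C ⊓ JQ ≤ Q`
  have hCJQ : ∀ z ∈ Subgroup.centralizer (VX X : Set X), z ∈ thompsonSubgroup 2 X ⊔ pCore 2 X →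
      z ∈ pCore 2 X := by
    intro z hzC hzJQ
    rw [Subgroup.mem_sup_of_normal_right] at hzJQ
    obtain ⟨j, hj, q, hq, rfl⟩ := hzJQ
    have hjC : j ∈ Subgroup.centralizer (VX X : Set X) := by
      have : j = (j * q) * q⁻¹ := by group
      rw [this]
      exact Subgroup.mul_mem _ hzC (Subgroup.inv_mem _ (hQC hq))
    exact Subgroup.mul_mem _ (hJC ⟨hj, hjC⟩) hq
  -- the chain
  set M : Subgroup X := (⨆ j, F.O j) ⊓ (thompsonSubgroup 2 X ⊔ pCore 2 X) with hM
  set N : Subgroup X := F.O i ⊓ (thompsonSubgroup 2 X ⊔ pCore 2 X) with hN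
  haveI hMn : M.Normal := Subgroup.normal_inf_normal _ _
  have hNM : N ≤ M := inf_le_inf_right _ (le_iSup (fun j => F.O j) i)
  have hQN : pCore 2 X ≤ N := le_inf (hQC.trans (F.C_le_O i)) le_sup_right
  have hKN : Kc F i ≤ N := by
    unfold Kc
    rw [Subgroup.closure_le]
    rintro x ⟨h1, h2, -⟩
    exact ⟨h1, h2⟩
  -- `N ⊴ M`
  have hNn : (N.subgroupOf M).Normal := by
    rw [Subgroup.normal_subgroupOf_iff_le_normalizer hNM]
    intro m hm
    have key : ∀ m' ∈ M, ∀ n ∈ N, m' * n * m'⁻¹ ∈ N := by
      intro m' hm' n hn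
      have h1 : ⁅m', n⁆ ∈ pCore 2 X := by
        apply hCJQ
        · exact subn_comm_mem F hm'.1 (hNM hn).1
        · exact Subgroup.commutator_mem_commutator hm'.2 (hNM hn).2 |>
            (Subgroup.commutator_le_right _ _ ·)
      have h2 : m' * n * m'⁻¹ = ⁅m', n⁆ * n := by
        rw [commutatorElement_def]; group
      rw [h2]
      exact N.mul_mem (hQN h1) hn
    rw [Subgroup.mem_normalizer_iff]
    intro y
    constructor
    · exact key m hm y
    · intro hy
      have := key m⁻¹ (M.inv_mem hm) _ hy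
      simpa [mul_assoc] using this
  -- `K_i ⊴ N`
  have hKn : ((Kc F i).subgroupOf N).Normal := by
    unfold Kc
    apply subn_closure_normal
    · rintro n hn x ⟨h1, h2, h3⟩
      refine ⟨?_, ?_, ?_⟩
      · exact (F.O i).mul_mem ((F.O i).mul_mem hn.1 h1) ((F.O i).inv_mem hn.1)
      · exact Subgroup.mul_mem _ (Subgroup.mul_mem _ hn.2 h2) (Subgroup.inv_mem _ hn.2)
      · have : orderOf (n * x * n⁻¹) = orderOf x := by
          have := orderOf_injective (MulAut.conj n).toMonoidHom (MulAut.conj n).injective x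
          simpa [MulAut.conj_apply] using this
        rw [this]; exact h3
    · exact hKN
  exact Subgroup.IsSubnormal.step _ N hKN
    (Subgroup.IsSubnormal.step _ M hNM hMn.isSubnormal hNn) hKn

end Cfsg.Agent.Helper13.JCFF
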