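import Mathlib
import Cfsg.Agent.Lib.Helper13.OInvDefs3
import Cfsg.Agent.Lib.Helper1.OInvCHI
import Cfsg.Agent.Lib.Lead.ChevOrderAll
import Cfsg.Agent.Lib.Lead.WeylCert

/-!
# ODDINV piece FUSE (helper15), core: semantics of the masks and the fusion table, with the facts of the
pieces SGN and CONJH taken as hypotheses.
-/

set_option autoImplicit false
set_option linter.unusedSectionVars false
set_option linter.unusedVariables false

namespace Cfsg.Agent.Helper13.OInv

open Cfsg Cfsg.Lie Cfsg.Agent.Lead.Chev Cfsg.Agent.Lead.Tw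

variable {F : Type*} [Field F] {D : ChevalleyDatum}

theorem fuse_parity (c s : ℤ) :
    decide ((c + s) % 2 ≠ 0) = xor (decide (c % 2 ≠ 0)) (decide (s % 2 ≠ 0)) := by
  rcases Int.emod_two_eq_zero_or_one c with hc | hc <;>
  rcases Int.emod_two_eq_zero_or_one s with hs | hs
  · have : (c + s) % 2 = 0 := by omega
    simp [hc, hs, this]
  · have : (c + s) % 2 = 1 := by omega
    simp [hc, hs, this]
  · have : (c + s) % 2 = 1 := by omega
    simp [hc, hs, this]
  · have : (c + s) % 2 = 0 := by omega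
    simp [hc, hs, this]

theorem fuse_foldl (m : ℕ → ℕ) (a : ℕ → ℤ) (b r : ℕ) (L : List ℕ)
    (hm : ∀ i ∈ L, (m i).testBit r = decide (a i % 2 ≠ 0)) (acc : ℕ) :
    (L.foldl (fun acc i => if b.testBit i then acc ^^^ m i else acc) acc).testBit r =
      xor (acc.testBit r) (decide (((L.filter fun i => b.testBit i).map a).sum % 2 ≠ 0)) := by
  induction L generalizing acc with
  | nil => simp
  | cons i L ih =>
    have hm' : ∀ j ∈ L, (m j).testBit r = decide (a j % 2 ≠ 0) :=
      fun j hj => hm j (List.mem_cons_of_mem _ hj)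
    rw [List.foldl_cons, ih hm']
    by_cases hb : b.testBit i = true
    · rw [if_pos hb, List.filter_cons_of_pos (by simpa using hb), List.map_cons, List.sum_cons,
        fuse_parity, Nat.testBit_xor, hm i List.mem_cons_self, Bool.xor_assoc]
    · rw [if_neg hb, List.filter_cons_of_neg (by simpa using hb)]

theorem fuse_maskChk (masks : List ℕ) (hmask : maskChk D masks = true) (i : ℕ) (hi : i < D.rank)
    (r : ℕ) (hr : r < D.nroots) :
    (masks.getD i 0).testBit r = decide (D.cartan i r % 2 ≠ 0) := by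
  unfold maskChk at hmask
  rw [List.all_eq_true] at hmask
  have h1 := hmask i (List.mem_range.2 hi)
  rw [List.all_eq_true] at h1
  have h2 := h1 r (List.mem_range.2 hr)
  rwa [beq_iff_eq] at h2

theorem fuse_chiOf (I : List ℕ) (r : ℕ) (hr : r < D.nroots) :
    chiOf (chiList D I) r = decide ((I.map fun i => D.cartan i r).sum % 2 ≠ 0) := by
  unfold chiOf chiList
  rw [List.getD_eq_getElem?_getD, List.getElem?_map, List.getElem?_range hr]
  rfl

/-- semantics of the masks: bit `r` of `maskOf masks l b` is the sign of the root `r` under `T(signC (bitsOf l b))` -/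
theorem maskOf_testBit (masks : List ℕ) (hmask : maskChk D masks = true) (b : ℕ) (r : ℕ) (hr : r < D.nroots) :
    (maskOf masks D.rank b).testBit r = chiOf (chiList D (bitsOf D.rank b)) r := by
  rw [fuse_chiOf _ r hr]
  unfold maskOf bitsOf
  rw [fuse_foldl (fun i => masks.getD i 0) (fun i => D.cartan i r) b r (List.range D.rank)
    (fun i hi => fuse_maskChk masks hmask i (List.mem_range.1 hi) r hr) 0]
  simp

theorem fuse_bitsOf_nodup (l b : ℕ) : (bitsOf l b).Nodup := List.Nodup.filter _ List.nodup_range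

theorem fuse_bitsOf_lt (l b : ℕ) : ∀ i ∈ bitsOf l b, i < l := by
  intro i hi
  unfold bitsOf at hi
  exact List.mem_range.1 (List.mem_filter.1 hi).1

theorem fuse_mem_bitsOf (l b i : ℕ) : i ∈ bitsOf l b ↔ i < l ∧ b.testBit i = true := by
  unfold bitsOf
  rw [List.mem_filter, List.mem_range]

theorem fuse_signC_ne_zero (I : List ℕ) (i : ℕ) : signC F I i ≠ 0 := by
  unfold signC
  split_ifs
  · exact neg_ne_zero.2 one_ne_zero
  · exact one_ne_zero

/-- the core of `fuse_of_chk`: the facts of the pieces SGN (`hval`, `hcongr`) and CONJH (`hconj`) are hypotheses -/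
theorem fuse_of_chk_core (hF : ChevFacts D F) (h2 : (-1 : F) ≠ 1) (Ws : List ℕ)
    (hWs : ∀ i < D.rank, ∀ v < D.nroots, unpack8 (Ws.getD i 0) v = D.reflectRoot i v)
    (masks : List ℕ) (hmask : maskChk D masks = true) (bs bt : ℕ)
    (tab : List (List ℕ × Bool)) (hchk : fuseChk D Ws masks bs bt tab = true)
    (hval : ∀ I : List ℕ, ((sgnElt D F I : GL D.Idx F) : Matrix D.Idx D.Idx F) = Tmat D (signC F I))
    (hcongr : ∀ I I' : List ℕ, (∀ i < D.rank, i ∈ I ↔ i ∈ I') → sgnElt D F I = sgnElt D F I')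
    (hconj : ∀ (c c' : ℕ → F), (∀ i < D.rank, c i ≠ 0) → (∀ i < D.rank, c' i ≠ 0) → ∀ (s s' : GL D.Idx F),
      (s : Matrix D.Idx D.Idx F) = Tmat D c → (s' : Matrix D.Idx D.Idx F) = Tmat D c' →
      ∀ (w : List ℕ), (∀ i ∈ w, i < D.rank) →
      ((nWordGL D hF.xadd w)⁻¹ * s * nWordGL D hF.xadd w = s' ↔
        ∀ r < D.nroots, chi D c (reflWord D w r) = chi D c' r))
    (I : List ℕ) (hI1 : I.Nodup) (hI2 : ∀ i ∈ I, i < D.rank) (hI0 : I ≠ []) :
    ∃ n ∈ D.group F, n * sgnElt D F I * n⁻¹ = sgnElt D F (bitsOf D.rank bs) ∨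
      n * sgnElt D F I * n⁻¹ = sgnElt D F (bitsOf D.rank bt) := by
  classical
  -- the code of `I`
  set b : ℕ := Nat.ofBits (fun i : Fin D.rank => decide (i.val ∈ I)) with hb
  have hblt : b < 2 ^ D.rank := Nat.ofBits_lt_two_pow _
  have hbit : ∀ i < D.rank, (b.testBit i = true ↔ i ∈ I) := by
    intro i hi
    rw [hb, Nat.testBit_ofBits_lt _ i hi]
    simp
  have hb0 : b ≠ 0 := by
    obtain ⟨i0, hi0⟩ := List.exists_mem_of_ne_nil I hI0
    intro h0
    have h1 := (hbit i0 (hI2 i0 hi0)).2 hi0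
    rw [h0] at h1
    simp at h1
  have hIb : sgnElt D F I = sgnElt D F (bitsOf D.rank b) := by
    apply hcongr
    intro i hi
    rw [fuse_mem_bitsOf]
    exact ⟨fun h => ⟨hi, (hbit i hi).2 h⟩, fun h => (hbit i hi).1 h.2⟩
  -- the table entry
  unfold fuseChk at hchk
  rw [List.all_eq_true] at hchk
  have h1 := hchk b (List.mem_range.2 hblt)
  rw [Bool.or_eq_true] at h1
  rcases h1 with h1 | h1
  · exact absurd (by simpa using h1) hb0
  rw [Bool.and_eq_true, List.all_eq_true] at h1
  obtain ⟨hwv, hent⟩ := h1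
  set w := (tab.getD b ([], false)).1 with hw
  set flag := (tab.getD b ([], false)).2 with hflag
  have hwv' : ∀ i ∈ w, i < D.rank := fun i hi => of_decide_eq_true (hwv i hi)
  set tgt := if flag then bt else bs with htgt
  unfold fuseEntry at hent
  rw [List.all_eq_true] at hent
  have hkey : ∀ r < D.nroots, chi D (signC F (bitsOf D.rank b)) (reflWord D w r) =
      chi D (signC F (bitsOf D.rank tgt)) r := by
    intro r hr
    have h3 := hent r (List.mem_range.2 hr)
    rw [beq_iff_eq, reflWordP_eq D (etaOf D) hF.facts Ws hWs w hwv' r hr] at h3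
    have hlt : reflWord D w r < D.nroots := reflWord_lt D (etaOf D) hF.facts w hwv' r hr
    rw [maskOf_testBit masks hmask b _ hlt, maskOf_testBit masks hmask tgt r hr] at h3
    rw [chi_signC _ (fuse_bitsOf_nodup _ _) (fuse_bitsOf_lt _ _) _ hlt,
      chi_signC _ (fuse_bitsOf_nodup _ _) (fuse_bitsOf_lt _ _) r hr, h3]
  have hc := (hconj (signC F (bitsOf D.rank b)) (signC F (bitsOf D.rank tgt))
    (fun i _ => fuse_signC_ne_zero _ i) (fun i _ => fuse_signC_ne_zero _ i)
    (sgnElt D F (bitsOf D.rank b)) (sgnElt D F (bitsOf D.rank tgt)) (hval _) (hval _) w hwv').2 hkey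
  refine ⟨(nWordGL D hF.xadd w)⁻¹, inv_mem (nWordGL_mem_group D hF.xadd w), ?_⟩
  rw [inv_inv, hIb, hc]
  rw [htgt]
  cases flag
  · left; rfl
  · right; rfl

end Cfsg.Agent.Helper13.OInv
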