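import Mathlib
import Cfsg.Agent.Lib.Helper15.OInvFUSECore
import Cfsg.Agent.Lib.Helper6.OInvCONJH

/-!
# ODDINV piece FUSE (helper15): `fuse_of_chk` with the exact skeleton signature
(`maskOf_testBit` is in `OInvFUSECore`). The two facts of the piece SGN that are needed are proved here under
prefixed names (`fuse_sgnElt_val`, `fuse_sgnElt_congr`), so that this file does not wait for that piece.
-/

set_option autoImplicit false
set_option linter.unusedSectionVars false
set_option linter.unusedVariables false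

namespace Cfsg.Agent.Helper13.OInv

open Cfsg Cfsg.Lie Cfsg.Agent.Lead.Chev Cfsg.Agent.Lead.Tw

variable {F : Type*} [Field F] {D : ChevalleyDatum}

theorem fuse_sgnElt_val (I : List ℕ) :
    ((sgnElt D F I : GL D.Idx F) : Matrix D.Idx D.Idx F) = Tmat D (signC F I) := by
  unfold sgnElt
  rw [torusHom_val]
  apply Tmat_congr
  intro i hi
  rw [extC_lt D _ i hi]
  unfold signC
  by_cases h : i ∈ I
  · simp [h]
  · simp [h]

theorem fuse_sgnElt_congr (I I' : List ℕ) (h : ∀ i < D.rank, i ∈ I ↔ i ∈ I') :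
    sgnElt D F I = sgnElt D F I' := by
  unfold sgnElt
  congr 1
  funext i
  by_cases hi : i.val ∈ I
  · rw [if_pos hi, if_pos ((h i.val i.isLt).1 hi)]
  · rw [if_neg hi, if_neg (fun h' => hi ((h i.val i.isLt).2 h'))]

theorem fuse_of_chk (hF : ChevFacts D F) (h2 : (-1 : F) ≠ 1) (Ws : List ℕ)
    (hWs : ∀ i < D.rank, ∀ v < D.nroots, unpack8 (Ws.getD i 0) v = D.reflectRoot i v)
    (masks : List ℕ) (hmask : maskChk D masks = true) (bs bt : ℕ)
    (tab : List (List ℕ × Bool)) (hchk : fuseChk D Ws masks bs bt tab = true)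
    (I : List ℕ) (hI1 : I.Nodup) (hI2 : ∀ i ∈ I, i < D.rank) (hI0 : I ≠ []) :
    ∃ n ∈ D.group F, n * sgnElt D F I * n⁻¹ = sgnElt D F (bitsOf D.rank bs) ∨
      n * sgnElt D F I * n⁻¹ = sgnElt D F (bitsOf D.rank bt) :=
  fuse_of_chk_core hF h2 Ws hWs masks hmask bs bt tab hchk fuse_sgnElt_val fuse_sgnElt_congr
    (fun c c' hc hc' s s' hsc hsc' w hw => nWordGL_conj_diag_iff hF c c' hc hc' s s' hsc hsc' w hw)
    I hI1 hI2 hI0

end Cfsg.Agent.Helper13.OInv
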