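import Mathlib
import Cfsg.Agent.Lib.Helper21.N9KDefs

/-!
# S3702 GROUP piece KCONJJ (helper15 for helper21): the classes of the 26 nonidentity elements of `J0`.
-/

set_option autoImplicit false

namespace Cfsg.Agent.Helper21.N9

open Cfsg Cfsg.Agent.Helper16

theorem kconjj_idx : ∀ i j k : Fin 3, ¬ (i = 0 ∧ j = 0 ∧ k = 0) →
    ∃ q : Idx, Wk q * CK.wJ i j k = CK.z (TC648.clsJ i j k) * Wk q := by
  decide +kernel

/-- PIECE S3702-GR-KCONJJ -/
theorem conjJ_K0 : ∀ i j k : Fin 3, ¬ (i = 0 ∧ j = 0 ∧ k = 0) →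
    IsConj (CK.wJ i j k) (CK.z (TC648.clsJ i j k)) := by
  intro i j k h
  obtain ⟨q, hq⟩ := kconjj_idx i j k h
  rw [isConj_iff]
  refine ⟨Wk q, ?_⟩
  rw [hq, mul_inv_cancel_right]

end Cfsg.Agent.Helper21.N9
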