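import Mathlib
import Cfsg.Agent.Lib.Helper15.SubSyl3

set_option autoImplicit false

/-! Sylow subgroups of joins of subnormal subgroups: the reduction to `O^p(B) = B`. -/

namespace Cfsg.Agent.Helper15.SubSyl

open Subgroup Cfsg.Agent.Helper15

universe u

variable {G : Type u} [Group G]

/-- the property "all pairs of subnormal subgroups inside a proper subnormal subgroup are fine" -/
def ProperOK (p : ℕ) (S : Sylow p G) : Prop :=
  ∀ H : Subgroup G, H.IsSubnormal → H ≠ ⊤ → ∀ X Y : Subgroup G, X.IsSubnormal → Y.IsSubnormal →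
    X ≤ H → Y ≤ H →
    (X ⊔ Y) ⊓ (S : Subgroup G) ≤ (X ⊓ (S : Subgroup G)) ⊔ (Y ⊓ (S : Subgroup G))

theorem step2 [Finite G] {p : ℕ} [Fact p.Prime] (S : Sylow p G) (hProper : ProperOK p S)
    (A B : Subgroup G) (hA : A.IsSubnormal) (hB : B.IsSubnormal) (hAB : A ⊔ B = ⊤)
    (hAn : ¬ A.Normal)
    (hsm : A ⊔ pRes p B = ⊤ →
      (S : Subgroup G) ≤ (A ⊓ (S : Subgroup G)) ⊔ (pRes p B ⊓ (S : Subgroup G))) :
    (S : Subgroup G) ≤ (A ⊓ (S : Subgroup G)) ⊔ (B ⊓ (S : Subgroup G)) := by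
  have hmono : (A ⊓ (S : Subgroup G)) ⊔ (pRes p B ⊓ (S : Subgroup G))
      ≤ (A ⊓ (S : Subgroup G)) ⊔ (B ⊓ (S : Subgroup G)) :=
    sup_le_sup_left (inf_le_inf_right _ (pRes_le p B)) _
  by_cases h1 : A ⊔ pRes p B = ⊤
  · exact (hsm h1).trans hmono
  have hB₀ := pRes_isSubnormal p hB
  have hH₁ : (A ⊔ pRes p B).IsSubnormal := Cfsg.Agent.Helper3.isSubnormal_sup hA hB₀
  have key0 : (A ⊔ pRes p B) ⊓ (S : Subgroup G)
      ≤ (A ⊓ (S : Subgroup G)) ⊔ (B ⊓ (S : Subgroup G)) :=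
    (hProper _ hH₁ h1 A (pRes p B) hA hB₀ le_sup_left le_sup_right).trans hmono
  have hBS := isSylowIn_inf_of_isSubnormal S hB
  -- conjugates of `A` under `B`
  have key1 : ∀ b ∈ B, A.map (MulAut.conj b).toMonoidHom ⊓ (S : Subgroup G)
      ≤ (A ⊓ (S : Subgroup G)) ⊔ (B ⊓ (S : Subgroup G)) := by
    intro b hb
    obtain ⟨s, hs, b₀, hb₀, rfl⟩ := exists_mul_of_mem hBS hb
    rw [← map_conj_map_conj]
    rintro x ⟨hx1, hx2⟩
    obtain ⟨y, hy, rfl⟩ := hx1
    simp only [MulEquiv.coe_toMonoidHom, MulAut.conj_apply] at hx2 ⊢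
    have hyS : y ∈ (S : Subgroup G) := by
      have := (S : Subgroup G).mul_mem ((S : Subgroup G).mul_mem
        ((S : Subgroup G).inv_mem hs.2) hx2) hs.2
      simpa [mul_assoc] using this
    have hyH : y ∈ A ⊔ pRes p B :=
      map_conj_le_of_mem le_sup_left (Subgroup.mem_sup_right hb₀) hy
    have hyT := key0 ⟨hyH, hyS⟩
    have hsT : s ∈ (A ⊓ (S : Subgroup G)) ⊔ (B ⊓ (S : Subgroup G)) := Subgroup.mem_sup_right hs
    exact Subgroup.mul_mem _ (Subgroup.mul_mem _ hsT hyT) (Subgroup.inv_mem _ hsT)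
  -- the normal closure
  have hfin : Finite ↥B := inferInstance
  let _ : Fintype ↥B := Fintype.ofFinite _
  set f : ↥B → Subgroup G := fun b => A.map (MulAut.conj (b : G)).toMonoidHom with hf
  set M : Subgroup G := Finset.univ.sup f with hM
  have hfM : ∀ b : ↥B, f b ≤ M := fun b => Finset.le_sup (Finset.mem_univ b)
  have hAM : A ≤ M := by
    have h := hfM ⟨1, B.one_mem⟩
    have h' : f ⟨1, B.one_mem⟩ = A := map_conj_one A
    rwa [h'] at h
  have hBM : B ≤ Subgroup.normalizer (M : Set G) := by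
    intro b hb
    apply mem_normalizer_of_map_conj_eq
    rw [map_conj_eq_iff_le]
    rw [Subgroup.map_le_iff_le_comap, hM, Finset.sup_le_iff]
    intro b' _
    rw [← Subgroup.map_le_iff_le_comap]
    have : (f b').map (MulAut.conj b).toMonoidHom = f (⟨b, hb⟩ * b') := by
      simp only [hf]
      rw [map_conj_map_conj]
      rfl
    rw [this]
    exact hfM _
  have hMn : M.Normal := by
    rw [← Subgroup.normalizer_eq_top_iff, eq_top_iff, ← hAB]
    exact sup_le (hAM.trans Subgroup.le_normalizer) hBM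
  have hMne : M ≠ ⊤ := by
    rcases hA.lt_normal with h | ⟨K, hKn, hAK, hKtop⟩
    · exfalso; apply hAn; rw [h]; infer_instance
    · intro hMtop
      have hMK : M ≤ K := by
        rw [hM, Finset.sup_le_iff]
        intro b _
        rintro _ ⟨y, hy, rfl⟩
        exact hKn.conj_mem y (hAK hy) b
      rw [hMtop] at hMK
      exact hKtop.ne (top_le_iff.1 hMK)
  -- the family version inside `M`
  have hfam := finset_sup_inf_le (S : Subgroup G) (fun X => X.IsSubnormal ∧ X ≤ M)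
    ⟨Subgroup.IsSubnormal.bot, bot_le⟩
    (fun X Y hX hY => ⟨Cfsg.Agent.Helper3.isSubnormal_sup hX.1 hY.1, sup_le hX.2 hY.2⟩)
    (fun X Y hX hY => hProper M hMn.isSubnormal hMne X Y hX.1 hY.1 hX.2 hY.2)
    f Finset.univ (fun b _ => ⟨hA.map (MulAut.conj (b : G)).surjective, hfM b⟩)
  have hMS : M ⊓ (S : Subgroup G) ≤ (A ⊓ (S : Subgroup G)) ⊔ (B ⊓ (S : Subgroup G)) := by
    refine hfam.2.trans ?_
    rw [Finset.sup_le_iff]
    intro b _
    exact key1 b b.2
  have hfinal := inf_sylow_le_of_normal S M B hBS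
  have hMB : M ⊔ B = ⊤ := by
    rw [eq_top_iff, ← hAB]
    exact sup_le_sup_right hAM _
  rw [hMB, top_inf_eq] at hfinal
  exact hfinal.trans (sup_le hMS le_sup_right)

end Cfsg.Agent.Helper15.SubSyl
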