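import Mathlib
import Cfsg.Agent.Lib.Helper15.SubSyl4
import Cfsg.Agent.Lib.Helper15.Isolated
import Cfsg.Agent.Lib.Helper1.CommutatorBasic

set_option autoImplicit false

/-! Sylow subgroups of joins of subnormal subgroups: the case `O^p(A) = A`, `O^p(B) = B`. -/

namespace Cfsg.Agent.Helper15.SubSyl

open Subgroup Cfsg.Agent.Helper15

universe u

variable {G : Type u} [Group G]

/-- pulling back through a quotient map -/
theorem map_inf_map_le {N A S : Subgroup G} [N.Normal] :
    A.map (QuotientGroup.mk' N) ⊓ S.map (QuotientGroup.mk' N)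
      ≤ ((A ⊔ N) ⊓ S).map (QuotientGroup.mk' N) := by
  rintro _ ⟨⟨a, ha, rfl⟩, ⟨s, hs, hsa⟩⟩
  refine ⟨s, ⟨?_, hs⟩, hsa⟩
  have h1 : a⁻¹ * s ∈ N := QuotientGroup.eq.1 hsa.symm
  have h2 : s = a * (a⁻¹ * s) := by group
  rw [h2]
  exact Subgroup.mul_mem _ (Subgroup.mem_sup_left ha) (Subgroup.mem_sup_right h1)

theorem le_sup_inf_of_map_le {N U S : Subgroup G} [N.Normal] (hUS : U ≤ S)
    (h : S.map (QuotientGroup.mk' N) ≤ U.map (QuotientGroup.mk' N)) : S ≤ U ⊔ (N ⊓ S) := by
  intro s hs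
  obtain ⟨u, hu, hus⟩ := h ⟨s, hs, rfl⟩
  have h1 : u⁻¹ * s ∈ N := QuotientGroup.eq.1 hus
  have h2 : s = u * (u⁻¹ * s) := by group
  rw [h2]
  exact Subgroup.mul_mem _ (Subgroup.mem_sup_left hu)
    (Subgroup.mem_sup_right ⟨h1, S.mul_mem (S.inv_mem (hUS hu)) hs⟩)

/-- a central minimal normal subgroup has prime order -/
theorem card_prime_of_central_minimal [Finite G] {N : Subgroup G} (hN : N ≤ Subgroup.center G)
    (hNbot : N ≠ ⊥) (hmin : ∀ K : Subgroup G, K.Normal → K ≤ N → K = ⊥ ∨ K = N) :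
    (Nat.card N).Prime := by
  have hcard : Nat.card N ≠ 1 := fun h => hNbot (Subgroup.card_eq_one.1 h)
  obtain ⟨q, hq, hqd⟩ := Nat.exists_prime_and_dvd hcard
  have : Fact q.Prime := ⟨hq⟩
  obtain ⟨x, hx⟩ := exists_prime_orderOf_dvd_card' q hqd
  have hxN : Subgroup.zpowers (x : G) ≤ N := by
    rw [Subgroup.zpowers_le]; exact x.2
  have hZn : (Subgroup.zpowers (x : G)).Normal := normal_of_le_center (hxN.trans hN)
  rcases hmin _ hZn hxN with h | h
  · exfalso
    rw [Subgroup.zpowers_eq_bot] at h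
    have : orderOf (x : G) = q := by rw [Subgroup.orderOf_coe]; exact hx
    rw [h, orderOf_one] at this
    exact hq.one_lt.ne this
  · rw [← h, Nat.card_zpowers, Subgroup.orderOf_coe, hx]
    exact hq

theorem step3 [Finite G] {p : ℕ} [Fact p.Prime] (S : Sylow p G) (hProper : ProperOK p S)
    (hQuot : ∀ N : Subgroup G, ∀ _ : N.Normal, N ≠ ⊥ → WJ p (G ⧸ N))
    (A B : Subgroup G) (hA : A.IsSubnormal) (hB : B.IsSubnormal) (hAB : A ⊔ B = ⊤)
    (hAn : ¬ A.Normal) (hBn : ¬ B.Normal) (hA0 : pRes p A = A) (hB0 : pRes p B = B) :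
    (S : Subgroup G) ≤ (A ⊓ (S : Subgroup G)) ⊔ (B ⊓ (S : Subgroup G)) := by
  have hp : p.Prime := Fact.out
  have hnt : Nontrivial G := by
    by_contra h
    rw [not_nontrivial_iff_subsingleton] at h
    apply hAn
    rw [Subsingleton.elim A ⊤]
    infer_instance
  obtain ⟨N, hNn, hNbot, hNmin⟩ := Cfsg.Agent.Helper3.exists_minimal_normal (G := G)
  have hNA := Cfsg.Agent.Helper3.minimal_normal_le_normalizer A hA N hNmin
  have hNB := Cfsg.Agent.Helper3.minimal_normal_le_normalizer B hB N hNmin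
  have hNsub : N.IsSubnormal := hNn.isSubnormal
  set T : Subgroup G := (A ⊓ (S : Subgroup G)) ⊔ (B ⊓ (S : Subgroup G)) with hT
  have hTS : T ≤ (S : Subgroup G) := sup_le inf_le_right inf_le_right
  -- `A ⊔ N` and `B ⊔ N` are proper
  have hne : ∀ X : Subgroup G, ¬ X.Normal → N ≤ Subgroup.normalizer (X : Set G) → X ⊔ N ≠ ⊤ := by
    intro X hXn hNX htop
    apply hXn
    rw [← Subgroup.normalizer_eq_top_iff, eq_top_iff, ← htop]
    exact sup_le Subgroup.le_normalizer hNX
  have h1 : (A ⊔ N) ⊓ (S : Subgroup G) ≤ T ⊔ (N ⊓ (S : Subgroup G)) :=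
    (hProper (A ⊔ N) (Cfsg.Agent.Helper3.isSubnormal_sup hA hNsub) (hne A hAn hNA) A N hA hNsub
      le_sup_left le_sup_right).trans (sup_le_sup_right le_sup_left _)
  have h2 : (B ⊔ N) ⊓ (S : Subgroup G) ≤ T ⊔ (N ⊓ (S : Subgroup G)) :=
    (hProper (B ⊔ N) (Cfsg.Agent.Helper3.isSubnormal_sup hB hNsub) (hne B hBn hNB) B N hB hNsub
      le_sup_left le_sup_right).trans (sup_le_sup_right le_sup_right _)
  -- the quotient
  have hsurj := QuotientGroup.mk'_surjective N
  have hq := hQuot N hNn hNbot (S.mapSurjective hsurj) (A.map (QuotientGroup.mk' N))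
    (B.map (QuotientGroup.mk' N)) (hA.map hsurj) (hB.map hsurj)
  rw [Sylow.coe_mapSurjective, ← Subgroup.map_sup, hAB, ← MonoidHom.range_eq_map,
    MonoidHom.range_eq_top.2 hsurj, top_inf_eq] at hq
  have h3 : (S : Subgroup G) ≤ T ⊔ (N ⊓ (S : Subgroup G)) := by
    have hU : ((A ⊔ N) ⊓ (S : Subgroup G)) ⊔ ((B ⊔ N) ⊓ (S : Subgroup G)) ≤ (S : Subgroup G) :=
      sup_le inf_le_right inf_le_right
    have h4 : (S : Subgroup G).map (QuotientGroup.mk' N)
        ≤ (((A ⊔ N) ⊓ (S : Subgroup G)) ⊔ ((B ⊔ N) ⊓ (S : Subgroup G))).map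
          (QuotientGroup.mk' N) := by
      rw [Subgroup.map_sup]
      exact hq.trans (sup_le_sup map_inf_map_le map_inf_map_le)
    refine (le_sup_inf_of_map_le hU h4).trans ?_
    exact sup_le (sup_le h1 h2) le_sup_right
  suffices hNT : N ⊓ (S : Subgroup G) ≤ T from h3.trans (sup_le le_rfl hNT)
  -- the subgroup `D`
  set D : Subgroup G := (N ⊓ A) ⊔ (N ⊓ B) with hD
  have hDN : D ≤ N := sup_le inf_le_left inf_le_left
  have hconj : ∀ X Y : Subgroup G, N ≤ Subgroup.normalizer (X : Set G) →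
      ∀ a ∈ X, ∀ x ∈ N ⊓ Y, a * x * a⁻¹ ∈ (N ⊓ X) ⊔ (N ⊓ Y) := by
    intro X Y hNX a ha x hx
    have e : a * x * a⁻¹ = (a * (x * a⁻¹ * x⁻¹)) * x := by group
    rw [e]
    refine Subgroup.mul_mem _ (Subgroup.mem_sup_left ⟨?_, ?_⟩) (Subgroup.mem_sup_right hx)
    · have e2 : a * (x * a⁻¹ * x⁻¹) = (a * x * a⁻¹) * x⁻¹ := by group
      rw [e2]
      exact N.mul_mem (hNn.conj_mem x hx.1 a) (N.inv_mem hx.1)
    · exact X.mul_mem ha ((Subgroup.mem_normalizer_iff.1 (hNX hx.1) a⁻¹).1 (X.inv_mem ha))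
  have hAD : A ≤ Subgroup.normalizer (D : Set G) := by
    apply Cfsg.Agent.Helper1.le_normalizer_of_forall_conj_mem
    intro a ha x hx
    have hmap : D.map (MulAut.conj a).toMonoidHom ≤ D := by
      rw [hD, Subgroup.map_sup]
      refine sup_le ?_ ?_
      · rintro _ ⟨y, hy, rfl⟩
        exact Subgroup.mem_sup_left ⟨hNn.conj_mem y hy.1 a,
          A.mul_mem (A.mul_mem ha hy.2) (A.inv_mem ha)⟩
      · rintro _ ⟨y, hy, rfl⟩
        exact hconj A B hNA a ha y hy
    exact hmap ⟨x, hx, rfl⟩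
  have hBD : B ≤ Subgroup.normalizer (D : Set G) := by
    apply Cfsg.Agent.Helper1.le_normalizer_of_forall_conj_mem
    intro b hb x hx
    have hmap : D.map (MulAut.conj b).toMonoidHom ≤ D := by
      rw [hD, Subgroup.map_sup]
      refine sup_le ?_ ?_
      · rintro _ ⟨y, hy, rfl⟩
        have := hconj B A hNB b hb y hy
        rw [sup_comm] at this
        exact this
      · rintro _ ⟨y, hy, rfl⟩
        exact Subgroup.mem_sup_right ⟨hNn.conj_mem y hy.1 b,
          B.mul_mem (B.mul_mem hb hy.2) (B.inv_mem hb)⟩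
    exact hmap ⟨x, hx, rfl⟩
  have hDn : D.Normal := by
    rw [← Subgroup.normalizer_eq_top_iff, eq_top_iff, ← hAB]
    exact sup_le hAD hBD
  rcases hNmin D hDn hDN with hDbot | hDN'
  · -- `N` is central
    have hNA0 : N ⊓ A = ⊥ := by rw [eq_bot_iff, ← hDbot]; exact le_sup_left
    have hNB0 : N ⊓ B = ⊥ := by rw [eq_bot_iff, ← hDbot]; exact le_sup_right
    have hcomm : ∀ X : Subgroup G, N ≤ Subgroup.normalizer (X : Set G) → N ⊓ X = ⊥ →
        ∀ n ∈ N, ∀ a ∈ X, a * n = n * a := by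
      intro X hNX hX0 n hn a ha
      have hmem : n * a * n⁻¹ * a⁻¹ ∈ N ⊓ X := by
        refine ⟨?_, ?_⟩
        · have e : n * a * n⁻¹ * a⁻¹ = n * (a * n⁻¹ * a⁻¹) := by group
          rw [e]
          exact N.mul_mem hn (hNn.conj_mem _ (N.inv_mem hn) a)
        · exact X.mul_mem ((Subgroup.mem_normalizer_iff.1 (hNX hn) a).1 ha) (X.inv_mem ha)
      rw [hX0, Subgroup.mem_bot] at hmem
      have : n * a = a * n := by
        have e : n * a = (n * a * n⁻¹ * a⁻¹) * (a * n) := by group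
        rw [e, hmem, one_mul]
      exact this.symm
    have hNZ : N ≤ Subgroup.center G := by
      intro n hn
      rw [Subgroup.mem_center_iff]
      intro g
      have hle : A ⊔ B ≤ Subgroup.centralizer {n} := by
        refine sup_le ?_ ?_
        · intro a ha
          rw [mem_centralizer_singleton_iff]
          exact (hcomm A hNA hNA0 n hn a ha)
        · intro b hb
          rw [mem_centralizer_singleton_iff]
          exact (hcomm B hNB hNB0 n hn b hb)
      have hg : g ∈ Subgroup.centralizer {n} := hle (by rw [hAB]; exact Subgroup.mem_top g)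
      rw [mem_centralizer_singleton_iff] at hg
      exact hg
    have hprime := card_prime_of_central_minimal hNZ hNbot hNmin
    by_cases hqp : Nat.card N = p
    · have hres := pResidual_eq_top_of_sup hA0 hB0 hAB
      have hS' : (S : Subgroup G) ≤ T ⊔ N := h3.trans (sup_le_sup_left inf_le_left _)
      exact inf_le_left.trans (le_of_central_of_pResidual_eq_top S T N hTS hNZ hqp hS' hres)
    · have hbot : N ⊓ (S : Subgroup G) = ⊥ := by
        have hd1 : Nat.card ↥(N ⊓ (S : Subgroup G)) ∣ Nat.card N :=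
          Subgroup.card_dvd_of_le inf_le_left
        obtain ⟨k, hk⟩ := (S.isPGroup'.to_le (inf_le_right : N ⊓ (S : Subgroup G) ≤ S)).exists_card_eq
        rcases (Nat.dvd_prime hprime).1 hd1 with h | h
        · exact Subgroup.card_eq_one.1 h
        · exfalso
          rw [h] at hk
          rw [hk] at hprime
          have hk1 : k = 1 := by
            by_contra hk1
            exact (Nat.Prime.not_prime_pow' hk1) hprime
          rw [hk1, pow_one] at hk
          exact hqp hk
      rw [hbot]; exact bot_le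
  · -- `N = (N ⊓ A) ⊔ (N ⊓ B)`
    have hNtop : N ≠ ⊤ := by
      intro hNtop
      rcases hA.lt_normal with h | ⟨K, hKn, hAK, hKtop⟩
      · apply hAn; rw [h]; infer_instance
      · rcases hNmin K hKn (by rw [hNtop]; exact le_top) with h | h
        · apply hAn
          have : A = ⊥ := by rw [eq_bot_iff, ← h]; exact hAK
          rw [this]; infer_instance
        · rw [h, hNtop] at hKtop
          exact lt_irrefl _ hKtop
    have h5 := hProper N hNsub hNtop (N ⊓ A) (N ⊓ B) (hNsub.inf hA) (hNsub.inf hB)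
      inf_le_left inf_le_left
    rw [← hD, hDN'] at h5
    refine h5.trans (sup_le_sup ?_ ?_)
    · exact inf_le_inf_right _ inf_le_right
    · exact inf_le_inf_right _ inf_le_right

end Cfsg.Agent.Helper15.SubSyl
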