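import Mathlib
import Cfsg.Agent.Lib.Helper14.SADefs
import Cfsg.Agent.Lib.Helper27.SALINES

/-!
# S4025, piece LDVD (helper15, for helper14's skeleton)

A group of linear automorphisms which is transitive on the `L` subspaces of order `p ^ 2` and
contains the scalars has order divisible by `L * (p - 1)`.
-/

set_option autoImplicit false
set_option linter.unusedSectionVars false
set_option linter.unusedVariables false
set_option linter.style.haveILetI false

namespace Cfsg.Agent.Helper14.SA

section Linear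

variable {p : ℕ} [Fact p.Prime] {V : Type*} [AddCommGroup V] [Module (ZMod p) V] [Finite V]

/-- the subspaces of order `p ^ 2` -/
abbrev Lines (p : ℕ) [Fact p.Prime] (V : Type*) [AddCommGroup V] [Module (ZMod p) V] : Type _ :=
  {U : Submodule (ZMod p) V // Nat.card U = p ^ 2}

theorem card_map_equiv (g : V ≃ₗ[ZMod p] V) (U : Submodule (ZMod p) V) :
    Nat.card (U.map (g : V ≃ₗ[ZMod p] V).toLinearMap) = Nat.card U :=
  (Nat.card_congr (g.submoduleMap U).toEquiv).symm

/-- the action of the linear automorphisms on the subspaces of order `p ^ 2` -/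
@[reducible]
def linesAction : MulAction (V ≃ₗ[ZMod p] V) (Lines p V) where
  smul g U := ⟨U.1.map (g : V ≃ₗ[ZMod p] V).toLinearMap, by rw [card_map_equiv, U.2]⟩
  one_smul U := by
    apply Subtype.ext
    change U.1.map ((1 : V ≃ₗ[ZMod p] V) : V ≃ₗ[ZMod p] V).toLinearMap = U.1
    exact Submodule.map_id U.1
  mul_smul g h U := by
    apply Subtype.ext
    change U.1.map ((g * h : V ≃ₗ[ZMod p] V)).toLinearMap =
      (U.1.map (h : V ≃ₗ[ZMod p] V).toLinearMap).map (g : V ≃ₗ[ZMod p] V).toLinearMap
    rw [← Submodule.map_comp]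
    rfl

/-- orbit-stabiliser on the subspaces of order `p ^ 2` -/
theorem card_eq_lines_mul_stabilizer [Finite (V ≃ₗ[ZMod p] V)] (H : Subgroup (V ≃ₗ[ZMod p] V))
    (hln : LnTrans H) (U₀ : Lines p V) :
    letI := linesAction (p := p) (V := V)
    Nat.card H = Nat.card (Lines p V) * Nat.card (MulAction.stabilizer ↥H U₀) := by
  letI := linesAction (p := p) (V := V)
  have horb : MulAction.orbit ↥H U₀ = Set.univ := by
    apply Set.eq_univ_of_forall
    intro W
    obtain ⟨g, hg, hgW⟩ := hln U₀.1 W.1 U₀.2 W.2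
    exact ⟨⟨g, hg⟩, Subtype.ext hgW⟩
  have h1 := (MulAction.stabilizer ↥H U₀).index_mul_card
  rw [MulAction.index_stabilizer, horb, Set.ncard_univ] at h1
  exact h1.symm

theorem finite_linearEquiv : Finite (V ≃ₗ[ZMod p] V) :=
  Finite.of_injective (fun g : V ≃ₗ[ZMod p] V => (g : V → V)) DFunLike.coe_injective

theorem lines_nonempty (n : ℕ) (hn : 2 ≤ n) (hV : Nat.card V = p ^ n) :
    Nonempty (Lines p V) := by
  have h := card_lines (p := p) (V := V) n hn hV
  have hp : 2 ≤ p := (Fact.out : p.Prime).two_le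
  have h1 : p < p ^ n := by
    calc p = p ^ 1 := (pow_one p).symm
      _ < p ^ n := Nat.pow_lt_pow_right hp (by omega)
  have h2 : 0 < (p ^ n - 1) * (p ^ n - p) := Nat.mul_pos (by omega) (by omega)
  by_contra hne
  rw [not_nonempty_iff] at hne
  have : Nat.card (Lines p V) = 0 := Nat.card_of_isEmpty
  rw [this, zero_mul] at h
  omega

/-- PIECE LDVD -/
theorem lines_mul_dvd (H : Subgroup (V ≃ₗ[ZMod p] V)) (hln : LnTrans H) (hsc : HasScalars H)
    (n : ℕ) (hn : 2 ≤ n) (hV : Nat.card V = p ^ n) :
    Nat.card {U : Submodule (ZMod p) V // Nat.card U = p ^ 2} * (p - 1) ∣ Nat.card H := by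
  haveI := finite_linearEquiv (p := p) (V := V)
  letI := linesAction (p := p) (V := V)
  obtain ⟨U₀⟩ := lines_nonempty (p := p) (V := V) n hn hV
  rw [card_eq_lines_mul_stabilizer H hln U₀]
  apply Nat.mul_dvd_mul_left
  -- the scalars lie in the stabiliser
  have hmemH : ∀ c : (ZMod p)ˣ, scalHom p V c ∈ H := by
    intro c
    obtain ⟨g, hg, hgc⟩ := hsc c
    have : g = scalHom p V c := by
      ext v
      rw [hgc v, scalHom_apply]
    rwa [← this]
  let f₁ : (ZMod p)ˣ →* ↥H := (scalHom p V).codRestrict H hmemH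
  have hstab : ∀ c : (ZMod p)ˣ, f₁ c ∈ MulAction.stabilizer ↥H U₀ := by
    intro c
    rw [MulAction.mem_stabilizer_iff]
    apply Subtype.ext
    change U₀.1.map ((scalHom p V c : V ≃ₗ[ZMod p] V)).toLinearMap = U₀.1
    ext w
    simp only [Submodule.mem_map]
    constructor
    · rintro ⟨u, hu, rfl⟩
      change scalHom p V c u ∈ U₀.1
      rw [scalHom_apply]
      exact U₀.1.smul_mem _ hu
    · intro hw
      refine ⟨((c⁻¹ : (ZMod p)ˣ) : ZMod p) • w, U₀.1.smul_mem _ hw, ?_⟩
      change scalHom p V c _ = w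
      rw [scalHom_apply, smul_smul, Units.mul_inv, one_smul]
  let f₂ : (ZMod p)ˣ →* ↥(MulAction.stabilizer ↥H U₀) := f₁.codRestrict _ hstab
  have hV1 : Nontrivial V := by
    apply Finite.one_lt_card_iff_nontrivial.1
    rw [hV]
    exact Nat.one_lt_pow (by omega) (Fact.out : p.Prime).one_lt
  have hinj : Function.Injective f₂ := by
    intro c d hcd
    have h1 : scalHom p V c = scalHom p V d := by
      have := congrArg (fun t : ↥(MulAction.stabilizer ↥H U₀) => ((t : ↥H) : V ≃ₗ[ZMod p] V)) hcd
      exact this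
    obtain ⟨v, hv⟩ := exists_ne (0 : V)
    have h2 := congrArg (fun g : V ≃ₗ[ZMod p] V => g v) h1
    simp only [scalHom_apply] at h2
    have h3 : ((c : ZMod p) - (d : ZMod p)) • v = 0 := by rw [sub_smul, h2, sub_self]
    rcases smul_eq_zero.1 h3 with h | h
    · exact Units.ext (sub_eq_zero.1 h)
    · exact absurd h hv
  have := Subgroup.card_dvd_of_injective f₂ hinj
  rwa [Nat.card_eq_fintype_card, ZMod.card_units] at this

end Linear

end Cfsg.Agent.Helper14.SA
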