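import Mathlib
import Cfsg.Agent.Lib.Helper14.SADefs
import Cfsg.Agent.Lib.Helper27.SALINES
import Cfsg.Agent.Lib.Helper15.SALDVD

/-!
# S4025, piece E81A (helper15, for helper14's skeleton)

A group of linear automorphisms of a space of `81` elements over `ZMod 3` which is transitive on the
`130` subspaces of order `9` has order divisible by `65`.
-/

set_option autoImplicit false
set_option linter.unusedSectionVars false
set_option linter.unusedVariables false
set_option linter.style.haveILetI false

namespace Cfsg.Agent.Helper14.SA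

open Cfsg.Agent.Helper7.Hup

section E81

variable {V : Type*} [AddCommGroup V] [Module (ZMod 3) V] [Finite V]

/-- PIECE E81A -/
theorem e81_dvd (H : Subgroup (V ≃ₗ[ZMod 3] V)) (htr : Trans H) (hln : LnTrans H)
    (hV : Nat.card V = 81) : 65 ∣ Nat.card H := by
  haveI : Fact (Nat.Prime 3) := ⟨Nat.prime_three⟩
  haveI := finite_linearEquiv (p := 3) (V := V)
  letI := linesAction (p := 3) (V := V)
  have hV' : Nat.card V = 3 ^ 4 := by rw [hV]; norm_num
  obtain ⟨U₀⟩ := lines_nonempty (p := 3) (V := V) 4 (by norm_num) hV'
  have hL := card_lines (p := 3) (V := V) 4 (by norm_num) hV'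
  have hL' : Nat.card (Lines 3 V) = 130 := by
    have : Nat.card (Lines 3 V) * 48 = 130 * 48 := by
      rw [show (48 : ℕ) = (3 ^ 2 - 1) * (3 ^ 2 - 3) by norm_num, hL]
      norm_num
    exact Nat.eq_of_mul_eq_mul_right (by norm_num) this
  rw [card_eq_lines_mul_stabilizer H hln U₀, hL']
  exact Dvd.dvd.mul_right (by norm_num) _

end E81

end Cfsg.Agent.Helper14.SA
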