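import Mathlib
import Cfsg.Agent.Lib.Helper14.SADefs

/-!
# S4025, piece E81B (helper15, for helper14's skeleton)

A linear automorphism of prime order `r ≠ 3` of a space of `81` elements over `ZMod 3`:
the number of fixed vectors is a power `3 ^ k`, `k < 4`, congruent to `81` modulo `r`.
For `r = 13` this gives exactly three fixed vectors.
-/

set_option autoImplicit false
set_option linter.unusedSectionVars false
set_option linter.unusedVariables false
set_option linter.style.haveILetI false

namespace Cfsg.Agent.Helper14.SA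

section E81

variable {V : Type*} [AddCommGroup V] [Module (ZMod 3) V] [Finite V]

/-- the fixed vectors of `g`, as an additive subgroup -/
def fixAddSubgroup (g : V ≃ₗ[ZMod 3] V) : AddSubgroup V where
  carrier := {v | g v = v}
  zero_mem' := by simp
  add_mem' := by
    intro a b ha hb
    simp only [Set.mem_ofPred_eq] at ha hb ⊢
    rw [map_add, ha, hb]
  neg_mem' := by
    intro a ha
    simp only [Set.mem_ofPred_eq] at ha ⊢
    rw [map_neg, ha]

theorem mem_fixAddSubgroup (g : V ≃ₗ[ZMod 3] V) (v : V) : v ∈ fixAddSubgroup g ↔ g v = v :=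
  Iff.rfl

/-- the fixed points of the cyclic group generated by `g` are the fixed vectors of `g` -/
theorem fixedPoints_zpowers_eq (g : V ≃ₗ[ZMod 3] V) :
    MulAction.fixedPoints (Subgroup.zpowers g) V = {v | g v = v} := by
  ext v
  simp only [MulAction.mem_fixedPoints, Set.mem_ofPred_eq]
  constructor
  · intro h
    exact h ⟨g, Subgroup.mem_zpowers g⟩
  · intro h k
    have hle : Subgroup.zpowers g ≤ MulAction.stabilizer (V ≃ₗ[ZMod 3] V) v := by
      rw [Subgroup.zpowers_le]
      exact MulAction.mem_stabilizer_iff.2 h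
    exact MulAction.mem_stabilizer_iff.1 (hle k.2)

/-- the number of fixed vectors of an automorphism of prime order `r` of a space of `81` elements
is `3 ^ k` with `k < 4`, and is congruent to `81` modulo `r` -/
theorem e81_fix_card (g : V ≃ₗ[ZMod 3] V) (hV : Nat.card V = 81) (r : ℕ) (hr : r.Prime)
    (hg : orderOf g = r) :
    ∃ k : ℕ, k < 4 ∧ Nat.card {v : V // g v = v} = 3 ^ k ∧ 81 ≡ 3 ^ k [MOD r] := by
  haveI : Fact r.Prime := ⟨hr⟩
  have hpg : IsPGroup r (Subgroup.zpowers g) := by
    apply IsPGroup.of_card (n := 1)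
    rw [Nat.card_zpowers, hg, pow_one]
  have hmod := hpg.card_modEq_card_fixedPoints V
  rw [hV] at hmod
  have hfix : Nat.card (MulAction.fixedPoints (Subgroup.zpowers g) V) =
      Nat.card {v : V // g v = v} := by
    rw [fixedPoints_zpowers_eq]
    rfl
  rw [hfix] at hmod
  have hcard : Nat.card {v : V // g v = v} = Nat.card (fixAddSubgroup g) := rfl
  have hdvd : Nat.card (fixAddSubgroup g) ∣ 3 ^ 4 := by
    have := AddSubgroup.card_addSubgroup_dvd_card (fixAddSubgroup g)
    rw [hV] at this
    exact this
  obtain ⟨k, hk4, hk⟩ := (Nat.dvd_prime_pow Nat.prime_three).1 hdvd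
  refine ⟨k, ?_, by rw [hcard, hk], by rw [hcard, hk] at hmod; exact hmod⟩
  rcases Nat.lt_or_ge k 4 with h | h
  · exact h
  · exfalso
    have hk4' : k = 4 := le_antisymm hk4 h
    subst hk4'
    have htop : fixAddSubgroup g = ⊤ := by
      apply AddSubgroup.eq_top_of_card_eq
      rw [hk, hV]; norm_num
    have hg1 : g = 1 := by
      ext v
      have : v ∈ fixAddSubgroup g := by rw [htop]; exact AddSubgroup.mem_top v
      exact this
    rw [hg1, orderOf_one] at hg
    exact hr.one_lt.ne hg

/-- PIECE E81B -/
theorem e81_fix13 (g : V ≃ₗ[ZMod 3] V) (hV : Nat.card V = 81) (hg : orderOf g = 13) :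
    Nat.card {v : V // g v = v} = 3 := by
  obtain ⟨k, hk4, hk, hmod⟩ := e81_fix_card g hV 13 (by norm_num) hg
  rw [hk]
  interval_cases k
  · exfalso; revert hmod; decide
  · rfl
  · exfalso; revert hmod; decide
  · exfalso; revert hmod; decide

end E81

end Cfsg.Agent.Helper14.SA
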