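import Mathlib
import Cfsg.Agent.Lib.Helper14.SADefs
import Cfsg.Agent.Lib.Helper15.SAE81B

/-!
# S4025, piece E81C (helper15, for helper14's skeleton)

A linear automorphism of order `5` of a space of `81` elements over `ZMod 3` fixes only `0`.
-/

set_option autoImplicit false
set_option linter.unusedSectionVars false
set_option linter.unusedVariables false

namespace Cfsg.Agent.Helper14.SA

section E81

variable {V : Type*} [AddCommGroup V] [Module (ZMod 3) V] [Finite V]

/-- PIECE E81C -/
theorem e81_fix5 (g : V ≃ₗ[ZMod 3] V) (hV : Nat.card V = 81) (hg : orderOf g = 5) (v : V)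
    (hv : g v = v) : v = 0 := by
  obtain ⟨k, hk4, hk, hmod⟩ := e81_fix_card g hV 5 (by norm_num) hg
  have hk0 : k = 0 := by
    interval_cases k
    · rfl
    · exfalso; revert hmod; decide
    · exfalso; revert hmod; decide
    · exfalso; revert hmod; decide
  subst hk0
  rw [pow_zero] at hk
  have hsub : Subsingleton {v : V // g v = v} := (Nat.card_eq_one_iff_unique.1 hk).1
  have h0 : g 0 = 0 := map_zero g
  have := Subsingleton.elim (⟨v, hv⟩ : {v : V // g v = v}) ⟨0, h0⟩
  exact congrArg Subtype.val this

end E81

end Cfsg.Agent.Helper14.SA
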