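import Mathlib
import Cfsg.Agent.Lib.Helper14.SADefs
import Cfsg.Agent.Lib.Helper3.Hall
import Cfsg.Agent.Lib.Helper15.SAE81B
import Cfsg.Agent.Lib.Helper15.SAE81C

/-!
# S4025, piece E81D (helper15, for helper14's skeleton)

A solvable group of linear automorphisms of a space of `81` elements over `ZMod 3` has order
prime to `65`.
-/

set_option autoImplicit false
set_option linter.unusedSectionVars false
set_option linter.unusedVariables false
set_option linter.style.haveILetI false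

namespace Cfsg.Agent.Helper14.SA

/-- a free action: the order of the group divides the number of points -/
theorem card_dvd_of_free {K X : Type*} [Group K] [MulAction K X] [Finite K] [Finite X]
    (hfree : ∀ (k : K) (x : X), k • x = x → k = 1) : Nat.card K ∣ Nat.card X := by
  classical
  haveI : Fintype (MulAction.orbitRel.Quotient K X) := Fintype.ofFinite _
  have e := MulAction.selfEquivSigmaOrbitsQuotientStabilizer K X
  rw [Nat.card_congr e, Nat.card_sigma]
  apply Finset.dvd_sum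
  intro ω _
  have hbot : MulAction.stabilizer K ω.out = ⊥ := by
    rw [eq_bot_iff]
    intro k hk
    exact Subgroup.mem_bot.2 (hfree k _ (MulAction.mem_stabilizer_iff.1 hk))
  rw [hbot, ← Subgroup.index_eq_card, Subgroup.index_bot]

/-- arithmetic: split off the `{5, 13}`-part -/
theorem split_65 (N : ℕ) (hN : N ≠ 0) (h65 : 65 ∣ N) :
    ∃ i j b : ℕ, 1 ≤ i ∧ 1 ≤ j ∧ N = (5 ^ i * 13 ^ j) * b ∧ (5 ^ i * 13 ^ j).Coprime b := by
  have h5 : (5 : ℕ) ∣ N := (by norm_num : (5 : ℕ) ∣ 65).trans h65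
  have h13 : (13 : ℕ) ∣ N := (by norm_num : (13 : ℕ) ∣ 65).trans h65
  have p5 : Nat.Prime 5 := by norm_num
  have p13 : Nat.Prime 13 := by norm_num
  obtain ⟨i, N1, e1, h5N1, hi⟩ : ∃ i N1 : ℕ, 5 ^ i * N1 = N ∧ ¬ 5 ∣ N1 ∧ 1 ≤ i :=
    ⟨N.factorization 5, N / 5 ^ N.factorization 5, Nat.ordProj_mul_ordCompl_eq_self N 5,
      Nat.not_dvd_ordCompl p5 hN, p5.factorization_pos_of_dvd hN h5⟩
  have hN1ne : N1 ≠ 0 := by
    intro h0
    rw [h0, mul_zero] at e1
    exact hN e1.symm
  have h13N1 : 13 ∣ N1 := by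
    have : 13 ∣ 5 ^ i * N1 := e1.symm ▸ h13
    exact (Nat.Coprime.dvd_of_dvd_mul_left (Nat.Coprime.pow_right _ (by norm_num)) this)
  obtain ⟨j, b, e2, h13b, hj⟩ : ∃ j b : ℕ, 13 ^ j * b = N1 ∧ ¬ 13 ∣ b ∧ 1 ≤ j :=
    ⟨N1.factorization 13, N1 / 13 ^ N1.factorization 13, Nat.ordProj_mul_ordCompl_eq_self N1 13,
      Nat.not_dvd_ordCompl p13 hN1ne, p13.factorization_pos_of_dvd hN1ne h13N1⟩
  have h5b : ¬ 5 ∣ b := fun h => h5N1 (h.trans ⟨13 ^ j, by rw [← e2]; ring⟩)
  refine ⟨i, j, b, hi, hj, ?_, ?_⟩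
  · rw [mul_assoc, e2, e1]
  · apply Nat.Coprime.mul_left
    · exact Nat.Coprime.pow_left _ ((Nat.Prime.coprime_iff_not_dvd p5).2 h5b)
    · exact Nat.Coprime.pow_left _ ((Nat.Prime.coprime_iff_not_dvd p13).2 h13b)

section E81

variable {V : Type*} [AddCommGroup V] [Module (ZMod 3) V] [Finite V]

/-- the action on the nonzero vectors through a homomorphism -/
@[reducible]
def nzAction {K : Type*} [Group K] (ψ : K →* (V ≃ₗ[ZMod 3] V)) :
    MulAction K {v : V // v ≠ 0} where
  smul k v := ⟨ψ k v.1, fun h => v.2 (by simpa using h)⟩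
  one_smul v := by
    apply Subtype.ext
    change ψ 1 v.1 = v.1
    rw [map_one]
    rfl
  mul_smul k k' v := by
    apply Subtype.ext
    change ψ (k * k') v.1 = ψ k (ψ k' v.1)
    rw [map_mul]
    rfl

theorem pow_apply_of_fix (g : V ≃ₗ[ZMod 3] V) (v : V) (h : g v = v) (n : ℕ) : (g ^ n) v = v := by
  induction n with
  | zero => rfl
  | succ n ih =>
    rw [pow_succ, LinearEquiv.mul_apply, h, ih]

theorem card_nonzero (hV : Nat.card V = 81) : Nat.card {v : V // v ≠ 0} = 80 := by
  classical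
  haveI : Fintype V := Fintype.ofFinite V
  rw [Nat.card_eq_fintype_card] at hV ⊢
  rw [Fintype.card_subtype_compl, Fintype.card_subtype_eq, hV]

/-- a `{5, 13}`-group of order divisible by `65` cannot act faithfully and linearly on a space of
`81` elements over `ZMod 3` -/
theorem no_65_aux {Y : Type*} [Group Y] [Finite Y] (φ : Y →* (V ≃ₗ[ZMod 3] V))
    (hφ : Function.Injective φ) (hV : Nat.card V = 81) (i j : ℕ) (hi : 1 ≤ i) (hj : 1 ≤ j)
    (hcard : Nat.card Y = 5 ^ i * 13 ^ j) : False := by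
  classical
  haveI : Fact (Nat.Prime 5) := ⟨by norm_num⟩
  haveI : Fact (Nat.Prime 13) := ⟨by norm_num⟩
  have hord : ∀ y : Y, orderOf (φ y) = orderOf y := fun y => orderOf_injective φ hφ y
  -- the Sylow `5`-subgroups have order `5`
  have hi1 : i = 1 := by
    obtain ⟨T⟩ := (inferInstance : Nonempty (Sylow 5 Y))
    have h5T : 5 ^ i ∣ Nat.card T :=
      T.pow_dvd_card_of_pow_dvd_card (by rw [hcard]; exact Dvd.intro _ rfl)
    letI := nzAction (V := V) (φ.comp (T : Subgroup Y).subtype)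
    have hdvd : Nat.card T ∣ Nat.card {v : V // v ≠ 0} := by
      apply card_dvd_of_free
      intro k x hkx
      by_contra hk1
      have hfix : φ (k : Y) x.1 = x.1 := congrArg Subtype.val hkx
      obtain ⟨m, hm⟩ := (IsPGroup.iff_orderOf.1 T.isPGroup') k
      have hm0 : m ≠ 0 := by
        rintro rfl
        rw [pow_zero, orderOf_eq_one_iff] at hm
        exact hk1 hm
      have h5k : 5 ∣ orderOf k := by rw [hm]; exact dvd_pow_self 5 hm0
      have hk0 : orderOf k ≠ 0 := by rw [hm]; positivity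
      have ho : orderOf (k ^ (orderOf k / 5)) = 5 := orderOf_pow_orderOf_div hk0 h5k
      have ho' : orderOf (φ ((k ^ (orderOf k / 5) : ↥(T : Subgroup Y)) : Y)) = 5 := by
        rw [hord, Subgroup.orderOf_coe, ho]
      have hfix' : φ ((k ^ (orderOf k / 5) : ↥(T : Subgroup Y)) : Y) x.1 = x.1 := by
        rw [Subgroup.coe_pow, map_pow]
        exact pow_apply_of_fix _ _ hfix _
      exact x.2 (e81_fix5 _ hV ho' x.1 hfix')
    rw [card_nonzero hV] at hdvd
    have h80 : 5 ^ i ∣ 80 := h5T.trans hdvd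
    by_contra hne
    have h2 : 2 ≤ i := by omega
    have : 5 ^ 2 ∣ 80 := (pow_dvd_pow 5 h2).trans h80
    omega
  subst hi1
  rw [pow_one] at hcard
  -- the Sylow `13`-subgroup is normal
  obtain ⟨S⟩ := (inferInstance : Nonempty (Sylow 13 Y))
  have h13S : 13 ∣ Nat.card S := by
    have := S.pow_dvd_card_of_pow_dvd_card (n := 1)
      (by rw [hcard, pow_one]; exact Dvd.dvd.mul_left (dvd_pow_self 13 (by omega)) 5)
    rwa [pow_one] at this
  have hSn : (S : Subgroup Y).Normal := by
    have h1 : Nat.card (Sylow 13 Y) ≡ 1 [MOD 13] := card_sylow_modEq_one 13 Y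
    have h2 : Nat.card (Sylow 13 Y) ∣ (S : Subgroup Y).index := S.card_dvd_index
    have h3 : (Nat.card S).Coprime (S : Subgroup Y).index := S.card_coprime_index
    have h4 : Nat.Coprime 13 (S : Subgroup Y).index := Nat.Coprime.coprime_dvd_left h13S h3
    have h5 : (S : Subgroup Y).index ∣ 5 * 13 ^ j := hcard ▸ (S : Subgroup Y).index_dvd_card
    have h6 : (S : Subgroup Y).index ∣ 5 :=
      Nat.Coprime.dvd_of_dvd_mul_right (Nat.Coprime.pow_right _ h4.symm) h5
    have h7 : Nat.card (Sylow 13 Y) ∣ 5 := h2.trans h6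
    have h8 : Nat.card (Sylow 13 Y) = 1 := by
      rcases (Nat.dvd_prime (by norm_num : Nat.Prime 5)).1 h7 with h | h
      · exact h
      · rw [h] at h1
        exact absurd h1 (by decide)
    haveI : Subsingleton (Sylow 13 Y) := (Nat.card_eq_one_iff_unique.1 h8).1
    exact S.normal_of_subsingleton
  -- the fixed vectors of the Sylow `13`-subgroup
  set F : Set V := {v | ∀ s ∈ (S : Subgroup Y), φ s v = v} with hF
  obtain ⟨x, hx⟩ := exists_prime_orderOf_dvd_card' (G := ↥(S : Subgroup Y)) 13 h13S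
  have hx' : orderOf (φ (x : Y)) = 13 := by rw [hord, Subgroup.orderOf_coe, hx]
  have hFx : F ⊆ {v | φ (x : Y) v = v} := fun v hv => hv x x.2
  have hFcard : Nat.card F = 3 := by
    letI : MulAction ↥(S : Subgroup Y) V := MulAction.compHom V (φ.comp (S : Subgroup Y).subtype)
    have hmod := S.isPGroup'.card_modEq_card_fixedPoints V
    have hfp : MulAction.fixedPoints ↥(S : Subgroup Y) V = F := by
      ext v
      constructor
      · intro hv s hs
        exact hv ⟨s, hs⟩
      · intro hv s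
        exact hv s s.2
    rw [hfp, hV] at hmod
    have hle : Nat.card F ≤ Nat.card {v : V // φ (x : Y) v = v} :=
      Nat.card_mono (Set.toFinite _) hFx
    rw [e81_fix13 _ hV hx'] at hle
    have : 81 % 13 = Nat.card F % 13 := hmod
    omega
  -- a nonzero fixed vector
  have h0F : (0 : V) ∈ F := fun s _ => map_zero _
  obtain ⟨v, hvF, hv0⟩ : ∃ v ∈ F, v ≠ 0 := by
    haveI : Nontrivial F := Finite.one_lt_card_iff_nontrivial.1 (by rw [hFcard]; norm_num)
    obtain ⟨w, hw⟩ := exists_ne (⟨0, h0F⟩ : F)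
    exact ⟨w.1, w.2, fun h => hw (Subtype.ext h)⟩
  -- `F` is invariant
  have hinv : ∀ y : Y, ∀ w ∈ F, φ y w ∈ F := by
    intro y w hw s hs
    have hs' : y⁻¹ * s * y ∈ (S : Subgroup Y) := by
      have := hSn.conj_mem s hs y⁻¹
      rwa [inv_inv] at this
    have e : s * y = y * (y⁻¹ * s * y) := by group
    calc φ s (φ y w) = φ (s * y) w := by rw [map_mul]; rfl
      _ = φ (y * (y⁻¹ * s * y)) w := by rw [e]
      _ = φ y (φ (y⁻¹ * s * y) w) := by rw [map_mul]; rfl
      _ = φ y w := by rw [hw _ hs']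
  -- an element of order `5`
  obtain ⟨u, hu⟩ := exists_prime_orderOf_dvd_card' (G := Y) 5 (by rw [hcard]; exact Dvd.intro _ rfl)
  have hu' : orderOf (φ u) = 5 := by rw [hord, hu]
  letI : MulAction ↥(Subgroup.zpowers u) V :=
    MulAction.compHom V (φ.comp (Subgroup.zpowers u).subtype)
  have horb : MulAction.orbit ↥(Subgroup.zpowers u) v ⊆ F := by
    rintro w ⟨z, rfl⟩
    exact hinv (z : Y) v hvF
  have hn1 : (MulAction.orbit ↥(Subgroup.zpowers u) v).ncard ∣ 5 := by
    rw [← MulAction.index_stabilizer]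
    have := (MulAction.stabilizer ↥(Subgroup.zpowers u) v).index_dvd_card
    rwa [Nat.card_zpowers, hu] at this
  have hn2 : (MulAction.orbit ↥(Subgroup.zpowers u) v).ncard ≤ 3 := by
    have := Set.ncard_le_ncard horb (Set.toFinite _)
    rwa [← Nat.card_coe_set_eq F, hFcard] at this
  have hn3 : (MulAction.orbit ↥(Subgroup.zpowers u) v).ncard = 1 := by
    rcases (Nat.dvd_prime (by norm_num : Nat.Prime 5)).1 hn1 with h | h
    · exact h
    · omega
  obtain ⟨a, ha⟩ := Set.ncard_eq_one.1 hn3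
  have h1 : v ∈ MulAction.orbit ↥(Subgroup.zpowers u) v := MulAction.mem_orbit_self v
  have h2 : (⟨u, Subgroup.mem_zpowers u⟩ : ↥(Subgroup.zpowers u)) • v ∈
      MulAction.orbit ↥(Subgroup.zpowers u) v := MulAction.mem_orbit v _
  rw [ha, Set.mem_singleton_iff] at h1 h2
  have h3 : φ u v = v := by
    have : (⟨u, Subgroup.mem_zpowers u⟩ : ↥(Subgroup.zpowers u)) • v = v := by rw [h2, ← h1]
    exact this
  exact hv0 (e81_fix5 _ hV hu' v h3)

/-- PIECE E81D -/
theorem e81_hall (H : Subgroup (V ≃ₗ[ZMod 3] V)) (hsol : Group.IsSolvable H)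
    (hV : Nat.card V = 81) (h65 : 65 ∣ Nat.card H) : False := by
  haveI := hsol
  haveI : Finite (V ≃ₗ[ZMod 3] V) :=
    Finite.of_injective (fun g : V ≃ₗ[ZMod 3] V => (g : V → V)) DFunLike.coe_injective
  obtain ⟨i, j, b, hi, hj, hN, hcop⟩ := split_65 (Nat.card H) Nat.card_pos.ne' h65
  obtain ⟨Y, hY⟩ := Cfsg.Agent.Helper3.exists_hall_subgroup (G := ↥H) _ _ hN hcop
  exact no_65_aux (H.subtype.comp Y.subtype)
    (H.subtype_injective.comp Y.subtype_injective) hV i j hi hj hY

end E81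

end Cfsg.Agent.Helper14.SA
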