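import Mathlib
import Cfsg.Agent.Lib.Helper14.SADefs
import Cfsg.Agent.Lib.Helper14.SADefs2
import Cfsg.Agent.Lib.Helper16.SABURN

/-!
# S4025, piece PT (helper15, for helper14's skeleton)

If all `p`-subgroups of equal order are conjugate and the Sylow `p`-subgroup `P` is elementary
abelian, the image of `N_G(P)` in `GL(V)` is transitive on the 1-dimensional subspaces.
-/

set_option autoImplicit false
set_option linter.unusedSectionVars false
set_option linter.unusedVariables false
set_option linter.style.haveILetI false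

universe u

namespace Cfsg.Agent.Helper14.SA

section Group

variable {G : Type u} [Group G] [Finite G] {p : ℕ} [Fact p.Prime]

variable {V : Type*} [AddCommGroup V] [Module (ZMod p) V] [Finite V]

theorem Link.map_one {P : Subgroup G} (L : Link p P V) : L.ι 1 = 0 := by
  have h := L.map_mul 1 1
  rw [mul_one] at h
  exact left_eq_add.mp h

theorem Link.map_pow {P : Subgroup G} (L : Link p P V) (x : P) (j : ℕ) :
    L.ι (x ^ j) = ((j : ℕ) : ZMod p) • L.ι x := by
  rw [Nat.cast_smul_eq_nsmul]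
  induction j with
  | zero => rw [pow_zero, zero_smul, L.map_one]
  | succ j ih => rw [pow_succ, L.map_mul, ih, succ_nsmul]

theorem Link.symm_ne_one {P : Subgroup G} (L : Link p P V) {v : V} (hv : v ≠ 0) :
    ((L.ι.symm v : P) : G) ≠ 1 := by
  intro h
  apply hv
  have h1 : L.ι.symm v = 1 := Subtype.ext h
  have := congrArg L.ι h1
  rwa [Equiv.apply_symm_apply, L.map_one] at this

theorem conj_mem_of_mem_normalizer {P : Subgroup G} {n : G}
    (hn : n ∈ Subgroup.normalizer (P : Set G)) {x : G} (hx : x ∈ P) : n * x * n⁻¹ ∈ P :=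
  (Subgroup.mem_normalizer_iff.mp hn _).mp hx

/-- PIECE PT -/
theorem ptTrans_of_conj (P : Sylow p G) (hel : Cfsg.IsElementaryAbelian p (P : Subgroup G))
    (hC : ∀ H K : Subgroup G, IsPGroup p H → IsPGroup p K → Nat.card H = Nat.card K →
      ∃ g : G, K = H.map (MulAut.conj g).toMonoidHom)
    (L : Link p (P : Subgroup G) V)
    (ρ : ↥(Subgroup.normalizer ((P : Subgroup G) : Set G)) →* (V ≃ₗ[ZMod p] V))
    (hρ : IsRep (P : Subgroup G) L ρ) : PtTrans ρ.range := by
  intro v w hv hw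
  have hp : p.Prime := Fact.out
  set x : (P : Subgroup G) := L.ι.symm v with hx
  set y : (P : Subgroup G) := L.ι.symm w with hy
  have hx1 : (x : G) ≠ 1 := L.symm_ne_one hv
  have hy1 : (y : G) ≠ 1 := L.symm_ne_one hw
  have hxo : orderOf (x : G) = p := orderOf_eq_prime (hel.2 _ x.2) hx1
  have hyo : orderOf (y : G) = p := orderOf_eq_prime (hel.2 _ y.2) hy1
  have hXc : Nat.card (Subgroup.zpowers (x : G)) = p := by rw [Nat.card_zpowers, hxo]
  have hYc : Nat.card (Subgroup.zpowers (y : G)) = p := by rw [Nat.card_zpowers, hyo]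
  have hXp : IsPGroup p (Subgroup.zpowers (x : G)) :=
    IsPGroup.of_card (n := 1) (by rw [hXc, pow_one])
  have hYp : IsPGroup p (Subgroup.zpowers (y : G)) :=
    IsPGroup.of_card (n := 1) (by rw [hYc, pow_one])
  obtain ⟨g, hg⟩ := hC _ _ hXp hYp (hXc.trans hYc.symm)
  have hXP : Subgroup.zpowers (x : G) ≤ (P : Subgroup G) := (Subgroup.zpowers_le).2 x.2
  have hYP : Subgroup.zpowers (y : G) ≤ (P : Subgroup G) := (Subgroup.zpowers_le).2 y.2
  obtain ⟨n, hn, hnK⟩ := burnside_conj P hel.1 _ _ hXP hYP g hg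
  have hmem : n * (x : G) * n⁻¹ ∈ Subgroup.zpowers (y : G) := by
    rw [hnK]
    exact ⟨(x : G), Subgroup.mem_zpowers _, rfl⟩
  have hfin : IsOfFinOrder (y : G) := isOfFinOrder_of_finite _
  rw [← mem_powers_iff_mem_zpowers] at hmem
  obtain ⟨j, hj⟩ := hmem
  have hxP : n * (x : G) * n⁻¹ ∈ (P : Subgroup G) := conj_mem_of_mem_normalizer hn x.2
  have hρv : ρ ⟨n, hn⟩ v = ((j : ℕ) : ZMod p) • w := by
    have h1 := hρ ⟨n, hn⟩ x hxP
    have h2 : (⟨n * (x : G) * n⁻¹, hxP⟩ : (P : Subgroup G)) = y ^ j := by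
      apply Subtype.ext
      rw [Subgroup.coe_pow]
      exact hj.symm
    rw [h2, L.map_pow] at h1
    rw [hx, hy, Equiv.apply_symm_apply, Equiv.apply_symm_apply] at h1
    exact h1
  have hj0 : ((j : ℕ) : ZMod p) ≠ 0 := by
    intro h0
    rw [h0, zero_smul] at hρv
    exact hv ((map_eq_zero_iff _ (ρ ⟨n, hn⟩).injective).1 hρv)
  exact ⟨ρ ⟨n, hn⟩, ⟨_, rfl⟩, Units.mk0 _ hj0, hρv⟩

end Group

end Cfsg.Agent.Helper14.SA
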