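import Mathlib
import Cfsg.Agent.Lib.Helper14.SADefs

/-!
# S4025, piece SC (helper15, for helper14's skeleton)

Six lemmas on `addScalars A = A ⊔ scalars`.
-/

set_option autoImplicit false
set_option linter.unusedSectionVars false
set_option linter.unusedVariables false
set_option linter.style.haveILetI false

namespace Cfsg.Agent.Helper14.SA

open Cfsg.Agent.Helper7.Hup

section Linear

variable {p : ℕ} [Fact p.Prime] {V : Type*} [AddCommGroup V] [Module (ZMod p) V] [Finite V]

theorem scalHom_commute (g : V ≃ₗ[ZMod p] V) (c : (ZMod p)ˣ) :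
    Commute g (scalHom p V c) := by
  ext v
  change g (scalHom p V c v) = scalHom p V c (g v)
  rw [scalHom_apply, scalHom_apply, map_smul]

theorem scalHom_range_normal : ((scalHom p V).range).Normal := by
  constructor
  rintro z ⟨c, rfl⟩ g
  refine ⟨c, ?_⟩
  have := (scalHom_commute g c).eq
  rw [this, mul_inv_cancel_right]

theorem units_zmod_two : ∀ c : (ZMod 2)ˣ, c = 1 := by decide

/-- PIECE SC (six lemmas) -/
theorem mem_addScalars_iff (A : Subgroup (V ≃ₗ[ZMod p] V)) (h : V ≃ₗ[ZMod p] V) :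
    h ∈ addScalars A ↔ ∃ g ∈ A, ∃ c : (ZMod p)ˣ, ∀ v, h v = (c : ZMod p) • g v := by
  haveI := scalHom_range_normal (p := p) (V := V)
  unfold addScalars
  rw [Subgroup.mem_sup_of_normal_right]
  constructor
  · rintro ⟨g, hg, z, ⟨c, rfl⟩, rfl⟩
    refine ⟨g, hg, c, fun v => ?_⟩
    change g (scalHom p V c v) = _
    rw [scalHom_apply, map_smul]
  · rintro ⟨g, hg, c, hc⟩
    refine ⟨g, hg, scalHom p V c, ⟨c, rfl⟩, ?_⟩
    ext v
    change g (scalHom p V c v) = h v
    rw [scalHom_apply, map_smul, hc v]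

theorem addScalars_solvable (A : Subgroup (V ≃ₗ[ZMod p] V)) (hA : Group.IsSolvable A) :
    Group.IsSolvable (addScalars A) := by
  haveI := hA
  let f : ↥A × (ZMod p)ˣ →* (V ≃ₗ[ZMod p] V) :=
    MonoidHom.noncommCoprod A.subtype (scalHom p V) (fun g c => scalHom_commute (A.subtype g) c)
  have hr : f.range = addScalars A := by
    unfold addScalars
    rw [MonoidHom.noncommCoprod_range, Subgroup.range_subtype]
  rw [← hr]
  exact Group.isSolvable_of_surjective (f := f.rangeRestrict) f.rangeRestrict_surjective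

theorem addScalars_trans (A : Subgroup (V ≃ₗ[ZMod p] V)) (hpt : PtTrans A) :
    Trans (addScalars A) := by
  intro v w hv hw
  obtain ⟨g, hg, c, hc⟩ := hpt v w hv hw
  have hmem : scalHom p V c⁻¹ * g ∈ addScalars A :=
    Subgroup.mul_mem _ (Subgroup.mem_sup_right ⟨c⁻¹, rfl⟩) (Subgroup.mem_sup_left hg)
  refine ⟨⟨_, hmem⟩, ?_⟩
  change scalHom p V c⁻¹ (g v) = w
  rw [scalHom_apply, hc, smul_smul, Units.inv_mul, one_smul]

theorem addScalars_lnTrans (A : Subgroup (V ≃ₗ[ZMod p] V)) (hln : LnTrans A) :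
    LnTrans (addScalars A) := by
  intro U W hU hW
  obtain ⟨g, hg, h⟩ := hln U W hU hW
  exact ⟨g, Subgroup.mem_sup_left hg, h⟩

theorem addScalars_hasScalars (A : Subgroup (V ≃ₗ[ZMod p] V)) : HasScalars (addScalars A) :=
  fun c => ⟨scalHom p V c, Subgroup.mem_sup_right ⟨c, rfl⟩, fun v => scalHom_apply c v⟩

theorem addScalars_eq_of_two (hp2 : p = 2) (A : Subgroup (V ≃ₗ[ZMod p] V)) : addScalars A = A := by
  subst hp2
  have h1 : ∀ c : (ZMod 2)ˣ, c = 1 := units_zmod_two
  unfold addScalars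
  apply sup_eq_left.2
  rintro z ⟨c, rfl⟩
  rw [h1 c, map_one]
  exact A.one_mem

end Linear

end Cfsg.Agent.Helper14.SA
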