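import Mathlib
import Cfsg.Agent.Lib.Helper7.HupDefs

/-!
# Huppert's theorem (S3360): piece AUT4 (helper15, for helper7)

`Cfg A B`, `A` cyclic, `|B : A| = 4`  ⟹  `|C_G(A)|` divides `24 |A|`.
-/

set_option autoImplicit false

namespace Cfsg.Agent.Helper15.HupAut4

variable {G : Type*} [Group G]

section act

variable (A B : Subgroup G) [hA : A.Normal] [hB : B.Normal]

/-- conjugation by `g` induces an endomorphism of `B/A` -/
noncomputable def cj (g : G) : (B ⧸ A.subgroupOf B) →* (B ⧸ A.subgroupOf B) :=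
  QuotientGroup.map (A.subgroupOf B) (A.subgroupOf B)
    ((MulAut.conjNormal g : MulAut B).toMonoidHom)
    (by
      intro x hx
      rw [Subgroup.mem_comap, Subgroup.mem_subgroupOf] at *
      simp only [MulEquiv.coe_toMonoidHom, MulAut.conjNormal_apply]
      exact hA.conj_mem _ hx g)

theorem cj_mk (g : G) (b : B) :
    cj A B g (QuotientGroup.mk b) = QuotientGroup.mk (MulAut.conjNormal g b) := by
  simp [cj]

theorem cj_one (q : B ⧸ A.subgroupOf B) : cj A B 1 q = q := by
  induction q using QuotientGroup.induction_on with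
  | H b => rw [cj_mk]; simp

theorem cj_mul (g h : G) (q : B ⧸ A.subgroupOf B) : cj A B (g * h) q = cj A B g (cj A B h q) := by
  induction q using QuotientGroup.induction_on with
  | H b => rw [cj_mk, cj_mk, cj_mk]; simp

theorem cj_ne_one (g : G) (q : B ⧸ A.subgroupOf B) (hq : q ≠ 1) : cj A B g q ≠ 1 := by
  intro h
  apply hq
  have : cj A B g⁻¹ (cj A B g q) = cj A B g⁻¹ 1 := by rw [h]
  rw [← cj_mul, map_one] at this
  simpa [cj_one] using this

/-- the non-identity elements of `B/A` -/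
abbrev XT : Type _ := {q : B ⧸ A.subgroupOf B // q ≠ 1}

/-- the action of `G` on the non-identity elements of `B/A` -/
@[instance_reducible]
noncomputable def actX : MulAction G (XT A B) where
  smul g x := ⟨cj A B g x.1, cj_ne_one A B g x.1 x.2⟩
  one_smul x := Subtype.ext (cj_one A B x.1)
  mul_smul g h x := Subtype.ext (cj_mul A B g h x.1)

end act

theorem exists_gens (Q : Type*) [Group Q] [Finite Q] (h4 : Nat.card Q = 4)
    (hsq : ∀ q : Q, q ^ 2 = 1) :
    ∃ q1 q2 : Q, ∀ q : Q, q = 1 ∨ q = q1 ∨ q = q2 ∨ q = q1 * q2 := by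
  classical
  haveI : Fintype Q := Fintype.ofFinite Q
  have hc : Fintype.card Q = 4 := by rw [← Nat.card_eq_fintype_card]; exact h4
  obtain ⟨q1, hq1⟩ := Fintype.exists_ne_of_one_lt_card (by omega : 1 < Fintype.card Q) (1 : Q)
  have hex : ∃ q2 : Q, q2 ∉ ({1, q1} : Finset Q) := by
    by_contra hcon
    simp only [not_exists, not_not] at hcon
    have : (Finset.univ : Finset Q) ⊆ {1, q1} := fun x _ => hcon x
    have h1 := Finset.card_le_card this
    have h2 : ({1, q1} : Finset Q).card ≤ 2 := Finset.card_le_two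
    rw [Finset.card_univ] at h1
    omega
  obtain ⟨q2, hq2⟩ := hex
  simp only [Finset.mem_insert, Finset.mem_singleton, not_or] at hq2
  have inv1 : q1⁻¹ = q1 := by
    have := hsq q1
    rw [pow_two] at this
    exact inv_eq_of_mul_eq_one_left this
  refine ⟨q1, q2, ?_⟩
  have hcard : ({1, q1, q2, q1 * q2} : Finset Q).card = 4 := by
    rw [Finset.card_insert_of_notMem, Finset.card_insert_of_notMem, Finset.card_insert_of_notMem,
      Finset.card_singleton]
    · simp only [Finset.mem_singleton]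
      intro h
      exact hq1 (by simpa using h)
    · simp only [Finset.mem_insert, Finset.mem_singleton, not_or]
      refine ⟨fun h => hq2.2 h.symm, fun h => hq2.1 ?_⟩
      simpa using h.symm
    · simp only [Finset.mem_insert, Finset.mem_singleton, not_or]
      refine ⟨fun h => hq1 h.symm, fun h => hq2.1 h.symm, fun h => ?_⟩
      have : q2 = q1⁻¹ := by
        rw [eq_comm, inv_eq_iff_mul_eq_one]; exact h.symm
      rw [inv1] at this
      exact hq2.2 this
  have huniv := Finset.eq_univ_of_card _ (hcard.trans hc.symm)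
  intro q
  have := Finset.mem_univ q
  rw [← huniv] at this
  simpa using this

/-- the kernel of the action on the three nontrivial cosets -/
theorem exists_kernel [Finite G] (A B : Subgroup G) [hA : A.Normal] [hB : B.Normal]
    (h4 : A.relIndex B = 4) :
    ∃ N : Subgroup G, N.Normal ∧ N.index ∣ 6 ∧
      ∀ g ∈ N, ∀ b ∈ B, g * b * g⁻¹ * b⁻¹ ∈ A := by
  classical
  letI : MulAction G (XT A B) := actX A B
  have hs : ∀ (g : G) (x : XT A B), (g • x).1 = cj A B g x.1 := fun _ _ => rfl
  letI : Fintype (B ⧸ A.subgroupOf B) := Fintype.ofFinite _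
  letI : Fintype (XT A B) := Fintype.ofFinite _
  have hQ : Fintype.card (B ⧸ A.subgroupOf B) = 4 := by
    rw [← Nat.card_eq_fintype_card, ← Subgroup.index_eq_card]; exact h4
  have hXc : Fintype.card (XT A B) = 3 := by
    have := Fintype.card_subtype_compl (fun q : B ⧸ A.subgroupOf B => q = 1)
    rw [Fintype.card_subtype_eq, hQ] at this
    exact this
  refine ⟨(MulAction.toPermHom G (XT A B)).ker, inferInstance, ?_, ?_⟩
  · rw [Subgroup.index_ker]
    have h6 : Nat.card (Equiv.Perm (XT A B)) = 6 := by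
      rw [Nat.card_eq_fintype_card, Fintype.card_perm, hXc]; rfl
    rw [← h6]
    exact Subgroup.card_subgroup_dvd_card _
  · intro g hg b hb
    by_cases hbA : b ∈ A
    · exact A.mul_mem (hA.conj_mem b hbA g) (A.inv_mem hbA)
    · have hne : (QuotientGroup.mk (⟨b, hb⟩ : B) : B ⧸ A.subgroupOf B) ≠ 1 := by
        rw [Ne, QuotientGroup.eq_one_iff, Subgroup.mem_subgroupOf]; exact hbA
      have hfix : g • (⟨_, hne⟩ : XT A B) = ⟨_, hne⟩ := by
        have := MonoidHom.mem_ker.1 hg
        have h2 := congrArg (fun σ : Equiv.Perm (XT A B) => σ ⟨_, hne⟩) this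
        simpa using h2
      have h3 : cj A B g (QuotientGroup.mk (⟨b, hb⟩ : B)) = QuotientGroup.mk (⟨b, hb⟩ : B) := by
        rw [← hs g ⟨_, hne⟩, hfix]
      rw [cj_mk, QuotientGroup.eq, Subgroup.mem_subgroupOf] at h3
      simp only [Subgroup.coe_mul, Subgroup.coe_inv, MulAut.conjNormal_apply] at h3
      -- h3 : (g * b * g⁻¹)⁻¹ * b ∈ A
      have h4 := hA.conj_mem _ (A.inv_mem h3) b
      have e : b * ((g * b * g⁻¹)⁻¹ * b)⁻¹ * b⁻¹ = g * b * g⁻¹ * b⁻¹ := by group
      rwa [e] at h4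

open Cfsg.Agent.Helper7.Hup

/-- `b ^ 2 ∈ A` for all `b ∈ B` when `|B : A| = 4` and `B/A` has squarefree exponent -/
theorem sq_mem [Finite G] {A B : Subgroup G} (h : Cfg A B) (h4 : A.relIndex B = 4) :
    ∀ b ∈ B, b ^ 2 ∈ A := by
  haveI := h.nA
  haveI := h.nB
  intro b hb
  obtain ⟨n, hn, hbn⟩ := h.sqfree b hb
  have hQ : Nat.card (B ⧸ A.subgroupOf B) = 4 := by
    rw [← Subgroup.index_eq_card]; exact h4
  set q : B ⧸ A.subgroupOf B := QuotientGroup.mk (⟨b, hb⟩ : B) with hq
  have h1 : q ^ 4 = 1 := by rw [← hQ]; exact pow_card_eq_one'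
  have h2 : q ^ n = 1 := by
    rw [hq, ← QuotientGroup.mk_pow, QuotientGroup.eq_one_iff, Subgroup.mem_subgroupOf]
    simpa using hbn
  have h3 : orderOf q ∣ 4 := orderOf_dvd_of_pow_eq_one h1
  have h4' : orderOf q ∣ n := orderOf_dvd_of_pow_eq_one h2
  have h5 : orderOf q ∣ 2 := by
    have h22 : (4 : ℕ) = 2 ^ 2 := by norm_num
    rw [h22] at h3
    obtain ⟨i, hi, hoi⟩ := (Nat.dvd_prime_pow Nat.prime_two).1 h3
    have : i ≠ 2 := by
      rintro rfl
      rw [hoi] at h4'
      have : (2 : ℕ) * 2 ∣ n := by simpa using h4'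
      have := hn 2 this
      simp at this
    rw [hoi]
    have hi1 : i ≤ 1 := by omega
    calc 2 ^ i ∣ 2 ^ 1 := pow_dvd_pow 2 hi1
      _ = 2 := pow_one 2
  have h6 : q ^ 2 = 1 := orderOf_dvd_iff_pow_eq_one.1 h5
  rw [hq, ← QuotientGroup.mk_pow, QuotientGroup.eq_one_iff, Subgroup.mem_subgroupOf] at h6
  simpa using h6

/-- coset representatives -/
theorem exists_reps [Finite G] {A B : Subgroup G} (h : Cfg A B) (h4 : A.relIndex B = 4) :
    ∃ b1 ∈ B, ∃ b2 ∈ B, ∀ b ∈ B,
      b ∈ A ∨ b1⁻¹ * b ∈ A ∨ b2⁻¹ * b ∈ A ∨ (b1 * b2)⁻¹ * b ∈ A := by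
  haveI := h.nA
  haveI := h.nB
  have hQ : Nat.card (B ⧸ A.subgroupOf B) = 4 := by
    rw [← Subgroup.index_eq_card]; exact h4
  have hsq : ∀ q : B ⧸ A.subgroupOf B, q ^ 2 = 1 := by
    intro q
    induction q using QuotientGroup.induction_on with
    | H b =>
      rw [← QuotientGroup.mk_pow, QuotientGroup.eq_one_iff, Subgroup.mem_subgroupOf]
      simpa using sq_mem h h4 b.1 b.2
  obtain ⟨q1, q2, hq⟩ := exists_gens _ hQ hsq
  obtain ⟨b1, rfl⟩ := QuotientGroup.mk_surjective q1
  obtain ⟨b2, rfl⟩ := QuotientGroup.mk_surjective q2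
  refine ⟨b1.1, b1.2, b2.1, b2.2, ?_⟩
  intro b hb
  rcases hq (QuotientGroup.mk (⟨b, hb⟩ : B)) with h1 | h1 | h1 | h1
  · left
    rw [QuotientGroup.eq_one_iff, Subgroup.mem_subgroupOf] at h1
    exact h1
  · right; left
    have := (QuotientGroup.eq.1 h1.symm)
    rw [Subgroup.mem_subgroupOf] at this
    simpa using this
  · right; right; left
    have := (QuotientGroup.eq.1 h1.symm)
    rw [Subgroup.mem_subgroupOf] at this
    simpa using this
  · right; right; right
    rw [← QuotientGroup.mk_mul] at h1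
    have := (QuotientGroup.eq.1 h1.symm)
    rw [Subgroup.mem_subgroupOf] at this
    simpa using this

/-- `c ↦ [c, b]` is multiplicative on elements centralizing `A` whose commutators with `b` lie
in the abelian group `A` -/
theorem comm_mul {A : Subgroup G} (hAab : ∀ x ∈ A, ∀ y ∈ A, x * y = y * x)
    (c c' b : G) (hc : ∀ a ∈ A, a * c = c * a)
    (ha : c * b * c⁻¹ * b⁻¹ ∈ A) (ha' : c' * b * c'⁻¹ * b⁻¹ ∈ A) :
    (c * c') * b * (c * c')⁻¹ * b⁻¹ = (c * b * c⁻¹ * b⁻¹) * (c' * b * c'⁻¹ * b⁻¹) := by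
  have e1 : (c * c') * b * (c * c')⁻¹ * b⁻¹
      = c * (c' * b * c'⁻¹ * b⁻¹) * c⁻¹ * (c * b * c⁻¹ * b⁻¹) := by group
  have e2 : c * (c' * b * c'⁻¹ * b⁻¹) * c⁻¹ = c' * b * c'⁻¹ * b⁻¹ := by
    rw [← hc _ ha']; group
  rw [e1, e2]
  exact hAab _ ha' _ ha

/-- the commutator `[c, b]` squares to one when `b ^ 2 ∈ A` -/
theorem comm_sq {A : Subgroup G} (c b : G) (hc : ∀ a ∈ A, a * c = c * a)
    (hb : ∀ a ∈ A, a * b = b * a)
    (ha : c * b * c⁻¹ * b⁻¹ ∈ A) (hb2 : b ^ 2 ∈ A) :
    (c * b * c⁻¹ * b⁻¹) ^ 2 = 1 := by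
  set a := c * b * c⁻¹ * b⁻¹ with hadef
  have h1 : c * b * c⁻¹ = a * b := by rw [hadef]; group
  have h2 : c * (b * b) * c⁻¹ = (a * b) * (a * b) := by rw [← h1]; group
  have h3 : c * (b * b) * c⁻¹ = b * b := by
    rw [pow_two] at hb2
    rw [← hc _ hb2]; group
  have h4 : b * a = a * b := (hb a ha).symm
  have h5 : (a * b) * (a * b) = a * a * (b * b) := by
    calc (a * b) * (a * b) = a * (b * a) * b := by group
      _ = a * (a * b) * b := by rw [h4]
      _ = a * a * (b * b) := by group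
  rw [h3, h5] at h2
  rw [pow_two]
  have : a * a * (b * b) = 1 * (b * b) := by rw [one_mul]; exact h2.symm
  exact mul_right_cancel this

end Cfsg.Agent.Helper15.HupAut4

namespace Cfsg.Agent.Helper7.Hup

open Cfsg.Agent.Helper15.HupAut4

variable {G : Type*} [Group G] [Finite G]

/-- PIECE AUT4 -/
theorem Cfg.card_centralizer_dvd {A B : Subgroup G} (h : Cfg A B) (hAcyc : IsCyclic A)
    (h4 : A.relIndex B = 4) :
    Nat.card (Subgroup.centralizer (A : Set G)) ∣ 24 * Nat.card A := by
  classical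
  haveI := h.nA
  haveI := h.nB
  set C := Subgroup.centralizer (A : Set G) with hC
  have hAC : A ≤ C := h.le.trans h.cent
  have hcent : ∀ c ∈ C, ∀ a ∈ A, a * c = c * a := fun c hc a ha =>
    (Subgroup.mem_centralizer_iff.1 hc) a ha
  have hAab : ∀ x ∈ A, ∀ y ∈ A, x * y = y * x := fun x hx y hy => hcent y (hAC hy) x hx
  obtain ⟨N, hNn, hN6, hNcomm⟩ := exists_kernel A B h4
  obtain ⟨b1, hb1, b2, hb2, hreps⟩ := exists_reps h h4
  have hsq := sq_mem h h4
  set C1 := N ⊓ C with hC1
  -- |C| = |C1| * |C : C1|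
  have hcard1 : Nat.card C1 * C1.relIndex C = Nat.card C := by
    have := Subgroup.relIndex_mul_relIndex ⊥ C1 C bot_le inf_le_right
    simpa using this
  have hrel : C1.relIndex C ∣ 6 := by
    rw [hC1, Subgroup.inf_relIndex_right]
    exact (Subgroup.relIndex_dvd_index_of_normal N C).trans hN6
  -- the homomorphism θ : C1 → G × G
  have hmemA : ∀ c : C1, ∀ b ∈ B, (c : G) * b * (c : G)⁻¹ * b⁻¹ ∈ A := fun c b hb =>
    hNcomm c.1 c.2.1 b hb
  let θ : C1 →* G × G := MonoidHom.mk'
    (fun c => ((c : G) * b1 * (c : G)⁻¹ * b1⁻¹, (c : G) * b2 * (c : G)⁻¹ * b2⁻¹))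
    (by
      intro c c'
      ext
      · exact comm_mul hAab c c' b1 (hcent c c.2.2) (hmemA c b1 hb1) (hmemA c' b1 hb1)
      · exact comm_mul hAab c c' b2 (hcent c c.2.2) (hmemA c b2 hb2) (hmemA c' b2 hb2))
  have hθ : ∀ c : C1, θ c = ((c : G) * b1 * (c : G)⁻¹ * b1⁻¹, (c : G) * b2 * (c : G)⁻¹ * b2⁻¹) :=
    fun _ => rfl
  have hcard2 : Nat.card θ.ker * Nat.card θ.range = Nat.card C1 := by
    rw [← Subgroup.index_ker]; exact Subgroup.card_mul_index _
  -- the kernel embeds into A
  have hkerA : ∀ c : θ.ker, ((c : C1) : G) ∈ A := by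
    intro c
    have hc := MonoidHom.mem_ker.1 c.2
    rw [hθ, Prod.mk_eq_one] at hc
    have e1 : ((c : C1) : G) * b1 = b1 * ((c : C1) : G) := by
      have := hc.1
      rw [mul_inv_eq_one, mul_inv_eq_iff_eq_mul] at this
      exact this
    have e2 : ((c : C1) : G) * b2 = b2 * ((c : C1) : G) := by
      have := hc.2
      rw [mul_inv_eq_one, mul_inv_eq_iff_eq_mul] at this
      exact this
    have hcC : ((c : C1) : G) ∈ C := (c : C1).2.2
    apply h.self _ hcC
    intro b hb
    set x := ((c : C1) : G) with hx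
    have key : ∀ y a : G, x * y = y * x → a ∈ A → y⁻¹ * b = a → x * b = b * x := by
      intro y a hy ha hyb
      have hb' : b = y * a := by rw [← hyb]; group
      have hax : a * x = x * a := hcent x hcC a ha
      rw [hb']
      calc x * (y * a) = (x * y) * a := by group
        _ = (y * x) * a := by rw [hy]
        _ = y * (x * a) := by group
        _ = y * (a * x) := by rw [hax]
        _ = y * a * x := by group
    rcases hreps b hb with h1 | h1 | h1 | h1
    · exact (hcent x hcC b h1).symm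
    · exact key b1 _ e1 h1 rfl
    · exact key b2 _ e2 h1 rfl
    · refine key (b1 * b2) _ ?_ h1 rfl
      calc x * (b1 * b2) = (x * b1) * b2 := by group
        _ = (b1 * x) * b2 := by rw [e1]
        _ = b1 * (x * b2) := by group
        _ = b1 * (b2 * x) := by rw [e2]
        _ = b1 * b2 * x := by group
  have hker_dvd : Nat.card θ.ker ∣ Nat.card A := by
    let f : θ.ker →* A := MonoidHom.codRestrict ((Subgroup.subtype C1).comp (Subgroup.subtype θ.ker)) A
      (fun c => hkerA c)
    apply Subgroup.card_dvd_of_injective f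
    intro c c' hcc
    have := congrArg (Subtype.val) hcc
    exact Subtype.ext (Subtype.ext this)
  -- the range lies in T × T, T = elements of A of order ≤ 2
  let T : Subgroup G :=
    { carrier := {a | a ∈ A ∧ a ^ 2 = 1}
      one_mem' := ⟨A.one_mem, one_pow 2⟩
      mul_mem' := by
        rintro x y ⟨hx, hx2⟩ ⟨hy, hy2⟩
        refine ⟨A.mul_mem hx hy, ?_⟩
        have : Commute x y := hAab x hx y hy
        rw [this.mul_pow, hx2, hy2, one_mul]
      inv_mem' := by
        rintro x ⟨hx, hx2⟩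
        exact ⟨A.inv_mem hx, by rw [inv_pow, hx2, inv_one]⟩ }
  have hTA : T ≤ A := fun x hx => hx.1
  haveI : IsCyclic A := hAcyc
  haveI : IsCyclic T := Subgroup.isCyclic_of_le hTA
  have hTcard : Nat.card T ≤ 2 := by
    letI : Fintype T := Fintype.ofFinite T
    rw [Nat.card_eq_fintype_card]
    have := IsCyclic.card_pow_eq_one_le (α := T) (n := 2) (by norm_num)
    have hfil : (Finset.univ.filter fun a : T => a ^ 2 = 1) = Finset.univ := by
      apply Finset.filter_true_of_mem
      intro a _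
      exact Subtype.ext (by simpa using a.2.2)
    rw [hfil, Finset.card_univ] at this
    exact this
  have hTpos : 0 < Nat.card T := Nat.card_pos
  have hrange_le : θ.range ≤ T.prod T := by
    rintro z ⟨c, rfl⟩
    rw [hθ, Subgroup.mem_prod]
    have hcb : ∀ b ∈ B, ∀ a ∈ A, a * b = b * a := fun b hb a ha =>
      (Subgroup.mem_centralizer_iff.1 (h.cent hb)) a ha
    exact ⟨⟨hmemA c b1 hb1, comm_sq _ _ (hcent c c.2.2) (hcb b1 hb1) (hmemA c b1 hb1) (hsq b1 hb1)⟩,
      ⟨hmemA c b2 hb2, comm_sq _ _ (hcent c c.2.2) (hcb b2 hb2) (hmemA c b2 hb2) (hsq b2 hb2)⟩⟩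
  have hrange_dvd : Nat.card θ.range ∣ 4 := by
    have h1 := Subgroup.card_dvd_of_le hrange_le
    have h2 : Nat.card (T.prod T) = Nat.card T * Nat.card T := by
      rw [Nat.card_congr (Subgroup.prodEquiv T T).toEquiv, Nat.card_prod]
    rw [h2] at h1
    have : Nat.card T = 1 ∨ Nat.card T = 2 := by omega
    rcases this with h3 | h3 <;> rw [h3] at h1
    · exact h1.trans (by norm_num)
    · exact h1
  -- assemble
  rw [← hcard1, ← hcard2]
  have : (24 : ℕ) * Nat.card A = Nat.card A * 4 * 6 := by ring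
  rw [this]
  exact Nat.mul_dvd_mul (Nat.mul_dvd_mul hker_dvd hrange_dvd) hrel

end Cfsg.Agent.Helper7.Hup
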