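import Mathlib

/-!
# Huppert's theorem (S3360): the number-theoretic pieces NUM0, NUM1, NUM2 (helper15, for helper7)
-/

set_option autoImplicit false

namespace Cfsg.Agent.Helper7.Hup

/-- PIECE NUM0 -/
theorem num0 (p : ℕ) (hp : p.Prime) (h : p + 1 ∣ 24) :
    p = 2 ∨ p = 3 ∨ p = 5 ∨ p = 7 ∨ p = 11 ∨ p = 23 := by
  have hle : p + 1 ≤ 24 := Nat.le_of_dvd (by norm_num) h
  have hp23 : p ≤ 23 := by omega
  interval_cases p <;> first | omega | (exfalso; revert hp; norm_num)

/-- PIECE NUM1 -/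
theorem num1 (n d m s r k R : ℕ) (hn : n = d * m) (hm : 2 ≤ m) (hn3 : 3 ≤ n)
    (hs : s.Prime) (hns : n ∣ s - 1) (hr : r.Prime) (hk : 0 < k)
    (hR : r ^ (2 * k) ∣ R) (hR0 : 0 < R) (hRm : R ≤ m ^ 2) (hsr : s ∣ r ^ (2 * k) - 1) :
    d = 1 ∧ m = n ∧ r = 2 ∧ 2 ^ k = n ∧ s = n + 1 ∧ r ^ (2 * k) = R := by
  set q := r ^ k with hq
  have hq2 : 2 ≤ q := by
    calc 2 ≤ r := hr.two_le
      _ = r ^ 1 := (pow_one r).symm
      _ ≤ r ^ k := Nat.pow_le_pow_right hr.pos hk
  have hqq : r ^ (2 * k) = q * q := by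
    rw [hq, ← pow_add]; congr 1; ring
  have hqR : q * q ≤ R := by rw [← hqq]; exact Nat.le_of_dvd hR0 hR
  have hqm : q ≤ m := by
    by_contra hlt
    replace hlt := not_le.1 hlt
    have : m * m < q * q := Nat.mul_self_lt_mul_self hlt
    nlinarith [sq m]
  have hd1 : 1 ≤ d := by
    rcases Nat.eq_zero_or_pos d with h0 | h0
    · subst h0; omega
    · exact h0
  have hmn : m ≤ n := by rw [hn]; exact Nat.le_mul_of_pos_left m hd1
  have hs2 := hs.two_le
  have hns' : n ≤ s - 1 := Nat.le_of_dvd (by omega) hns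
  have hfac' : ∀ q : ℕ, 2 ≤ q → q * q - 1 = (q - 1) * (q + 1) := by
    intro q hq2
    obtain ⟨c, rfl⟩ : ∃ c, q = c + 2 := ⟨q - 2, by omega⟩
    have : (c + 2) * (c + 2) = (c + 1) * (c + 3) + 1 := by ring
    rw [this]; simp
  have hfac := hfac' q hq2
  rw [hqq, hfac] at hsr
  rcases (Nat.Prime.dvd_mul hs).1 hsr with h1 | h1
  · exfalso
    have : s ≤ q - 1 := Nat.le_of_dvd (by omega) h1
    omega
  · have hsq : s ≤ q + 1 := Nat.le_of_dvd (by omega) h1
    have e1 : s = n + 1 := by omega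
    have e2 : m = n := by omega
    have e3 : q = n := by omega
    have hd : d = 1 := by
      have : d * m = 1 * m := by rw [← hn, e2, one_mul]
      exact Nat.eq_of_mul_eq_mul_right (by omega) this
    have hn_even : Even n := by
      rcases hs.eq_two_or_odd' with h2 | hodd
      · omega
      · rw [e1] at hodd
        rcases hodd with ⟨c, hc⟩
        exact ⟨c, by omega⟩
    have hr2 : r = 2 := by
      have h2q : 2 ∣ r ^ k := by rw [← hq, e3]; exact hn_even.two_dvd
      have := (Nat.prime_two.dvd_of_dvd_pow h2q)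
      exact ((Nat.prime_dvd_prime_iff_eq Nat.prime_two hr).1 this).symm
    refine ⟨hd, e2, hr2, ?_, e1, ?_⟩
    · rw [← hr2, ← hq, e3]
    · have : R ≤ q * q := by
        calc R ≤ m ^ 2 := hRm
          _ = q * q := by rw [e2, e3]; ring
      rw [hqq]; omega

private theorem three_pow_gt (h : ℕ) (hh : 3 ≤ h) : 4 * h + 1 < 3 ^ h := by
  induction h, hh using Nat.le_induction with
  | base => norm_num
  | succ h hh ih => rw [pow_succ]; omega

/-- PIECE NUM2 -/
theorem num2 (p n k : ℕ) (hp : p.Prime) (hp2 : p ≠ 2) (hk : 2 ≤ k) (hn : n = 2 ^ k)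
    (hprim : ∀ t : ℕ, t.Prime → t ∣ p ^ n - 1 → (∀ j, 0 < j → j < n → ¬ t ∣ p ^ j - 1) →
      t = n + 1 ∧ ¬ t ^ 2 ∣ p ^ n - 1) :
    p = 3 ∧ n = 4 := by
  obtain ⟨k', rfl⟩ : ∃ k', k = k' + 2 := ⟨k - 2, by omega⟩
  set h := 2 ^ (k' + 1) with hh
  have hnh : n = 2 * h := by rw [hn, hh]; ring
  have hh2 : 2 ≤ h := by
    calc 2 = 2 ^ 1 := (pow_one 2).symm
      _ ≤ 2 ^ (k' + 1) := Nat.pow_le_pow_right (by norm_num) (by omega)
  have hp3 : 3 ≤ p := by
    have := hp.two_le; omega
  have hpodd : Odd p := hp.odd_of_ne_two hp2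
  -- p ^ h = (p ^ (h/2)) ^ 2 is 1 mod 4
  have hphmod : p ^ h % 4 = 1 := by
    have hh' : h = 2 * 2 ^ k' := by rw [hh]; ring
    rw [hh', pow_mul]
    have hsqodd : Odd (p ^ 2) := hpodd.pow
    have h8 : p ^ 2 % 4 = 1 := by
      rcases hpodd with ⟨c, rfl⟩
      have : (2 * c + 1) ^ 2 = 4 * (c * c + c) + 1 := by ring
      rw [this]; omega
    rw [Nat.pow_mod, h8]; simp
  have hph_pos : 0 < p ^ h := Nat.pos_of_ne_zero (by positivity)
  -- M = (p ^ h + 1) / 2
  obtain ⟨M, hM⟩ : ∃ M, p ^ h + 1 = 2 * M := ⟨(p ^ h + 1) / 2, by omega⟩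
  have hMod : M % 2 = 1 := by omega
  have hph9 : 9 ≤ p ^ h := by
    calc 9 = 3 ^ 2 := by norm_num
      _ ≤ p ^ 2 := Nat.pow_le_pow_left hp3 2
      _ ≤ p ^ h := Nat.pow_le_pow_right hp.pos hh2
  have hM5 : 5 ≤ M := by omega
  have hfac : p ^ n - 1 = (p ^ h - 1) * (p ^ h + 1) := by
    rw [hnh, two_mul, pow_add]
    obtain ⟨c, hc⟩ : ∃ c, p ^ h = c + 1 := ⟨p ^ h - 1, by omega⟩
    rw [hc]
    have : (c + 1) * (c + 1) = c * (c + 1 + 1) + 1 := by ring
    rw [this]; simp
  have hMdvd : M ∣ p ^ n - 1 := by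
    rw [hfac, hM]; exact Dvd.dvd.mul_left (Dvd.intro_left 2 rfl) _
  -- every prime divisor of M is n + 1
  have hall : ∀ {t : ℕ}, t.Prime → t ∣ M → t = n + 1 := by
    intro t ht htM
    have htodd : t ≠ 2 := by
      rintro rfl
      have := Nat.mod_eq_zero_of_dvd htM
      omega
    have ht1 : t ∣ p ^ h + 1 := by rw [hM]; exact Dvd.dvd.mul_left htM 2
    have htn : t ∣ p ^ n - 1 := dvd_trans htM hMdvd
    refine (hprim t ht htn ?_).1
    intro j hj0 hjn hdiv
    haveI : Fact t.Prime := ⟨ht⟩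
    -- work in ZMod t
    have e1 : ((p : ZMod t)) ^ h = -1 := by
      have : ((p ^ h + 1 : ℕ) : ZMod t) = 0 := (ZMod.natCast_eq_zero_iff _ _).2 ht1
      push_cast at this
      exact eq_neg_of_add_eq_zero_left this
    have e2 : ((p : ZMod t)) ^ j = 1 := by
      have hpj : 1 ≤ p ^ j := Nat.one_le_pow _ _ hp.pos
      have : ((p ^ j - 1 : ℕ) : ZMod t) = 0 := (ZMod.natCast_eq_zero_iff _ _).2 hdiv
      rw [Nat.cast_sub hpj] at this
      push_cast at this
      exact sub_eq_zero.1 this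
    have e3 : ((p : ZMod t)) ^ n = 1 := by
      rw [hnh, mul_comm, pow_mul, e1]; norm_num
    have hne : (-1 : ZMod t) ≠ 1 := by
      intro hcontra
      have h2 : ((2 : ℕ) : ZMod t) = 0 := by
        have : (1 : ZMod t) + 1 = 0 := by
          nth_rewrite 1 [← hcontra]; simp
        push_cast; rw [← this]; norm_num
      have := (ZMod.natCast_eq_zero_iff _ _).1 h2
      exact htodd ((Nat.prime_dvd_prime_iff_eq ht Nat.prime_two).1 this)
    have ho_n : orderOf (p : ZMod t) ∣ 2 ^ (k' + 2) := by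
      rw [← hn]; exact orderOf_dvd_of_pow_eq_one e3
    obtain ⟨i, hi, hoi⟩ := (Nat.dvd_prime_pow Nat.prime_two).1 ho_n
    have hik : i = k' + 2 := by
      by_contra hne'
      have hi' : i ≤ k' + 1 := by omega
      have : orderOf (p : ZMod t) ∣ h := by
        rw [hoi, hh]; exact pow_dvd_pow 2 hi'
      have := orderOf_dvd_iff_pow_eq_one.1 this
      rw [e1] at this
      exact hne this
    have hoj : orderOf (p : ZMod t) ∣ j := orderOf_dvd_of_pow_eq_one e2
    rw [hoi, hik, ← hn] at hoj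
    have := Nat.le_of_dvd hj0 hoj
    omega
  have hMpow := Nat.eq_prime_pow_of_unique_prime_dvd (n := M) (p := n + 1) (by omega) hall
  set e := M.primeFactorsList.length with he
  have he1 : e = 1 := by
    rcases Nat.lt_or_ge e 2 with hlt | hge
    · interval_cases e
      · rw [pow_zero] at hMpow; omega
      · rfl
    · exfalso
      obtain ⟨t, ht, htM⟩ := Nat.exists_prime_and_dvd (n := M) (by omega)
      have htn1 := hall ht htM
      have htn : t ∣ p ^ n - 1 := dvd_trans htM hMdvd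
      have hprimt : ∀ j, 0 < j → j < n → ¬ t ∣ p ^ j - 1 := by
        intro j hj0 hjn hdiv
        -- reuse: a prime divisor of M dividing p^j - 1 is impossible; redo via hprim's conclusion
        haveI : Fact t.Prime := ⟨ht⟩
        have htodd : t ≠ 2 := by
          rintro rfl
          have := Nat.mod_eq_zero_of_dvd htM
          omega
        have ht1 : t ∣ p ^ h + 1 := by rw [hM]; exact Dvd.dvd.mul_left htM 2
        have e1 : ((p : ZMod t)) ^ h = -1 := by
          have : ((p ^ h + 1 : ℕ) : ZMod t) = 0 := (ZMod.natCast_eq_zero_iff _ _).2 ht1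
          push_cast at this
          exact eq_neg_of_add_eq_zero_left this
        have e2 : ((p : ZMod t)) ^ j = 1 := by
          have hpj : 1 ≤ p ^ j := Nat.one_le_pow _ _ hp.pos
          have : ((p ^ j - 1 : ℕ) : ZMod t) = 0 := (ZMod.natCast_eq_zero_iff _ _).2 hdiv
          rw [Nat.cast_sub hpj] at this
          push_cast at this
          exact sub_eq_zero.1 this
        have e3 : ((p : ZMod t)) ^ n = 1 := by
          rw [hnh, mul_comm, pow_mul, e1]; norm_num
        have hne : (-1 : ZMod t) ≠ 1 := by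
          intro hcontra
          have h2 : ((2 : ℕ) : ZMod t) = 0 := by
            have : (1 : ZMod t) + 1 = 0 := by
              nth_rewrite 1 [← hcontra]; simp
            push_cast; rw [← this]; norm_num
          have := (ZMod.natCast_eq_zero_iff _ _).1 h2
          exact htodd ((Nat.prime_dvd_prime_iff_eq ht Nat.prime_two).1 this)
        have ho_n : orderOf (p : ZMod t) ∣ 2 ^ (k' + 2) := by
          rw [← hn]; exact orderOf_dvd_of_pow_eq_one e3
        obtain ⟨i, hi, hoi⟩ := (Nat.dvd_prime_pow Nat.prime_two).1 ho_n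
        have hik : i = k' + 2 := by
          by_contra hne'
          have hi' : i ≤ k' + 1 := by omega
          have : orderOf (p : ZMod t) ∣ h := by
            rw [hoi, hh]; exact pow_dvd_pow 2 hi'
          have := orderOf_dvd_iff_pow_eq_one.1 this
          rw [e1] at this
          exact hne this
        have hoj : orderOf (p : ZMod t) ∣ j := orderOf_dvd_of_pow_eq_one e2
        rw [hoi, hik, ← hn] at hoj
        have := Nat.le_of_dvd hj0 hoj
        omega
      have hnot := (hprim t ht htn hprimt).2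
      apply hnot
      rw [htn1]
      refine dvd_trans ?_ hMdvd
      rw [hMpow]
      exact pow_dvd_pow _ hge
  rw [he1, pow_one] at hMpow
  -- p ^ h = 2 n + 1 = 4 h + 1
  have hkey : p ^ h = 4 * h + 1 := by omega
  have hh3 : h < 3 := by
    by_contra hge
    have h1 := three_pow_gt h (by omega)
    have h2 : 3 ^ h ≤ p ^ h := Nat.pow_le_pow_left hp3 h
    omega
  have hh2' : h = 2 := by omega
  rw [hh2'] at hkey
  have hp3' : p = 3 := by nlinarith
  exact ⟨hp3', by omega⟩

end Cfsg.Agent.Helper7.Hup
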