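import Mathlib
import Cfsg.Agent.Lib.Helper23.ZS4Defs

/-!
# S3222 piece J3B (helper15 for helper23): the 80 elements of order 3 of `A₆`.
-/

set_option autoImplicit false

namespace Cfsg.Agent.Helper23.ZS4

open Equiv

namespace J3B

instance : Fact (Nat.Prime 3) := ⟨by norm_num⟩

theorem count_fix :
    (Finset.univ.filter (fun g : alternatingGroup (Fin 6) =>
      (g ^ 3 = 1 ∧ g ≠ 1) ∧ ∃ i, (g : Perm (Fin 6)) i = i)).card = 40 := by
  decide +kernel

theorem count_free :
    (Finset.univ.filter (fun g : alternatingGroup (Fin 6) =>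
      (g ^ 3 = 1 ∧ g ≠ 1) ∧ ∀ i, (g : Perm (Fin 6)) i ≠ i)).card = 40 := by
  decide +kernel

end J3B

/-- PIECE J3B. -/
theorem card_three :
    Set.ncard {g : alternatingGroup (Fin 6) | orderOf g = 3 ∧ ∃ i, (g : Perm (Fin 6)) i = i} = 40 ∧
    Set.ncard {g : alternatingGroup (Fin 6) | orderOf g = 3 ∧ ∀ i, (g : Perm (Fin 6)) i ≠ i} = 40 := by
  constructor
  · have h1 : {g : alternatingGroup (Fin 6) | orderOf g = 3 ∧ ∃ i, (g : Perm (Fin 6)) i = i} =
        ↑(Finset.univ.filter (fun g : alternatingGroup (Fin 6) =>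
          (g ^ 3 = 1 ∧ g ≠ 1) ∧ ∃ i, (g : Perm (Fin 6)) i = i)) := by
      ext g
      simp only [Set.mem_ofPred_eq, Finset.coe_filter, Finset.mem_univ, true_and]
      rw [orderOf_eq_prime_iff]
    rw [h1, Set.ncard_coe_finset]
    exact J3B.count_fix
  · have h1 : {g : alternatingGroup (Fin 6) | orderOf g = 3 ∧ ∀ i, (g : Perm (Fin 6)) i ≠ i} =
        ↑(Finset.univ.filter (fun g : alternatingGroup (Fin 6) =>
          (g ^ 3 = 1 ∧ g ≠ 1) ∧ ∀ i, (g : Perm (Fin 6)) i ≠ i)) := by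
      ext g
      simp only [Set.mem_ofPred_eq, Finset.coe_filter, Finset.mem_univ, true_and]
      rw [orderOf_eq_prime_iff]
    rw [h1, Set.ncard_coe_finset]
    exact J3B.count_free

end Cfsg.Agent.Helper23.ZS4
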