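import Mathlib
import Cfsg.Agent.Lib.Helper20.A5QDefs
import Cfsg.Agent.Lib.Helper20.A3Defs
import Cfsg.Agent.Lib.Helper12.A3BIL
import Cfsg.Agent.Lib.Helper18.A3QMK
import Cfsg.Agent.Lib.Helper23.A3U2
import Cfsg.Agent.Lib.Helper20.A3LAM2
import Cfsg.Agent.Lib.Helper14.A3QL
import Cfsg.Agent.Lib.Helper22.A3EQV
import Cfsg.Agent.Lib.Helper25.A5QBR0

set_option autoImplicit false
set_option linter.unusedSectionVars false
set_option linter.unusedVariables false

/-!
S3106 piece CEXTRA, part 2 (helper15): a `2`-group `C` with `#Φ(C) = 2`: the element `z`, the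
squaring form `Q : C/Φ(C) → 𝔽₂`, and the induced automorphism.
-/

namespace Cfsg.Agent.Helper20.A5Q

open Cfsg.Agent.Helper20.A3

section TwoGroups

variable {C : Type*} [Group C] [Finite C]

/-- the nonidentity element of a Frattini subgroup of order `2` -/
theorem cextra_exists_z (h2 : Nat.card ↥(frattini C) = 2) :
    ∃ z : C, z ≠ 1 ∧ z ∈ frattini C ∧ (∀ x ∈ frattini C, x = 1 ∨ x = z) ∧ z * z = 1 ∧
      ∀ y : C, z * y = y * z := by
  obtain ⟨⟨z, hz⟩, hz1, huniq⟩ := (Nat.card_eq_two_iff' (1 : ↥(frattini C))).mp h2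
  have hz1' : z ≠ 1 := by
    intro h
    apply hz1
    exact Subtype.ext h
  have hall : ∀ x ∈ frattini C, x = 1 ∨ x = z := by
    intro x hx
    by_cases h1 : x = 1
    · exact Or.inl h1
    · right
      have := huniq ⟨x, hx⟩ (by
        intro h
        apply h1
        exact congrArg Subtype.val h)
      exact congrArg Subtype.val this
  refine ⟨z, hz1', hz, hall, ?_, ?_⟩
  · rcases hall (z * z) ((frattini C).mul_mem hz hz) with h | h
    · exact h
    · exfalso
      apply hz1'
      exact (mul_eq_left (a := z) (b := z)).mp h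
  · intro y
    have hn : (frattini C).Normal := inferInstance
    rcases hall (y * z * y⁻¹) (hn.conj_mem z hz y) with h | h
    · exfalso
      apply hz1'
      have : z = y⁻¹ * (y * z * y⁻¹) * y := by group
      rw [this, h]
      group
    · calc z * y = (y * z * y⁻¹) * y := by rw [h]
        _ = y * z := by group

/-- there is a non-involution -/
theorem cextra_exists_sq_ne (hC : IsPGroup 2 C) (h2 : Nat.card ↥(frattini C) = 2) :
    ∃ x : C, x ^ 2 ≠ 1 := by
  by_contra hcon
  push Not at hcon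
  have h := frattini_eq_closure_sq hC
  have hbot : Subgroup.closure {y : C | ∃ x : C, y = x ^ 2} = ⊥ := by
    rw [Subgroup.closure_eq_bot_iff]
    rintro y ⟨x, rfl⟩
    exact hcon x
  rw [hbot] at h
  rw [h] at h2
  simp at h2

/-- `sqF C` is trivial -/
theorem cextra_sqF_bot (h2 : Nat.card ↥(frattini C) = 2) : sqF C = ⊥ := by
  obtain ⟨z, hz1, hz, hall, hzz, hcen⟩ := cextra_exists_z h2
  unfold sqF
  rw [Subgroup.closure_eq_bot_iff]
  rintro y ⟨f, hf, rfl⟩
  rcases hall f hf with h | h
  · rw [h]; simp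
  · rw [h, pow_two]; exact hzz

theorem cextra_frattini_le_center (h2 : Nat.card ↥(frattini C) = 2) :
    frattini C ≤ Subgroup.center C := by
  obtain ⟨z, hz1, hz, hall, hzz, hcen⟩ := cextra_exists_z h2
  intro x hx
  rw [Subgroup.mem_center_iff]
  intro y
  rcases hall x hx with h | h
  · rw [h]; simp
  · rw [h]; exact (hcen y).symm

/-- `qq` vanishes exactly on the involutions -/
theorem cextra_qq_eq_one_iff (hC : IsPGroup 2 C) (h2 : Nat.card ↥(frattini C) = 2) (x : C) :
    qq C (QuotientGroup.mk x) = 1 ↔ x ^ 2 = 1 := by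
  rw [qq_mk hC (cextra_frattini_le_center h2), QuotientGroup.eq_one_iff, cextra_sqF_bot h2,
    Subgroup.mem_bot]

theorem cextra_card_UU (hC : IsPGroup 2 C) (h2 : Nat.card ↥(frattini C) = 2) :
    Nat.card ↥(UU C) = 2 := by
  have hle : Nat.card ↥(UU C) ≤ 2 := by
    have h1 := Subgroup.card_le_of_le (u2_le_map hC)
    have h3 : Nat.card ↥((frattini C).map (QuotientGroup.mk' (sqF C))) ≤ Nat.card ↥(frattini C) :=
      Nat.le_of_dvd Nat.card_pos (Subgroup.card_map_dvd _ _)
    omega
  have hge : 1 < Nat.card ↥(UU C) := by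
    rw [Finite.one_lt_card_iff_nontrivial]
    obtain ⟨x, hx⟩ := cextra_exists_sq_ne hC h2
    refine ⟨⟨qU C (QuotientGroup.mk x), 1, ?_⟩⟩
    intro h
    apply hx
    rw [← cextra_qq_eq_one_iff hC h2]
    have := congrArg Subtype.val h
    rw [qU_coe] at this
    exact this
  omega

theorem cextra_zmod_eq : ∀ a b : ZMod 2, (a = 0 ↔ b = 0) → a = b := by decide

/-- The squaring form and the induced automorphism. -/
theorem cextra_form (hC : IsPGroup 2 C) (h2 : Nat.card ↥(frattini C) = 2)
    (φ : MulAut C) (hφ5 : φ ^ 5 = 1)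
    (hfree : ∀ x : C, φ x * x⁻¹ ∈ frattini C → x ∈ frattini C) :
    ∃ Q : C ⧸ frattini C → ZMod 2, IsQuad Q ∧ (∀ x : C, Q (QuotientGroup.mk x) = 0 ↔ x ^ 2 = 1) ∧
      ∃ ψ : MulAut (C ⧸ frattini C), ψ ^ 5 = 1 ∧ (∀ w, ψ w = w → w = 1) ∧
        (∀ w, Q (ψ w) = Q w) ∧ ∃ w, Q w ≠ 0 := by
  have hΦ := cextra_frattini_le_center h2
  obtain ⟨l, hl⟩ := exists_char_two (cextra_card_UU hC h2)
  have hQ0 : ∀ x : C, Multiplicative.toAdd (l (qU C (QuotientGroup.mk x))) = 0 ↔ x ^ 2 = 1 := by
    intro x
    rw [← cextra_qq_eq_one_iff hC h2]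
    constructor
    · intro h
      have h1 : l (qU C (QuotientGroup.mk x)) = 1 := h
      have h3 := (hl _).mp h1
      have := congrArg Subtype.val h3
      rw [qU_coe] at this
      exact this
    · intro h
      have h3 : qU C (QuotientGroup.mk x) = 1 := by
        apply Subtype.ext
        rw [qU_coe]
        exact h
      rw [h3, map_one]
      rfl
  refine ⟨fun w => Multiplicative.toAdd (l (qU C w)),
    isQuad_comp (UU_exp_two hC hΦ) (qU C) (qU_isQuadMap hC hΦ) l, hQ0, eqvPhi φ, ?_, ?_, ?_, ?_⟩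
  · have hpow : ∀ (n : ℕ) (x : C), (eqvPhi φ ^ n) (QuotientGroup.mk x) =
        QuotientGroup.mk ((φ ^ n) x) := by
      intro n
      induction n with
      | zero => intro x; simp
      | succ k ih =>
        intro x
        rw [pow_succ, MulAut.mul_apply, eqvPhi_mk, ih, pow_succ, MulAut.mul_apply]
    ext w
    induction w using QuotientGroup.induction_on with
    | H x => rw [hpow, hφ5]; rfl
  · intro w
    induction w using QuotientGroup.induction_on with
    | H x =>
      intro h
      rw [eqvPhi_mk, QuotientGroup.eq] at h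
      rw [QuotientGroup.eq_one_iff]
      apply hfree
      have hn : (frattini C).Normal := inferInstance
      have h1 := hn.conj_mem _ ((frattini C).inv_mem h) x
      have : x * ((φ x)⁻¹ * x)⁻¹ * x⁻¹ = φ x * x⁻¹ := by group
      rw [this] at h1
      exact h1
  · intro w
    induction w using QuotientGroup.induction_on with
    | H x =>
      apply cextra_zmod_eq
      rw [eqvPhi_mk]
      show Multiplicative.toAdd (l (qU C (QuotientGroup.mk (φ x)))) = 0 ↔
        Multiplicative.toAdd (l (qU C (QuotientGroup.mk x))) = 0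
      rw [hQ0, hQ0, ← map_pow]
      exact (map_eq_one_iff φ φ.injective)
  · obtain ⟨x, hx⟩ := cextra_exists_sq_ne hC h2
    refine ⟨QuotientGroup.mk x, ?_⟩
    intro h
    exact hx ((hQ0 x).mp h)

end TwoGroups

end Cfsg.Agent.Helper20.A5Q
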