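import Mathlib
import Cfsg.Agent.Lib.Helper20.A3Defs
import Cfsg.Agent.Lib.Helper22.A3F1

set_option autoImplicit false
set_option linter.unusedSectionVars false
set_option linter.unusedVariables false

/-!
S3106 piece CEXTRA, part 1 (helper15): a quadratic form on `2^4` with exactly `6` zeros has a
trivial radical.
-/

namespace Cfsg.Agent.Helper20.A5Q

open Cfsg.Agent.Helper20.A3

/-- the table: an elliptic form has no radical -/
theorem cextra_rad_table : ∀ q0 q1 q2 q3 x01 x02 x03 x12 x13 x23 : ZMod 2,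
    Fintype.card {t : F1T // f1P q0 q1 q2 q3 x01 x02 x03 x12 x13 x23 t = 0} = 6 →
    ∀ t : F1T, (∀ s : F1T, f1P q0 q1 q2 q3 x01 x02 x03 x12 x13 x23 (t + s) =
      f1P q0 q1 q2 q3 x01 x02 x03 x12 x13 x23 t + f1P q0 q1 q2 q3 x01 x02 x03 x12 x13 x23 s) →
      t = 0 := by
  decide +kernel

section Forms

variable {W : Type*} [Group W] [Finite W]

/-- A quadratic form on `2^4` with exactly `6` zeros has a trivial radical. -/
theorem cextra_radical (hW : ∀ w : W, w * w = 1) (hcard : Nat.card W = 16) (Q : W → ZMod 2)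
    (hQ : IsQuad Q) (h6 : Nat.card (zer Q) = 6) (r : W)
    (hr : ∀ w : W, Q (r * w) = Q r + Q w) : r = 1 := by
  obtain ⟨φ, hφ, hmul⟩ := f1_exists_param hW hcard
  set Q' : F1T → ZMod 2 := fun t => Q (φ t) with hQ'def
  have hQ' : ∀ x y z : F1T,
      Q' (x + y + z) + Q' (x + y) + Q' (x + z) + Q' (y + z) + Q' x + Q' y + Q' z = 0 := by
    intro x y z
    show Q (φ (x + y + z)) + Q (φ (x + y)) + Q (φ (x + z)) + Q (φ (y + z)) + Q (φ x) + Q (φ y) +
      Q (φ z) = 0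
    rw [hmul, hmul, hmul, hmul]
    exact hQ (φ x) (φ y) (φ z)
  have hform := f1_formula Q' hQ'
  have hc : Nat.card (zer Q) = Fintype.card {t : F1T // f1P (Q' (1, 0, 0, 0)) (Q' (0, 1, 0, 0))
      (Q' (0, 0, 1, 0)) (Q' (0, 0, 0, 1)) (Q' (1, 1, 0, 0)) (Q' (1, 0, 1, 0)) (Q' (1, 0, 0, 1))
      (Q' (0, 1, 1, 0)) (Q' (0, 1, 0, 1)) (Q' (0, 0, 1, 1)) t = 0} := by
    rw [← Nat.card_eq_fintype_card]
    symm
    apply Nat.card_congr
    refine (Equiv.ofBijective φ hφ).subtypeEquiv ?_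
    intro t
    show _ ↔ φ t ∈ zer Q
    rw [mem_zer, ← hform t]
  rw [h6] at hc
  obtain ⟨t₀, rfl⟩ := hφ.2 r
  have h0 : φ 0 = 1 := by
    have h := hmul 0 0
    rw [add_zero] at h
    exact (mul_eq_left (a := φ 0) (b := φ 0)).mp h.symm
  have ht : t₀ = 0 := by
    apply cextra_rad_table _ _ _ _ _ _ _ _ _ _ hc.symm t₀
    intro s
    rw [← hform, ← hform, ← hform]
    show Q (φ (t₀ + s)) = Q (φ t₀) + Q (φ s)
    rw [hmul]
    exact hr (φ s)
  rw [ht, h0]

end Forms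

end Cfsg.Agent.Helper20.A5Q
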