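import Mathlib
import Cfsg.Agent.Lib.Helper20.A5QDefs
import Cfsg.Agent.Lib.Helper20.A3Defs
import Cfsg.Agent.Lib.Helper15.A5QCEXTRARad
import Cfsg.Agent.Lib.Helper15.A5QCEXTRAForm
import Cfsg.Agent.Lib.Helper2.QuaternionRecog
import Cfsg.Agent.S3763

set_option autoImplicit false
set_option linter.unusedSectionVars false
set_option linter.unusedVariables false

/-!
S3106 piece CEXTRA, part 3 (helper15): from the elliptic squaring form to `Q8 * D8`.
-/

namespace Cfsg.Agent.Helper20.A5Q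

open Cfsg.Agent.Helper20.A3

section TwoGroups

variable {C : Type*} [Group C] [Finite C]

theorem cextra_zmod_cases : ∀ a : ZMod 2, a = 0 ∨ a = 1 := by decide

theorem cextra_comm_of_sq {G : Type*} [Group G] (a b : G)
    (h : a * b * (a * b) = a * a * (b * b)) : b * a = a * b := by
  have h1 : a * (b * (a * b)) = a * (a * (b * b)) := by
    rw [← mul_assoc a b, ← mul_assoc a a]; exact h
  have h2 := mul_left_cancel h1
  have h3 : (b * a) * b = (a * b) * b := by
    rw [mul_assoc, mul_assoc]; exact h2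
  exact mul_right_cancel h3

/-- The assembly: an elliptic squaring form gives the central product structure. -/
theorem cextra_core (hC : IsPGroup 2 C) (h2 : Nat.card ↥(frattini C) = 2)
    (h16 : Nat.card (C ⧸ frattini C) = 16) (Q : C ⧸ frattini C → ZMod 2) (hQ : IsQuad Q)
    (hQ0 : ∀ x : C, Q (QuotientGroup.mk x) = 0 ↔ x ^ 2 = 1) (h6 : Nat.card (zer Q) = 6)
    (hbasis : ∃ x₁ x₂ y₁ y₂ : C ⧸ frattini C, Q x₁ = 0 ∧ Q x₂ = 0 ∧ Q (x₁ * x₂) = 1 ∧
      Q y₁ = 1 ∧ Q y₂ = 1 ∧ Q (y₁ * y₂) = 1 ∧ Q (x₁ * y₁) = 1 ∧ Q (x₁ * y₂) = 1 ∧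
      Q (x₂ * y₁) = 1 ∧ Q (x₂ * y₂) = 1 ∧ Subgroup.closure {x₁, x₂, y₁, y₂} = ⊤) :
    IsQ8D8 C := by
  obtain ⟨z, hz1, hz, hall, hzz, hcen⟩ := cextra_exists_z h2
  have hsq : ∀ g : C, g * g = 1 ∨ g * g = z := by
    intro g
    have := bil_sq_mem hC g
    rw [pow_two] at this
    exact hall _ this
  -- the values of `Q` and the squares
  have hv : ∀ g : C, (Q (QuotientGroup.mk g) = 0 ∧ g * g = 1) ∨
      (Q (QuotientGroup.mk g) = 1 ∧ g * g = z) := by
    intro g
    rcases cextra_zmod_cases (Q (QuotientGroup.mk g)) with h | h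
    · left
      refine ⟨h, ?_⟩
      have := (hQ0 g).mp h
      rw [pow_two] at this
      exact this
    · right
      refine ⟨h, ?_⟩
      rcases hsq g with h' | h'
      · exfalso
        have := (hQ0 g).mpr (by rw [pow_two]; exact h')
        rw [this] at h
        exact absurd h (by decide)
      · exact h'
  have hv0 : ∀ g : C, Q (QuotientGroup.mk g) = 0 → g * g = 1 := by
    intro g hg
    rcases hv g with ⟨_, h⟩ | ⟨h, _⟩
    · exact h
    · rw [hg] at h; exact absurd h (by decide)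
  have hv1 : ∀ g : C, Q (QuotientGroup.mk g) = 1 → g * g = z := by
    intro g hg
    rcases hv g with ⟨h, _⟩ | ⟨_, h⟩
    · rw [hg] at h; exact absurd h (by decide)
    · exact h
  have hW := frattini_quot_exp_two hC
  -- the centre
  have hctr : ∀ w : C, (∀ y : C, w * y = y * w) → w = 1 ∨ w = z := by
    intro c hc
    apply hall
    rw [← QuotientGroup.eq_one_iff]
    apply cextra_radical hW h16 Q hQ h6
    intro w
    induction w using QuotientGroup.induction_on with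
    | H x =>
      have key : (c * x) * (c * x) = (c * c) * (x * x) := by
        calc (c * x) * (c * x) = c * (x * c) * x := by simp only [mul_assoc]
          _ = c * (c * x) * x := by rw [hc x]
          _ = (c * c) * (x * x) := by simp only [mul_assoc]
      rcases hv c with ⟨qc, sc⟩ | ⟨qc, sc⟩ <;> rcases hv x with ⟨qx, sx⟩ | ⟨qx, sx⟩ <;>
        rcases hv (c * x) with ⟨qcx, scx⟩ | ⟨qcx, scx⟩ <;>
        rw [QuotientGroup.mk_mul] at qcx <;> rw [qc, qx, qcx] <;>
        first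
          | decide
          | (exfalso
             apply hz1
             rw [key, sc, sx] at scx
             first
               | exact (by simpa using scx)
               | exact (by simpa using scx.symm))
  have hES : Cfsg.Agent.S3763.ES C z := by
    refine ⟨hz1, hcen, hzz, hsq, ?_, hctr⟩
    intro u v
    have hk := bil_comm_mem hC u⁻¹ v
    rw [inv_inv] at hk
    rcases hall _ hk with h | h
    · left
      calc u * v = (u * v * u⁻¹ * v⁻¹) * (v * u) := by group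
        _ = v * u := by rw [h, one_mul]
    · right
      calc u * v = (u * v * u⁻¹ * v⁻¹) * (v * u) := by group
        _ = z * (v * u) := by rw [h]
  obtain ⟨x₁, x₂, y₁, y₂, q1, q2, q3, q4, q5, q6, q7, q8, q9, q10, -⟩ := hbasis
  obtain ⟨a₁, rfl⟩ := QuotientGroup.mk_surjective x₁
  obtain ⟨a₂, rfl⟩ := QuotientGroup.mk_surjective x₂
  obtain ⟨b₁, rfl⟩ := QuotientGroup.mk_surjective y₁
  obtain ⟨b₂, rfl⟩ := QuotientGroup.mk_surjective y₂
  rw [← QuotientGroup.mk_mul] at q3 q6 q7 q8 q9 q10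
  have ha₁ := hv0 _ q1
  have ha₂ := hv0 _ q2
  have ha₁₂ := hv1 _ q3
  have hb₁ := hv1 _ q4
  have hb₂ := hv1 _ q5
  have hb₁₂ := hv1 _ q6
  have h11 := hv1 _ q7
  have h12 := hv1 _ q8
  have h21 := hv1 _ q9
  have h22 := hv1 _ q10
  have hax : a₁ * a₂ ≠ a₂ * a₁ := by
    intro h
    apply hz1
    rw [← ha₁₂]
    calc (a₁ * a₂) * (a₁ * a₂) = a₁ * (a₂ * a₁) * a₂ := by simp only [mul_assoc]
      _ = a₁ * (a₁ * a₂) * a₂ := by rw [h]
      _ = (a₁ * a₁) * (a₂ * a₂) := by simp only [mul_assoc]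
      _ = 1 := by rw [ha₁, ha₂, one_mul]
  -- the commutation of the two pairs
  have c11 : b₁ * a₁ = a₁ * b₁ := cextra_comm_of_sq a₁ b₁ (by rw [h11, ha₁, hb₁, one_mul])
  have c12 : b₂ * a₁ = a₁ * b₂ := cextra_comm_of_sq a₁ b₂ (by rw [h12, ha₁, hb₂, one_mul])
  have c21 : b₁ * a₂ = a₂ * b₁ := cextra_comm_of_sq a₂ b₁ (by rw [h21, ha₂, hb₁, one_mul])
  have c22 : b₂ * a₂ = a₂ * b₂ := cextra_comm_of_sq a₂ b₂ (by rw [h22, ha₂, hb₂, one_mul])
  have hcard32 : Nat.card C = 32 := by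
    rw [Subgroup.card_eq_card_quotient_mul_card_subgroup (frattini C), h16, h2]
  have hb₁A : b₁ ∈ Cfsg.Agent.S3763.E1 hES a₁ a₂ := by
    rw [Cfsg.Agent.S3763.mem_E1]
    exact ⟨c11.symm, c21.symm⟩
  have hb₂A : b₂ ∈ Cfsg.Agent.S3763.E1 hES a₁ a₂ := by
    rw [Cfsg.Agent.S3763.mem_E1]
    exact ⟨c12.symm, c22.symm⟩
  have hcardA : Nat.card ↥(Cfsg.Agent.S3763.E1 hES a₁ a₂) = 4 * 2 := by
    have := Cfsg.Agent.S3763.card_E1 hES hax
    rw [hcard32] at this
    omega
  -- the quaternion group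
  have hQ8 : Nonempty (↥(Cfsg.Agent.S3763.E1 hES a₁ a₂) ≃* QuaternionGroup 2) := by
    apply Cfsg.Agent.Helper2.nonempty_mulEquiv_quaternion 2 (le_refl 2)
      (⟨b₁, hb₁A⟩ : ↥(Cfsg.Agent.S3763.E1 hES a₁ a₂)) ⟨b₂, hb₂A⟩ ?_ ?_ ?_ hcardA
    · rw [Subgroup.orderOf_mk]
      have : Fact (Nat.Prime 2) := ⟨Nat.prime_two⟩
      have := orderOf_eq_prime_pow (p := 2) (n := 1) (x := b₁) (by
        rw [pow_one, pow_two, hb₁]; exact hz1) (by
        have : b₁ ^ 2 ^ (1 + 1) = (b₁ * b₁) * (b₁ * b₁) := by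
          norm_num [pow_succ, mul_assoc]
        rw [this, hb₁, hzz])
      rw [this]
      norm_num
    · apply Subtype.ext
      show b₂ * b₂ = b₁ ^ 2
      rw [pow_two, hb₁, hb₂]
    · apply Subtype.ext
      show b₂ * b₁ * b₂⁻¹ = b₁⁻¹
      have e1 : b₂ * b₁ * b₂ = b₁ := by
        have h : b₁ * (b₂ * b₁ * b₂) = b₁ * b₁ := by
          rw [hb₁, ← hb₁₂]; simp only [mul_assoc]
        exact mul_left_cancel h
      have i2 : b₂⁻¹ = b₂ * z := by
        apply inv_eq_of_mul_eq_one_right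
        rw [← mul_assoc, hb₂, hzz]
      have i1 : b₁⁻¹ = b₁ * z := by
        apply inv_eq_of_mul_eq_one_right
        rw [← mul_assoc, hb₁, hzz]
      calc b₂ * b₁ * b₂⁻¹ = b₂ * b₁ * (b₂ * z) := by rw [i2]
        _ = (b₂ * b₁ * b₂) * z := by simp only [mul_assoc]
        _ = b₁ * z := by rw [e1]
        _ = b₁⁻¹ := i1.symm
  have hD8 := Cfsg.Agent.S3763.D_dihedral hES ha₁ ha₂ hax
  refine ⟨hcard32, Cfsg.Agent.S3763.E1 hES a₁ a₂, Subgroup.closure ({a₁, a₂} : Set C), hQ8, hD8,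
    ?_, ?_, ?_⟩
  · intro a ha b hb
    exact (Cfsg.Agent.S3763.D_comm hES a₁ a₂ b hb a ha).symm
  · rw [eq_top_iff]
    intro y _
    obtain ⟨d, hd, e, he, rfl⟩ := Cfsg.Agent.S3763.D_gen hES hax y
    exact Subgroup.mul_mem _ (Subgroup.mem_sup_right hd) (Subgroup.mem_sup_left he)
  · ext w
    rw [Subgroup.mem_inf, Subgroup.mem_center_iff]
    constructor
    · rintro ⟨hwA, hwB⟩
      rcases Cfsg.Agent.S3763.D_inter hES hax w hwB hwA with h | h
      · rw [h]; simp
      · rw [h]; intro g; exact (hcen g).symm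
    · intro hw
      rcases hctr w (fun y => (hw y).symm) with h | h
      · rw [h]; exact ⟨Subgroup.one_mem _, Subgroup.one_mem _⟩
      · rw [h]
        exact ⟨Cfsg.Agent.S3763.z_mem_E1 hES a₁ a₂, Cfsg.Agent.S3763.D_z_mem hES hax⟩

end TwoGroups

end Cfsg.Agent.Helper20.A5Q
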