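import Mathlib
import Cfsg.Agent.Lib.Helper20.A5QDefs
import Cfsg.Agent.Lib.Helper20.A3Defs
import Cfsg.Agent.Lib.Helper20.A5QORB5
import Cfsg.Agent.Lib.Helper21.A5QELL
import Cfsg.Agent.Lib.Helper15.A5QCEXTRAForm
import Cfsg.Agent.Lib.Helper15.A5QCEXTRACore

set_option autoImplicit false
set_option linter.unusedSectionVars false
set_option linter.unusedVariables false

/-!
S3106 piece CEXTRA (helper15): a `2`-group `C` with `#Φ(C) = 2`, `#C/Φ(C) = 16` and an
automorphism of order `5` acting freely on `C/Φ(C)` is the central product of `Q8` and `D8`.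
-/

namespace Cfsg.Agent.Helper20.A5Q

open Cfsg.Agent.Helper22.SecRank
open Cfsg.Agent.Helper20.A3

section TwoGroups

variable {C : Type*} [Group C] [Finite C]

/-- **A5Q-CEXTRA.** `C` a `2`-group with `#Φ(C) = 2`, `#C/Φ(C) = 16` and an automorphism of
order `5` acting freely on `C/Φ(C)`: `C` is the central product of `Q8` and `D8`. -/
theorem isQ8D8_of_aut_five (hC : IsPGroup 2 C) (h2 : Nat.card ↥(frattini C) = 2)
    (h16 : Nat.card (C ⧸ frattini C) = 16) (φ : MulAut C) (hφ5 : φ ^ 5 = 1)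
    (hfree : ∀ x : C, φ x * x⁻¹ ∈ frattini C → x ∈ frattini C) : IsQ8D8 C := by
  obtain ⟨Q, hQ, hQ0, ψ, hψ5, hψfree, hψinv, hne⟩ := cextra_form hC h2 φ hφ5 hfree
  have hW := frattini_quot_exp_two hC
  have h6 := zer_card_six hW h16 Q hQ ψ hψ5 hψfree hψinv hne
  exact cextra_core hC h2 h16 Q hQ hQ0 h6 (exists_elliptic_basis hW h16 Q hQ h6)

end TwoGroups

end Cfsg.Agent.Helper20.A5Q
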