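import Mathlib
import Cfsg.Agent.Lib.Helper20.A5QDefs
import Cfsg.Agent.Lib.Helper20.A5QRANK
import Cfsg.Agent.Lib.Helper14.TC_E16B

set_option autoImplicit false
set_option linter.unusedSectionVars false
set_option linter.unusedVariables false

/-!
S3106 piece VCARD (helper15): in the setting `A5S Y P` the quotient `P/Φ(P)` has order `16`.
Also the common set-up (the automorphism of `P/Φ(P)` induced by an element of `Y`) used by
piece FREE.
-/

namespace Cfsg.Agent.Helper20.A5Q

open Cfsg.Agent.Helper22.SecRank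

section VSetup

variable {Y : Type*} [Group Y] (P : Subgroup Y)

/-- `Sq P` is normal when `P` is. -/
theorem vcard_Sq_normal [hP : P.Normal] : (Sq P).Normal :=
  ⟨fun m hm g => Sq_conj (fun x hx => hP.conj_mem x hx g) m hm⟩

/-- `Sq P` inside `P`, normal. -/
theorem vcard_N_normal [hP : P.Normal] : ((Sq P).subgroupOf P).Normal := by
  haveI := vcard_Sq_normal P
  infer_instance

theorem vcard_map_conj [hP : P.Normal] (f : Y) :
    ((Sq P).subgroupOf P).map (MulAut.conjNormal (H := P) f : ↥P ≃* ↥P).toMonoidHom =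
      (Sq P).subgroupOf P := by
  haveI := vcard_Sq_normal P
  ext x
  constructor
  · rintro ⟨y, hy, rfl⟩
    rw [Subgroup.mem_subgroupOf]
    have hy' : (y : Y) ∈ Sq P := hy
    have : ((MulAut.conjNormal (H := P) f y : ↥P) : Y) = f * y * f⁻¹ := by
      simp [MulAut.conjNormal_apply]
    show ((MulAut.conjNormal (H := P) f y : ↥P) : Y) ∈ Sq P
    rw [this]
    exact (vcard_Sq_normal P).conj_mem _ hy' f
  · intro hx
    have hx' : (x : Y) ∈ Sq P := hx
    refine ⟨MulAut.conjNormal (H := P) f⁻¹ x, ?_, ?_⟩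
    · show ((MulAut.conjNormal (H := P) f⁻¹ x : ↥P) : Y) ∈ Sq P
      have : ((MulAut.conjNormal (H := P) f⁻¹ x : ↥P) : Y) = f⁻¹ * x * f⁻¹⁻¹ := by
        simp [MulAut.conjNormal_apply]
      rw [this]
      exact (vcard_Sq_normal P).conj_mem _ hx' f⁻¹
    · apply Subtype.ext
      simp [MulAut.conjNormal_apply, mul_assoc]

/-- The automorphism of `P/Φ(P)` induced by conjugation by `f`. -/
noncomputable def vcardPhi [hP : P.Normal] (f : Y) :
    letI := vcard_N_normal P
    MulAut (↥P ⧸ (Sq P).subgroupOf P) :=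
  letI := vcard_N_normal P
  QuotientGroup.congr ((Sq P).subgroupOf P) ((Sq P).subgroupOf P)
    (MulAut.conjNormal (H := P) f) (vcard_map_conj P f)

theorem vcardPhi_mk [hP : P.Normal] (f : Y) (x : ↥P) :
    letI := vcard_N_normal P
    vcardPhi P f (QuotientGroup.mk x) = QuotientGroup.mk (MulAut.conjNormal (H := P) f x) := by
  letI := vcard_N_normal P
  unfold vcardPhi
  exact QuotientGroup.congr_mk _ _ _ _ x

theorem vcardPhi_pow_mk [hP : P.Normal] (f : Y) (n : ℕ) (x : ↥P) :
    letI := vcard_N_normal P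
    (vcardPhi P f ^ n) (QuotientGroup.mk x) =
      QuotientGroup.mk (MulAut.conjNormal (H := P) (f ^ n) x) := by
  letI := vcard_N_normal P
  induction n generalizing x with
  | zero => simp
  | succ k ih =>
    rw [pow_succ, MulAut.mul_apply, vcardPhi_mk, ih, pow_succ, map_mul, MulAut.mul_apply]

theorem vcardPhi_pow_five [hP : P.Normal] (f : Y) (hf : f ^ 5 = 1) :
    letI := vcard_N_normal P
    vcardPhi P f ^ 5 = 1 := by
  letI := vcard_N_normal P
  ext w
  induction w using QuotientGroup.induction_on with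
  | H x => rw [vcardPhi_pow_mk, hf, map_one]; rfl

/-- the exponent of `P/Φ(P)` is `2` -/
theorem vcard_exp [hP : P.Normal] :
    letI := vcard_N_normal P
    ∀ w : ↥P ⧸ (Sq P).subgroupOf P, w * w = 1 := by
  letI := vcard_N_normal P
  intro w
  induction w using QuotientGroup.induction_on with
  | H x =>
    rw [← QuotientGroup.mk_mul, QuotientGroup.eq_one_iff, Subgroup.mem_subgroupOf]
    have := sq_mem_Sq x.2
    rw [pow_two] at this
    exact this

/-- fixed points of the induced automorphism -/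
theorem vcardPhi_fix_iff [hP : P.Normal] (f : Y) (x : ↥P) :
    letI := vcard_N_normal P
    vcardPhi P f (QuotientGroup.mk x) = QuotientGroup.mk x ↔
      f * (x : Y) * f⁻¹ * (x : Y)⁻¹ ∈ Sq P := by
  letI := vcard_N_normal P
  rw [vcardPhi_mk, QuotientGroup.eq, Subgroup.mem_subgroupOf]
  have h1 : (((MulAut.conjNormal (H := P) f x)⁻¹ * x : ↥P) : Y) =
      (f * (x : Y) * f⁻¹)⁻¹ * (x : Y) := by
    simp
  rw [h1]
  have hn := vcard_Sq_normal P
  constructor
  · intro h
    have h2 := (Sq P).inv_mem h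
    have h3 := hn.conj_mem _ h2 (x : Y)
    have : (x : Y) * ((f * (x : Y) * f⁻¹)⁻¹ * (x : Y))⁻¹ * (x : Y)⁻¹ =
        f * (x : Y) * f⁻¹ * (x : Y)⁻¹ := by group
    rw [this] at h3
    exact h3
  · intro h
    have h2 := (Sq P).inv_mem h
    have h3 := hn.conj_mem _ h2 (x : Y)⁻¹
    have : (x : Y)⁻¹ * (f * (x : Y) * f⁻¹ * (x : Y)⁻¹)⁻¹ * (x : Y)⁻¹⁻¹ =
        (f * (x : Y) * f⁻¹)⁻¹ * (x : Y) := by group
    rw [this] at h3
    exact h3

end VSetup

section Setting

variable {Y : Type*} [Group Y] [Finite Y] {P : Subgroup Y}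

/-- an element of order `5` does not lie in `P` -/
theorem vcard_not_mem (h : A5S Y P) (f : Y) (hf : orderOf f = 5) : f ∉ P := by
  intro hfP
  obtain ⟨k, hk⟩ := h.pgroup ⟨f, hfP⟩
  have h1 : f ^ 2 ^ k = 1 := by
    have := congrArg Subtype.val hk
    simpa using this
  have h2 : orderOf f ∣ 2 ^ k := orderOf_dvd_of_pow_eq_one h1
  rw [hf] at h2
  have h3 : (5 : ℕ) ∣ 2 := Nat.Prime.dvd_of_dvd_pow (by norm_num) h2
  omega

/-- the automorphism induced by an element of order `5` is not trivial -/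
theorem vcardPhi_ne_one (h : A5S Y P) (f : Y) (hf : orderOf f = 5) :
    letI := h.normal
    letI := vcard_N_normal P
    vcardPhi P f ≠ 1 := by
  letI := h.normal
  letI := vcard_N_normal P
  intro h1
  apply vcard_not_mem h f hf
  apply h.faith
  intro x hx
  rw [← vcardPhi_fix_iff P f ⟨x, hx⟩, h1]
  rfl

theorem vcard_card_N (P : Subgroup Y) :
    Nat.card ((Sq P).subgroupOf P) = Nat.card (Sq P) :=
  Nat.card_congr (Subgroup.subgroupOfEquivOfLe (Sq_le P)).toEquiv

/-- `#P = #(P/Φ) * #Φ` -/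
theorem vcard_card_mul (P : Subgroup Y) [hP : P.Normal] :
    letI := vcard_N_normal P
    Nat.card P = Nat.card (↥P ⧸ (Sq P).subgroupOf P) * Nat.card (Sq P) := by
  letI := vcard_N_normal P
  rw [← vcard_card_N P]
  exact Subgroup.card_eq_card_quotient_mul_card_subgroup _

/-- the quotient has order `16` -/
theorem vcard_quot (h : A5S Y P) :
    letI := h.normal
    letI := vcard_N_normal P
    Nat.card (↥P ⧸ (Sq P).subgroupOf P) = 16 := by
  letI := h.normal
  letI := vcard_N_normal P
  obtain ⟨f, t, hf, -⟩ := h.elems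
  have hmul := vcard_card_mul P
  have hle : Nat.card P ≤ 16 * Nat.card (Sq P) := by
    apply h.rank P (Sq P) (Sq_le P)
    · intro x hx
      have hn := vcard_Sq_normal P
      rw [Subgroup.mem_normalizer_iff]
      intro m
      constructor
      · intro hm
        exact hn.conj_mem m hm x
      · intro hm
        have := hn.conj_mem _ hm x⁻¹
        have e : x⁻¹ * (x * m * x⁻¹) * x⁻¹⁻¹ = m := by group
        rw [e] at this
        exact this
    · intro k hk
      exact sq_mem_Sq hk
  have hpos : 0 < Nat.card (Sq P) := Nat.card_pos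
  have hW16 : Nat.card (↥P ⧸ (Sq P).subgroupOf P) ≤ 16 := by
    rw [hmul] at hle
    exact Nat.le_of_mul_le_mul_right hle hpos
  have hexp := vcard_exp P
  have hp : IsPGroup 2 (↥P ⧸ (Sq P).subgroupOf P) := by
    intro a
    exact ⟨1, by rw [pow_one, pow_two]; exact hexp a⟩
  obtain ⟨n, hn⟩ := (IsPGroup.iff_card (p := 2) (G := ↥P ⧸ (Sq P).subgroupOf P)).mp hp
  have hn4 : n ≤ 4 := by
    by_contra hlt
    have : 2 ^ 5 ≤ 2 ^ n := Nat.pow_le_pow_right (by norm_num) (by omega)
    omega
  by_contra hne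
  have hn3 : n ≤ 3 := by
    rcases Nat.lt_or_ge n 4 with h4 | h4
    · omega
    · exfalso
      have : n = 4 := le_antisymm hn4 h4
      rw [this] at hn
      exact hne (by rw [hn]; norm_num)
  have h8 : Nat.card (↥P ⧸ (Sq P).subgroupOf P) ≤ 8 := by
    rw [hn]
    calc 2 ^ n ≤ 2 ^ 3 := Nat.pow_le_pow_right (by norm_num) hn3
      _ = 8 := by norm_num
  have hexp2 : ∀ a : ↥P ⧸ (Sq P).subgroupOf P, a ^ 2 = 1 := fun a => by
    rw [pow_two]; exact hexp a
  have hcomm : ∀ a b : ↥P ⧸ (Sq P).subgroupOf P, a * b = b * a := comm_of_sq hexp2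
  have h5 := Cfsg.Agent.Helper20.TC.five_not_dvd_aut hcomm hexp2 h8
  apply h5
  have hf5 : f ^ 5 = 1 := by rw [← hf]; exact pow_orderOf_eq_one f
  have ho : orderOf (vcardPhi P f) = 5 := by
    haveI : Fact (Nat.Prime 5) := ⟨by norm_num⟩
    exact orderOf_eq_prime (vcardPhi_pow_five P f hf5) (vcardPhi_ne_one h f hf)
  rw [← ho]
  exact orderOf_dvd_natCard _

/-- **A5Q-VCARD.** `P/Φ(P)` has order `16`. -/
theorem card_P (h : A5S Y P) : Nat.card P = 16 * Nat.card (Sq P) := by
  letI := h.normal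
  letI := vcard_N_normal P
  rw [vcard_card_mul P, vcard_quot h]

end Setting

end Cfsg.Agent.Helper20.A5Q
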