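import Mathlib
import Cfsg.Agent.Lib.Helper20.A5QDefs
import Cfsg.Agent.Lib.Helper20.A5QRANK
import Cfsg.Agent.Lib.Helper15.A5QVCARD

set_option autoImplicit false
set_option linter.unusedSectionVars false
set_option linter.unusedVariables false

/-!
S3106 piece FREE (helper15): an element of order `5` acts freely on `P/Φ(P)`.
-/

namespace Cfsg.Agent.Helper20.A5Q

open Cfsg.Agent.Helper22.SecRank

section Setting

variable {Y : Type*} [Group Y] [Finite Y] {P : Subgroup Y}

/-- **A5Q-FREE.** An element of order `5` acts freely on `P/Φ(P)`. -/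
theorem free_V (h : A5S Y P) (f : Y) (hf : orderOf f = 5) :
    ∀ x ∈ P, f * x * f⁻¹ * x⁻¹ ∈ Sq P → x ∈ Sq P := by
  letI := h.normal
  letI := vcard_N_normal P
  intro x hx hfx
  have hf5 : f ^ 5 = 1 := by rw [← hf]; exact pow_orderOf_eq_one f
  have key := free_of_order_five (vcard_exp P) (vcard_quot h) (vcardPhi P f)
    (vcardPhi_pow_five P f hf5) (vcardPhi_ne_one h f hf) (QuotientGroup.mk ⟨x, hx⟩)
    ((vcardPhi_fix_iff P f ⟨x, hx⟩).mpr hfx)
  rw [QuotientGroup.eq_one_iff, Subgroup.mem_subgroupOf] at key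
  exact key

end Setting

end Cfsg.Agent.Helper20.A5Q
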