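import Mathlib
import Cfsg.Agent.Lib.Helper2.AICDefs
import Cfsg.Agent.Lib.Helper2.AICGEN
import Cfsg.Agent.Lib.Helper2.AICBAS1
import Cfsg.Agent.Lib.Helper24.AICORB
import Cfsg.Agent.Lib.Helper4.AICB2
import Cfsg.Agent.Lib.Helper22.AICB3C

/-!
# S2202, piece B4A (helper15, for helper2's skeleton)

`frob_cover`: every element of `M_P ∖ C_P` lies in a `C_P`-conjugate of `D_{PQ}`;
`centralizer_in_Mn`: `C_{M_P}(d) = D_{PQ}` for `1 ≠ d ∈ D_{PQ}`.
-/

set_option autoImplicit false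
set_option linter.unusedSectionVars false
set_option linter.unusedVariables false

namespace Cfsg.Agent.Helper2.AIC

variable {G : Type*} [Group G] [Finite G]

/-- `C_P` is normalized by `M_P` -/
theorem b4a_conj_mem_Cn {P : Sylow 2 G} {g y : G} (hg : g ∈ Mn P) (hy : y ∈ Cn P) :
    g * y * g⁻¹ ∈ Cn P := by
  have h := (conj_mem_Cn P g y).2 hy
  rwa [mem_Mn_iff.1 hg] at h

/-- PIECE B4A (1). -/
theorem frob_cover (c : Cfg G) (hα : ∀ P Q : Sylow 2 G, P ≠ Q → Kn P ⊓ Kn Q = ⊥)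
    {P Q : Sylow 2 G} (h : P ≠ Q) {m : G} (hm : m ∈ Mn P) (hmC : m ∉ Cn P) :
    ∃ x ∈ Cn P, ∃ d ∈ Dn P Q, m = x * d * x⁻¹ := by
  obtain ⟨x₀, hx₀, d, hd, rfl⟩ := c.Mn_eq_mul h hm
  have hd1 : d ≠ 1 := by
    rintro rfl
    exact hmC (by simpa using hx₀)
  have hdM : d ∈ Mn P := hd.1
  let φ : ↥(Cn P) → ↥(Cn P) := fun y =>
    ⟨(y : G) * (d * (y : G)⁻¹ * d⁻¹),
      (Cn P).mul_mem y.2 (b4a_conj_mem_Cn hdM ((Cn P).inv_mem y.2))⟩
  have hinj : Function.Injective φ := by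
    intro y y' hyy
    have h1 : (y : G) * (d * (y : G)⁻¹ * d⁻¹) = (y' : G) * (d * (y' : G)⁻¹ * d⁻¹) :=
      congrArg Subtype.val hyy
    have h1' : (y : G) * d * (y : G)⁻¹ = (y' : G) * d * (y' : G)⁻¹ := by
      have := congrArg (· * d) h1
      simpa [mul_assoc] using this
    have h2 : d * ((y' : G)⁻¹ * (y : G)) = ((y' : G)⁻¹ * (y : G)) * d := by
      calc d * ((y' : G)⁻¹ * y) = (y' : G)⁻¹ * ((y' : G) * d * (y' : G)⁻¹) * y := by group
        _ = (y' : G)⁻¹ * ((y : G) * d * (y : G)⁻¹) * y := by rw [h1']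
        _ = ((y' : G)⁻¹ * y) * d := by group
    by_contra hne
    have h3 : (y' : G)⁻¹ * (y : G) ≠ 1 := by
      intro h4
      apply hne
      apply Subtype.ext
      have : (y : G) = (y' : G) * ((y' : G)⁻¹ * (y : G)) := by group
      rw [this, h4, mul_one]
    exact frob c hα h hd hd1 ((Cn P).mul_mem ((Cn P).inv_mem y'.2) y.2) h3 h2
  have hsurj : Function.Surjective φ := Finite.injective_iff_surjective.1 hinj
  obtain ⟨y, hy⟩ := hsurj ⟨x₀, hx₀⟩
  refine ⟨y, y.2, d, hd, ?_⟩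
  have h1 : (y : G) * (d * (y : G)⁻¹ * d⁻¹) = x₀ := congrArg Subtype.val hy
  rw [← h1]; group

/-- PIECE B4A (2). -/
theorem centralizer_in_Mn (c : Cfg G) (hα : ∀ P Q : Sylow 2 G, P ≠ Q → Kn P ⊓ Kn Q = ⊥)
    {P Q : Sylow 2 G} (h : P ≠ Q) {d : G} (hd : d ∈ Dn P Q) (hd1 : d ≠ 1) {m : G} (hm : m ∈ Mn P)
    (hcomm : m * d = d * m) : m ∈ Dn P Q := by
  obtain ⟨x, hx, d', hd', rfl⟩ := c.Mn_eq_mul h hm
  have hdd : d' * d = d * d' := Dn_comm c hα h d' hd' d hd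
  have hxd : d * x = x * d := by
    have : x * d * d' = d * x * d' := by
      calc x * d * d' = x * (d' * d) := by rw [mul_assoc, hdd]
        _ = x * d' * d := by rw [mul_assoc]
        _ = d * (x * d') := hcomm
        _ = d * x * d' := by rw [mul_assoc]
    exact (mul_right_cancel this).symm
  by_cases hx1 : x = 1
  · subst hx1; simpa using hd'
  · exact absurd hxd (frob c hα h hd hd1 hx hx1)

end Cfsg.Agent.Helper2.AIC
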