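import Mathlib
import Cfsg.Agent.Lib.Helper2.AICDefs
import Cfsg.Agent.Lib.Helper2.AICGEN
import Cfsg.Agent.Lib.Helper2.AICBAS1
import Cfsg.Agent.Lib.Helper4.AICBAS2
import Cfsg.Agent.Lib.Helper24.AICSE
import Cfsg.Agent.Lib.Helper4.AICB2

/-!
# S2202, piece B4B (helper15, for helper2's skeleton)

`no_three_fix`: `D_{PQ}` does not fix a third point.  Involutions `v1 : P → Q`, `v2 : P → Q'`,
`w : Q' → Q` all invert `D`; `y = w v1 v2 ∈ M_{Q'}` inverts `D`, but `[y, d] ∈ C_{Q'}`, so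
`d⁻² ∈ C_{Q'} ⊓ D = 1`.
-/

set_option autoImplicit false
set_option linter.unusedSectionVars false
set_option linter.unusedVariables false
set_option linter.style.haveILetI false

namespace Cfsg.Agent.Helper2.AIC

variable {G : Type*} [Group G] [Finite G]

/-- PIECE B4B. -/
theorem no_three_fix (c : Cfg G) (hα : ∀ P Q : Sylow 2 G, P ≠ Q → Kn P ⊓ Kn Q = ⊥)
    {P Q Q' : Sylow 2 G} (h : P ≠ Q) (h' : P ≠ Q') (h'' : Q ≠ Q') (hfix : Dn P Q ≤ Mn Q') :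
    False := by
  obtain ⟨v1, hv1, hv1P⟩ := c.exists_swap h
  obtain ⟨v2, hv2, hv2P⟩ := c.exists_swap h'
  obtain ⟨w, hw, hwQ⟩ := c.exists_swap h''.symm
  have hv2Q' : v2 • Q' = P := swap_symm hv2 hv2P
  have hwQ2 : w • Q = Q' := swap_symm hw hwQ
  have hall : ∀ d ∈ Dn P Q, d = 1 := by
    intro d hd
    have hdPQ' : d ∈ Dn P Q' := ⟨hd.1, hfix hd⟩
    have hdQ'Q : d ∈ Dn Q' Q := ⟨hfix hd, hd.2⟩
    have hdQ'P : d ∈ Dn Q' P := ⟨hfix hd, hd.1⟩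
    have i1 : v1 * d * v1⁻¹ = d⁻¹ := Dn_inverted c hα h hv1 hv1P hd
    have i2 : v2 * d * v2⁻¹ = d⁻¹ := Dn_inverted c hα h' hv2 hv2P hdPQ'
    have i3 : w * d * w⁻¹ = d⁻¹ := Dn_inverted c hα h''.symm hw hwQ hdQ'Q
    have hyM : w * v1 * v2 ∈ Mn Q' := by
      rw [mem_Mn_iff, mul_smul, mul_smul, hv2Q', hv1P, hwQ2]
    have hyd : (w * v1 * v2) * d * (w * v1 * v2)⁻¹ = d⁻¹ := by
      have e1 : v1 * d⁻¹ * v1⁻¹ = d := by
        have : v1 * d⁻¹ * v1⁻¹ = (v1 * d * v1⁻¹)⁻¹ := by group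
        rw [this, i1, inv_inv]
      calc (w * v1 * v2) * d * (w * v1 * v2)⁻¹
          = w * (v1 * (v2 * d * v2⁻¹) * v1⁻¹) * w⁻¹ := by group
        _ = w * (v1 * d⁻¹ * v1⁻¹) * w⁻¹ := by rw [i2]
        _ = w * d * w⁻¹ := by rw [e1]
        _ = d⁻¹ := i3
    have hcomm := comm_mem_Cn c hα h'.symm hyM hdQ'P
    rw [hyd] at hcomm
    have hmem : d⁻¹ * d⁻¹ ∈ Dn Q' P ⊓ Cn Q' :=
      ⟨(Dn Q' P).mul_mem ((Dn Q' P).inv_mem hdQ'P) ((Dn Q' P).inv_mem hdQ'P), hcomm⟩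
    rw [Dn_inf_Cn_eq_bot c hα h'.symm, Subgroup.mem_bot] at hmem
    have hd2 : d ^ 2 = 1 := by
      have : (d ^ 2)⁻¹ = 1 := by rw [pow_two, mul_inv_rev]; exact hmem
      exact inv_eq_one.1 this
    have hodd : Odd (Nat.card (Dn P Q)) := c.odd_card_Dn h
    have ho : orderOf d ∣ 2 := orderOf_dvd_of_pow_eq_one hd2
    have ho2 : orderOf d ∣ Nat.card (Dn P Q) := by
      have := orderOf_dvd_natCard (⟨d, hd⟩ : Dn P Q)
      rwa [Subgroup.orderOf_mk] at this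
    rcases (Nat.dvd_prime Nat.prime_two).1 ho with h1 | h2
    · exact orderOf_eq_one_iff.1 h1
    · exfalso
      rw [h2] at ho2
      exact (Nat.not_even_iff_odd.2 hodd) (even_iff_two_dvd.2 ho2)
  have hcard : Nat.card (Dn P Q) = nInv P := card_Dn_eq c hα h
  have h3 := c.three_le_nInv P
  have hle : Nat.card (Dn P Q) ≤ 1 := by
    haveI : Subsingleton (Dn P Q) :=
      ⟨fun a b => Subtype.ext ((hall a a.2).trans (hall b b.2).symm)⟩
    exact Finite.card_le_one_iff_subsingleton.2 inferInstance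
  omega

end Cfsg.Agent.Helper2.AIC
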