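import Mathlib
import Cfsg.Agent.Lib.Helper2.AICDefs
import Cfsg.Agent.Lib.Helper2.AICGEN
import Cfsg.Agent.Lib.Helper2.AICBAS1
import Cfsg.Agent.Lib.Helper4.AICBAS2
import Cfsg.Agent.Lib.Helper4.AICB2
import Cfsg.Agent.Lib.Helper15.AICB4A
import Cfsg.Agent.Lib.Helper15.AICB4B

/-!
# S2202, piece B4C (helper15, for helper2's skeleton)

2-transitivity: `C_P` is regular on the points other than `P`.
-/

set_option autoImplicit false
set_option linter.unusedSectionVars false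
set_option linter.unusedVariables false
set_option linter.style.haveILetI false

namespace Cfsg.Agent.Helper2.AIC

variable {G : Type*} [Group G] [Finite G]

/-- PIECE B4C (2): `C_P` is transitive on the other points. -/
theorem Cn_trans (c : Cfg G) (hα : ∀ P Q : Sylow 2 G, P ≠ Q → Kn P ⊓ Kn Q = ⊥)
    {P Q Q' : Sylow 2 G} (h : P ≠ Q) (h' : P ≠ Q') : ∃ x ∈ Cn P, x • Q = Q' := by
  have hcard : Nat.card (Dn P Q') = nInv P := card_Dn_eq c hα h'
  have h3 := c.three_le_nInv P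
  haveI : Nontrivial (Dn P Q') := Finite.one_lt_card_iff_nontrivial.1 (by omega)
  obtain ⟨⟨d', hd'⟩, hd'ne⟩ := exists_ne (1 : Dn P Q')
  have hd'1 : d' ≠ 1 := fun h0 => hd'ne (Subtype.ext h0)
  have hd'C : d' ∉ Cn P := by
    intro hC
    have : d' ∈ Dn P Q' ⊓ Cn P := ⟨hd', hC⟩
    rw [Dn_inf_Cn_eq_bot c hα h', Subgroup.mem_bot] at this
    exact hd'1 this
  obtain ⟨x, hx, d, hd, hxd⟩ := frob_cover c hα h hd'.1 hd'C
  have hxM : x ∈ Mn P := Subgroup.centralizer_le_normalizer _ hx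
  have hxP : x • P = P := mem_Mn_iff.1 hxM
  have hfix : Dn P Q ≤ Mn (x⁻¹ • Q') := by
    intro e he
    have hcomm : (x * e * x⁻¹) * d' = d' * (x * e * x⁻¹) := by
      have hed : e * d = d * e := Dn_comm c hα h e he d hd
      rw [hxd]
      calc x * e * x⁻¹ * (x * d * x⁻¹) = x * (e * d) * x⁻¹ := by group
        _ = x * (d * e) * x⁻¹ := by rw [hed]
        _ = x * d * x⁻¹ * (x * e * x⁻¹) := by group
    have hmem : x * e * x⁻¹ ∈ Mn P :=
      (Mn P).mul_mem ((Mn P).mul_mem hxM he.1) ((Mn P).inv_mem hxM)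
    have h1 := centralizer_in_Mn c hα h' hd' hd'1 hmem hcomm
    have h2 := (conj_mem_Mn Q' x⁻¹ (x * e * x⁻¹)).2 h1.2
    have h3 : x⁻¹ * (x * e * x⁻¹) * x⁻¹⁻¹ = e := by group
    rwa [h3] at h2
  by_cases hQ : x⁻¹ • Q' = Q
  · refine ⟨x, hx, ?_⟩
    rw [← hQ, smul_inv_smul]
  · exfalso
    have hP'' : P ≠ x⁻¹ • Q' := by
      intro hP
      apply h'
      have : x • P = Q' := by rw [hP, smul_inv_smul]
      rw [← this, hxP]
    exact no_three_fix c hα h hP'' (Ne.symm hQ) hfix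

/-- PIECE B4C (1). -/
theorem two_trans (c : Cfg G) (hα : ∀ P Q : Sylow 2 G, P ≠ Q → Kn P ⊓ Kn Q = ⊥)
    {P Q Q' : Sylow 2 G} (h : P ≠ Q) (h' : P ≠ Q') : ∃ m ∈ Mn P, m • Q = Q' := by
  obtain ⟨x, hx, hxQ⟩ := Cn_trans c hα h h'
  exact ⟨x, Subgroup.centralizer_le_normalizer _ hx, hxQ⟩

/-- PIECE B4C (3): `C_P` acts freely on the other points. -/
theorem Cn_free (c : Cfg G) (hα : ∀ P Q : Sylow 2 G, P ≠ Q → Kn P ⊓ Kn Q = ⊥)
    {P Q : Sylow 2 G} (h : P ≠ Q) {x : G} (hx : x ∈ Cn P) (hxQ : x • Q = Q) : x = 1 := by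
  have hxM : x ∈ Mn P := Subgroup.centralizer_le_normalizer _ hx
  have : x ∈ Dn P Q ⊓ Cn P := ⟨⟨hxM, mem_Mn_iff.2 hxQ⟩, hx⟩
  rw [Dn_inf_Cn_eq_bot c hα h, Subgroup.mem_bot] at this
  exact this

end Cfsg.Agent.Helper2.AIC
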