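import Mathlib
import Cfsg.Agent.Lib.Helper19.CoprimeAbelian

set_option autoImplicit false
set_option linter.unusedSectionVars false
set_option linter.unusedVariables false
set_option linter.style.haveILetI false

/-!
Maschke's theorem for an abelian section `Y / D` of exponent `r` of an ambient group, acted on by
conjugation by a subgroup `T` of order prime to `r`.
-/

namespace Cfsg.Agent.Helper15.AmbMaschke

open Subgroup Cfsg.Agent.Helper19.CoAb
open scoped commutatorElement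

variable {G : Type*} [Group G]

/-- the section `Y / D` as a commutative group -/
@[reducible] def quotCommGroup (Y D : Subgroup G) [hn : (D.subgroupOf Y).Normal]
    (hc : ⁅Y, Y⁆ ≤ D) : CommGroup (↥Y ⧸ D.subgroupOf Y) :=
  { (inferInstance : Group (↥Y ⧸ D.subgroupOf Y)) with
    mul_comm := by
      intro a b
      induction a using QuotientGroup.induction_on with
      | H a =>
      induction b using QuotientGroup.induction_on with
      | H b =>
      rw [← QuotientGroup.mk_mul, ← QuotientGroup.mk_mul, QuotientGroup.eq]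
      rw [Subgroup.mem_subgroupOf]
      have e : (((a * b)⁻¹ * (b * a) : ↥Y) : G) = ⁅(b : G)⁻¹, (a : G)⁻¹⁆ := by
        simp only [commutatorElement_def, Subgroup.coe_mul, Subgroup.coe_inv]; group
      rw [e]
      exact hc (Subgroup.commutator_mem_commutator (Y.inv_mem b.2) (Y.inv_mem a.2)) }

/-- conjugation by an element normalizing `Y`, as an endomorphism of `Y` -/
def conjOn (Y : Subgroup G) (t : G) (ht : t ∈ normalizer (Y : Set G)) : ↥Y →* ↥Y where
  toFun y := ⟨t * y * t⁻¹, (Subgroup.mem_normalizer_iff.1 ht y).1 y.2⟩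
  map_one' := by ext; simp
  map_mul' a b := by ext; simp

@[simp] theorem conjOn_coe (Y : Subgroup G) (t : G) (ht : t ∈ normalizer (Y : Set G)) (y : ↥Y) :
    ((conjOn Y t ht y : ↥Y) : G) = t * y * t⁻¹ := rfl

theorem conjOn_le_comap (Y D : Subgroup G) (t : G) (ht : t ∈ normalizer (Y : Set G))
    (htD : t ∈ normalizer (D : Set G)) :
    D.subgroupOf Y ≤ (D.subgroupOf Y).comap (conjOn Y t ht) := by
  intro y hy
  rw [Subgroup.mem_comap, Subgroup.mem_subgroupOf, conjOn_coe]
  exact (Subgroup.mem_normalizer_iff.1 htD y).1 (Subgroup.mem_subgroupOf.1 hy)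

/-- the conjugation action of `T` on the section `Y / D` -/
@[reducible] def conjAction (T Y D : Subgroup G) [hn : (D.subgroupOf Y).Normal]
    (hc : ⁅Y, Y⁆ ≤ D) (hTY : T ≤ normalizer (Y : Set G)) (hTD : T ≤ normalizer (D : Set G)) :
    letI := quotCommGroup Y D hc
    MulDistribMulAction ↥T (↥Y ⧸ D.subgroupOf Y) :=
  letI := quotCommGroup Y D hc
  { smul := fun t x => QuotientGroup.map (D.subgroupOf Y) (D.subgroupOf Y)
      (conjOn Y (t : G) (hTY t.2)) (conjOn_le_comap Y D t (hTY t.2) (hTD t.2)) x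
    one_smul := by
      intro x
      induction x using QuotientGroup.induction_on with
      | H y =>
      show QuotientGroup.map _ _ _ _ (y : ↥Y ⧸ D.subgroupOf Y) = _
      rw [QuotientGroup.map_mk]
      congr 1
      ext
      simp
    mul_smul := by
      intro t s x
      induction x using QuotientGroup.induction_on with
      | H y =>
      show QuotientGroup.map _ _ _ _ (y : ↥Y ⧸ D.subgroupOf Y) =
        QuotientGroup.map _ _ _ _ (QuotientGroup.map _ _ _ _ (y : ↥Y ⧸ D.subgroupOf Y))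
      rw [QuotientGroup.map_mk, QuotientGroup.map_mk, QuotientGroup.map_mk]
      congr 1
      ext
      simp [mul_assoc]
    smul_mul := by
      intro t x y
      exact map_mul _ x y
    smul_one := by
      intro t
      exact map_one _ }

theorem conjAction_mk (T Y D : Subgroup G) [hn : (D.subgroupOf Y).Normal]
    (hc : ⁅Y, Y⁆ ≤ D) (hTY : T ≤ normalizer (Y : Set G)) (hTD : T ≤ normalizer (D : Set G))
    (t : ↥T) (y : ↥Y) :
    letI := quotCommGroup Y D hc
    letI := conjAction T Y D hc hTY hTD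
    t • (y : ↥Y ⧸ D.subgroupOf Y) = ((conjOn Y (t : G) (hTY t.2) y : ↥Y) : ↥Y ⧸ D.subgroupOf Y) :=
  rfl

/-- **Maschke in ambient form** -/
theorem amb_maschke [Finite G] {r : ℕ} [Fact r.Prime] {T D M Y : Subgroup G}
    (hDM : D ≤ M) (hMY : M ≤ Y) (hTD : T ≤ normalizer (D : Set G))
    (hTM : T ≤ normalizer (M : Set G)) (hTY : T ≤ normalizer (Y : Set G))
    (hYD : Y ≤ normalizer (D : Set G)) (hc : ⁅Y, Y⁆ ≤ D) (hexp : ∀ y ∈ Y, y ^ r ∈ D)
    (hco : (Nat.card T).Coprime r) :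
    ∃ W : Subgroup G, D ≤ W ∧ W ≤ Y ∧ T ≤ normalizer (W : Set G) ∧ M ⊓ W = D ∧ M ⊔ W = Y := by
  have hDY : D ≤ Y := hDM.trans hMY
  haveI hn : (D.subgroupOf Y).Normal := (Subgroup.normal_subgroupOf_iff_le_normalizer hDY).2 hYD
  letI cg := quotCommGroup Y D hc
  letI act := conjAction T Y D hc hTY hTD
  set π := QuotientGroup.mk' (D.subgroupOf Y) with hπ
  have hπs : Function.Surjective π := QuotientGroup.mk'_surjective _
  have hexp' : ∀ a : ↥Y ⧸ D.subgroupOf Y, a ^ r = 1 := by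
    intro a
    obtain ⟨y, rfl⟩ := hπs a
    rw [← map_pow]
    apply (QuotientGroup.eq_one_iff _).2
    rw [Subgroup.mem_subgroupOf]
    simpa using hexp y y.2
  set Mh : Subgroup (↥Y ⧸ D.subgroupOf Y) := (M.subgroupOf Y).map π with hMh
  have hMinv : Inv ↥T Mh := by
    rintro t _ ⟨m, hm, rfl⟩
    refine ⟨conjOn Y (t : G) (hTY t.2) m, ?_, rfl⟩
    rw [SetLike.mem_coe] at hm ⊢
    rw [Subgroup.mem_subgroupOf, conjOn_coe]
    exact (Subgroup.mem_normalizer_iff.1 (hTM t.2) m).1 (Subgroup.mem_subgroupOf.1 hm)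
  obtain ⟨W', hW'inv, hW'1, hW'2⟩ := exists_inv_compl_of_exp (Γ := ↥T) hco hexp' hMinv
  refine ⟨(W'.comap π).map Y.subtype, ?_, Subgroup.map_subtype_le _, ?_, ?_, ?_⟩
  · intro d hd
    refine ⟨⟨d, hDY hd⟩, ?_, rfl⟩
    rw [SetLike.mem_coe, Subgroup.mem_comap]
    have : π ⟨d, hDY hd⟩ = 1 := (QuotientGroup.eq_one_iff _).2 (Subgroup.mem_subgroupOf.2 hd)
    rw [this]; exact W'.one_mem
  · have key : ∀ t ∈ T, ∀ w ∈ (W'.comap π).map Y.subtype,
        t * w * t⁻¹ ∈ (W'.comap π).map Y.subtype := by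
      rintro t ht _ ⟨w, hw, rfl⟩
      refine ⟨conjOn Y t (hTY ht) w, ?_, rfl⟩
      rw [SetLike.mem_coe, Subgroup.mem_comap] at hw ⊢
      exact hW'inv ⟨t, ht⟩ _ hw
    intro t ht
    rw [Subgroup.mem_normalizer_iff]
    intro x
    constructor
    · exact key t ht x
    · intro hx
      have := key t⁻¹ (T.inv_mem ht) _ hx
      simpa [mul_assoc] using this
  · apply le_antisymm
    · rintro z ⟨hzM, ⟨w, hw, rfl⟩⟩
      rw [SetLike.mem_coe, Subgroup.mem_comap] at hw
      have h1 : π w ∈ Mh ⊓ W' := ⟨⟨w, Subgroup.mem_subgroupOf.2 hzM, rfl⟩, hw⟩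
      rw [hW'1, Subgroup.mem_bot] at h1
      exact Subgroup.mem_subgroupOf.1 ((QuotientGroup.eq_one_iff _).1 h1)
    · refine le_inf hDM ?_
      intro d hd
      refine ⟨⟨d, hDY hd⟩, ?_, rfl⟩
      rw [SetLike.mem_coe, Subgroup.mem_comap]
      have : π ⟨d, hDY hd⟩ = 1 := (QuotientGroup.eq_one_iff _).2 (Subgroup.mem_subgroupOf.2 hd)
      rw [this]; exact W'.one_mem
  · apply le_antisymm (sup_le hMY (Subgroup.map_subtype_le _))
    intro y hy
    have h1 : π ⟨y, hy⟩ ∈ Mh ⊔ W' := by rw [hW'2]; exact Subgroup.mem_top _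
    obtain ⟨mh, hmh, wh, hwh, hmw⟩ := Subgroup.mem_sup.1 h1
    obtain ⟨m, hm, rfl⟩ := hmh
    obtain ⟨w, rfl⟩ := hπs wh
    have h2 : π (m * w) = π ⟨y, hy⟩ := by rw [map_mul]; exact hmw
    have h3 : (m * w)⁻¹ * ⟨y, hy⟩ ∈ D.subgroupOf Y := QuotientGroup.eq.1 h2
    rw [Subgroup.mem_subgroupOf] at h3
    have hwW : (w : G) ∈ (W'.comap π).map Y.subtype := ⟨w, hwh, rfl⟩
    have hdW : (((m * w)⁻¹ * ⟨y, hy⟩ : ↥Y) : G) ∈ (W'.comap π).map Y.subtype := by
      refine ⟨(m * w)⁻¹ * ⟨y, hy⟩, ?_, rfl⟩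
      rw [SetLike.mem_coe, Subgroup.mem_comap]
      have : π ((m * w)⁻¹ * ⟨y, hy⟩) = 1 :=
        (QuotientGroup.eq_one_iff _).2 (Subgroup.mem_subgroupOf.2 h3)
      rw [this]; exact W'.one_mem
    have e : y = (m : G) * ((w : G) * (((m * w)⁻¹ * ⟨y, hy⟩ : ↥Y) : G)) := by
      simp only [Subgroup.coe_mul, Subgroup.coe_inv]; group
    rw [e]
    exact Subgroup.mul_mem_sup (Subgroup.mem_subgroupOf.1 hm) (Subgroup.mul_mem _ hwW hdW)

end Cfsg.Agent.Helper15.AmbMaschke
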