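import Mathlib
import Cfsg.Prelude.Def_Blocks
import Cfsg.Agent.Lib.Helper24.CharLinear
import Cfsg.Agent.Lib.Helper24.CharInduced
import Cfsg.Agent.Lib.Helper24.CharComplete
import Cfsg.Agent.Lib.Helper10.BR996Defs
import Cfsg.Agent.Lib.Helper21.BTDefs
import Cfsg.Agent.Lib.Helper21.BHDefs
import Cfsg.Agent.Lib.Helper15.TLGT

/-!
# S4504 piece QUOTB (helper15; skeleton by helper21): `N_H(P̄) = π(N_G(P))` for `H = G / Z(G)`, the
indices, and class functions of `H` summed over `P̄ ∖ 1`.
-/

set_option autoImplicit false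
set_option linter.unusedSectionVars false
set_option linter.unusedVariables false
set_option linter.style.haveILetI false

namespace Cfsg.Agent.Helper21.BH

open scoped ComplexConjugate
open Cfsg Cfsg.Agent.Helper24 Cfsg.Agent.Helper10.BR996 Cfsg.Agent.Helper21.BT

universe u

section GH

variable {G : Type u} [Group G] [Fintype G] [Fintype (IrrCharacter G)]
  [Fintype (Subgroup.center G)]
variable {H : Type u} [Group H] [Fintype H] [Fintype (IrrCharacter H)]
variable {p : ℕ} [Fact p.Prime] {P : Sylow p G} {w : ℕ} {ζ ζ' : IrrCharacter G} {z₁ z₂ : G}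
variable (π : G →* H)

namespace QUOTB

/-- a central element of `p`-power-free order which is a `p`-th root of one is trivial -/
theorem central_eq_one (C : Cfg p P w ζ ζ' z₁ z₂) {z : G} (hz : z ∈ Subgroup.center G)
    (hzp : z ^ p = 1) : z = 1 := by
  have hpp : p.Prime := Fact.out
  have h1 : orderOf z ∣ p := orderOf_dvd_of_pow_eq_one hzp
  have h2 : orderOf z ∣ Nat.card (Subgroup.center G) := by
    have := orderOf_dvd_natCard (⟨z, hz⟩ : Subgroup.center G)
    rwa [← Subgroup.orderOf_coe] at this
  rcases (Nat.dvd_prime hpp).1 h1 with h | h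
  · exact orderOf_eq_one_iff.1 h
  · exact absurd (h ▸ h2) C.hZ

/-- `π` is injective on `P` -/
theorem inj_on (hker : π.ker = Subgroup.center G) (C : Cfg p P w ζ ζ' z₁ z₂) {a b : G}
    (ha : a ∈ (P : Subgroup G)) (hb : b ∈ (P : Subgroup G)) (hab : π a = π b) : a = b := by
  have hm : a⁻¹ * b ∈ Subgroup.center G := by
    rw [← hker, MonoidHom.mem_ker, map_mul, map_inv, hab, inv_mul_cancel]
  have hmP : a⁻¹ * b ∈ (P : Subgroup G) := (P : Subgroup G).mul_mem ((P : Subgroup G).inv_mem ha) hb
  have hp : (a⁻¹ * b) ^ p = 1 := by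
    have := pow_card_eq_one' (G := (P : Subgroup G)) (x := ⟨a⁻¹ * b, hmP⟩)
    rw [C.hP] at this
    exact congrArg Subtype.val this
  have := central_eq_one C hm hp
  exact (inv_mul_eq_one.1 this)

/-- the normalizer of the image is the image of the normalizer -/
theorem normalizer_map (hπ : Function.Surjective π) (hker : π.ker = Subgroup.center G)
    (C : Cfg p P w ζ ζ' z₁ z₂) :
    Subgroup.normalizer (((P : Subgroup G).map π : Subgroup H) : Set H) =
      (Subgroup.normalizer ((P : Subgroup G) : Set G)).map π := by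
  apply le_antisymm
  · intro h hh
    obtain ⟨x, rfl⟩ := hπ h
    refine ⟨x, ?_, rfl⟩
    -- `x P x⁻¹ ≤ P`
    have hsub : ∀ a ∈ (P : Subgroup G), x * a * x⁻¹ ∈ (P : Subgroup G) := by
      intro a ha
      have h1 : π x * π a * (π x)⁻¹ ∈ (P : Subgroup G).map π :=
        (Subgroup.mem_normalizer_iff.1 hh (π a)).1 (Subgroup.mem_map_of_mem π ha)
      obtain ⟨b, hb, hb'⟩ := h1
      -- `x a x⁻¹ = b z` with `z` central
      have hz : b⁻¹ * (x * a * x⁻¹) ∈ Subgroup.center G := by
        rw [← hker, MonoidHom.mem_ker, map_mul, map_inv, hb', map_mul, map_mul, map_inv,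
          inv_mul_cancel]
      have hap : a ^ p = 1 := by
        have := pow_card_eq_one' (G := (P : Subgroup G)) (x := ⟨a, ha⟩)
        rw [C.hP] at this
        exact congrArg Subtype.val this
      have hbp : b ^ p = 1 := by
        have := pow_card_eq_one' (G := (P : Subgroup G)) (x := ⟨b, hb⟩)
        rw [C.hP] at this
        exact congrArg Subtype.val this
      have hcomm : Commute b⁻¹ (x * a * x⁻¹) := by
        have hc := (Subgroup.mem_center_iff.1 hz) b⁻¹
        -- `b⁻¹ * (b⁻¹ * y) = (b⁻¹ * y) * b⁻¹`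
        have : b⁻¹ * (x * a * x⁻¹) = (x * a * x⁻¹) * b⁻¹ := by
          have h2 : b⁻¹ * (b⁻¹ * (x * a * x⁻¹)) = b⁻¹ * (x * a * x⁻¹) * b⁻¹ := hc
          have h3 := congrArg (fun t => b * t) h2
          simp only [mul_assoc, mul_inv_cancel_left] at h3
          simpa [mul_assoc] using h3
        exact this
      have hzp : (b⁻¹ * (x * a * x⁻¹)) ^ p = 1 := by
        rw [hcomm.mul_pow, inv_pow, hbp, inv_one, one_mul, conj_pow, hap]
        group
      have := central_eq_one C hz hzp
      have e : x * a * x⁻¹ = b := by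
        have := inv_mul_eq_one.1 this
        exact this.symm
      rw [e]; exact hb
    change x ∈ Subgroup.normalizer ((P : Subgroup G) : Set G)
    rw [Subgroup.mem_normalizer_iff_map_conj_eq]
    apply Subgroup.eq_of_le_of_card_ge
    · rintro _ ⟨a, ha, rfl⟩
      exact hsub a ha
    · rw [Subgroup.card_map_of_injective (MulAut.conj x).injective]
  · exact Subgroup.le_normalizer_map π

/-- `C_G(P) = P Z(G)` -/
theorem sup_center (C : Cfg p P w ζ ζ' z₁ z₂) :
    (P : Subgroup G) ⊔ Subgroup.center G = Subgroup.centralizer ((P : Subgroup G) : Set G) := by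
  apply le_antisymm
  · apply sup_le
    · exact Cfsg.Agent.Helper5.TL.gt_le_centralizer p P C.hP
    · exact Subgroup.center_le_centralizer _
  · intro c hc
    obtain ⟨K, n₀, hK, -, -, hdec, -, -⟩ := Cfsg.Agent.Helper5.TL.exists_pcore p P C.hP
    obtain ⟨u, k, hu, hk, rfl⟩ := hdec c (fun u hu => ((Subgroup.mem_centralizer_iff.1 hc) u hu).symm)
    have hk' := (hK k).1 hk
    exact Subgroup.mul_mem_sup hu (C.hV k hk'.1 hk'.2)

end QUOTB

/-- PIECE QUOT (3): `N_H(P̄) = π(N_G(P))`, so `|N_H(P̄) : P̄| = |N_G(P) : C_G(P)| = w`. -/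
theorem quot_relIndex (hπ : Function.Surjective π) (hker : π.ker = Subgroup.center G)
    (C : Cfg p P w ζ ζ' z₁ z₂) :
    ((P : Subgroup G).map π).relIndex
      (Subgroup.normalizer (((P : Subgroup G).map π : Subgroup H) : Set H)) = w := by
  rw [QUOTB.normalizer_map π hπ hker C, Subgroup.relIndex_map_map, hker, QUOTB.sup_center C]
  have hZN : Subgroup.center G ≤ Subgroup.normalizer ((P : Subgroup G) : Set G) :=
    (Subgroup.center_le_centralizer _).trans (Subgroup.centralizer_le_normalizer _)
  rw [sup_eq_left.2 hZN]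
  exact C.hf

/-- PIECE QUOT (4). -/
theorem quot_index (hπ : Function.Surjective π) (hker : π.ker = Subgroup.center G)
    (C : Cfg p P w ζ ζ' z₁ z₂) :
    (Subgroup.normalizer (((P : Subgroup G).map π : Subgroup H) : Set H)).index =
      (Subgroup.normalizer ((P : Subgroup G) : Set G)).index := by
  rw [QUOTB.normalizer_map π hπ hker C]
  apply Subgroup.index_map_eq _ hπ
  rw [hker]
  exact (Subgroup.center_le_centralizer _).trans (Subgroup.centralizer_le_normalizer _)

/-- PIECE QUOT (7): class functions of `H` summed over `P̄ ∖ 1`. -/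
theorem quot_sum (hπ : Function.Surjective π) (hker : π.ker = Subgroup.center G)
    (C : Cfg p P w ζ ζ' z₁ z₂) (F : H → ℂ) (hF : IsClassFunction H F) :
    dsum ((P : Subgroup G).map π) F = (w : ℂ) * (F (π z₁) + F (π z₂)) := by
  classical
  have hcf : IsClassFunction G (fun g => F (π g)) := by
    intro g h
    simp only [map_mul, map_inv]
    exact hF (π g) (π h)
  have h1 := C.hsumP (fun g => F (π g)) hcf
  rw [← h1]
  unfold dsum
  rw [← Finset.sum_filter, ← Finset.sum_filter]
  symm
  apply Finset.sum_bij (fun g _ => π g)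
  · intro g hg
    rw [Finset.mem_filter] at hg ⊢
    refine ⟨Finset.mem_univ _, Subgroup.mem_map_of_mem π hg.2.1, ?_⟩
    intro h1
    apply hg.2.2
    exact QUOTB.inj_on π hker C hg.2.1 (P : Subgroup G).one_mem (by rw [h1, map_one])
  · intro a ha b hb hab
    rw [Finset.mem_filter] at ha hb
    exact QUOTB.inj_on π hker C ha.2.1 hb.2.1 hab
  · intro h hh
    rw [Finset.mem_filter] at hh
    obtain ⟨a, ha, rfl⟩ := hh.2.1
    refine ⟨a, ?_, rfl⟩
    rw [Finset.mem_filter]
    refine ⟨Finset.mem_univ _, ha, ?_⟩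
    rintro rfl
    exact hh.2.2 (map_one π)
  · intro g _
    rfl

end GH

end Cfsg.Agent.Helper21.BH
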