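import Mathlib
import Cfsg.Agent.Lib.Helper14.BhsAct
import Cfsg.Prelude.Def_BaumannBlocks
import Cfsg.Prelude.Def_Transfer

/-!
# S2999 piece BHS-ACT2 (helper15): the concrete hypotheses give the abstract `Hyp`
-/

set_option autoImplicit false

namespace Cfsg.Agent.Helper14.Bhs

universe u

variable {G : Type u} [Group G]

theorem bhs_act2_comap_map (P : Subgroup G) (H : Subgroup ↥P) :
    (H.map P.subtype).subgroupOf P = H :=
  Subgroup.comap_map_eq_self_of_injective (Subtype.coe_injective) H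

theorem bhs_act2_card_subgroupOf (P A : Subgroup G) (hA : A ≤ P) :
    Nat.card (A.subgroupOf P) = Nat.card ↥A :=
  Nat.card_congr (Subgroup.subgroupOfEquivOfLe hA).toEquiv

theorem bhs_act2_card_map (P : Subgroup G) (H : Subgroup ↥P) :
    Nat.card ↥(H.map P.subtype) = Nat.card ↥H :=
  (Nat.card_congr (H.equivMapOfInjective P.subtype Subtype.coe_injective).toEquiv).symm

theorem bhs_act2_conj_subgroupOf (P A : Subgroup G) (x : ↥P) :
    (A.map (MulAut.conj (x : G)).toMonoidHom).subgroupOf P =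
      (A.subgroupOf P).map (MulAut.conj x).toMonoidHom := by
  ext g
  simp only [Subgroup.mem_subgroupOf, Subgroup.mem_map, MulEquiv.coe_toMonoidHom,
    MulAut.conj_apply]
  constructor
  · rintro ⟨a, ha, hag⟩
    refine ⟨x⁻¹ * g * x, ?_, ?_⟩
    · have : ((x⁻¹ * g * x : ↥P) : G) = a := by
        push_cast
        rw [← hag]
        group
      rw [this]
      exact ha
    · group
  · rintro ⟨a, ha, hag⟩
    refine ⟨(a : G), ha, ?_⟩
    rw [← hag]
    push_cast
    rfl

theorem hyp_of_concrete [Finite G] {p : ℕ} [Fact p.Prime] (V P : Subgroup G)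
    (hV : Cfsg.IsElementaryAbelian p V) (hPV : P ≤ Subgroup.normalizer (V : Set G))
    (hfaith : P ⊓ Subgroup.centralizer (V : Set G) = ⊥) (hmin : Cfsg.IsPMinimal p ↥P)
    (T : Sylow p ↥P) (M : Subgroup ↥P) (hM : IsCoatom M) (hTM : (T : Subgroup ↥P) ≤ M)
    (A : Subgroup G) (hAT : A ≤ ((T : Subgroup ↥P).map P.subtype))
    (hAel : Cfsg.IsElementaryAbelian p A)
    (hi : Nat.card ↥V ≤ Nat.card ↥A * Nat.card ↥(V ⊓ Subgroup.centralizer ((A : Subgroup G) : Set G)) ∧
      ∀ A₀ : Subgroup G, A₀ ≤ A → A₀ ≠ ⊥ → A₀ ≠ A →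
        Nat.card ↥A₀ * Nat.card ↥(V ⊓ Subgroup.centralizer ((A₀ : Subgroup G) : Set G)) <
          Nat.card ↥A * Nat.card ↥(V ⊓ Subgroup.centralizer ((A : Subgroup G) : Set G)))
    (hii : ⁅(V ⊓ Subgroup.centralizer ((((T : Subgroup ↥P).map P.subtype) : Subgroup G) : Set G)), P⁆ ≠ ⊥)
    (hiii : ∀ x : ↥P, x ∉ M → A ⊔ A.map (MulAut.conj (x : G)).toMonoidHom = P)
    (hc : ∀ a ∈ V, ∀ b ∈ V, a * b = b * a)
    (hmem : ∀ (H : Subgroup G), H ≤ P → ∀ w : AddV V P hc hPV,
      w ∈ fix (AddV V P hc hPV) (H.subgroupOf P) ↔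
        ((AddV.val w : ↥V) : G) ∈ Subgroup.centralizer (H : Set G))
    (hcard : ∀ (H : Subgroup G), H ≤ P → Nat.card (fix (AddV V P hc hPV) (H.subgroupOf P)) =
      Nat.card ↥(V ⊓ Subgroup.centralizer (H : Set G))) :
    Hyp (AddV V P hc hPV) p T M (A.subgroupOf P) := by
  have hT'P : (T : Subgroup ↥P).map P.subtype ≤ P := Subgroup.map_subtype_le _
  have hAP : A ≤ P := hAT.trans hT'P
  refine
    { hpW := ?_
      faith := ?_
      pmin := hmin
      coatom := hM
      hTM := hTM
      hAT := ?_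
      hAc := ?_
      hAp := ?_
      hi1 := ?_
      hi2 := ?_
      hii := ?_
      hiii := ?_ }
  · -- hpW
    intro w
    apply AddV.val_injective
    rw [AddV.val_nsmul, AddV.val_zero]
    apply Subtype.ext
    have := hV.2 (AddV.val w : G) (AddV.val w).2
    simpa using this
  · -- faith
    intro g hg
    have hgc : (g : G) ∈ P ⊓ Subgroup.centralizer (V : Set G) := by
      refine ⟨g.2, ?_⟩
      show (g : G) ∈ Subgroup.centralizer (V : Set G)
      rw [Subgroup.mem_centralizer_iff]
      intro v hv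
      have h1 := hg (AddV.mk ⟨v, hv⟩)
      have h2 := congrArg (fun w : AddV V P hc hPV => ((AddV.val w : ↥V) : G)) h1
      simp only [AddV.val_smul, AddV.val_mk] at h2
      -- h2 : g * v * g⁻¹ = v
      calc v * (g : G) = ((g : G) * v * (g : G)⁻¹) * (g : G) := by rw [h2]
        _ = (g : G) * v := by group
    rw [hfaith, Subgroup.mem_bot] at hgc
    exact Subtype.ext hgc
  · -- hAT
    intro a ha
    rw [Subgroup.mem_subgroupOf] at ha
    obtain ⟨t, ht, hta⟩ := Subgroup.mem_map.1 (hAT ha)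
    have : t = a := Subtype.ext hta
    rw [← this]
    exact ht
  · -- hAc
    intro a ha b hb
    rw [Subgroup.mem_subgroupOf] at ha hb
    have hcomm := hAel.1
    have h := hcomm.is_comm.comm (⟨(a : G), ha⟩ : ↥A) ⟨(b : G), hb⟩
    apply Subtype.ext
    have h' := congrArg (fun z : ↥A => (z : G)) h
    simpa using h'
  · -- hAp
    intro a ha
    rw [Subgroup.mem_subgroupOf] at ha
    apply Subtype.ext
    have := hAel.2 (a : G) ha
    simpa using this
  · -- hi1
    rw [AddV.card_eq, bhs_act2_card_subgroupOf P A hAP, hcard A hAP]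
    exact hi.1
  · -- hi2
    intro A₀ hA₀ hA₀bot hA₀ne
    set A₀' : Subgroup G := A₀.map P.subtype with hA₀'
    have hA₀'P : A₀' ≤ P := Subgroup.map_subtype_le _
    have hback : A₀'.subgroupOf P = A₀ := bhs_act2_comap_map P A₀
    have hle : A₀' ≤ A := by
      intro g hg
      obtain ⟨a, ha, rfl⟩ := Subgroup.mem_map.1 hg
      exact Subgroup.mem_subgroupOf.1 (hA₀ ha)
    have hne_bot : A₀' ≠ ⊥ := by
      intro h
      apply hA₀bot
      rw [← hback, h]
      exact Subgroup.bot_subgroupOf P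
    have hne : A₀' ≠ A := by
      intro h
      apply hA₀ne
      rw [← hback, h]
    have key := hi.2 A₀' hle hne_bot hne
    rw [bhs_act2_card_subgroupOf P A hAP, hcard A hAP]
    have h1 : Nat.card ↥A₀ = Nat.card ↥A₀' := (bhs_act2_card_map P A₀).symm
    have h2 : Nat.card (fix (AddV V P hc hPV) A₀) =
        Nat.card ↥(V ⊓ Subgroup.centralizer (A₀' : Set G)) := by
      rw [← hcard A₀' hA₀'P, hback]
    rw [h1, h2]
    exact key
  · -- hii
    intro hle
    apply hii
    rw [Subgroup.commutator_eq_bot_iff_le_centralizer]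
    intro v hv
    set T' : Subgroup G := (T : Subgroup ↥P).map P.subtype with hT'
    have hback : T'.subgroupOf P = (T : Subgroup ↥P) := bhs_act2_comap_map P _
    have hvfix : (AddV.mk ⟨v, hv.1⟩ : AddV V P hc hPV) ∈
        fix (AddV V P hc hPV) (T : Subgroup ↥P) := by
      rw [← hback, hmem T' hT'P]
      exact hv.2
    have htop := hle hvfix
    rw [mem_fix_top] at htop
    rw [Subgroup.mem_centralizer_iff]
    intro g hg
    have h1 := htop ⟨g, hg⟩
    have h2 := congrArg (fun w : AddV V P hc hPV => ((AddV.val w : ↥V) : G)) h1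
    simp only [AddV.val_smul, AddV.val_mk] at h2
    calc g * v = ((g : G) * v * (g : G)⁻¹) * g := by group
      _ = v * g := by rw [h2]
  · -- hiii
    intro x hx
    have h := hiii x hx
    have hAx : A.map (MulAut.conj (x : G)).toMonoidHom ≤ P :=
      le_sup_right.trans h.le
    have h2 : (A ⊔ A.map (MulAut.conj (x : G)).toMonoidHom).subgroupOf P = ⊤ := by
      rw [h]
      exact Subgroup.subgroupOf_self P
    rw [Subgroup.subgroupOf_sup hAP hAx, bhs_act2_conj_subgroupOf] at h2
    exact h2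

end Cfsg.Agent.Helper14.Bhs
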