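import Mathlib
import Cfsg.Agent.Lib.Helper14.BhsAct
import Cfsg.Prelude.Def_BaumannBlocks
import Cfsg.Prelude.Def_Transfer

/-!
# S2999 piece BHS-ACT3 (helper15): the abstract conclusion gives the concrete one
-/

set_option autoImplicit false

namespace Cfsg.Agent.Helper14.Bhs

universe u

variable {G : Type u} [Group G]

/-- the underlying element of `G`, as a monoid homomorphism from `Multiplicative (AddV ..)` -/
def bhs_act3_f (V P : Subgroup G) (hc : ∀ a ∈ V, ∀ b ∈ V, a * b = b * a)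
    (hPV : P ≤ Subgroup.normalizer (V : Set G)) : Multiplicative (AddV V P hc hPV) →* G where
  toFun w := ((AddV.val (Multiplicative.toAdd w) : ↥V) : G)
  map_one' := rfl
  map_mul' _ _ := rfl

theorem bhs_act3_f_apply (V P : Subgroup G) (hc : ∀ a ∈ V, ∀ b ∈ V, a * b = b * a)
    (hPV : P ≤ Subgroup.normalizer (V : Set G)) (w : AddV V P hc hPV) :
    bhs_act3_f V P hc hPV (Multiplicative.ofAdd w) = ((AddV.val w : ↥V) : G) := rfl

theorem bhs_act3_mem_map (V P : Subgroup G) (hc : ∀ a ∈ V, ∀ b ∈ V, a * b = b * a)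
    (hPV : P ≤ Subgroup.normalizer (V : Set G)) (K : AddSubgroup (AddV V P hc hPV)) (g : G) :
    g ∈ (AddSubgroup.toSubgroup K).map (bhs_act3_f V P hc hPV) ↔
      ∃ hg : g ∈ V, (AddV.mk ⟨g, hg⟩ : AddV V P hc hPV) ∈ K := by
  constructor
  · rintro ⟨w, hw, rfl⟩
    refine ⟨(AddV.val (Multiplicative.toAdd w)).2, ?_⟩
    exact hw
  · rintro ⟨hg, hK⟩
    exact ⟨Multiplicative.ofAdd (AddV.mk ⟨g, hg⟩), hK, rfl⟩

theorem concl_of_abs (V P A : Subgroup G) (hA : A ≤ P) (hc : ∀ a ∈ V, ∀ b ∈ V, a * b = b * a)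
    (hPV : P ≤ Subgroup.normalizer (V : Set G))
    (F : Type) [Field F] [Fintype F]
    (hcardF : Fintype.card F = Nat.card (A.subgroupOf P))
    (ρ : ↥P ≃* Matrix.SpecialLinearGroup (Fin 2) F) (ψ : AddV V P hc hPV →+ (Fin 2 → F))
    (hsurj : Function.Surjective ψ)
    (hker : ∀ w : AddV V P hc hPV, ψ w = 0 ↔ w ∈ fix (AddV V P hc hPV) (⊤ : Subgroup ↥P))
    (hequiv : ∀ (g : ↥P) (w : AddV V P hc hPV), ψ (g • w) = Matrix.mulVec
      ((ρ g : Matrix.SpecialLinearGroup (Fin 2) F) : Matrix (Fin 2) (Fin 2) F) (ψ w))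
    (hgen : fix (AddV V P hc hPV) (A.subgroupOf P) =
      AddSubgroup.closure {v : AddV V P hc hPV | ∃ a ∈ A.subgroupOf P, ∃ w : AddV V P hc hPV,
        v = cm w a} ⊔ fix (AddV V P hc hPV) (⊤ : Subgroup ↥P))
    (hmem : ∀ (H : Subgroup G), H ≤ P → ∀ w : AddV V P hc hPV,
      w ∈ fix (AddV V P hc hPV) (H.subgroupOf P) ↔
        ((AddV.val w : ↥V) : G) ∈ Subgroup.centralizer (H : Set G))
    (hmemtop : ∀ w : AddV V P hc hPV, w ∈ fix (AddV V P hc hPV) (⊤ : Subgroup ↥P) ↔
        ((AddV.val w : ↥V) : G) ∈ Subgroup.centralizer (P : Set G)) :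
    Fintype.card F = Nat.card ↥A ∧ Nonempty (↥P ≃* Matrix.SpecialLinearGroup (Fin 2) F) ∧
      (V ⊓ Subgroup.centralizer ((A : Subgroup G) : Set G)) =
        ⁅V, A⁆ ⊔ (V ⊓ Subgroup.centralizer ((P : Subgroup G) : Set G)) ∧
      Cfsg.ActsAsSL2OnSection F ⊤ P V (V ⊓ Subgroup.centralizer ((P : Subgroup G) : Set G)) := by
  refine ⟨?_, ⟨ρ⟩, ?_, ?_⟩
  · rw [hcardF]
    exact Nat.card_congr (Subgroup.subgroupOfEquivOfLe hA).toEquiv
  · -- the generation statement
    set f := bhs_act3_f V P hc hPV with hf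
    have h1 : V ⊓ Subgroup.centralizer ((A : Subgroup G) : Set G) =
        (AddSubgroup.toSubgroup (fix (AddV V P hc hPV) (A.subgroupOf P))).map f := by
      ext g
      rw [bhs_act3_mem_map]
      constructor
      · rintro ⟨hgV, hgA⟩
        refine ⟨hgV, ?_⟩
        rw [hmem A hA]
        exact hgA
      · rintro ⟨hgV, hK⟩
        rw [hmem A hA] at hK
        exact ⟨hgV, hK⟩
    have h2 : V ⊓ Subgroup.centralizer ((P : Subgroup G) : Set G) =
        (AddSubgroup.toSubgroup (fix (AddV V P hc hPV) (⊤ : Subgroup ↥P))).map f := by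
      ext g
      rw [bhs_act3_mem_map]
      constructor
      · rintro ⟨hgV, hgP⟩
        refine ⟨hgV, ?_⟩
        rw [hmemtop]
        exact hgP
      · rintro ⟨hgV, hK⟩
        rw [hmemtop] at hK
        exact ⟨hgV, hK⟩
    have h3 : ⁅V, A⁆ = (AddSubgroup.toSubgroup (AddSubgroup.closure
        {v : AddV V P hc hPV | ∃ a ∈ A.subgroupOf P, ∃ w : AddV V P hc hPV, v = cm w a})).map f := by
      rw [AddSubgroup.toSubgroup_closure, MonoidHom.map_closure, Subgroup.commutator_comm,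
        Subgroup.commutator_def]
      congr 1
      ext g
      constructor
      · rintro ⟨a, ha, v, hv, rfl⟩
        refine ⟨Multiplicative.ofAdd (cm (AddV.mk ⟨v, hv⟩) (⟨a, hA ha⟩ : ↥P)), ?_, ?_⟩
        · exact ⟨⟨a, hA ha⟩, Subgroup.mem_subgroupOf.2 ha, AddV.mk ⟨v, hv⟩, rfl⟩
        · rw [hf, bhs_act3_f_apply, AddV.val_cm]
          rfl
      · rintro ⟨w, ⟨a, ha, w', hw'⟩, rfl⟩
        refine ⟨(a : G), Subgroup.mem_subgroupOf.1 ha, ((AddV.val w' : ↥V) : G), (AddV.val w').2, ?_⟩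
        have : w = Multiplicative.ofAdd (cm w' a) := hw'
        rw [this, hf, bhs_act3_f_apply, AddV.val_cm]
        rfl
    rw [h1, h2, h3, ← Subgroup.map_sup, hgen]
    congr 1
    exact OrderIso.map_sup AddSubgroup.toSubgroup _ _
  · -- the natural module
    refine ⟨hPV, inf_le_left, ρ.toMonoidHom,
      { toFun := fun v => Multiplicative.ofAdd (ψ (AddV.mk v))
        map_one' := by
          show Multiplicative.ofAdd (ψ (0 : AddV V P hc hPV)) = 1
          rw [map_zero]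
          rfl
        map_mul' := fun v v' => by
          show Multiplicative.ofAdd (ψ (AddV.mk v + AddV.mk v' : AddV V P hc hPV)) = _
          rw [map_add]
          rfl }, ?_, ?_, ?_, ?_⟩
    · exact MonoidHom.range_eq_top.2 ρ.surjective
    · intro x
      obtain ⟨w, hw⟩ := hsurj (Multiplicative.toAdd x)
      exact ⟨AddV.val w, by
        show Multiplicative.ofAdd (ψ (AddV.mk (AddV.val w))) = x
        rw [AddV.mk_val, hw]
        rfl⟩
    · intro u
      show Multiplicative.ofAdd (ψ (AddV.mk u)) = 1 ↔ _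
      have h0 : Multiplicative.ofAdd (ψ (AddV.mk u : AddV V P hc hPV)) = 1 ↔
          ψ (AddV.mk u : AddV V P hc hPV) = 0 := Iff.rfl
      rw [h0, hker, hmemtop]
      constructor
      · intro h
        exact ⟨u.2, h⟩
      · intro h
        exact h.2
    · intro e u
      refine ⟨AddV.val (e • (AddV.mk u : AddV V P hc hPV)), ?_, ?_⟩
      · rw [AddV.val_smul]
        rfl
      · show ψ (AddV.mk (AddV.val (e • (AddV.mk u : AddV V P hc hPV)))) = _
        rw [AddV.mk_val, hequiv]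
        rfl

end Cfsg.Agent.Helper14.Bhs
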