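import Mathlib
import Cfsg.Agent.Lib.Helper27.LeechMcL
import Cfsg.Agent.Lib.Helper29.M24Stab

set_option autoImplicit false

/-!
# An involution centraliser in the second Conway group: data (helper15)

The octad `O` (through the two base points), the 63 pairs of minimal vectors supported on `O` and
orthogonal to `(4, 4, 0, …)`, labelled by the nonzero vectors of `F₂⁶`, and three automorphisms
of the lattice acting on them.  Data produced by an external search; everything is re-checked by
the kernel.
-/

namespace Cfsg.Agent.Helper15.C2I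

open Cfsg Cfsg.Agent.Helper27
open Cfsg.Agent.S0358 (idx)
open Cfsg.Agent.Helper29 (cw_mem)
open Cfsg.Agent.Helper29.M24 (oct0)

/-- a vector from its code: the coordinate at the point of index `k` is the base-16 digit `k`
minus eight (index 23 is the point at infinity). -/
def vecL (c : ℕ) : GolayPt → ℤ := fun p => ((c / 16 ^ idx p % 16 : ℕ) : ℤ) - 8

/-- the half of `x - m`. -/
def aOf (x : GolayPt → ℤ) (m : ℤ) : GolayPt → ℤ := fun i => (x i - m) / 2

/-- a decidable criterion for membership in the lattice. -/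
def LeechOK (x : GolayPt → ℤ) (m : ℤ) (n : ℕ) : Prop :=
  (∀ i, x i = m + 2 * aOf x m i) ∧ red2 (aOf x m) = ofMask (cw n) ∧
    (4 : ℤ) ∣ (∑ i, aOf x m i) - 2 * m

instance instDecLeechOK (x : GolayPt → ℤ) (m : ℤ) (n : ℕ) : Decidable (LeechOK x m n) := by
  unfold LeechOK; infer_instance

lemma mem_of_leechOK {x : GolayPt → ℤ} {m : ℤ} {n : ℕ} (h : LeechOK x m n) : x ∈ leechLattice :=
  mem_leechLattice_iff.mpr ⟨m, aOf x m, h.1, h.2.1 ▸ cw_mem n, h.2.2⟩

/-- codes of the six basis vectors of the labelling. -/
def basL : List ℕ := [52158540912330614462533380710, 42255020007607646716556789960, 42255018827016025999149664392, 62062060636173731114942761092, 42255020007607646716556774600, 42255020007319416340409256072]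

def bas (j : ℕ) : GolayPt → ℤ := vecL (basL.getD j 0)

/-- a bit of the label of a vector. -/
def bitN (y : GolayPt → ℤ) (j : ℕ) : ℕ := (dotInt y (bas j) % 32 / 16).toNat

/-- the label of a vector. -/
def lamN (y : GolayPt → ℤ) : ℕ :=
  bitN y 0 + 2 * bitN y 1 + 4 * bitN y 2 + 8 * bitN y 3 + 16 * bitN y 4 + 32 * bitN y 5

/-- the codes of the 63 representatives, packed in base `2 ^ 96` (position 0 is unused). -/
def REPC : ℕ := 22219752117310213373407036242232344254966252019475105685864168799664851371176075726308906541438215213161060583927648868786896358520516515066324944770891284350255924149173669302838714149008436211773221306062886420912705673836234257498625872687774886058231299233547175793881268558052770966546523991886480925238819974711837355415101302042001518235926105735828242586945864985347188143682836351806144419525646328196716084043957864418503039109585765357834789853233188892052119150413506847865002394413503071760160383942897666106827583009289415294563458887839031116501587592466321525312227132701751257654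071083715504519023338536800568938624350821059598730807393276532313557878562788266345895352283855738127745504973626878302321057738739382030613551331742005861094737868796944740744421331216825747941523325703551191093843127218422011708452157549187021567171230686384372754357058444582234878914075126480119402926158856734737126692383524586630281718696162424705495016975475698917300156537812786038552500115173077667747942470401517148607083431581109797598145255053247526336377837500228723910815125910160298061097651904679102498888398327926150582642651190515318495670435977470506044262551371918802353651076472079529347619775367140082154809097697214493661671327254285752304876740554139778591359838186321141083454216788300039527361782015876310586258330629287566743037370282649959302180589825986958454195877209804940047444992227421074282568718478380557779752302158718581197706521184699299379379281269255829379032389162162788307387220935562669573148911407999223838349058611204511512440214178987456338222223340552317727795454988091116570648708825077666172542804400537493160161619899282919103568881297034723088117722526984576100273672153339319907054705525332626106185563721846576464824152256616909880801889541953366928501181776603186239383335973920722459524349683075208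

/-- the representative of label `k`. -/
def rep (k : ℕ) : GolayPt → ℤ :=
  vecL (REPC / 79228162514264337593543950336 ^ k % 79228162514264337593543950336)

/-- the alternating form on labels. -/
def bfN (j k : ℕ) : ℕ :=
  (j % 2 * (k / 8 % 2) + j / 2 % 2 * (k / 16 % 2) + j / 4 % 2 * (k / 32 % 2) +
    j / 8 % 2 * (k % 2) + j / 16 % 2 * (k / 2 % 2) + j / 32 % 2 * (k / 4 % 2)) % 2

/-- the conclusion of the classification: the vector is, up to sign, the representative of its
label. -/
def RCprop (y : GolayPt → ℤ) : Prop :=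
  1 ≤ lamN y ∧ lamN y ≤ 63 ∧ (y = rep (lamN y) ∨ y = -rep (lamN y))

instance instDecRCprop (y : GolayPt → ℤ) : Decidable (RCprop y) := by
  unfold RCprop; infer_instance

set_option maxRecDepth 100000 in
lemma rep_lam : ∀ k : Fin 64, 1 ≤ k.val → lamN (rep k.val) = k.val ∧ lamN (-rep k.val) = k.val := by
  decide +kernel

set_option maxRecDepth 100000 in
lemma rep_ok : ∀ k : Fin 64, 1 ≤ k.val →
    LeechOK (rep k.val) 0 (if rep k.val none % 4 = 0 then 0 else 2503) := by decide +kernel

set_option maxRecDepth 100000 in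
lemma rep_props : ∀ k : Fin 64, 1 ≤ k.val →
    (∀ p, p ∉ oct0 → rep k.val p = 0) ∧ sqNorm (rep k.val) = 32 ∧
      dotInt (rep k.val) Spor.vecU = 0 := by decide +kernel

set_option maxRecDepth 100000 in
lemma rep_bf : ∀ j k : Fin 64, 1 ≤ j.val → 1 ≤ k.val →
    dotInt (rep j.val) (rep k.val) % 32 = 16 * (bfN j.val k.val : ℤ) := by decide +kernel

/-! ### The classification of the minimal vectors supported on the octad -/

def ptOf (n : ℕ) : GolayPt := if h : n < 23 then some ((⟨n, h⟩ : Fin 23) : ZMod 23) else none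

/-- the points of the octad. -/
def oPt (r : ℕ) : GolayPt := ptOf ([0, 1, 2, 3, 5, 14, 17, 23].getD r 0)

lemma mem_oct0_iff : ∀ i : GolayPt, i ∈ oct0 ↔ i = oPt 0 ∨ i = oPt 1 ∨ i = oPt 2 ∨ i = oPt 3 ∨
    i = oPt 4 ∨ i = oPt 5 ∨ i = oPt 6 ∨ i = oPt 7 := by decide +kernel

def sg2 (b : Bool) : ℤ := if b then -2 else 2

/-- a vector of shape `(±2)^8` on the octad. -/
def svB (b0 b1 b2 b3 b4 b5 b6 b7 : Bool) : GolayPt → ℤ := fun i =>
  if i = oPt 0 then sg2 b0 else if i = oPt 1 then sg2 b1 else if i = oPt 2 then sg2 b2 else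
  if i = oPt 3 then sg2 b3 else if i = oPt 4 then sg2 b4 else if i = oPt 5 then sg2 b5 else
  if i = oPt 6 then sg2 b6 else if i = oPt 7 then sg2 b7 else 0

/-- a vector of shape `(±4, ±4)`. -/
def svA (a b : GolayPt) (sa sb : Bool) : GolayPt → ℤ := fun i =>
  if i = a then (if sa then -4 else 4) else if i = b then (if sb then -4 else 4) else 0

set_option maxRecDepth 100000 in
lemma rcA : ∀ a b : GolayPt, a ∈ oct0 → b ∈ oct0 → a ≠ b → ∀ sa sb : Bool,
    dotInt (svA a b sa sb) Spor.vecU = 0 → RCprop (svA a b sa sb) := by decide +kernel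

set_option maxRecDepth 100000 in
lemma rcB : ∀ b0 b1 b2 b3 b4 b5 b6 b7 : Bool, (∑ i, svB b0 b1 b2 b3 b4 b5 b6 b7 i) % 8 = 0 →
    dotInt (svB b0 b1 b2 b3 b4 b5 b6 b7) Spor.vecU = 0 → RCprop (svB b0 b1 b2 b3 b4 b5 b6 b7) := by
  decide +kernel

/-! ### Three automorphisms -/

/-- the table of the coordinate permutation and of its inverse. -/
def sgL : List ℕ := [0, 17, 2, 1, 19, 14, 4, 20, 6, 21, 12, 15, 22, 9, 3, 10, 16, 5, 8, 18, 13, 7, 11, 23]

def sgiL : List ℕ := [0, 3, 2, 14, 6, 17, 8, 21, 18, 13, 15, 22, 10, 20, 5, 11, 16, 1, 19, 4, 7, 9, 12, 23]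

def sgF (p : GolayPt) : GolayPt := ptOf (sgL.getD (idx p) 0)

def sgiF (p : GolayPt) : GolayPt := ptOf (sgiL.getD (idx p) 0)

lemma sgiF_sgF : ∀ p, sgiF (sgF p) = p := by decide +kernel

lemma sgF_sgiF : ∀ p, sgF (sgiF p) = p := by decide +kernel

/-- the coordinate permutation. -/
def sgP : Equiv.Perm GolayPt where
  toFun := sgF
  invFun := sgiF
  left_inv := sgiF_sgF
  right_inv := sgF_sgiF

def qnL : List ℕ := [1401, 1803, 174, 1553, 672, 1479, 778, 507, 490, 446, 458, 1274, 1396, 1002, 91, 3, 1746, 150, 6, 880, 1784, 7, 308]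

def qniL : List ℕ := [421, 1049, 629, 1559, 37, 1280, 336, 1407, 545, 111, 487, 1276, 389, 1967, 1054, 2046, 1232, 263, 442, 1798, 1794, 52, 1558]

set_option maxRecDepth 100000 in
lemma sgP_qr : ∀ t : ZMod 23, permWord sgP (qrWord t) = ofMask (cw (qnL.getD t.val 0)) := by
  decide +kernel

set_option maxRecDepth 100000 in
lemma sgP_inv_qr : ∀ t : ZMod 23, permWord sgP⁻¹ (qrWord t) = ofMask (cw (qniL.getD t.val 0)) := by
  decide +kernel

lemma sgP_mem : sgP ∈ M24 := by
  apply mem_M24_of_gens
  · intro t; rw [sgP_qr]; exact cw_mem _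
  · intro t; rw [sgP_inv_qr]; exact cw_mem _

/-- the code word of the complement of the octad. -/
def cT : GolayPt → ZMod 2 := ofMask (cw 455)

lemma cT_mem : cT ∈ golayCode := cw_mem _

/-- an octad through the second base point, not through the first. -/
def cW : GolayPt → ZMod 2 := ofMask (cw 345)

lemma cW_mem : cW ∈ golayCode := cw_mem _

/-- a dodecad meeting the octad in the six points other than the base points. -/
def cD : GolayPt → ZMod 2 := ofMask (cw 1049)

lemma cD_mem : cD ∈ golayCode := cw_mem _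

/-- sign change on the support of a word. -/
def sc (c : GolayPt → ZMod 2) (x : GolayPt → ℤ) : GolayPt → ℤ :=
  fun i => if c i = 0 then x i else - x i

/-- the three automorphisms as raw functions. -/
def G1 (x : GolayPt → ℤ) : GolayPt → ℤ := fun i => x (sgF i)

def G2 (x : GolayPt → ℤ) : GolayPt → ℤ := fun i => - sc cW (xi (sc cW x)) i

def G3 (x : GolayPt → ℤ) : GolayPt → ℤ := sc cD x

def tab1L : List ℕ := [0, 1, 19, 18, 32, 33, 51, 50, 25, 24, 10, 11, 57, 56, 42, 43, 35, 34, 48, 49, 3, 2, 16, 17, 58, 59, 41, 40, 26, 27, 9, 8, 23, 22, 4, 5, 55, 54, 36, 37, 14, 15, 29, 28, 46, 47, 61, 60, 52, 53, 39, 38, 20, 21, 7, 6, 45, 44, 62, 63, 13, 12, 30, 31]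

def tab2L : List ℕ := [0, 2, 1, 3, 4, 6, 5, 7, 18, 16, 19, 17, 22, 20, 23, 21, 9, 11, 8, 10, 13, 15, 12, 14, 27, 25, 26, 24, 31, 29, 30, 28, 32, 34, 33, 35, 36, 38, 37, 39, 50, 48, 51, 49, 54, 52, 55, 53, 41, 43, 40, 42, 45, 47, 44, 46, 59, 57, 58, 56, 63, 61, 62, 60]

def tab3L : List ℕ := [0, 1, 2, 3, 4, 5, 6, 7, 9, 8, 11, 10, 13, 12, 15, 14, 16, 17, 18, 19, 20, 21, 22, 23, 25, 24, 27, 26, 29, 28, 31, 30, 32, 33, 34, 35, 36, 37, 38, 39, 41, 40, 43, 42, 45, 44, 47, 46, 48, 49, 50, 51, 52, 53, 54, 55, 57, 56, 59, 58, 61, 60, 63, 62]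

/-- the action of the three automorphisms on labels. -/
def tabs (g k : ℕ) : ℕ :=
  if g = 0 then tab1L.getD k 0 else if g = 1 then tab2L.getD k 0 else tab3L.getD k 0

set_option maxRecDepth 100000 in
lemma G1_rep : ∀ k : Fin 64, 1 ≤ k.val → lamN (G1 (rep k.val)) = tabs 0 k.val := by
  decide +kernel

set_option maxRecDepth 100000 in
lemma G2_rep : ∀ k : Fin 64, 1 ≤ k.val → lamN (G2 (rep k.val)) = tabs 1 k.val := by
  decide +kernel

set_option maxRecDepth 100000 in
lemma G3_rep : ∀ k : Fin 64, 1 ≤ k.val → lamN (G3 (rep k.val)) = tabs 2 k.val := by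
  decide +kernel

lemma G_vecU : G1 Spor.vecU = Spor.vecU ∧ G2 Spor.vecU = Spor.vecU ∧ G3 Spor.vecU = Spor.vecU := by
  decide +kernel

/-- the permutation preserves the octad. -/
lemma cT_sgF : ∀ p : GolayPt, cT (sgF p) = cT p := by decide +kernel

/-- the complement of the octad is a union of four tetrads. -/
def tcT (k : Fin 6) : ℤ := if k = 0 ∨ k = 2 then 1 else -1

lemma cT_tet : ∀ p : GolayPt, (cT p = 0 ↔ tcT (tetIdx p) = 1) := by decide +kernel

/-- the third automorphism acts on labels as a transvection. -/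
lemma tab3_eq : ∀ k : Fin 64, tabs 2 k.val = if bfN k.val 1 = 1 then k.val ^^^ 1 else k.val := by
  decide +kernel

/-! ### Transitivity on labels: a spanning tree -/

def ordL : List ℕ := [1, 2, 19, 49, 10, 53, 43, 11, 21, 47, 28, 42, 17, 15, 60, 46, 26, 31, 29, 51, 34, 14, 13, 63, 61, 55, 41, 27, 8, 30, 38, 4, 33, 23, 56, 20, 12, 62, 6, 48, 40, 24, 25, 18, 9, 36, 37, 32, 22, 45, 59, 57, 3, 5, 52, 50, 58, 16, 54, 44, 39, 35, 7]

def pidxL : List ℕ := [0, 0, 1, 2, 2, 3, 3, 4, 5, 5, 6, 6, 7, 8, 9, 9, 10, 10, 10, 11, 12, 13, 14, 14, 14, 15, 16, 16, 17, 17, 19, 20, 20, 21, 22, 22, 22, 23, 25, 26, 26, 27, 28, 28, 28, 30, 30, 31, 32, 34, 34, 34, 35, 38, 39, 40, 41, 44, 46, 49, 55, 57, 58]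

def pgenL : List ℕ := [0, 1, 0, 0, 1, 0, 1, 2, 0, 1, 0, 2, 1, 1, 0, 2, 0, 1, 2, 1, 0, 2, 0, 1, 2, 1, 0, 2, 0, 2, 0, 0, 1, 1, 0, 1, 2, 2, 0, 1, 2, 1, 0, 1, 2, 0, 1, 0, 0, 0, 1, 2, 0, 1, 0, 1, 0, 1, 0, 2, 0, 0, 0]

lemma tree_ok : ordL.getD 0 0 = 1 ∧ ∀ n : Fin 63, 1 ≤ n.val →
    pidxL.getD n.val 0 < n.val ∧
      tabs (pgenL.getD n.val 0) (ordL.getD (pidxL.getD n.val 0) 0) = ordL.getD n.val 0 := by
  decide +kernel

lemma ord_surj : ∀ k : Fin 64, 1 ≤ k.val → ∃ n : Fin 63, ordL.getD n.val 0 = k.val := by
  decide +kernel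

end Cfsg.Agent.Helper15.C2I
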