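import Mathlib
import Cfsg.Agent.Lib.Helper2.SympGen
import Cfsg.Agent.Lib.Helper2.Spa1
import Cfsg.Agent.Lib.Helper9.PCoreSub
import Cfsg.Prelude.Def_CaseTheorems

set_option autoImplicit false

/-!
# The symplectic group over the field with two elements from form-preserving bijections (helper15)

A bijection of `F₂^{2m}` preserving the standard alternating form is linear, hence given by a
symplectic matrix; a group acting on `F₂^{2m}` by such bijections maps to the symplectic group.
Also: a criterion for surjectivity (one transvection and transitivity on nonzero vectors), the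
triviality of the largest normal 2-subgroup for `m = 3`, and the identification of the
largest normal 2-subgroup of a group mapping onto such a group with 2-group kernel.
-/

namespace Cfsg.Agent.Helper15.C2I

open Cfsg Cfsg.Agent.Helper2.Symp Cfsg.Agent.Helper2.SpA Matrix

variable {m : ℕ}

local notation "VV" => (Fin m ⊕ Fin m → ZMod 2)

lemma eq_zero_of_Bf_eq_zero {d : Fin m ⊕ Fin m → ZMod 2} (h : ∀ x, Bf d x = 0) : d = 0 := by
  by_contra hd
  obtain ⟨x, hx⟩ := exists_Bf_ne_zero hd
  exact hx (h x)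

/-- a bijection preserving the alternating form is additive. -/
lemma equiv_add (σ : (Fin m ⊕ Fin m → ZMod 2) ≃ (Fin m ⊕ Fin m → ZMod 2))
    (h : ∀ a b, Bf (σ a) (σ b) = Bf a b) (a b : Fin m ⊕ Fin m → ZMod 2) :
    σ (a + b) = σ a + σ b := by
  have hd : σ (a + b) - σ a - σ b = 0 := by
    apply eq_zero_of_Bf_eq_zero
    intro x
    obtain ⟨c, rfl⟩ := σ.surjective x
    rw [Bf_sub_left, Bf_sub_left, h, h, h, Bf_add_left]
    ring
  have := sub_eq_zero.mp hd
  rw [sub_eq_iff_eq_add] at this
  rw [this]; abel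

/-- a bijection preserving the alternating form is given by a symplectic matrix. -/
theorem exists_sp_of_equiv (σ : (Fin m ⊕ Fin m → ZMod 2) ≃ (Fin m ⊕ Fin m → ZMod 2))
    (h : ∀ a b, Bf (σ a) (σ b) = Bf a b) :
    ∃ g : Matrix.symplecticGroup (Fin m) (ZMod 2), ∀ v, g • v = σ v := by
  have h0 : σ 0 = 0 := by
    have := equiv_add σ h 0 0
    rw [add_zero] at this
    exact left_eq_add.mp this
  let f : (Fin m ⊕ Fin m → ZMod 2) →+ (Fin m ⊕ Fin m → ZMod 2) :=
    { toFun := σ, map_zero' := h0, map_add' := equiv_add σ h }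
  let L : (Fin m ⊕ Fin m → ZMod 2) →ₗ[ZMod 2] (Fin m ⊕ Fin m → ZMod 2) :=
    AddMonoidHom.toZModLinearMap 2 f
  have hL : ∀ v, L v = σ v := fun v => rfl
  have hM : ∀ v, LinearMap.toMatrix' L *ᵥ v = σ v := by
    intro v
    rw [LinearMap.toMatrix'_mulVec, hL]
  refine ⟨⟨LinearMap.toMatrix' L, ?_⟩, ?_⟩
  · apply mem_symplecticGroup_of_Bf
    intro u v
    rw [hM, hM, h]
  · intro v
    rw [smul_def]
    exact hM v

/-- a group acting by form-preserving bijections maps to the symplectic group. -/
theorem exists_hom_of_action {G : Type*} [Group G]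
    (s : G →* Equiv.Perm (Fin m ⊕ Fin m → ZMod 2))
    (h : ∀ g a b, Bf (s g a) (s g b) = Bf a b) :
    ∃ ψ : G →* Matrix.symplecticGroup (Fin m) (ZMod 2), ∀ g v, ψ g • v = s g v := by
  choose φ hφ using fun g => exists_sp_of_equiv (s g) (h g)
  refine ⟨MonoidHom.mk' φ ?_, ?_⟩
  · intro a b
    apply ext_smul
    intro v
    rw [mul_smul, hφ, hφ, hφ, map_mul, Equiv.Perm.mul_apply]
  · intro g v
    exact hφ g v

/-- surjectivity: one transvection and transitivity on the nonzero vectors. -/
theorem surjective_of_tv_of_trans {G : Type*} [Group G]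
    (ψ : G →* Matrix.symplecticGroup (Fin m) (ZMod 2)) (a0 : Fin m ⊕ Fin m → ZMod 2)
    (h1 : tv a0 1 ∈ ψ.range)
    (h2 : ∀ a : Fin m ⊕ Fin m → ZMod 2, a ≠ 0 → ∃ g, ψ g • a0 = a) :
    Function.Surjective ψ := by
  rw [← MonoidHom.range_eq_top, eq_top_iff, ← tvGroup_top_eq_top]
  unfold tvGroup
  rw [Subgroup.closure_le]
  rintro g ⟨x, -, c, rfl⟩
  have hc : c = 0 ∨ c = 1 := by revert c; decide
  rcases hc with rfl | rfl
  · rw [tv_zero_right]; exact Subgroup.one_mem _
  · by_cases hx : x = 0
    · rw [hx, tv_zero_left]; exact Subgroup.one_mem _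
    · obtain ⟨g, hg⟩ := h2 x hx
      rw [← hg, ← conj_tv]
      exact Subgroup.mul_mem _ (Subgroup.mul_mem _ ⟨g, rfl⟩ h1) (Subgroup.inv_mem _ ⟨g, rfl⟩)

/-- the symplectic group over the field with two elements has no nontrivial normal 2-subgroup
(any dimension `2m` with `m ≥ 1`; we only need that the number of vectors is even). -/
theorem pCore_two_sp_eq_bot (hm : 1 ≤ m) :
    pCore 2 (Matrix.symplecticGroup (Fin m) (ZMod 2)) = ⊥ := by
  have : Fact (Nat.Prime 2) := ⟨Nat.prime_two⟩
  set N := pCore 2 (Matrix.symplecticGroup (Fin m) (ZMod 2)) with hN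
  have hNp : IsPGroup 2 N := Cfsg.Agent.Helper9.pCore_isPGroup' 2 _
  have hNn : N.Normal := inferInstance
  -- fixed points of `N`
  have hcard := hNp.card_modEq_card_fixedPoints (Fin m ⊕ Fin m → ZMod 2)
  have hV : Nat.card (Fin m ⊕ Fin m → ZMod 2) = 2 ^ (m + m) := by
    rw [Nat.card_eq_fintype_card, Fintype.card_fun, ZMod.card, Fintype.card_sum, Fintype.card_fin]
  have hfix : ∃ w : Fin m ⊕ Fin m → ZMod 2, w ≠ 0 ∧ ∀ n ∈ N, n • w = w := by
    by_contra hcon
    push Not at hcon
    have hsub : MulAction.fixedPoints N (Fin m ⊕ Fin m → ZMod 2) = {0} := by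
      ext w
      rw [MulAction.mem_fixedPoints, Set.mem_singleton_iff]
      constructor
      · intro hw
        by_contra hw0
        obtain ⟨n, hn, hne⟩ := hcon w hw0
        exact hne (hw ⟨n, hn⟩)
      · rintro rfl n
        exact smul_zero _
    rw [hsub, hV] at hcard
    have h1 : Nat.card ({0} : Set (Fin m ⊕ Fin m → ZMod 2)) = 1 := by
      rw [Nat.card_eq_fintype_card]; simp
    rw [h1] at hcard
    have : (2 : ℕ) ∣ 2 ^ (m + m) := dvd_pow_self 2 (by omega)
    have h2 : 2 ^ (m + m) % 2 = 0 := Nat.mod_eq_zero_of_dvd this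
    have := hcard
    unfold Nat.ModEq at this
    omega
  obtain ⟨w, hw0, hw⟩ := hfix
  rw [eq_bot_iff]
  intro n hn
  rw [Subgroup.mem_bot]
  apply ext_smul
  intro v
  rw [one_smul]
  by_cases hv : v = 0
  · rw [hv]; exact smul_zero _
  · obtain ⟨g, -, hg⟩ := trans_vec (U := ⊤) isND_top (Submodule.mem_top (x := w))
      (Submodule.mem_top (x := v)) hw0 hv
    have hn' : g⁻¹ * n * g ∈ N := by
      have := hNn.conj_mem n hn g⁻¹
      rwa [inv_inv] at this
    have := hw _ hn'
    rw [mul_smul, mul_smul, hg] at this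
    have h3 := congrArg (fun x => g • x) this
    simp only [smul_inv_smul] at h3
    rw [hg] at h3
    exact h3

/-- the largest normal 2-subgroup of a group mapping onto a group without normal 2-subgroups,
with 2-group kernel, is the kernel. -/
theorem pCore_eq_ker {G S : Type*} [Group G] [Group S] (ψ : G →* S)
    (hs : Function.Surjective ψ) (hS : pCore 2 S = ⊥) (hk : IsPGroup 2 ψ.ker) :
    pCore 2 G = ψ.ker := by
  apply le_antisymm
  · intro x hx
    rw [MonoidHom.mem_ker]
    have h1 : ((pCore 2 G).map ψ).Normal := Subgroup.Normal.map inferInstance ψ hs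
    have h2 : IsPGroup 2 ((pCore 2 G).map ψ) :=
      (Cfsg.Agent.Helper9.pCore_isPGroup' 2 G).map ψ
    have h3 : (pCore 2 G).map ψ ≤ pCore 2 S := Cfsg.Agent.Helper9.le_pCore' h1 h2
    rw [hS] at h3
    have := h3 (Subgroup.mem_map_of_mem ψ hx)
    rwa [Subgroup.mem_bot] at this
  · exact Cfsg.Agent.Helper9.le_pCore' inferInstance hk

end Cfsg.Agent.Helper15.C2I
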