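import Mathlib
import Cfsg.Agent.Lib.Helper15.C2Sp
import Cfsg.Agent.Lib.Helper15.C2Data

set_option autoImplicit false

/-!
# An involution centraliser in the second Conway group: labels and vectors of `F₂⁶` (helper15)
-/

namespace Cfsg.Agent.Helper15.C2I

open Cfsg Cfsg.Agent.Helper2.Symp

/-- the six-dimensional space over the field with two elements. -/
abbrev V6 : Type := Fin 3 ⊕ Fin 3 → ZMod 2

/-- the vector with a given label. -/
def toV (k : ℕ) : V6 := fun s =>
  match s with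
  | Sum.inl i => ((k / 2 ^ i.val % 2 : ℕ) : ZMod 2)
  | Sum.inr i => ((k / 2 ^ (3 + i.val) % 2 : ℕ) : ZMod 2)

/-- the label of a vector. -/
def codeV (a : V6) : ℕ :=
  (a (Sum.inl 0)).val + 2 * (a (Sum.inl 1)).val + 4 * (a (Sum.inl 2)).val +
    8 * (a (Sum.inr 0)).val + 16 * (a (Sum.inr 1)).val + 32 * (a (Sum.inr 2)).val

lemma codeV_lt (a : V6) : codeV a < 64 := by
  unfold codeV
  have h := fun s => ZMod.val_lt (a s)
  have h0 := h (Sum.inl 0)
  have h1 := h (Sum.inl 1)
  have h2 := h (Sum.inl 2)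
  have h3 := h (Sum.inr 0)
  have h4 := h (Sum.inr 1)
  have h5 := h (Sum.inr 2)
  omega

lemma toV_code_aux : ∀ x0 x1 x2 x3 x4 x5 : ZMod 2,
    toV (x0.val + 2 * x1.val + 4 * x2.val + 8 * x3.val + 16 * x4.val + 32 * x5.val) =
      Sum.elim ![x0, x1, x2] ![x3, x4, x5] := by decide +kernel

lemma toV_codeV (a : V6) : toV (codeV a) = a := by
  unfold codeV
  rw [toV_code_aux]
  funext s
  rcases s with i | i <;> fin_cases i <;> rfl

lemma codeV_toV : ∀ k : Fin 64, codeV (toV k.val) = k.val := by decide +kernel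

lemma toV_zero : toV 0 = 0 := by decide +kernel

lemma codeV_zero : codeV 0 = 0 := by decide +kernel

lemma codeV_eq_zero {a : V6} (h : codeV a = 0) : a = 0 := by
  rw [← toV_codeV a, h, toV_zero]

lemma one_le_codeV {a : V6} (h : a ≠ 0) : 1 ≤ codeV a := by
  by_contra hc
  exact h (codeV_eq_zero (by omega))

lemma toV_ne_zero {k : ℕ} (h1 : 1 ≤ k) (h2 : k ≤ 63) : toV k ≠ 0 := by
  intro h
  have := codeV_toV ⟨k, by omega⟩
  simp only at this
  rw [h, codeV_zero] at this
  omega

set_option maxRecDepth 100000 in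
lemma Bf_toV : ∀ j k : Fin 64, Bf (toV j.val) (toV k.val) = ((bfN j.val k.val : ℕ) : ZMod 2) := by
  decide +kernel

set_option maxRecDepth 100000 in
lemma toV_tv : ∀ k : Fin 64, toV (if bfN k.val 1 = 1 then k.val ^^^ 1 else k.val) =
    toV k.val + (1 * Bf (toV k.val) (toV 1)) • toV 1 := by decide +kernel

end Cfsg.Agent.Helper15.C2I
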