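import Mathlib
import Cfsg.Agent.Lib.Helper15.C2V
import Cfsg.Agent.Lib.Helper27.Co2Orth

set_option autoImplicit false
set_option maxRecDepth 8000

/-!
# An involution centraliser in the second Conway group: the lattice side (helper15)

The involution `t₀` (sign change on the complement of the octad `O`), its centraliser `C₀` in
the stabiliser of `(4, 4, 0, …)`, the classification of the minimal vectors supported on `O` and
orthogonal to `(4, 4, 0, …)`, and the action of `C₀` on the 63 pairs of such vectors.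
-/

namespace Cfsg.Agent.Helper15.C2I

open Cfsg Cfsg.Agent.Helper27 MulAction
open Cfsg.Agent.S0358 (idx)
open Cfsg.Agent.S0394 (FA FB FC idxA idxB fC mem_idxA mem_idxB odd_fC)
open Cfsg.Agent.Helper29.M24 (oct0 oct0_mem)

lemma signChange_support₂' (c : GolayPt → ZMod 2) (x : GolayPt → ℤ) :
    signChange (support₂ c) x = sc c x := by
  funext i
  unfold signChange sc
  by_cases h : c i = 0
  · rw [if_pos h, if_neg]
    rw [mem_support₂]; exact fun h2 => h2 h
  · rw [if_neg h, if_pos]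
    rw [mem_support₂]; exact h

/-- the involution: sign change on the complement of the octad. -/
def t0 : Co0 := epsG cT cT_mem

lemma t0_smul (v : leechLattice) : ((t0 • v : leechLattice) : GolayPt → ℤ) = sc cT v.1 := by
  unfold t0
  rw [epsG_smul, signChange_support₂']

/-- the centraliser of `t₀` in the stabiliser of `(4, 4, 0, …)`. -/
def C0 : Subgroup Co0 := stabilizer Co0 Spor.leechU ⊓ Subgroup.centralizer {t0}

lemma mem_C0 {g : Co0} : g ∈ C0 ↔ g • Spor.leechU = Spor.leechU ∧ g * t0 = t0 * g := by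
  unfold C0
  rw [Subgroup.mem_inf, mem_stabilizer_iff, Subgroup.mem_centralizer_iff]
  constructor
  · rintro ⟨h1, h2⟩; exact ⟨h1, (h2 t0 rfl).symm⟩
  · rintro ⟨h1, h2⟩; refine ⟨h1, ?_⟩
    intro x hx; rw [Set.mem_singleton_iff.mp hx]; exact h2.symm

/-- the minimal vectors supported on the octad and orthogonal to `(4, 4, 0, …)`. -/
def IsRt (y : leechLattice) : Prop :=
  (∀ p, p ∉ oct0 → y.1 p = 0) ∧ sqNorm y.1 = 32 ∧ dotInt y.1 Spor.vecU = 0

lemma cT_eq_zero_iff : ∀ p : GolayPt, cT p = 0 ↔ p ∈ oct0 := by decide +kernel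

lemma sum_mod_eight {y : GolayPt → ℤ} (hy : y ∈ leechLattice) {p : GolayPt} (hp : y p = 0) :
    (∑ i, y i) % 8 = 0 := by
  obtain ⟨m, a, ha, -, hs⟩ := leechForm_of_mem hy
  have h1 : ∑ i, y i = 24 * m + 2 * ∑ i, a i := by
    have e1 : ∑ i, y i = ∑ i, (m + 2 * a i) := Finset.sum_congr rfl (fun i _ => ha i)
    have e2 : ∑ _i : GolayPt, m = 24 * m := by
      rw [Finset.sum_const, Finset.card_univ, card_golayPt]
      ring
    rw [e1, Finset.sum_add_distrib, e2, ← Finset.mul_sum]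
  have h2 := ha p
  rw [hp] at h2
  obtain ⟨r, hr⟩ := hs
  rw [h1]
  omega

lemma svB_0 (b0 b1 b2 b3 b4 b5 b6 b7 : Bool) :
    svB b0 b1 b2 b3 b4 b5 b6 b7 (oPt 0) = sg2 b0 := by
  unfold svB
  rw [if_pos rfl]

lemma svB_1 (b0 b1 b2 b3 b4 b5 b6 b7 : Bool) :
    svB b0 b1 b2 b3 b4 b5 b6 b7 (oPt 1) = sg2 b1 := by
  unfold svB
  rw [if_neg (show oPt 1 ≠ oPt 0 by decide +kernel), if_pos rfl]

lemma svB_2 (b0 b1 b2 b3 b4 b5 b6 b7 : Bool) :
    svB b0 b1 b2 b3 b4 b5 b6 b7 (oPt 2) = sg2 b2 := by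
  unfold svB
  rw [if_neg (show oPt 2 ≠ oPt 0 by decide +kernel), if_neg (show oPt 2 ≠ oPt 1 by decide +kernel), if_pos rfl]

lemma svB_3 (b0 b1 b2 b3 b4 b5 b6 b7 : Bool) :
    svB b0 b1 b2 b3 b4 b5 b6 b7 (oPt 3) = sg2 b3 := by
  unfold svB
  rw [if_neg (show oPt 3 ≠ oPt 0 by decide +kernel), if_neg (show oPt 3 ≠ oPt 1 by decide +kernel), if_neg (show oPt 3 ≠ oPt 2 by decide +kernel), if_pos rfl]

lemma svB_4 (b0 b1 b2 b3 b4 b5 b6 b7 : Bool) :
    svB b0 b1 b2 b3 b4 b5 b6 b7 (oPt 4) = sg2 b4 := by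
  unfold svB
  rw [if_neg (show oPt 4 ≠ oPt 0 by decide +kernel), if_neg (show oPt 4 ≠ oPt 1 by decide +kernel), if_neg (show oPt 4 ≠ oPt 2 by decide +kernel), if_neg (show oPt 4 ≠ oPt 3 by decide +kernel), if_pos rfl]

lemma svB_5 (b0 b1 b2 b3 b4 b5 b6 b7 : Bool) :
    svB b0 b1 b2 b3 b4 b5 b6 b7 (oPt 5) = sg2 b5 := by
  unfold svB
  rw [if_neg (show oPt 5 ≠ oPt 0 by decide +kernel), if_neg (show oPt 5 ≠ oPt 1 by decide +kernel), if_neg (show oPt 5 ≠ oPt 2 by decide +kernel), if_neg (show oPt 5 ≠ oPt 3 by decide +kernel), if_neg (show oPt 5 ≠ oPt 4 by decide +kernel), if_pos rfl]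

lemma svB_6 (b0 b1 b2 b3 b4 b5 b6 b7 : Bool) :
    svB b0 b1 b2 b3 b4 b5 b6 b7 (oPt 6) = sg2 b6 := by
  unfold svB
  rw [if_neg (show oPt 6 ≠ oPt 0 by decide +kernel), if_neg (show oPt 6 ≠ oPt 1 by decide +kernel), if_neg (show oPt 6 ≠ oPt 2 by decide +kernel), if_neg (show oPt 6 ≠ oPt 3 by decide +kernel), if_neg (show oPt 6 ≠ oPt 4 by decide +kernel), if_neg (show oPt 6 ≠ oPt 5 by decide +kernel), if_pos rfl]

lemma svB_7 (b0 b1 b2 b3 b4 b5 b6 b7 : Bool) :
    svB b0 b1 b2 b3 b4 b5 b6 b7 (oPt 7) = sg2 b7 := by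
  unfold svB
  rw [if_neg (show oPt 7 ≠ oPt 0 by decide +kernel), if_neg (show oPt 7 ≠ oPt 1 by decide +kernel), if_neg (show oPt 7 ≠ oPt 2 by decide +kernel), if_neg (show oPt 7 ≠ oPt 3 by decide +kernel), if_neg (show oPt 7 ≠ oPt 4 by decide +kernel), if_neg (show oPt 7 ≠ oPt 5 by decide +kernel), if_neg (show oPt 7 ≠ oPt 6 by decide +kernel), if_pos rfl]

/-- the classification: such a vector is, up to sign, the representative of its label. -/
theorem rc {y : leechLattice} (h : IsRt y) : RCprop y.1 := by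
  obtain ⟨hs, hn, hu⟩ := h
  have hF : y.1 ∈ F32 := mem_F32.mpr ⟨y.2, hn⟩
  unfold F32 at hF
  rw [Finset.mem_union, Finset.mem_union] at hF
  rcases hF with (hA | hB) | hC
  · unfold FA at hA
    rw [Finset.mem_image] at hA
    obtain ⟨q, hq, hqy⟩ := hA
    rw [mem_idxA] at hq
    obtain ⟨a, b, hab, hp⟩ := Finset.card_eq_two.mp hq.1
    have hy : y.1 = svA a b (decide (a ∈ q.2)) (decide (b ∈ q.2)) := by
      rw [← hqy]
      funext i
      unfold shapeVec svA
      rw [hp]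
      by_cases hia : i = a
      · subst hia
        simp
      · by_cases hib : i = b
        · subst hib
          simp [hia]
        · simp [hia, hib]
    have hval : ∀ i, i = a ∨ i = b → y.1 i ≠ 0 := by
      intro i hi
      rw [hy]
      unfold svA
      rcases hi with rfl | rfl
      · rw [if_pos rfl]; split_ifs <;> norm_num
      · rw [if_neg (Ne.symm hab), if_pos rfl]; split_ifs <;> norm_num
    have ha : a ∈ oct0 := by
      by_contra hc; exact hval a (Or.inl rfl) (hs a hc)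
    have hb : b ∈ oct0 := by
      by_contra hc; exact hval b (Or.inr rfl) (hs b hc)
    rw [hy]
    exact rcA a b ha hb hab _ _ (by rw [← hy]; exact hu)
  · unfold FB at hB
    rw [Finset.mem_image] at hB
    obtain ⟨q, hq, hqy⟩ := hB
    rw [mem_idxB] at hq
    have hsub : q.1 ⊆ oct0 := by
      intro i hi
      by_contra hc
      have := hs i hc
      rw [← hqy] at this
      unfold shapeVec at this
      rw [if_pos hi] at this
      split_ifs at this <;> omega
    have heq : q.1 = oct0 := by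
      apply Finset.eq_of_subset_of_card_le hsub
      rw [octad_card hq.1, octad_card oct0_mem]
    have hy : y.1 = svB (decide (oPt 0 ∈ q.2)) (decide (oPt 1 ∈ q.2)) (decide (oPt 2 ∈ q.2))
        (decide (oPt 3 ∈ q.2)) (decide (oPt 4 ∈ q.2)) (decide (oPt 5 ∈ q.2))
        (decide (oPt 6 ∈ q.2)) (decide (oPt 7 ∈ q.2)) := by
      rw [← hqy]
      funext i
      by_cases hi : i ∈ oct0
      · rcases (mem_oct0_iff i).mp hi with h | h | h | h | h | h | h | h
        · subst h
          rw [svB_0]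
          unfold shapeVec sg2
          rw [if_pos (by rw [heq]; exact hi)]
          by_cases hN : oPt 0 ∈ q.2 <;> simp [hN]
        · subst h
          rw [svB_1]
          unfold shapeVec sg2
          rw [if_pos (by rw [heq]; exact hi)]
          by_cases hN : oPt 1 ∈ q.2 <;> simp [hN]
        · subst h
          rw [svB_2]
          unfold shapeVec sg2
          rw [if_pos (by rw [heq]; exact hi)]
          by_cases hN : oPt 2 ∈ q.2 <;> simp [hN]
        · subst h
          rw [svB_3]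
          unfold shapeVec sg2
          rw [if_pos (by rw [heq]; exact hi)]
          by_cases hN : oPt 3 ∈ q.2 <;> simp [hN]
        · subst h
          rw [svB_4]
          unfold shapeVec sg2
          rw [if_pos (by rw [heq]; exact hi)]
          by_cases hN : oPt 4 ∈ q.2 <;> simp [hN]
        · subst h
          rw [svB_5]
          unfold shapeVec sg2
          rw [if_pos (by rw [heq]; exact hi)]
          by_cases hN : oPt 5 ∈ q.2 <;> simp [hN]
        · subst h
          rw [svB_6]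
          unfold shapeVec sg2
          rw [if_pos (by rw [heq]; exact hi)]
          by_cases hN : oPt 6 ∈ q.2 <;> simp [hN]
        · subst h
          rw [svB_7]
          unfold shapeVec sg2
          rw [if_pos (by rw [heq]; exact hi)]
          by_cases hN : oPt 7 ∈ q.2 <;> simp [hN]
      · unfold shapeVec svB
        rw [heq, if_neg hi]
        have hne := (not_congr (mem_oct0_iff i)).mp hi
        push Not at hne
        obtain ⟨h0, h1, h2, h3, h4, h5, h6, h7⟩ := hne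
        rw [if_neg h0, if_neg h1, if_neg h2, if_neg h3, if_neg h4, if_neg h5, if_neg h6,
          if_neg h7]
    have hsum : (∑ i, y.1 i) % 8 = 0 :=
      sum_mod_eight y.2 (p := some 4) (hs _ (by decide +kernel))
    rw [hy]
    exact rcB _ _ _ _ _ _ _ _ (by rw [← hy]; exact hsum) (by rw [← hy]; exact hu)
  · exfalso
    unfold FC at hC
    rw [Finset.mem_image] at hC
    obtain ⟨q, -, hqy⟩ := hC
    have h0 := hs (some 4) (by decide +kernel)
    rw [← hqy] at h0
    exact odd_fC q (some 4) (by rw [h0]; exact dvd_zero _)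

/-! ### The action on labels -/

lemma sc_fix_of_supp {y : GolayPt → ℤ} (h : ∀ p, p ∉ oct0 → y p = 0) : sc cT y = y := by
  funext p
  unfold sc
  by_cases hp : cT p = 0
  · rw [if_pos hp]
  · rw [if_neg hp, h p (fun hc => hp ((cT_eq_zero_iff p).mpr hc))]
    simp

lemma supp_of_sc_fix {y : GolayPt → ℤ} (h : sc cT y = y) : ∀ p, p ∉ oct0 → y p = 0 := by
  intro p hp
  have := congrFun h p
  unfold sc at this
  rw [if_neg (fun hc => hp ((cT_eq_zero_iff p).mp hc))] at this
  omega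

lemma isRt_smul {g : Co0} (hg : g ∈ C0) {y : leechLattice} (h : IsRt y) : IsRt (g • y) := by
  obtain ⟨hg1, hg2⟩ := mem_C0.mp hg
  refine ⟨?_, ?_, ?_⟩
  · have hty : t0 • y = y := by
      apply Subtype.ext
      rw [t0_smul]
      exact sc_fix_of_supp h.1
    have h2 : t0 • (g • y) = g • y := by rw [← mul_smul, ← hg2, mul_smul, hty]
    apply supp_of_sc_fix
    rw [← t0_smul, h2]
  · rw [smul_norm]; exact h.2.1
  · have := smul_dot g y Spor.leechU
    rw [hg1] at this
    rw [show ((Spor.leechU : leechLattice) : GolayPt → ℤ) = Spor.vecU from rfl] at this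
    rw [this]; exact h.2.2

/-- the representative of a label, as a lattice vector. -/
noncomputable def Rep (k : ℕ) : leechLattice := by
  classical exact if h : rep k ∈ leechLattice then ⟨rep k, h⟩ else 0

lemma Rep_val {k : ℕ} (h1 : 1 ≤ k) (h2 : k ≤ 63) : ((Rep k : leechLattice) : GolayPt → ℤ) = rep k := by
  have := mem_of_leechOK (rep_ok ⟨k, by omega⟩ h1)
  unfold Rep
  rw [dif_pos this]

lemma Rep_isRt {k : ℕ} (h1 : 1 ≤ k) (h2 : k ≤ 63) : IsRt (Rep k) := by
  unfold IsRt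
  rw [Rep_val h1 h2]
  exact rep_props ⟨k, by omega⟩ h1

/-- the action of an automorphism on labels. -/
noncomputable def sgN (g : Co0) (k : ℕ) : ℕ := lamN ((g • Rep k : leechLattice) : GolayPt → ℤ)

/-- up to sign the representative of the label `j`. -/
def IsPM (z : leechLattice) (j : ℕ) : Prop := z = Rep j ∨ z = -Rep j

lemma lam_of_isPM {z : leechLattice} {j : ℕ} (h1 : 1 ≤ j) (h2 : j ≤ 63) (h : IsPM z j) :
    lamN z.1 = j := by
  have := rep_lam ⟨j, by omega⟩ h1
  rcases h with rfl | rfl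
  · rw [Rep_val h1 h2]; exact this.1
  · rw [AddSubgroup.coe_neg, Rep_val h1 h2]; exact this.2

lemma isPM_smul {g : Co0} (hg : g ∈ C0) {z : leechLattice} {j : ℕ} (h1 : 1 ≤ j) (h2 : j ≤ 63)
    (h : IsPM z j) : 1 ≤ sgN g j ∧ sgN g j ≤ 63 ∧ IsPM (g • z) (sgN g j) := by
  have hr := rc (isRt_smul hg (Rep_isRt h1 h2))
  obtain ⟨hr1, hr2, hr3⟩ := hr
  have hk : lamN ((g • Rep j : leechLattice) : GolayPt → ℤ) = sgN g j := rfl
  rw [hk] at hr1 hr2 hr3
  have hpm : IsPM (g • Rep j) (sgN g j) := by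
    rcases hr3 with h3 | h3
    · left; apply Subtype.ext; rw [h3, Rep_val hr1 hr2]
    · right; apply Subtype.ext; rw [h3, AddSubgroup.coe_neg, Rep_val hr1 hr2]
  refine ⟨hr1, hr2, ?_⟩
  rcases h with rfl | rfl
  · exact hpm
  · rw [smul_neg']
    rcases hpm with h3 | h3
    · right; rw [h3]
    · left; rw [h3, neg_neg]

lemma sgN_mul {g h : Co0} (hg : g ∈ C0) (hh : h ∈ C0) {k : ℕ} (h1 : 1 ≤ k) (h2 : k ≤ 63) :
    sgN (g * h) k = sgN g (sgN h k) := by
  obtain ⟨a1, a2, a3⟩ := isPM_smul hh h1 h2 (Or.inl rfl : IsPM (Rep k) k)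
  obtain ⟨b1, b2, b3⟩ := isPM_smul hg a1 a2 a3
  unfold sgN at b3 ⊢
  rw [mul_smul]
  exact lam_of_isPM b1 b2 b3

lemma sgN_one {k : ℕ} (h1 : 1 ≤ k) (h2 : k ≤ 63) : sgN 1 k = k := by
  unfold sgN
  rw [one_smul]
  exact lam_of_isPM h1 h2 (Or.inl rfl)

lemma dotInt_neg_left' (x y : GolayPt → ℤ) : dotInt (-x) y = -dotInt x y := by
  unfold dotInt
  rw [← Finset.sum_neg_distrib]
  exact Finset.sum_congr rfl (fun i _ => by rw [Pi.neg_apply]; ring)

lemma dotInt_neg_right' (x y : GolayPt → ℤ) : dotInt x (-y) = -dotInt x y := by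
  unfold dotInt
  rw [← Finset.sum_neg_distrib]
  exact Finset.sum_congr rfl (fun i _ => by rw [Pi.neg_apply]; ring)

lemma dot_isPM {z z' : leechLattice} {j k : ℕ} (hj1 : 1 ≤ j) (hj2 : j ≤ 63) (hk1 : 1 ≤ k)
    (hk2 : k ≤ 63) (h : IsPM z j) (h' : IsPM z' k) :
    dotInt z.1 z'.1 % 32 = 16 * (bfN j k : ℤ) := by
  have h0 := rep_bf ⟨j, by omega⟩ ⟨k, by omega⟩ hj1 hk1
  simp only at h0
  have hb : bfN j k < 2 := by unfold bfN; exact Nat.mod_lt _ (by norm_num)
  rcases h with rfl | rfl <;> rcases h' with rfl | rfl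
  · rw [Rep_val hj1 hj2, Rep_val hk1 hk2]; exact h0
  · rw [AddSubgroup.coe_neg, Rep_val hj1 hj2, Rep_val hk1 hk2, dotInt_neg_right']; omega
  · rw [AddSubgroup.coe_neg, Rep_val hj1 hj2, Rep_val hk1 hk2, dotInt_neg_left']; omega
  · rw [AddSubgroup.coe_neg, AddSubgroup.coe_neg, Rep_val hj1 hj2, Rep_val hk1 hk2,
      dotInt_neg_left', dotInt_neg_right']; omega

lemma bfN_sgN {g : Co0} (hg : g ∈ C0) {j k : ℕ} (hj1 : 1 ≤ j) (hj2 : j ≤ 63) (hk1 : 1 ≤ k)
    (hk2 : k ≤ 63) : bfN (sgN g j) (sgN g k) = bfN j k := by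
  obtain ⟨a1, a2, a3⟩ := isPM_smul hg hj1 hj2 (Or.inl rfl : IsPM (Rep j) j)
  obtain ⟨b1, b2, b3⟩ := isPM_smul hg hk1 hk2 (Or.inl rfl : IsPM (Rep k) k)
  have e1 := dot_isPM a1 a2 b1 b2 a3 b3
  rw [smul_dot] at e1
  have e2 := dot_isPM hj1 hj2 hk1 hk2 (Or.inl rfl : IsPM (Rep j) j) (Or.inl rfl : IsPM (Rep k) k)
  omega

/-- the action on the vectors of `F₂⁶`. -/
noncomputable def sfun (g : Co0) (a : V6) : V6 := if a = 0 then 0 else toV (sgN g (codeV a))

lemma sfun_zero (g : Co0) : sfun g 0 = 0 := by unfold sfun; rw [if_pos rfl]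

lemma sfun_of_ne {g : Co0} {a : V6} (h : a ≠ 0) : sfun g a = toV (sgN g (codeV a)) := by
  unfold sfun; rw [if_neg h]

lemma codeV_le (a : V6) : codeV a ≤ 63 := by have := codeV_lt a; omega

lemma sfun_ne_zero {g : Co0} (hg : g ∈ C0) {a : V6} (h : a ≠ 0) : sfun g a ≠ 0 := by
  rw [sfun_of_ne h]
  obtain ⟨a1, a2, -⟩ := isPM_smul hg (one_le_codeV h) (codeV_le a)
    (Or.inl rfl : IsPM (Rep (codeV a)) (codeV a))
  exact toV_ne_zero a1 a2

lemma codeV_sfun {g : Co0} (hg : g ∈ C0) {a : V6} (h : a ≠ 0) :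
    codeV (sfun g a) = sgN g (codeV a) := by
  rw [sfun_of_ne h]
  obtain ⟨a1, a2, -⟩ := isPM_smul hg (one_le_codeV h) (codeV_le a)
    (Or.inl rfl : IsPM (Rep (codeV a)) (codeV a))
  exact codeV_toV ⟨sgN g (codeV a), by omega⟩

lemma sfun_mul {g h : Co0} (hg : g ∈ C0) (hh : h ∈ C0) (a : V6) :
    sfun (g * h) a = sfun g (sfun h a) := by
  by_cases ha : a = 0
  · rw [ha, sfun_zero, sfun_zero, sfun_zero]
  · rw [sfun_of_ne ha, sfun_of_ne (sfun_ne_zero hh ha), codeV_sfun hh ha,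
      sgN_mul hg hh (one_le_codeV ha) (codeV_le a)]

lemma sfun_one (a : V6) : sfun 1 a = a := by
  by_cases ha : a = 0
  · rw [ha, sfun_zero]
  · rw [sfun_of_ne ha, sgN_one (one_le_codeV ha) (codeV_le a), toV_codeV]

open Cfsg.Agent.Helper2.Symp in
lemma Bf_sfun {g : Co0} (hg : g ∈ C0) (a b : V6) : Bf (sfun g a) (sfun g b) = Bf a b := by
  by_cases ha : a = 0
  · rw [ha, sfun_zero, Bf_zero_left, Bf_zero_left]
  by_cases hb : b = 0
  · rw [hb, sfun_zero, Bf_zero_right, Bf_zero_right]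
  obtain ⟨a1, a2, -⟩ := isPM_smul hg (one_le_codeV ha) (codeV_le a)
    (Or.inl rfl : IsPM (Rep (codeV a)) (codeV a))
  obtain ⟨b1, b2, -⟩ := isPM_smul hg (one_le_codeV hb) (codeV_le b)
    (Or.inl rfl : IsPM (Rep (codeV b)) (codeV b))
  rw [sfun_of_ne ha, sfun_of_ne hb]
  have e1 := Bf_toV ⟨sgN g (codeV a), by omega⟩ ⟨sgN g (codeV b), by omega⟩
  have e2 := Bf_toV ⟨codeV a, codeV_lt a⟩ ⟨codeV b, codeV_lt b⟩
  simp only at e1 e2
  rw [e1, bfN_sgN hg (one_le_codeV ha) (codeV_le a) (one_le_codeV hb) (codeV_le b), ← e2,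
    toV_codeV, toV_codeV]

/-- the action of `C₀` on `F₂⁶` by permutations. -/
noncomputable def sPerm : C0 →* Equiv.Perm V6 where
  toFun g :=
    { toFun := sfun g.1
      invFun := sfun (g⁻¹).1
      left_inv := fun a => by
        rw [← sfun_mul (g⁻¹).2 g.2, ← Subgroup.coe_mul, inv_mul_cancel, Subgroup.coe_one, sfun_one]
      right_inv := fun a => by
        rw [← sfun_mul g.2 (g⁻¹).2, ← Subgroup.coe_mul, mul_inv_cancel, Subgroup.coe_one, sfun_one] }
  map_one' := by
    apply Equiv.ext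
    intro a
    exact sfun_one a
  map_mul' := by
    intro g h
    apply Equiv.ext
    intro a
    exact sfun_mul g.2 h.2 a

lemma sPerm_apply (g : C0) (a : V6) : sPerm g a = sfun g.1 a := rfl

/-- the homomorphism to the symplectic group. -/
theorem exists_psi : ∃ ψ : C0 →* Matrix.symplecticGroup (Fin 3) (ZMod 2),
    ∀ (g : C0) (v : V6), ψ g • v = sfun g.1 v :=
  exists_hom_of_action sPerm (fun g a b => Bf_sfun g.2 a b)

end Cfsg.Agent.Helper15.C2I
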