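import Mathlib
import Cfsg.Agent.Lib.Helper15.C2Lat

set_option autoImplicit false
set_option maxRecDepth 8000

/-!
# An involution centraliser in the second Conway group: three elements and surjectivity (helper15)

Three explicit elements of the centraliser `C₀`; one of them acts on `F₂⁶` as a transvection,
and together they are transitive on the nonzero vectors, so the homomorphism to the symplectic
group is onto.
-/

namespace Cfsg.Agent.Helper15.C2I

open Cfsg Cfsg.Agent.Helper27 MulAction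
open Cfsg.Agent.Helper2.Symp
open Cfsg.Agent.Helper29.M24 (oct0 oct0_mem)

lemma co0_ext {g h : Co0}
    (H : ∀ v : leechLattice, ((g • v : leechLattice) : GolayPt → ℤ) = ((h • v : leechLattice) : GolayPt → ℤ)) :
    g = h := by
  apply Subtype.ext
  apply Equiv.ext
  intro v
  apply Subtype.ext
  exact H v

/-- the first element: a coordinate permutation. -/
def g1 : Co0 := permG sgP sgP_mem

/-- negation. -/
def negG : Co0 := epsG 1 one_mem_golayCode

/-- the involution `ξ`. -/
def xiG : Co0 := ⟨xiP, xiP_mem⟩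

/-- the second element: a conjugate of `ξ` by a sign change, negated. -/
def g2 : Co0 := negG * (epsG cW cW_mem * (xiG * epsG cW cW_mem))

/-- the third element: a sign change on a dodecad. -/
def g3 : Co0 := epsG cD cD_mem

lemma eps_smul (c : GolayPt → ZMod 2) (hc : c ∈ golayCode) (v : leechLattice) :
    ((epsG c hc • v : leechLattice) : GolayPt → ℤ) = sc c v.1 := by
  rw [epsG_smul, signChange_support₂']

lemma g1_smul (v : leechLattice) : ((g1 • v : leechLattice) : GolayPt → ℤ) = G1 v.1 := rfl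

lemma xiG_smul (v : leechLattice) : ((xiG • v : leechLattice) : GolayPt → ℤ) = xi v.1 := rfl

lemma negG_smul (v : leechLattice) : ((negG • v : leechLattice) : GolayPt → ℤ) = fun i => - v.1 i := by
  unfold negG
  rw [eps_smul]
  funext i
  unfold sc
  rw [if_neg (by simp)]

lemma g2_smul (v : leechLattice) : ((g2 • v : leechLattice) : GolayPt → ℤ) = G2 v.1 := by
  unfold g2
  rw [mul_smul, mul_smul, mul_smul, negG_smul, eps_smul, xiG_smul, eps_smul]
  rfl

lemma g3_smul (v : leechLattice) : ((g3 • v : leechLattice) : GolayPt → ℤ) = G3 v.1 := by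
  unfold g3 G3
  rw [eps_smul]

lemma sc_comm (c d : GolayPt → ZMod 2) (x : GolayPt → ℤ) : sc c (sc d x) = sc d (sc c x) := by
  funext i
  unfold sc
  split_ifs <;> ring

lemma sc_neg (c : GolayPt → ZMod 2) (x : GolayPt → ℤ) :
    (fun i => - sc c x i) = sc c (fun i => - x i) := by
  funext i
  unfold sc
  split_ifs <;> ring

lemma tcT_cases (k : Fin 6) : tcT k = 1 ∨ tcT k = -1 := by
  unfold tcT; split_ifs <;> simp

lemma sc_cT_eq (x : GolayPt → ℤ) : sc cT x = fun i => tcT (tetIdx i) * x i := by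
  funext i
  unfold sc
  by_cases h : cT i = 0
  · rw [if_pos h, (cT_tet i).mp h, one_mul]
  · rw [if_neg h]
    have h2 : tcT (tetIdx i) ≠ 1 := fun hc => h ((cT_tet i).mpr hc)
    rcases tcT_cases (tetIdx i) with h3 | h3
    · exact absurd h3 h2
    · rw [h3]; ring

lemma xi_sc_cT {z : GolayPt → ℤ} (hz : TEven z) : xi (sc cT z) = sc cT (xi z) := by
  rw [sc_cT_eq, sc_cT_eq]
  funext i
  unfold xi eta
  beta_reduce
  rw [tsum_weight tcT z (tetIdx i)]
  obtain ⟨r, hr⟩ := hz (tetIdx i)
  rw [hr]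
  have e1 : tcT (tetIdx i) * (2 * r) = 2 * (tcT (tetIdx i) * r) := by ring
  rw [e1, Int.mul_ediv_cancel_left _ (by norm_num : (2 : ℤ) ≠ 0),
    Int.mul_ediv_cancel_left _ (by norm_num : (2 : ℤ) ≠ 0)]
  ring

lemma g1_mem : g1 ∈ C0 := by
  rw [mem_C0]
  constructor
  · apply Subtype.ext
    rw [g1_smul]
    exact G_vecU.1
  · apply co0_ext
    intro v
    rw [mul_smul, mul_smul, g1_smul, t0_smul, t0_smul, g1_smul]
    funext i
    unfold G1 sc
    rw [cT_sgF]

lemma g3_mem : g3 ∈ C0 := by
  rw [mem_C0]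
  constructor
  · apply Subtype.ext
    rw [g3_smul]
    exact G_vecU.2.2
  · apply co0_ext
    intro v
    rw [mul_smul, mul_smul, g3_smul, t0_smul, t0_smul, g3_smul]
    unfold G3
    exact sc_comm _ _ _

lemma g2_mem : g2 ∈ C0 := by
  rw [mem_C0]
  constructor
  · apply Subtype.ext
    rw [g2_smul]
    exact G_vecU.2.1
  · apply co0_ext
    intro v
    rw [mul_smul, mul_smul, g2_smul, t0_smul, t0_smul, g2_smul]
    unfold G2
    have hz : TEven (sc cW v.1) := by
      rw [← eps_smul cW cW_mem v]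
      exact tEven_of_mem (epsG cW cW_mem • v).2
    rw [sc_comm cW cT, xi_sc_cT hz, sc_comm cW cT, sc_neg]

/-- the three elements by number. -/
def gam (i : ℕ) : Co0 := if i = 0 then g1 else if i = 1 then g2 else g3

lemma gam_mem (i : ℕ) : gam i ∈ C0 := by
  unfold gam
  split_ifs
  · exact g1_mem
  · exact g2_mem
  · exact g3_mem

lemma sgN_gam (i : ℕ) {k : ℕ} (h1 : 1 ≤ k) (h2 : k ≤ 63) : sgN (gam i) k = tabs i k := by
  unfold sgN gam
  by_cases h0 : i = 0
  · rw [if_pos h0, g1_smul, Rep_val h1 h2, h0]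
    exact G1_rep ⟨k, by omega⟩ h1
  · rw [if_neg h0]
    by_cases h1' : i = 1
    · rw [if_pos h1', g2_smul, Rep_val h1 h2, h1']
      exact G2_rep ⟨k, by omega⟩ h1
    · rw [if_neg h1', g3_smul, Rep_val h1 h2]
      have : tabs i k = tabs 2 k := by
        unfold tabs
        rw [if_neg h0, if_neg h1', if_neg (by norm_num), if_neg (by norm_num)]
      rw [this]
      exact G3_rep ⟨k, by omega⟩ h1

lemma ord_bound : ∀ n : Fin 63, 1 ≤ ordL.getD n.val 0 ∧ ordL.getD n.val 0 ≤ 63 := by
  decide +kernel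

/-- transitivity on the labels. -/
lemma orbit_all : ∀ n : ℕ, n < 63 →
    ∃ g : C0, sfun g.1 (toV 1) = toV (ordL.getD n 0) := by
  intro n
  induction n using Nat.strong_induction_on with
  | _ n ih =>
    intro hn
    by_cases h0 : n = 0
    · refine ⟨1, ?_⟩
      rw [h0, tree_ok.1, Subgroup.coe_one, sfun_one]
    · obtain ⟨hp, ht⟩ := tree_ok.2 ⟨n, hn⟩ (by simp only; omega)
      simp only at hp ht
      obtain ⟨g, hg⟩ := ih _ hp (by omega)
      obtain ⟨b1, b2⟩ := ord_bound ⟨pidxL.getD n 0, by omega⟩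
      simp only at b1 b2
      refine ⟨⟨gam (pgenL.getD n 0), gam_mem _⟩ * g, ?_⟩
      rw [Subgroup.coe_mul, sfun_mul (gam_mem _) g.2, hg, sfun_of_ne (toV_ne_zero b1 b2)]
      have := codeV_toV ⟨ordL.getD (pidxL.getD n 0) 0, by omega⟩
      simp only at this
      rw [this, sgN_gam _ b1 b2, ht]

lemma trans_labels (a : V6) (ha : a ≠ 0) : ∃ g : C0, sfun g.1 (toV 1) = a := by
  obtain ⟨n, hn⟩ := ord_surj ⟨codeV a, codeV_lt a⟩ (one_le_codeV ha)
  simp only at hn
  obtain ⟨g, hg⟩ := orbit_all n.val n.2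
  refine ⟨g, ?_⟩
  rw [hg, hn, toV_codeV]

/-- the homomorphism to the symplectic group is onto. -/
theorem psi_surjective (ψ : C0 →* Matrix.symplecticGroup (Fin 3) (ZMod 2))
    (hψ : ∀ (g : C0) (v : V6), ψ g • v = sfun g.1 v) : Function.Surjective ψ := by
  apply surjective_of_tv_of_trans ψ (toV 1)
  · refine ⟨⟨g3, g3_mem⟩, ?_⟩
    apply ext_smul
    intro v
    rw [hψ, tv_smul]
    by_cases hv : v = 0
    · rw [hv, sfun_zero, Bf_zero_left, mul_zero, zero_smul, add_zero]
    · rw [sfun_of_ne hv]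
      have h1 : sgN g3 (codeV v) = tabs 2 (codeV v) := by
        have := sgN_gam 2 (one_le_codeV hv) (codeV_le v)
        unfold gam at this
        rw [if_neg (by norm_num), if_neg (by norm_num)] at this
        exact this
      have h2 := tab3_eq ⟨codeV v, codeV_lt v⟩
      have h3 := toV_tv ⟨codeV v, codeV_lt v⟩
      simp only at h2 h3
      rw [h1, h2, h3, toV_codeV]
  · intro a ha
    obtain ⟨g, hg⟩ := trans_labels a ha
    exact ⟨g, by rw [hψ, hg]⟩

end Cfsg.Agent.Helper15.C2I
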