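import Mathlib
import Cfsg.Agent.Lib.Helper15.C2Gen
import Cfsg.Agent.Lib.Helper27.MonI
import Cfsg.Agent.Lib.Helper29.M24OctStab

set_option autoImplicit false
set_option maxRecDepth 8000

/-!
# An involution centraliser in the second Conway group: the kernel (helper15)

An element of `C₀` fixing all 63 labels acts on the representatives by a global sign; the sign is
`+1`, the element is monomial, its permutation part fixes the octad pointwise and its sign part
vanishes on the octad.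
-/

namespace Cfsg.Agent.Helper15.C2I

open Cfsg Cfsg.Agent.Helper27 MulAction
open Cfsg.Agent.Helper2.Symp
open Cfsg.Agent.Helper29.M24 (oct0 oct0_mem grp octK mem_octK octRes octRes_apply range_octRes)
open scoped Pointwise

/-- the elements fixing all labels. -/
def FixL (g : Co0) : Prop := ∀ k, 1 ≤ k → k ≤ 63 → sgN g k = k

lemma fixL_pm {g : Co0} (hg : g ∈ C0) (hf : FixL g) {k : ℕ} (h1 : 1 ≤ k) (h2 : k ≤ 63) :
    g • Rep k = Rep k ∨ g • Rep k = -Rep k := by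
  obtain ⟨-, -, h⟩ := isPM_smul hg h1 h2 (Or.inl rfl : IsPM (Rep k) k)
  rw [hf k h1 h2] at h
  exact h

lemma dot_rep_ne {j k : ℕ} (hj1 : 1 ≤ j) (hj2 : j ≤ 63) (hk1 : 1 ≤ k) (hk2 : k ≤ 63)
    (hb : bfN j k = 1) : dotInt (Rep j).1 (Rep k).1 ≠ 0 := by
  have := dot_isPM hj1 hj2 hk1 hk2 (Or.inl rfl : IsPM (Rep j) j) (Or.inl rfl : IsPM (Rep k) k)
  rw [hb] at this
  intro h0
  rw [h0] at this
  norm_num at this

lemma sign_step {g : Co0} (hg : g ∈ C0) (hf : FixL g) {j k : ℕ} (hj1 : 1 ≤ j) (hj2 : j ≤ 63)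
    (hk1 : 1 ≤ k) (hk2 : k ≤ 63) (hb : bfN j k = 1) :
    (g • Rep j = Rep j → g • Rep k = Rep k) ∧ (g • Rep j = -Rep j → g • Rep k = -Rep k) := by
  have hd := dot_rep_ne hj1 hj2 hk1 hk2 hb
  have e := smul_dot g (Rep j) (Rep k)
  constructor
  · intro h
    rcases fixL_pm hg hf hk1 hk2 with h' | h'
    · exact h'
    · exfalso
      rw [h, h', AddSubgroup.coe_neg, dotInt_neg_right'] at e
      apply hd; omega
  · intro h
    rcases fixL_pm hg hf hk1 hk2 with h' | h'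
    · exfalso
      rw [h, h', AddSubgroup.coe_neg, dotInt_neg_left'] at e
      apply hd; omega
    · exact h'

lemma conn : ∀ k : Fin 64, 2 ≤ k.val →
    bfN 1 k.val = 1 ∨ ∃ m : Fin 64, 1 ≤ m.val ∧ bfN 1 m.val = 1 ∧ bfN m.val k.val = 1 := by
  decide +kernel

/-- the global sign. -/
lemma fixL_sign {g : Co0} (hg : g ∈ C0) (hf : FixL g) :
    (∀ k, 1 ≤ k → k ≤ 63 → g • Rep k = Rep k) ∨ (∀ k, 1 ≤ k → k ≤ 63 → g • Rep k = -Rep k) := by
  have key : ∀ k, 1 ≤ k → k ≤ 63 →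
      (g • Rep 1 = Rep 1 → g • Rep k = Rep k) ∧ (g • Rep 1 = -Rep 1 → g • Rep k = -Rep k) := by
    intro k h1 h2
    by_cases hk : k = 1
    · rw [hk]; exact ⟨id, id⟩
    · rcases conn ⟨k, by omega⟩ (by simp only; omega) with hb | ⟨m, hm1, hb1, hb2⟩
      · exact sign_step hg hf (by norm_num) (by norm_num) h1 h2 hb
      · have hm2 : m.val ≤ 63 := by have := m.2; omega
        have s1 := sign_step hg hf (by norm_num) (by norm_num) hm1 hm2 hb1
        have s2 := sign_step hg hf hm1 hm2 h1 h2 hb2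
        exact ⟨fun h => s2.1 (s1.1 h), fun h => s2.2 (s1.2 h)⟩
  rcases fixL_pm hg hf (by norm_num : 1 ≤ 1) (by norm_num : 1 ≤ 63) with h | h
  · left; intro k h1 h2; exact (key k h1 h2).1 h
  · right; intro k h1 h2; exact (key k h1 h2).2 h

lemma fixL_sign' {g : Co0} (hg : g ∈ C0) (hf : FixL g) :
    ∃ s : ℤ, (s = 1 ∨ s = -1) ∧ ∀ k, 1 ≤ k → k ≤ 63 → g • Rep k = s • Rep k := by
  rcases fixL_sign hg hf with h | h
  · exact ⟨1, Or.inl rfl, fun k h1 h2 => by rw [h k h1 h2, one_smul]⟩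
  · exact ⟨-1, Or.inr rfl, fun k h1 h2 => by rw [h k h1 h2, neg_smul, one_smul]⟩

set_option maxRecDepth 100000 in
lemma e8_dec :
    vec8 (oPt 1) = rep 2 + rep 3 ∧ vec8 (oPt 2) = rep 2 - rep 3 ∧ vec8 (oPt 3) = rep 6 + rep 7 ∧
    vec8 (oPt 4) = rep 4 + rep 5 ∧ vec8 (oPt 5) = -rep 4 + rep 5 ∧ vec8 (oPt 6) = -rep 6 + rep 7 ∧
    vec8 (oPt 7) = Spor.vecU - rep 1 ∧ vec8 (oPt 0) = Spor.vecU + rep 1 := by decide +kernel

lemma Rep_val' (k : ℕ) (h1 : 1 ≤ k := by norm_num) (h2 : k ≤ 63 := by norm_num) :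
    ((Rep k : leechLattice) : GolayPt → ℤ) = rep k := Rep_val h1 h2

lemma e8_1 : e8 (oPt 1) = Rep 2 + Rep 3 := by
  apply Subtype.ext
  rw [AddSubgroup.coe_add, Rep_val' 2, Rep_val' 3]
  exact e8_dec.1

lemma e8_2 : e8 (oPt 2) = Rep 2 - Rep 3 := by
  apply Subtype.ext
  rw [AddSubgroup.coe_sub, Rep_val' 2, Rep_val' 3]
  exact e8_dec.2.1

lemma e8_3 : e8 (oPt 3) = Rep 6 + Rep 7 := by
  apply Subtype.ext
  rw [AddSubgroup.coe_add, Rep_val' 6, Rep_val' 7]
  exact e8_dec.2.2.1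

lemma e8_4 : e8 (oPt 4) = Rep 4 + Rep 5 := by
  apply Subtype.ext
  rw [AddSubgroup.coe_add, Rep_val' 4, Rep_val' 5]
  exact e8_dec.2.2.2.1

lemma e8_5 : e8 (oPt 5) = -Rep 4 + Rep 5 := by
  apply Subtype.ext
  rw [AddSubgroup.coe_add, AddSubgroup.coe_neg, Rep_val' 4, Rep_val' 5]
  exact e8_dec.2.2.2.2.1

lemma e8_6 : e8 (oPt 6) = -Rep 6 + Rep 7 := by
  apply Subtype.ext
  rw [AddSubgroup.coe_add, AddSubgroup.coe_neg, Rep_val' 6, Rep_val' 7]
  exact e8_dec.2.2.2.2.2.1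

lemma e8_7 : e8 (oPt 7) = Spor.leechU - Rep 1 := by
  apply Subtype.ext
  rw [AddSubgroup.coe_sub, Rep_val' 1]
  exact e8_dec.2.2.2.2.2.2.1

lemma e8_0 : e8 (oPt 0) = Spor.leechU + Rep 1 := by
  apply Subtype.ext
  rw [AddSubgroup.coe_add, Rep_val' 1]
  exact e8_dec.2.2.2.2.2.2.2

/-- the images of the eight coordinate vectors of the octad. -/
lemma fixL_e8 {g : Co0} (hg : g ∈ C0) {s : ℤ}
    (hs : ∀ k, 1 ≤ k → k ≤ 63 → g • Rep k = s • Rep k) :
    (∀ r, 1 ≤ r → r ≤ 6 → g • e8 (oPt r) = s • e8 (oPt r)) ∧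
      g • e8 (oPt 7) = Spor.leechU - s • Rep 1 ∧ g • e8 (oPt 0) = Spor.leechU + s • Rep 1 := by
  have hu : g • Spor.leechU = Spor.leechU := (mem_C0.mp hg).1
  have R : ∀ k, 1 ≤ k → k ≤ 63 → g • Rep k = s • Rep k := hs
  refine ⟨?_, ?_, ?_⟩
  · intro r h1 h2
    interval_cases r
    · rw [e8_1, smul_add', R 2 (by norm_num) (by norm_num), R 3 (by norm_num) (by norm_num), smul_add]
    · rw [e8_2, smul_sub', R 2 (by norm_num) (by norm_num), R 3 (by norm_num) (by norm_num), smul_sub]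
    · rw [e8_3, smul_add', R 6 (by norm_num) (by norm_num), R 7 (by norm_num) (by norm_num), smul_add]
    · rw [e8_4, smul_add', R 4 (by norm_num) (by norm_num), R 5 (by norm_num) (by norm_num), smul_add]
    · rw [e8_5, smul_add', smul_neg', R 4 (by norm_num) (by norm_num), R 5 (by norm_num) (by norm_num),
        smul_add, smul_neg]
    · rw [e8_6, smul_add', smul_neg', R 6 (by norm_num) (by norm_num), R 7 (by norm_num) (by norm_num),
        smul_add, smul_neg]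
  · rw [e8_7, smul_sub', hu, R 1 (by norm_num) (by norm_num)]
  · rw [e8_0, smul_add', hu, R 1 (by norm_num) (by norm_num)]

/-! ### Monomial elements -/

/-- the monomial elements of the automorphism group. -/
def mC (σ : M24) (w : golayCode) : Co0 := ((Mon.monoC σ w : crossStab) : Co0)

lemma mC_smul (σ : M24) (w : golayCode) (v : leechLattice) :
    ((mC σ w • v : leechLattice) : GolayPt → ℤ) = signedPerm σ.1 (support₂ w.1) v.1 :=
  Mon.monoC_smul σ w v

lemma exists_mC {g : Co0} (h : g ∈ crossStab) : ∃ (σ : M24) (w : golayCode), g = mC σ w := by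
  obtain ⟨σ, w, e⟩ := Mon.monoC_surj ⟨g, h⟩
  exact ⟨σ, w, congrArg Subtype.val e⟩

lemma mC_inj {σ σ' : M24} {w w' : golayCode} (h : mC σ w = mC σ' w') : σ = σ' ∧ w = w' :=
  Mon.monoC_inj (Subtype.ext h)

lemma v0_eq : v0 = e8 (oPt 7) := by
  apply Subtype.ext
  show v0raw = vec8 (oPt 7)
  rw [Cfsg.Agent.S1571.vec8_eq_single]
  rfl

lemma mem_cross_of_e8 {g : Co0} {q : GolayPt} (h : g • v0 = e8 q) : g ∈ crossStab := by
  rw [Mon.mem_crossStab_iff_cong, h]
  exact ((Mon.mem_S0_iff (e8 q)).mp (Cfsg.Agent.S1571.e8_mem_stdCross q)).2.symm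

lemma mC_e8 (σ : M24) (w : golayCode) (p : GolayPt) :
    ((mC σ w • e8 p : leechLattice) : GolayPt → ℤ) =
      Pi.single (σ.1 p) (if σ.1 p ∈ support₂ w.1 then -8 else 8) := by
  rw [mC_smul]
  show signedPerm σ.1 (support₂ w.1) (vec8 p) = _
  rw [Cfsg.Agent.S1571.vec8_eq_single, Cfsg.Agent.S1571.signedPerm_single]

/-- the permutations fixing the octad pointwise. -/
def IsA (σ : M24) : Prop := ∀ p ∈ oct0, σ.1 p = p

/-- the code words vanishing on the octad. -/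
def IsW (w : golayCode) : Prop := ∀ p ∈ oct0, w.1 p = 0

/-- the candidate kernel. -/
def KK : Set Co0 := {g | ∃ (σ : M24) (w : golayCode), IsA σ ∧ IsW w ∧ g = mC σ w}

lemma e8_val (p : GolayPt) : ((e8 p : leechLattice) : GolayPt → ℤ) = Pi.single p 8 :=
  Cfsg.Agent.S1571.vec8_eq_single p

lemma fix_of_e8 {σ : M24} {w : golayCode} {p : GolayPt} (h : mC σ w • e8 p = e8 p) :
    σ.1 p = p ∧ w.1 p = 0 := by
  have h1 : ((mC σ w • e8 p : leechLattice) : GolayPt → ℤ) = _ := congrArg Subtype.val h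
  rw [mC_e8, e8_val] at h1
  have hp : σ.1 p = p := by
    apply Mon.single_inj _ h1
    split_ifs <;> norm_num
  refine ⟨hp, ?_⟩
  rw [hp] at h1
  have h2 := congrFun h1 p
  rw [Pi.single_eq_same, Pi.single_eq_same] at h2
  by_contra hne
  rw [if_pos (mem_support₂.mpr hne)] at h2
  norm_num at h2

lemma neg_of_e8 {σ : M24} {w : golayCode} {p : GolayPt} (h : mC σ w • e8 p = -e8 p) :
    σ.1 p = p := by
  have h1 : ((mC σ w • e8 p : leechLattice) : GolayPt → ℤ) = _ := congrArg Subtype.val h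
  rw [mC_e8, AddSubgroup.coe_neg, e8_val, ← Pi.single_neg] at h1
  apply Mon.single_inj _ h1
  split_ifs <;> norm_num

lemma swap_of_e8 {σ : M24} {w : golayCode} {p q : GolayPt} (h : mC σ w • e8 p = e8 q) :
    σ.1 p = q := by
  have h1 : ((mC σ w • e8 p : leechLattice) : GolayPt → ℤ) = _ := congrArg Subtype.val h
  rw [mC_e8, e8_val] at h1
  apply Mon.single_inj _ h1
  split_ifs <;> norm_num

lemma mem_oct0_cases {p : GolayPt} (hp : p ∈ oct0) : ∃ r, r ≤ 7 ∧ p = oPt r := by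
  rcases (mem_oct0_iff p).mp hp with h | h | h | h | h | h | h | h
  exacts [⟨0, by norm_num, h⟩, ⟨1, by norm_num, h⟩, ⟨2, by norm_num, h⟩, ⟨3, by norm_num, h⟩,
    ⟨4, by norm_num, h⟩, ⟨5, by norm_num, h⟩, ⟨6, by norm_num, h⟩, ⟨7, by norm_num, h⟩]

lemma oPt_mem' : ∀ r : Fin 8, oPt r.val ∈ oct0 := by decide +kernel

lemma oPt_mem {r : ℕ} (hr : r ≤ 7) : oPt r ∈ oct0 := oPt_mem' ⟨r, by omega⟩

/-- the octad stabiliser induces only even permutations of the octad. -/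
lemma no_transposition (σ : M24) (a7 : σ.1 (oPt 7) = oPt 0) (a0 : σ.1 (oPt 0) = oPt 7)
    (ar : ∀ r, 1 ≤ r → r ≤ 6 → σ.1 (oPt r) = oPt r) : False := by
  have hmap : ∀ p ∈ oct0, σ.1 p ∈ oct0 := by
    intro p hp
    obtain ⟨r, hr, rfl⟩ := mem_oct0_cases hp
    by_cases hr0 : r = 0
    · rw [hr0, a0]; exact oPt_mem (by norm_num)
    by_cases hr7 : r = 7
    · rw [hr7, a7]; exact oPt_mem (by norm_num)
    rw [ar r (by omega) (by omega)]; exact hp
  have hso : σ.1 • oct0 = oct0 := by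
    apply Finset.eq_of_subset_of_card_le
    · intro y hy
      obtain ⟨x, hx, rfl⟩ := Finset.mem_smul_finset.1 hy
      exact hmap x hx
    · rw [Finset.card_smul_finset]
  let g' : octK oct0 := ⟨σ.1, (mem_octK oct0 σ.1).2 ⟨σ.2, hso⟩⟩
  have hmem : octRes oct0 g' ∈ (octRes oct0).range := ⟨g', rfl⟩
  rw [range_octRes oct0 oct0_mem, Equiv.Perm.mem_alternatingGroup] at hmem
  let a : {x // x ∈ oct0} := ⟨oPt 7, oPt_mem (by norm_num)⟩
  let b : {x // x ∈ oct0} := ⟨oPt 0, oPt_mem (by norm_num)⟩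
  have hab : a ≠ b := by
    intro h
    have : oPt 7 = oPt 0 := congrArg Subtype.val h
    revert this; decide
  have hsw : octRes oct0 g' = Equiv.swap a b := by
    apply Equiv.ext; intro x; apply Subtype.ext; rw [octRes_apply]
    show σ.1 x.1 = _
    by_cases hxa : x = a
    · rw [hxa, Equiv.swap_apply_left]; exact a7
    by_cases hxb : x = b
    · rw [hxb, Equiv.swap_apply_right]; exact a0
    rw [Equiv.swap_apply_of_ne_of_ne hxa hxb]
    obtain ⟨r, hr, hxr⟩ := mem_oct0_cases x.2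
    have hr0 : r ≠ 0 := by rintro rfl; exact hxb (Subtype.ext hxr)
    have hr7 : r ≠ 7 := by rintro rfl; exact hxa (Subtype.ext hxr)
    rw [hxr]; exact ar r (by omega) (by omega)
  rw [hsw, Equiv.Perm.sign_swap hab] at hmem
  exact absurd hmem (by decide)

/-- an element of `C₀` fixing all labels lies in the candidate kernel. -/
theorem ker_sub {g : Co0} (hg : g ∈ C0) (hf : FixL g) : g ∈ KK := by
  obtain ⟨s, hs01, hs⟩ := fixL_sign' hg hf
  obtain ⟨h16, h7, h0⟩ := fixL_e8 hg hs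
  rcases hs01 with rfl | rfl
  · rw [one_smul] at h7 h0
    have h7' : g • e8 (oPt 7) = e8 (oPt 7) := by rw [h7, e8_7]
    have h0' : g • e8 (oPt 0) = e8 (oPt 0) := by rw [h0, e8_0]
    have hc : g ∈ crossStab := mem_cross_of_e8 (q := oPt 7) (by rw [v0_eq]; exact h7')
    obtain ⟨σ, w, rfl⟩ := exists_mC hc
    have hall : ∀ r, r ≤ 7 → mC σ w • e8 (oPt r) = e8 (oPt r) := by
      intro r hr
      by_cases hr0 : r = 0
      · rw [hr0]; exact h0'
      by_cases hr7 : r = 7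
      · rw [hr7]; exact h7'
      have := h16 r (by omega) (by omega)
      rwa [one_smul] at this
    refine ⟨σ, w, ?_, ?_, rfl⟩
    · intro p hp
      obtain ⟨r, hr, rfl⟩ := mem_oct0_cases hp
      exact (fix_of_e8 (hall r hr)).1
    · intro p hp
      obtain ⟨r, hr, rfl⟩ := mem_oct0_cases hp
      exact (fix_of_e8 (hall r hr)).2
  · exfalso
    rw [neg_smul, one_smul] at h7 h0
    have h7' : g • e8 (oPt 7) = e8 (oPt 0) := by rw [h7, e8_0, sub_neg_eq_add]
    have h0' : g • e8 (oPt 0) = e8 (oPt 7) := by rw [h0, e8_7, sub_eq_add_neg]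
    have hc : g ∈ crossStab := mem_cross_of_e8 (q := oPt 0) (by rw [v0_eq]; exact h7')
    obtain ⟨σ, w, rfl⟩ := exists_mC hc
    have a7 : σ.1 (oPt 7) = oPt 0 := swap_of_e8 h7'
    have a0 : σ.1 (oPt 0) = oPt 7 := swap_of_e8 h0'
    have ar : ∀ r, 1 ≤ r → r ≤ 6 → σ.1 (oPt r) = oPt r := by
      intro r h1 h2
      apply neg_of_e8 (w := w)
      have := h16 r h1 h2
      rwa [neg_smul, one_smul] at this
    exact no_transposition σ a7 a0 ar

/-! ### The converse -/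

lemma isA_symm {σ : M24} (hσ : IsA σ) {p : GolayPt} (hp : p ∈ oct0) : σ.1.symm p = p := by
  rw [Equiv.symm_apply_eq]; exact (hσ p hp).symm

lemma isA_symm_mem {σ : M24} (hσ : IsA σ) (p : GolayPt) : σ.1.symm p ∈ oct0 ↔ p ∈ oct0 := by
  constructor
  · intro h
    have := hσ _ h
    rw [Equiv.apply_symm_apply] at this
    rw [this]; exact h
  · intro h
    rw [isA_symm hσ h]; exact h

/-- elements of the candidate kernel fix every vector supported on the octad. -/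
lemma mC_fix {σ : M24} {w : golayCode} (hσ : IsA σ) (hw : IsW w) (v : leechLattice)
    (hv : ∀ p, p ∉ oct0 → v.1 p = 0) : mC σ w • v = v := by
  apply Subtype.ext
  rw [mC_smul]
  funext i
  unfold signedPerm
  by_cases hi : i ∈ oct0
  · rw [isA_symm hσ hi, if_neg]
    rw [mem_support₂, not_not]
    exact hw i hi
  · have h1 : σ.1.symm i ∉ oct0 := fun h => hi ((isA_symm_mem hσ i).mp h)
    rw [hv _ h1, hv _ hi]
    split_ifs <;> simp

lemma vecU_supp : ∀ p : GolayPt, p ∉ oct0 → Spor.vecU p = 0 := by decide +kernel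

lemma mC_comm_t0 {σ : M24} {w : golayCode} (hσ : IsA σ) : mC σ w * t0 = t0 * mC σ w := by
  apply co0_ext
  intro v
  rw [mul_smul, mul_smul, mC_smul, t0_smul, t0_smul, mC_smul]
  funext i
  unfold signedPerm sc
  have h1 : cT (σ.1.symm i) = 0 ↔ cT i = 0 := by
    rw [cT_eq_zero_iff, cT_eq_zero_iff]
    exact isA_symm_mem hσ i
  by_cases h2 : cT i = 0
  · rw [if_pos h2, if_pos (h1.mpr h2)]
  · rw [if_neg h2, if_neg (fun h => h2 (h1.mp h))]
    beta_reduce
    by_cases h3 : i ∈ support₂ w.1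
    · rw [if_pos h3, if_pos h3]
    · rw [if_neg h3, if_neg h3]

/-- elements of the candidate kernel lie in `C₀` and fix all labels. -/
theorem KK_sub {g : Co0} (hg : g ∈ KK) : g ∈ C0 ∧ FixL g := by
  obtain ⟨σ, w, hσ, hw, rfl⟩ := hg
  refine ⟨mem_C0.mpr ⟨mC_fix hσ hw _ vecU_supp, mC_comm_t0 hσ⟩, ?_⟩
  intro k h1 h2
  unfold sgN
  rw [mC_fix hσ hw (Rep k) (Rep_isRt h1 h2).1]
  exact lam_of_isPM h1 h2 (Or.inl rfl)

theorem mem_KK_iff {g : Co0} : g ∈ KK ↔ g ∈ C0 ∧ FixL g :=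
  ⟨KK_sub, fun h => ker_sub h.1 h.2⟩

/-- the kernel of the homomorphism to the symplectic group. -/
theorem psi_eq_one_iff (ψ : C0 →* Matrix.symplecticGroup (Fin 3) (ZMod 2))
    (hψ : ∀ (g : C0) (v : V6), ψ g • v = sfun g.1 v) (g : C0) : ψ g = 1 ↔ g.1 ∈ KK := by
  rw [mem_KK_iff]
  constructor
  · intro h
    refine ⟨g.2, ?_⟩
    intro k h1 h2
    have e1 : sfun g.1 (toV k) = toV k := by rw [← hψ, h, one_smul]
    rw [sfun_of_ne (toV_ne_zero h1 h2)] at e1
    have e2 := codeV_toV ⟨k, by omega⟩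
    simp only at e2
    rw [e2] at e1
    obtain ⟨b1, b2, -⟩ := isPM_smul g.2 h1 h2 (Or.inl rfl : IsPM (Rep k) k)
    have e3 := codeV_toV ⟨sgN g.1 k, by omega⟩
    simp only at e3
    rw [← e3, e1, e2]
  · rintro ⟨-, hf⟩
    apply ext_smul
    intro v
    rw [hψ, one_smul]
    by_cases hv : v = 0
    · rw [hv, sfun_zero]
    · rw [sfun_of_ne hv, hf _ (one_le_codeV hv) (codeV_le v), toV_codeV]

end Cfsg.Agent.Helper15.C2I
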