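import Mathlib
import Cfsg.Agent.Lib.Helper15.C2Ker
import Cfsg.Agent.Lib.Helper27.ExtraCrit
import Cfsg.Agent.Lib.Helper27.GolayPerm

set_option autoImplicit false
set_option maxRecDepth 8000

/-!
# An involution centraliser in the second Conway group: the extraspecial kernel (helper15)

The candidate kernel consists of the monomial elements `(σ, w)` with `σ` in the pointwise
stabiliser of the octad (elementary abelian of order 16) and `w` a code word disjoint from the
octad (32 of them).  It has order `2⁹`, its centre, its squares and its commutators lie in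
`{1, t₀}`: it is extraspecial.
-/

namespace Cfsg.Agent.Helper15.C2I

open Cfsg Cfsg.Agent.Helper27 MulAction
open scoped commutatorElement
open Cfsg.Agent.S0358 (idx)
open Cfsg.Agent.Helper29 (cw_mem cw_lt cw_injOn ofMask_inj)
open Cfsg.Agent.Helper29.M24 (oct0 oct0_mem grp orb tw evalW appW ok3 evalW_mem_grp idx_evalW
  idx_dec grp6_sq inf_fixing_oct0 grp_le_M24 mem_grp_iff image_mem_orb
  idx_dec_bpt level grp_seven octMask dec bpt card_grp ngen)

/-! ### Products of monomial elements -/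

/-- a permutation applied to a code word. -/
def pw (σ : M24) (w : golayCode) : golayCode :=
  ⟨permWord σ.1 w.1, permWord_mem_of_mem_M24 σ.2 w.2⟩

lemma pw_val (σ : M24) (w : golayCode) (i : GolayPt) : (pw σ w).1 i = w.1 (σ.1.symm i) := rfl

lemma zmod2_cases : ∀ a : ZMod 2, a = 0 ∨ a = 1 := by decide

lemma mC_mul (σ σ' : M24) (w w' : golayCode) :
    mC σ w * mC σ' w' = mC (σ * σ') (w + pw σ w') := by
  apply co0_ext
  intro v
  rw [mul_smul, mC_smul, mC_smul, mC_smul]
  funext i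
  unfold signedPerm
  have e : ((σ * σ' : M24) : Equiv.Perm GolayPt).symm i = σ'.1.symm (σ.1.symm i) := rfl
  have hc : ((w + pw σ w' : golayCode) : GolayPt → ZMod 2) i = w.1 i + w'.1 (σ.1.symm i) := rfl
  simp only [mem_support₂]
  rw [hc, e]
  have h11 : (1 : ZMod 2) + 1 = 0 := by decide
  have h1 : (1 : ZMod 2) ≠ 0 := by decide
  rcases zmod2_cases (w.1 i) with ha | ha <;> rcases zmod2_cases (w'.1 (σ.1.symm i)) with hb | hb <;>
    rw [ha, hb] <;> simp [h11]

lemma mC_one : mC 1 0 = 1 := by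
  apply co0_ext
  intro v
  rw [mC_smul, one_smul]
  funext i
  unfold signedPerm
  rw [if_neg]
  · rfl
  · rw [mem_support₂, not_not]; rfl

/-- the code word of the complement of the octad. -/
def cT' : golayCode := ⟨cT, cT_mem⟩

lemma t0_eq : t0 = mC 1 cT' := by
  apply co0_ext
  intro v
  rw [t0_smul, mC_smul]
  funext i
  unfold signedPerm sc
  by_cases h : cT i = 0
  · rw [if_pos h, if_neg]
    · rfl
    · rw [mem_support₂, not_not]; exact h
  · rw [if_neg h, if_pos]
    · rfl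
    · rw [mem_support₂]; exact h

/-! ### The two parameter sets -/

lemma isA_iff (σ : M24) : IsA σ ↔ σ.1 ∈ grp 6 := by
  rw [← inf_fixing_oct0, Subgroup.mem_inf, mem_fixingSubgroup_iff]
  constructor
  · intro h; exact ⟨σ.2, fun y hy => h y (Finset.mem_coe.1 hy)⟩
  · rintro ⟨-, h⟩ p hp; exact h p (Finset.mem_coe.2 hp)

lemma isA_one : IsA 1 := fun _ _ => rfl

lemma isA_mul {σ σ' : M24} (h : IsA σ) (h' : IsA σ') : IsA (σ * σ') := by
  intro p hp
  show σ.1 (σ'.1 p) = p
  rw [h' p hp, h p hp]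

lemma isA_sq {σ : M24} (h : IsA σ) : σ * σ = 1 :=
  Subtype.ext (grp6_sq σ.1 ((isA_iff σ).mp h))

lemma isA_comm {σ σ' : M24} (h : IsA σ) (h' : IsA σ') : σ * σ' = σ' * σ := by
  have e1 : σ⁻¹ = σ := inv_eq_of_mul_eq_one_left (isA_sq h)
  have e2 : σ'⁻¹ = σ' := inv_eq_of_mul_eq_one_left (isA_sq h')
  have e3 : (σ * σ')⁻¹ = σ * σ' := inv_eq_of_mul_eq_one_left (isA_sq (isA_mul h h'))
  rw [← e3, mul_inv_rev, e1, e2]

lemma isW_zero : IsW 0 := fun _ _ => rfl

lemma isW_add {w w' : golayCode} (h : IsW w) (h' : IsW w') : IsW (w + w') := by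
  intro p hp
  show w.1 p + w'.1 p = 0
  rw [h p hp, h' p hp, add_zero]

lemma isW_pw {σ : M24} {w : golayCode} (h : IsA σ) (h' : IsW w) : IsW (pw σ w) := by
  intro p hp
  rw [pw_val, isA_symm h hp]
  exact h' p hp

lemma isW_cT : IsW cT' := fun p hp => (cT_eq_zero_iff p).mpr hp

lemma zmod2_eq : ∀ a b : ZMod 2, (a = 0 ↔ b = 0) → a = b := by decide

lemma pw_cT {σ : M24} (h : IsA σ) : pw σ cT' = cT' := by
  apply Subtype.ext
  funext p
  rw [pw_val]
  apply zmod2_eq
  show cT (σ.1.symm p) = 0 ↔ cT p = 0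
  rw [cT_eq_zero_iff, cT_eq_zero_iff]
  exact isA_symm_mem h p

lemma pw_one (w : golayCode) : pw 1 w = w := rfl

lemma pw_zero (σ : M24) : pw σ 0 = 0 := rfl

lemma pw_add (σ : M24) (w w' : golayCode) : pw σ (w + w') = pw σ w + pw σ w' := rfl

lemma add_self_gc (w : golayCode) : w + w = 0 := by
  apply Subtype.ext
  funext p
  show w.1 p + w.1 p = 0
  rcases zmod2_cases (w.1 p) with h | h <;> rw [h] <;> decide

/-! ### Enumeration -/

/-- the indices of the 32 code words disjoint from the octad. -/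
def Wl : List ℕ := [0, 35, 159, 188, 344, 379, 455, 484, 586, 617, 725, 758, 786, 817, 909, 942,
  1051, 1080, 1156, 1191, 1347, 1376, 1500, 1535, 1617, 1650, 1742, 1773, 1801, 1834, 1942, 1973]

/-- the table of the permutation with the given image of the base point. -/
def itab (p : ℕ) : List ℕ := (List.range 24).map (fun k => appW (tw 6 p) k)

set_option maxRecDepth 100000 in
lemma itab_spec : ∀ p ∈ orb 6, ∀ k : Fin 24, (itab p).getD k.val 0 = appW (tw 6 p) k.val := by
  decide +kernel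

set_option maxRecDepth 100000 in
lemma Wl_complete : ∀ n : Fin 4096,
    (∀ k : Fin 24, octMask.testBit k.val = true → (cw n.val).testBit k.val = false) →
      n.val ∈ Wl := by
  decide +kernel

set_option maxRecDepth 100000 in
lemma Wl_sound : ∀ n ∈ Wl, n < 4096 ∧
    ∀ k : Fin 24, octMask.testBit k.val = true → (cw n).testBit k.val = false := by
  decide +kernel

lemma A_cases {σ : M24} (hA : IsA σ) : ∃ p ∈ orb 6, σ.1 = evalW (tw 6 p) := by
  have hσ : σ.1 ∈ grp 6 := (isA_iff σ).mp hA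
  have hM : σ.1 ∈ M24 := σ.2
  have hfix := ((mem_grp_iff 6 (by norm_num) σ.1).1 hσ).2
  have hp : idx (σ.1 (dec (bpt 6))) ∈ orb 6 := image_mem_orb σ.1 hM 6 (by norm_num) hfix
  set p := idx (σ.1 (dec (bpt 6))) with hpdef
  have h3 := ok3 6 (by norm_num) p hp
  have ht : evalW (tw 6 p) ∈ grp 6 := evalW_mem_grp 6 _ h3.1
  have htb : evalW (tw 6 p) (dec (bpt 6)) = σ.1 (dec (bpt 6)) := by
    apply idx_injective
    rw [idx_evalW _ (fun l hl => (h3.1 l hl).1), idx_dec_bpt 6 (by norm_num)]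
    exact h3.2
  have hmem : (evalW (tw 6 p))⁻¹ * σ.1 ∈ grp 7 := by
    apply (level 6 (by norm_num)).1 _ (Subgroup.mul_mem _ (Subgroup.inv_mem _ ht) hσ)
    rw [Equiv.Perm.mul_apply, ← htb, Equiv.Perm.inv_def, Equiv.symm_apply_apply]
  rw [grp_seven, Subgroup.mem_bot] at hmem
  refine ⟨p, hp, ?_⟩
  have := congrArg (fun z => evalW (tw 6 p) * z) hmem
  simpa [mul_assoc] using this

lemma tw_mem {p : ℕ} (hp : p ∈ orb 6) : evalW (tw 6 p) ∈ grp 6 :=
  evalW_mem_grp 6 _ (ok3 6 (by norm_num) p hp).1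

/-- the element of the pointwise stabiliser with the given image of the base point. -/
def sA (p : ℕ) (hp : p ∈ orb 6) : M24 := ⟨evalW (tw 6 p), grp_le_M24 6 (tw_mem hp)⟩

lemma sA_isA (p : ℕ) (hp : p ∈ orb 6) : IsA (sA p hp) := (isA_iff _).mpr (tw_mem hp)

lemma permWord_tw {p : ℕ} (hp : p ∈ orb 6) (m : ℕ) :
    permWord (evalW (tw 6 p)) (ofMask m) = ofMask (permMask (itab p) m) := by
  apply permWord_ofMask
  intro x
  have h3 := ok3 6 (by norm_num) p hp
  have hsq : evalW (tw 6 p) * evalW (tw 6 p) = 1 := grp6_sq _ (tw_mem hp)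
  have hsymm : (evalW (tw 6 p)).symm x = evalW (tw 6 p) x := by
    rw [Equiv.symm_apply_eq]
    have := congrArg (fun f : Equiv.Perm GolayPt => f x) hsq
    exact this.symm
  rw [hsymm, idx_evalW _ (fun l hl => (h3.1 l hl).1)]
  exact (itab_spec p hp ⟨idx x, idx_lt x⟩).symm

lemma W_cases {w : golayCode} (hw : IsW w) : ∃ n ∈ Wl, w.1 = ofMask (cw n) := by
  obtain ⟨n, hn, e⟩ := exists_cw_of_mem w.2
  refine ⟨n, ?_, e⟩
  apply Wl_complete ⟨n, hn⟩
  intro k hk
  have hp : dec k.val ∈ oct0 := by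
    unfold oct0
    rw [mem_maskSet, idx_dec k]; exact hk
  have := hw _ hp
  rw [e] at this
  unfold ofMask at this
  rw [idx_dec k] at this
  by_contra hne
  rw [if_pos (by simpa using hne)] at this
  exact one_ne_zero this

/-- the code word with the given index. -/
def wN (n : ℕ) : golayCode := ⟨ofMask (cw n), cw_mem n⟩

lemma wN_isW {n : ℕ} (hn : n ∈ Wl) : IsW (wN n) := by
  intro p hp
  unfold oct0 at hp
  rw [mem_maskSet] at hp
  have := (Wl_sound n hn).2 ⟨idx p, idx_lt p⟩ hp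
  show ofMask (cw n) p = 0
  unfold ofMask
  rw [if_neg]
  simpa using this

set_option maxRecDepth 100000 in
lemma D1 : ∀ p ∈ orb 6, ∀ n ∈ Wl,
    permMask (itab p) (cw n) ^^^ cw n = 0 ∨ permMask (itab p) (cw n) ^^^ cw n = cw 455 := by
  decide +kernel

set_option maxRecDepth 100000 in
lemma D2 : ∀ p ∈ orb 6, p ≠ 4 → ∃ n ∈ Wl, permMask (itab p) (cw n) ^^^ cw n = cw 455 := by
  decide +kernel

set_option maxRecDepth 100000 in
lemma D3 : ∀ n ∈ Wl, n ≠ 0 → n ≠ 455 →
    ∃ p ∈ orb 6, permMask (itab p) (cw n) ^^^ cw n = cw 455 := by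
  decide +kernel

lemma tw4 : tw 6 4 = [] := by decide +kernel

lemma cT_ne : ofMask (cw 455) ≠ (0 : GolayPt → ZMod 2) := by
  intro h
  have := congrFun h (some 4)
  revert this
  decide +kernel

lemma xor_word {σ : M24} {w : golayCode} {p n : ℕ} (hp : p ∈ orb 6) (eσ : σ.1 = evalW (tw 6 p))
    (ew : w.1 = ofMask (cw n)) :
    (pw σ w + w : golayCode).1 = ofMask (permMask (itab p) (cw n) ^^^ cw n) := by
  show permWord σ.1 w.1 + w.1 = _
  rw [eσ, ew, permWord_tw hp, ofMask_xor]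

/-- a permutation moves a code word of the list to itself or to its complement in `Oᶜ`. -/
lemma F1 {σ : M24} {w : golayCode} (hσ : IsA σ) (hw : IsW w) :
    pw σ w + w = 0 ∨ pw σ w + w = cT' := by
  obtain ⟨p, hp, eσ⟩ := A_cases hσ
  obtain ⟨n, hn, ew⟩ := W_cases hw
  have e := xor_word hp eσ ew
  rcases D1 p hp n hn with h | h
  · left; apply Subtype.ext; rw [e, h, ofMask_zero]; rfl
  · right; apply Subtype.ext; rw [e, h]; rfl

lemma F2 {σ : M24} (hσ : IsA σ) (h : ∀ w, IsW w → pw σ w = w) : σ = 1 := by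
  obtain ⟨p, hp, eσ⟩ := A_cases hσ
  by_cases h4 : p = 4
  · apply Subtype.ext; rw [eσ, h4, tw4]; rfl
  · exfalso
    obtain ⟨n, hn, hx⟩ := D2 p hp h4
    have h1 := h (wN n) (wN_isW hn)
    have e := xor_word (w := wN n) hp eσ rfl
    rw [h1, add_self_gc, hx] at e
    exact cT_ne e.symm

lemma F3 {w : golayCode} (hw : IsW w) (h : ∀ σ, IsA σ → pw σ w = w) : w = 0 ∨ w = cT' := by
  obtain ⟨n, hn, ew⟩ := W_cases hw
  by_cases h0 : n = 0
  · left; apply Subtype.ext; rw [ew, h0, cw_zero, ofMask_zero]; rfl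
  by_cases h455 : n = 455
  · right; apply Subtype.ext; rw [ew, h455]; rfl
  exfalso
  obtain ⟨p, hp, hx⟩ := D3 n hn h0 h455
  have h1 := h (sA p hp) (sA_isA p hp)
  have e := xor_word (σ := sA p hp) hp rfl ew
  rw [h1, add_self_gc, hx] at e
  exact cT_ne e.symm

/-! ### The group structure -/

lemma t0_mem_KK : t0 ∈ KK := ⟨1, cT', isA_one, isW_cT, t0_eq⟩

lemma cT'_ne : cT' ≠ 0 := fun h => cT_ne (congrArg Subtype.val h)

lemma t0_ne_one : t0 ≠ 1 := by
  rw [t0_eq, ← mC_one]
  intro h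
  exact cT'_ne (mC_inj h).2

lemma KK_t0_comm {x : Co0} (hx : x ∈ KK) : x * t0 = t0 * x := (mem_C0.mp (KK_sub hx).1).2

lemma KK_sq {x : Co0} (hx : x ∈ KK) : x ^ 2 = 1 ∨ x ^ 2 = t0 := by
  obtain ⟨σ, w, hσ, hw, rfl⟩ := hx
  rw [pow_two, mC_mul, isA_sq hσ, add_comm]
  rcases F1 hσ hw with h | h
  · left; rw [h, mC_one]
  · right; rw [h, t0_eq]

lemma KK_comm {x y : Co0} (hx : x ∈ KK) (hy : y ∈ KK) : ⁅x, y⁆ = 1 ∨ ⁅x, y⁆ = t0 := by
  obtain ⟨σ, w, hσ, hw, rfl⟩ := hx
  obtain ⟨σ', w', hσ', hw', rfl⟩ := hy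
  set a := pw σ w' with ha
  set b := pw σ' w with hb
  have key : mC σ w * mC σ' w' = mC 1 ((a + w') + (b + w)) * (mC σ' w' * mC σ w) := by
    rw [mC_mul, mC_mul, mC_mul, one_mul, pw_one, isA_comm hσ hσ', ← ha, ← hb]
    congr 1
    have h1 : w' + w' = 0 := add_self_gc w'
    have h2 : b + b = 0 := add_self_gc b
    have : a + w' + (b + w) + (w' + b) = (w + a) + ((w' + w') + (b + b)) := by abel
    rw [this, h1, h2, add_zero, add_zero]
  have hc : ⁅mC σ w, mC σ' w'⁆ = mC 1 ((a + w') + (b + w)) := by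
    rw [commutatorElement_def, key]; group
  rw [hc]
  rcases F1 hσ hw' with h1 | h1 <;> rcases F1 hσ' hw with h2 | h2 <;> rw [h1, h2]
  · left; rw [add_zero, mC_one]
  · right; rw [zero_add, t0_eq]
  · right; rw [add_zero, t0_eq]
  · left; rw [add_self_gc, mC_one]

lemma KK_cen {x : Co0} (hx : x ∈ KK) (h : ∀ y ∈ KK, x * y = y * x) : x = 1 ∨ x = t0 := by
  obtain ⟨σ, w, hσ, hw, rfl⟩ := hx
  have hσ1 : σ = 1 := by
    apply F2 hσ
    intro w' hw'
    have := h (mC 1 w') ⟨1, w', isA_one, hw', rfl⟩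
    rw [mC_mul, mC_mul, pw_one, mul_one, one_mul] at this
    have e := (mC_inj this).2
    rw [add_comm w' w] at e
    exact add_left_cancel e
  subst hσ1
  have hw1 : w = 0 ∨ w = cT' := by
    apply F3 hw
    intro σ' hσ'
    have := h (mC σ' 0) ⟨σ', 0, hσ', isW_zero, rfl⟩
    rw [mC_mul, mC_mul, pw_one, mul_one, one_mul, add_zero, zero_add] at this
    exact (mC_inj this).2.symm
  rcases hw1 with rfl | rfl
  · left; exact mC_one
  · right; exact t0_eq.symm

lemma mem6 : 6 ∈ orb 6 := by decide +kernel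

lemma KK_nonab : ∃ x ∈ KK, ∃ y ∈ KK, x * y ≠ y * x := by
  obtain ⟨n, hn, hx⟩ := D2 6 mem6 (by norm_num)
  refine ⟨mC (sA 6 mem6) 0, ⟨_, _, sA_isA 6 mem6, isW_zero, rfl⟩, mC 1 (wN n),
    ⟨_, _, isA_one, wN_isW hn, rfl⟩, ?_⟩
  intro h
  rw [mC_mul, mC_mul, pw_one, mul_one, one_mul, add_zero, zero_add] at h
  have h1 := (mC_inj h).2
  have e := xor_word (σ := sA 6 mem6) (w := wN n) mem6 rfl rfl
  rw [h1, add_self_gc, hx] at e
  exact cT_ne e.symm

/-! ### The order -/

lemma card_A : Nat.card {σ : M24 // IsA σ} = 16 := by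
  have e : {σ : M24 // IsA σ} ≃ ↥(grp 6) :=
    { toFun := fun σ => ⟨σ.1.1, (isA_iff σ.1).mp σ.2⟩
      invFun := fun τ => ⟨⟨τ.1, grp_le_M24 6 τ.2⟩, (isA_iff _).mpr τ.2⟩
      left_inv := fun _ => rfl
      right_inv := fun _ => rfl }
  rw [Nat.card_congr e, card_grp 6 (by norm_num)]
  rfl

lemma Wl_card : Wl.toFinset.card = 32 := by decide +kernel

lemma card_W : Nat.card {w : golayCode // IsW w} = 32 := by
  let f : {n // n ∈ Wl.toFinset} → {w : golayCode // IsW w} :=
    fun n => ⟨wN n.1, wN_isW (List.mem_toFinset.mp n.2)⟩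
  have hf : Function.Bijective f := by
    constructor
    · intro n m h
      have h1 : ofMask (cw n.1) = ofMask (cw m.1) :=
        congrArg (fun w : {w : golayCode // IsW w} => (w.1.1 : GolayPt → ZMod 2)) h
      have h2 := ofMask_inj (cw_lt _) (cw_lt _) h1
      apply Subtype.ext
      exact cw_injOn (Wl_sound _ (List.mem_toFinset.mp n.2)).1
        (Wl_sound _ (List.mem_toFinset.mp m.2)).1 h2
    · intro w
      obtain ⟨n, hn, e⟩ := W_cases w.2
      refine ⟨⟨n, List.mem_toFinset.mpr hn⟩, ?_⟩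
      apply Subtype.ext
      apply Subtype.ext
      exact e.symm
  rw [← Nat.card_congr (Equiv.ofBijective f hf), Nat.card_eq_fintype_card, Fintype.card_coe,
    Wl_card]

lemma KK_card : Nat.card ↥KK = 512 := by
  let f : {σ : M24 // IsA σ} × {w : golayCode // IsW w} → ↥KK :=
    fun p => ⟨mC p.1.1 p.2.1, ⟨p.1.1, p.2.1, p.1.2, p.2.2, rfl⟩⟩
  have hf : Function.Bijective f := by
    constructor
    · intro p q h
      have h1 : mC p.1.1 p.2.1 = mC q.1.1 q.2.1 := congrArg (fun x : ↥KK => (x : Co0)) h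
      obtain ⟨e1, e2⟩ := mC_inj h1
      exact Prod.ext (Subtype.ext e1) (Subtype.ext e2)
    · rintro ⟨g, σ, w, hσ, hw, rfl⟩
      exact ⟨(⟨σ, hσ⟩, ⟨w, hw⟩), rfl⟩
  rw [← Nat.card_congr (Equiv.ofBijective f hf), Nat.card_prod, card_A, card_W]

/-- a group embedded in the automorphism group of the lattice with image the candidate kernel is
extraspecial of order `2⁹`. -/
theorem extraspecial_of_embedding {P : Type*} [Group P] (ι : P →* Co0)
    (hι : Function.Injective ι) (hr : Set.range ι = KK) :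
    IsExtraspecial 2 P ∧ Nat.card P = 2 ^ 9 := by
  have hcard : Nat.card P = 2 ^ 9 := by
    rw [Nat.card_congr (Equiv.ofInjective ι hι), hr, KK_card]; norm_num
  have : Finite P := Nat.finite_of_card_ne_zero (by rw [hcard]; norm_num)
  refine ⟨?_, hcard⟩
  have hmem : ∀ a : P, ι a ∈ KK := fun a => hr ▸ Set.mem_range_self a
  have hsur : ∀ y ∈ KK, ∃ b : P, ι b = y := fun y hy => by
    have : y ∈ Set.range ι := hr ▸ hy
    exact this
  obtain ⟨z, hz⟩ := hsur t0 t0_mem_KK
  have hcen : ∀ c : P, (∀ a : P, a * c = c * a) → c = 1 ∨ c = z := by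
    intro c hc
    have : ι c = 1 ∨ ι c = t0 := by
      apply KK_cen (hmem c)
      intro y hy
      obtain ⟨b, rfl⟩ := hsur y hy
      rw [← map_mul, ← map_mul, hc b]
    rcases this with h | h
    · left; apply hι; rw [h, map_one]
    · right; apply hι; rw [h, hz]
  apply isExtraspecial_two_of_data (IsPGroup.of_card hcard) z
  · intro h
    rw [h, map_one] at hz
    exact t0_ne_one hz.symm
  · intro a
    apply hι
    rw [map_mul, map_mul, hz]
    exact KK_t0_comm (hmem a)
  · exact hcen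
  · intro a b
    rcases KK_comm (hmem a) (hmem b) with h | h
    · left; apply hι; rw [map_commutatorElement, h, map_one]
    · right; apply hι; rw [map_commutatorElement, h, hz]
  · intro a
    rcases KK_sq (hmem a) with h | h
    · left; apply hι; rw [map_pow, h, map_one]
    · right; apply hι; rw [map_pow, h, hz]
  · obtain ⟨x, hx, y, hy, hxy⟩ := KK_nonab
    obtain ⟨a, rfl⟩ := hsur x hx
    obtain ⟨b, rfl⟩ := hsur y hy
    refine ⟨a, b, ?_⟩
    intro h
    apply hxy
    rw [commutatorElement_eq_one_iff_mul_comm] at h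
    rw [← map_mul, ← map_mul, h]

end Cfsg.Agent.Helper15.C2I
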