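import Mathlib
import Cfsg.Agent.Lib.Helper26.CG3Defs

/-!
# S3412 piece E3 (helper15): `cdet n = 1 ↔ det (decM n) = 1`.
-/

set_option autoImplicit false

namespace Cfsg.Agent.Helper26.CG3

/-- the coded determinant is the determinant -/
theorem e3_cast (n : ℕ) : ((cdet n : ℕ) : ZMod 3) = (decM n).det := by
  rw [Matrix.det_fin_three]
  unfold cdet
  rw [ZMod.natCast_mod]
  have h2 : (2 : ZMod 3) = -1 := by decide
  simp only [decM, Matrix.of_apply, Fin.val_zero, Fin.val_one, Fin.val_two, Fin.isValue, mul_zero, mul_one,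
    zero_add, add_zero]
  push_cast
  rw [h2]
  norm_num
  ring

theorem e3_lt (n : ℕ) : cdet n < 3 := by
  unfold cdet
  exact Nat.mod_lt _ (by norm_num)

/-- E3 -/
theorem cdet_iff (n : ℕ) : cdet n = 1 ↔ (decM n).det = 1 := by
  rw [← e3_cast]
  constructor
  · intro h
    rw [h]
    rfl
  · intro h
    have h1 : ((cdet n : ℕ) : ZMod 3) = ((1 : ℕ) : ZMod 3) := by rw [h]; rfl
    have h2 := (ZMod.natCast_eq_natCast_iff' (cdet n) 1 3).mp h1
    have h3 := e3_lt n
    omega

end Cfsg.Agent.Helper26.CG3
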