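import Mathlib
import Cfsg.Agent.Lib.Helper14.Ambient
import Cfsg.Agent.Lib.Helper7.PLocal4
import Cfsg.Agent.S2923
import Cfsg.Agent.Lib.Helper15.PCore
import Cfsg.Agent.Lib.Helper15.ChermakDelgado

set_option autoImplicit false

namespace Cfsg.Agent.Helper15

open Cfsg

variable {X : Type*} [Group X]

/-- characteristic `p` of a subgroup, read in the ambient group: `C_L(O_p(L)) ≤ O_p(L)` -/
def CharPIn (p : ℕ) (L : Subgroup X) : Prop :=
  L ⊓ Subgroup.centralizer (pCoreOf p L : Set X) ≤ pCoreOf p L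

theorem charPIn_iff {p : ℕ} {L : Subgroup X} :
    CharPIn p L ↔ Subgroup.centralizer (pCore p ↥L : Set ↥L) ≤ pCore p ↥L :=
  Cfsg.Agent.Helper14.charP_iff_ambient.symm

/-- subnormal subgroups inherit characteristic `p` -/
theorem CharPIn.of_isSubnormal [Finite X] {p : ℕ} [Fact p.Prime] {H K : Subgroup X}
    (hH : CharPIn p H) (hKH : K ≤ H) (hsn : (K.subgroupOf H).IsSubnormal) : CharPIn p K := by
  rw [charPIn_iff] at hH ⊢
  have h1 := Cfsg.Agent.S2923.result hH (K.subgroupOf H) hsn
  exact centralizer_pCore_le_of_equiv (Subgroup.subgroupOfEquivOfLe hKH) h1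

/-- subgroups normalized by `H` inherit characteristic `p` -/
theorem CharPIn.of_le_normalizer [Finite X] {p : ℕ} [Fact p.Prime] {H K : Subgroup X}
    (hH : CharPIn p H) (hKH : K ≤ H) (hn : H ≤ Subgroup.normalizer (K : Set X)) : CharPIn p K :=
  hH.of_isSubnormal hKH
    (((Subgroup.normal_subgroupOf_iff_le_normalizer hKH).mpr hn).isSubnormal)

/-- `p`-local subgroups inherit characteristic `p` -/
theorem CharPIn.inf_normalizer [Finite X] {p : ℕ} [Fact p.Prime] {L P : Subgroup X}
    (hL : CharPIn p L) (hPL : P ≤ L) (hP : IsPGroup p ↥P) :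
    CharPIn p (L ⊓ Subgroup.normalizer (P : Set X)) := by
  rw [charPIn_iff] at hL ⊢
  have h1 := Cfsg.Agent.Helper7.centralizer_pCore_normalizer_le p hL (P.subgroupOf L)
    hP.comap_subtype
  have e1 : Subgroup.normalizer ((P.subgroupOf L : Subgroup ↥L) : Set ↥L)
      = (L ⊓ Subgroup.normalizer (P : Set X)).subgroupOf L := by
    rw [← Subgroup.subgroupOf_normalizer_eq hPL, Subgroup.inf_subgroupOf_left]
  have e2 : ↥(Subgroup.normalizer ((P.subgroupOf L : Subgroup ↥L) : Set ↥L)) ≃*
      ↥(L ⊓ Subgroup.normalizer (P : Set X)) :=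
    (MulEquiv.subgroupCongr e1).trans (Subgroup.subgroupOfEquivOfLe inf_le_left)
  exact centralizer_pCore_le_of_equiv e2 h1

theorem le_normalizer_inf_centralizer {L Q : Subgroup X}
    (hQ : L ≤ Subgroup.normalizer (Q : Set X)) :
    L ≤ Subgroup.normalizer ((L ⊓ Subgroup.centralizer (Q : Set X) : Subgroup X) : Set X) := by
  have key : ∀ l ∈ L, (L ⊓ Subgroup.centralizer (Q : Set X)).map (MulAut.conj l).toMonoidHom
      ≤ L ⊓ Subgroup.centralizer (Q : Set X) := by
    intro l hl
    rw [Subgroup.map_inf _ _ _ (MulAut.conj l).injective, ← centralizer_map_conj,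
      map_conj_eq_self_of_mem hl, map_conj_eq_of_mem_normalizer (hQ hl)]
  intro l hl
  exact mem_normalizer_of_map_conj_le (key l hl) (key l⁻¹ (L.inv_mem hl))

theorem le_normalizer_pCoreOf_of_le_normalizer {p : ℕ} {L K : Subgroup X}
    (hn : L ≤ Subgroup.normalizer (K : Set X)) :
    L ≤ Subgroup.normalizer (pCoreOf p K : Set X) := by
  intro l hl
  apply mem_normalizer_of_map_conj_eq
  have h1 := Cfsg.Agent.Helper14.pCoreOf_map_equiv p (MulAut.conj l) K
  have h2 : K.map (MulAut.conj l).toMonoidHom = K := map_conj_eq_of_mem_normalizer (hn hl)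
  rw [h2] at h1
  exact h1.symm

/-- if `C_L(O_p(L))` lies in a subgroup `M ≤ L` of characteristic `p`, then `L` has
characteristic `p` -/
theorem CharPIn.of_centralizer_le [Finite X] {p : ℕ} [Fact p.Prime] {L M : Subgroup X}
    (hM : CharPIn p M) (hML : M ≤ L)
    (h : L ⊓ Subgroup.centralizer (pCoreOf p L : Set X) ≤ M) : CharPIn p L := by
  set K := L ⊓ Subgroup.centralizer (pCoreOf p L : Set X) with hK
  have hKL : K ≤ L := inf_le_left
  have hLK : L ≤ Subgroup.normalizer (K : Set X) :=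
    le_normalizer_inf_centralizer (Cfsg.Agent.Helper14.le_normalizer_pCoreOf p L)
  have hKcp : CharPIn p K := hM.of_le_normalizer h (hML.trans hLK)
  have hle : pCoreOf p K ≤ pCoreOf p L :=
    Cfsg.Agent.Helper14.le_pCoreOf ((Cfsg.Agent.Helper14.pCoreOf_le p K).trans hKL)
      (le_normalizer_pCoreOf_of_le_normalizer hLK) (Cfsg.Agent.Helper14.pCoreOf_isPGroup p K)
  intro x hx
  apply hle
  apply hKcp
  rw [Subgroup.mem_inf]
  refine ⟨hx, ?_⟩
  have hxc : x ∈ Subgroup.centralizer (pCoreOf p L : Set X) := (Subgroup.mem_inf.mp hx).2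
  exact Subgroup.centralizer_le (SetLike.coe_subset_coe.2 hle) hxc

end Cfsg.Agent.Helper15
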