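import Mathlib
import Cfsg.Agent.Lib.Helper15.StronglyEmbedded

set_option autoImplicit false

namespace Cfsg.Agent.Helper15

variable {G : Type*} [Group G]

/-- classical strong `p`-embedding: a nontrivial `p`-subgroup of `H ∩ H^g` forces `g ∈ H` -/
theorem mem_of_classicalSE [Finite G] {p : ℕ} [Fact p.Prime] {H : Subgroup G}
    (hse : ∀ g : G, g ∉ H → ¬ p ∣ Nat.card ↥(H ⊓ H.map (MulAut.conj g).toMonoidHom))
    {Q : Subgroup G} (hQp : IsPGroup p ↥Q) (hQ1 : Q ≠ ⊥) {g : G} (hQH : Q ≤ H)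
    (hQH' : Q ≤ H.map (MulAut.conj g).toMonoidHom) : g ∈ H := by
  by_contra hg
  apply hse g hg
  have : Nontrivial ↥Q := (Subgroup.nontrivial_iff_ne_bot Q).2 hQ1
  obtain ⟨n, hn0, hn⟩ := hQp.nontrivial_iff_card.1 this
  have hdvd : p ∣ Nat.card ↥Q := by rw [hn]; exact dvd_pow_self _ hn0.ne'
  exact hdvd.trans (Subgroup.card_dvd_of_le (le_inf hQH hQH'))

theorem normalizer_le_of_classicalSE [Finite G] {p : ℕ} [Fact p.Prime] {H : Subgroup G}
    (hse : ∀ g : G, g ∉ H → ¬ p ∣ Nat.card ↥(H ⊓ H.map (MulAut.conj g).toMonoidHom))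
    {Q : Subgroup G} (hQp : IsPGroup p ↥Q) (hQ1 : Q ≠ ⊥) (hQH : Q ≤ H) :
    Subgroup.normalizer (Q : Set G) ≤ H := by
  intro n hn
  apply mem_of_classicalSE hse hQp hQ1 hQH
  intro q hq
  rw [mem_map_conj_iff]
  have hn' : n⁻¹ ∈ Subgroup.normalizer (Q : Set G) := Subgroup.inv_mem _ hn
  have := (Subgroup.mem_normalizer_iff.1 hn' q).1 hq
  rw [inv_inv] at this
  exact hQH this

/-- a Sylow `p`-subgroup of a classically strongly `p`-embedded subgroup is a Sylow subgroup of `G` -/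
theorem isSylowIn_top_of_classicalSE [Finite G] {p : ℕ} [Fact p.Prime] {H : Subgroup G}
    (hpH : p ∣ Nat.card H)
    (hse : ∀ g : G, g ∉ H → ¬ p ∣ Nat.card ↥(H ⊓ H.map (MulAut.conj g).toMonoidHom))
    {T : Subgroup G} (hT : IsSylowIn p T H) : IsSylowIn p T ⊤ := by
  have hT1 : T ≠ ⊥ := by
    intro hb
    have := hT.card_eq
    rw [hb, Subgroup.card_bot] at this
    have hpos : 0 < (Nat.card ↥H).factorization p := by
      apply Nat.Prime.factorization_pos_of_dvd Fact.out Nat.card_pos.ne' hpH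
    have : 1 < p ^ (Nat.card ↥H).factorization p :=
      Nat.one_lt_pow hpos.ne' (Fact.out : p.Prime).one_lt
    omega
  obtain ⟨P', hTP'⟩ := hT.isPGroup.exists_le_sylow
  have key : (P' : Subgroup G) ⊓ Subgroup.normalizer (T : Set G) = T := by
    apply le_antisymm _ (le_inf hTP' Subgroup.le_normalizer)
    have hp1 : IsPGroup p ↥((P' : Subgroup G) ⊓ Subgroup.normalizer (T : Set G) : Subgroup G) :=
      P'.isPGroup'.to_le inf_le_left
    exact (hT.eq_of_le hp1 (le_inf hTP' Subgroup.le_normalizer)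
      (inf_le_right.trans (normalizer_le_of_classicalSE hse hT.isPGroup hT1 hT.le))).le
  have hP'T : (P' : Subgroup G) = T := eq_of_inf_normalizer_eq P'.isPGroup' hTP' key
  rw [← hP'T]
  exact isSylowIn_top P'

end Cfsg.Agent.Helper15
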