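import Mathlib

/-!
# Odd-order automorphisms of `2`-groups, part 1 (helper15)

* `eq_one_of_fixes_index_two`: an automorphism of odd order of a finite `2`-group fixing pointwise
  a subgroup of index `2` is trivial;
* `eq_one_of_isCyclic`: an automorphism of odd order of a cyclic `2`-group is trivial;
* `eq_one_of_cyclic_index_two`: an automorphism of odd order preserving a cyclic subgroup of
  index `2` is trivial.
-/

set_option autoImplicit false

namespace Cfsg.Agent.Helper15.UIAut

variable {X : Type*} [Group X]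

theorem pow_apply_of_fixed (ψ : MulAut X) {y c : X} (hy : ψ y = y * c) (hc : ψ c = c) (t : ℕ) :
    (ψ ^ t) y = y * c ^ t := by
  induction t with
  | zero => simp
  | succ t ih =>
    rw [pow_succ', MulAut.mul_apply, ih, map_mul, map_pow, hy, hc, pow_succ', mul_assoc]

theorem eq_one_of_pow_eq_one_of_isPGroup_two [Finite X] (hX : IsPGroup 2 X) {c : X} {k : ℕ}
    (hk : Odd k) (hc : c ^ k = 1) : c = 1 := by
  obtain ⟨m, hm⟩ := hX c
  have h1 : c ^ Nat.gcd k (2 ^ m) = 1 := pow_gcd_eq_one.mpr ⟨hc, hm⟩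
  have h2 : Nat.gcd k (2 ^ m) = 1 := by
    apply Nat.Coprime.pow_right
    exact (Nat.coprime_two_right.mpr hk)
  rwa [h2, pow_one] at h1

/-- An automorphism of odd order of a finite `2`-group fixing pointwise a subgroup of index `2`
is trivial. -/
theorem eq_one_of_fixes_index_two [Finite X] (hX : IsPGroup 2 X) (ψ : MulAut X) {k : ℕ}
    (hk : Odd k) (hψ : ψ ^ k = 1) (A : Subgroup X) (hA : A.index = 2)
    (hfix : ∀ x ∈ A, ψ x = x) : ψ = 1 := by
  ext y
  rw [MulAut.one_apply]
  by_cases hyA : y ∈ A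
  · exact hfix y hyA
  have h1 : ψ y ∉ A := by
    intro h
    have h2 := hfix _ h
    exact hyA ((ψ.injective h2) ▸ h)
  have hc : y⁻¹ * ψ y ∈ A := by
    rw [Subgroup.mul_mem_iff_of_index_two hA, inv_mem_iff]
    exact ⟨fun h => absurd h hyA, fun h => absurd h h1⟩
  have hy : ψ y = y * (y⁻¹ * ψ y) := by group
  have h3 := pow_apply_of_fixed ψ hy (hfix _ hc) k
  rw [hψ, MulAut.one_apply] at h3
  have h4 : (y⁻¹ * ψ y) ^ k = 1 := by
    have : y * 1 = y * (y⁻¹ * ψ y) ^ k := by rw [mul_one]; exact h3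
    exact (mul_left_cancel this).symm
  have h5 := eq_one_of_pow_eq_one_of_isPGroup_two hX hk h4
  have : ψ y = y * 1 := by rw [← h5]; exact hy
  rwa [mul_one] at this

/-- An automorphism of odd order of a cyclic `2`-group is trivial. -/
theorem eq_one_of_isCyclic [Finite X] (hX : IsPGroup 2 X) [IsCyclic X] (ψ : MulAut X) {k : ℕ}
    (hk : Odd k) (hψ : ψ ^ k = 1) : ψ = 1 := by
  have h1 : orderOf ψ ∣ k := orderOf_dvd_of_pow_eq_one hψ
  have h2 : orderOf ψ ∣ Nat.card (MulAut X) := orderOf_dvd_natCard ψ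
  rw [IsCyclic.card_mulAut] at h2
  obtain ⟨m, hm⟩ := IsPGroup.iff_card.mp hX
  have h3 : orderOf ψ ∣ 2 ^ m := by
    rw [hm] at h2
    rcases Nat.eq_zero_or_pos m with h0 | h0
    · rw [h0, pow_zero, Nat.totient_one] at h2
      rw [h0, pow_zero]; exact h2
    · rw [Nat.totient_prime_pow Nat.prime_two h0] at h2
      simp only [Nat.add_one_sub_one, mul_one] at h2
      exact h2.trans (pow_dvd_pow 2 (Nat.sub_le m 1))
  have h4 : orderOf ψ ∣ Nat.gcd k (2 ^ m) := Nat.dvd_gcd h1 h3
  have h5 : Nat.gcd k (2 ^ m) = 1 := by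
    apply Nat.Coprime.pow_right
    exact (Nat.coprime_two_right.mpr hk)
  rw [h5, Nat.dvd_one] at h4
  exact orderOf_eq_one_iff.mp h4

/-- the restriction of an automorphism to an invariant subgroup of a finite group -/
noncomputable def res [Finite X] (ψ : MulAut X) (A : Subgroup X) (hA : ∀ x ∈ A, ψ x ∈ A) :
    MulAut A :=
  MulEquiv.ofBijective
    ((ψ.toMonoidHom.comp A.subtype).codRestrict A (fun x => hA x x.2))
    (by
      have hinj : Function.Injective
          ((ψ.toMonoidHom.comp A.subtype).codRestrict A (fun x => hA x x.2)) := by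
        intro x y hxy
        have := congrArg Subtype.val hxy
        exact Subtype.ext (ψ.injective this)
      exact ⟨hinj, Finite.surjective_of_injective hinj⟩)

theorem res_apply [Finite X] (ψ : MulAut X) (A : Subgroup X) (hA : ∀ x ∈ A, ψ x ∈ A) (x : A) :
    ((res ψ A hA x : A) : X) = ψ x := rfl

theorem res_pow_apply [Finite X] (ψ : MulAut X) (A : Subgroup X) (hA : ∀ x ∈ A, ψ x ∈ A)
    (t : ℕ) (x : A) : (((res ψ A hA) ^ t) x : X) = (ψ ^ t) x := by
  induction t generalizing x with
  | zero => simp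
  | succ t ih =>
    rw [pow_succ', MulAut.mul_apply, res_apply, ih, pow_succ', MulAut.mul_apply]

/-- An automorphism of odd order of a finite `2`-group preserving a cyclic subgroup of index `2`
is trivial. -/
theorem eq_one_of_cyclic_index_two [Finite X] (hX : IsPGroup 2 X) (ψ : MulAut X) {k : ℕ}
    (hk : Odd k) (hψ : ψ ^ k = 1) (A : Subgroup X) (hA : A.index = 2) (hAc : IsCyclic A)
    (hinv : ∀ x ∈ A, ψ x ∈ A) : ψ = 1 := by
  apply eq_one_of_fixes_index_two hX ψ hk hψ A hA
  have h1 : (res ψ A hinv) ^ k = 1 := by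
    ext x
    rw [res_pow_apply, hψ]
    simp
  have h2 := eq_one_of_isCyclic (hX.to_subgroup A) (res ψ A hinv) hk h1
  intro x hx
  have := congrArg (fun f : MulAut A => ((f ⟨x, hx⟩ : A) : X)) h2
  simpa [res_apply] using this

/-- variant: the cyclic subgroup is `zpowers x` and `ψ x` is `x` or `x⁻¹`. -/
theorem eq_one_of_zpowers_index_two [Finite X] (hX : IsPGroup 2 X) (ψ : MulAut X) {k : ℕ}
    (hk : Odd k) (hψ : ψ ^ k = 1) (x : X) (hA : (Subgroup.zpowers x).index = 2)
    (hinv : ψ x ∈ Subgroup.zpowers x) : ψ = 1 := by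
  apply eq_one_of_cyclic_index_two hX ψ hk hψ (Subgroup.zpowers x) hA inferInstance
  intro y hy
  rw [Subgroup.mem_zpowers_iff] at hy
  obtain ⟨i, rfl⟩ := hy
  rw [map_zpow]
  exact Subgroup.zpow_mem _ hinv i

end Cfsg.Agent.Helper15.UIAut
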