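import Mathlib
import Cfsg.Prelude.Def_Transfer
import Cfsg.Prelude.Def_KGroupFacts
import Cfsg.Agent.Lib.Helper1.Critical
import Cfsg.Agent.Lib.Helper10.OmegaLemma
import Cfsg.Agent.Lib.Helper15.OmegaOne
import Cfsg.Agent.Lib.Helper15.UIAut1
import Cfsg.Agent.Lib.Helper22.PResidual

/-!
# A small subgroup of a `p`-group detecting `p'`-automorphisms (helper15)
-/

set_option autoImplicit false

namespace Cfsg.Agent.Helper15.CritDet

open scoped commutatorElement

variable {P : Type*} [Group P]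

/-- the exponent `p` (`p` odd) or `4` (`p = 2`) -/
def ee (p : ℕ) : ℕ := if p = 2 then 4 else p

/-- commutators and `p`-th powers of `C` are central in `C` -/
structure Cl2 (p : ℕ) (C : Subgroup P) : Prop where
  comm : ∀ x ∈ C, ∀ y ∈ C, ∀ w ∈ C, ⁅y, x⁆ * w = w * ⁅y, x⁆
  pow : ∀ y ∈ C, ∀ w ∈ C, y ^ p * w = w * y ^ p

theorem Cl2.commutator_pow {p : ℕ} {C : Subgroup P} (h : Cl2 p C) {x y : P} (hx : x ∈ C)
    (hy : y ∈ C) : ⁅y, x⁆ ^ p = 1 := by
  have hcy : Commute ⁅y, x⁆ y := h.comm x hx y hy y hy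
  rw [← Cfsg.Agent.Helper15.commutatorElement_pow_left_of_commute hcy p, commutatorElement_def]
  have := h.pow y hy x hx
  rw [this]; group

theorem sum_range_four : ∑ i ∈ Finset.range 4, i = 6 := by decide

/-- the elements of `C` of order dividing `ee p` -/
def omegaE (p : ℕ) (hp : p.Prime) (C : Subgroup P) (h : Cl2 p C) : Subgroup P where
  carrier := {x | x ∈ C ∧ x ^ ee p = 1}
  one_mem' := ⟨C.one_mem, one_pow _⟩
  mul_mem' := by
    rintro x y ⟨hx, hx2⟩ ⟨hy, hy2⟩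
    refine ⟨C.mul_mem hx hy, ?_⟩
    have hcx : Commute ⁅y, x⁆ x := h.comm x hx y hy x hx
    have hcy : Commute ⁅y, x⁆ y := h.comm x hx y hy y hy
    rw [Cfsg.Agent.Helper15.mul_pow_of_commutator_central hcx hcy, hx2, hy2, one_mul, one_mul]
    have hcp := h.commutator_pow hx hy
    unfold ee
    split_ifs with h2
    · rw [sum_range_four, show (6 : ℕ) = 2 * 3 by norm_num, pow_mul]
      rw [h2] at hcp
      rw [hcp, one_pow]
    · obtain ⟨k, hk⟩ := Cfsg.Agent.Helper15.dvd_sum_range_of_odd hp h2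
      rw [hk, pow_mul, hcp, one_pow]
  inv_mem' := by
    rintro x ⟨hx, hx2⟩
    exact ⟨C.inv_mem hx, by rw [inv_pow, hx2, inv_one]⟩

theorem mem_omegaE {p : ℕ} {hp : p.Prime} {C : Subgroup P} {h : Cl2 p C} {x : P} :
    x ∈ omegaE p hp C h ↔ x ∈ C ∧ x ^ ee p = 1 := Iff.rfl

theorem omegaE_le {p : ℕ} (hp : p.Prime) (C : Subgroup P) (h : Cl2 p C) :
    omegaE p hp C h ≤ C := fun _ hx => hx.1

/-- the statement's exponent condition -/
theorem ee_iff {p : ℕ} (x : P) :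
    x ^ ee p = 1 ↔ (x ^ p = 1 ∨ (p = 2 ∧ x ^ 4 = 1)) := by
  unfold ee
  split_ifs with h2
  · constructor
    · intro h; right; exact ⟨h2, h⟩
    · rintro (h | ⟨-, h⟩)
      · rw [h2] at h
        rw [show (4 : ℕ) = 2 * 2 by norm_num, pow_mul, h, one_pow]
      · exact h
  · constructor
    · intro h; left; exact h
    · rintro (h | ⟨h3, -⟩)
      · exact h
      · exact absurd h3 h2

/-- coprime action, elementwise: if `ψ` fixes `c = y⁻¹ ψ(y)` and orders are coprime, then `ψ`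
fixes `y` -/
theorem fixed_of_commutator_fixed [Finite P] {p : ℕ} [Fact p.Prime] (hP : IsPGroup p P)
    (ψ : MulAut P) (hcop : (orderOf ψ).Coprime p) (y : P) (hc : ψ (y⁻¹ * ψ y) = y⁻¹ * ψ y) :
    ψ y = y := by
  have hy : ψ y = y * (y⁻¹ * ψ y) := by group
  have h1 := Cfsg.Agent.Helper15.UIAut.pow_apply_of_fixed ψ hy hc (orderOf ψ)
  rw [pow_orderOf_eq_one, MulAut.one_apply] at h1
  have h2 : (y⁻¹ * ψ y) ^ orderOf ψ = 1 := by
    have : y * (y⁻¹ * ψ y) ^ orderOf ψ = y * 1 := by rw [mul_one]; exact h1.symm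
    exact mul_left_cancel this
  obtain ⟨k, hk⟩ := hP (y⁻¹ * ψ y)
  have h3 : orderOf (y⁻¹ * ψ y) ∣ Nat.gcd (orderOf ψ) (p ^ k) :=
    Nat.dvd_gcd (orderOf_dvd_of_pow_eq_one h2) (orderOf_dvd_of_pow_eq_one hk)
  have h4 : Nat.gcd (orderOf ψ) (p ^ k) = 1 := Nat.Coprime.pow_right k hcop
  rw [h4, Nat.dvd_one, orderOf_eq_one_iff] at h3
  rw [hy, h3, mul_one]

/-- **The `Ω` lemma for automorphisms.** -/
theorem omega_aut [Finite P] {p : ℕ} [Fact p.Prime] (α : MulAut P)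
    (hcop : (orderOf α).Coprime p) (C : Subgroup P) (hC : IsPGroup p ↥C)
    (hαC : ∀ x, x ∈ C ↔ α x ∈ C)
    (hΩ : ∀ x ∈ C, (x ^ p = 1 ∨ (p = 2 ∧ x ^ 4 = 1)) → α x = x) : ∀ x ∈ C, α x = x := by
  haveI : Finite (P ⋊[MonoidHom.id (MulAut P)] MulAut P) :=
    Finite.of_equiv _ SemidirectProduct.equivProd.symm
  obtain ⟨ι, hιdef⟩ : ∃ ι : P →* P ⋊[MonoidHom.id (MulAut P)] MulAut P,
      ι = SemidirectProduct.inl := ⟨_, rfl⟩
  obtain ⟨κ, hκdef⟩ : ∃ κ : MulAut P →* P ⋊[MonoidHom.id (MulAut P)] MulAut P,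
      κ = SemidirectProduct.inr := ⟨_, rfl⟩
  have hι : Function.Injective ι := by rw [hιdef]; exact SemidirectProduct.inl_injective
  have hκ : Function.Injective κ := by rw [hκdef]; exact SemidirectProduct.inr_injective
  have hconj : ∀ (β : MulAut P) (w : P), κ β * ι w * (κ β)⁻¹ = ι (β w) := by
    intro β w
    rw [hιdef, hκdef, ← map_inv]
    exact (SemidirectProduct.inl_aut β w).symm
  have ha : (orderOf (κ α)).Coprime p := by rw [orderOf_injective κ hκ]; exact hcop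
  have hCp : IsPGroup p ↥(C.map ι) := by
    have e : ↥C ≃* ↥(C.map ι) := C.equivMapOfInjective ι hι
    exact hC.of_equiv e
  have hnorm : κ α ∈ Subgroup.normalizer ((C.map ι : Subgroup _) : Set _) := by
    rw [Subgroup.mem_normalizer_iff]
    intro h
    constructor
    · rintro ⟨c, hc, rfl⟩
      rw [hconj]
      exact ⟨α c, (hαC c).mp hc, rfl⟩
    · rintro ⟨c, hc, hce⟩
      have h1 : h = (κ α)⁻¹ * ι c * (κ α)⁻¹⁻¹ := by rw [hce]; group
      rw [h1, ← map_inv, hconj]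
      refine ⟨α⁻¹ c, ?_, rfl⟩
      apply (hαC (α⁻¹ c)).mpr
      have : α (α⁻¹ c) = c := by simp
      rw [this]
      exact hc
  have key := Cfsg.Agent.Helper10.omega_lemma (κ α) ha _ (C.map ι) rfl hCp hnorm (by
    rintro _ ⟨c, hc, rfl⟩ hx
    rw [hconj]
    congr 1
    apply hΩ c hc
    rcases hx with hx | ⟨h2, hx⟩
    · left
      apply hι
      rw [map_pow, hx, map_one]
    · right
      refine ⟨h2, ?_⟩
      apply hι
      rw [map_pow, hx, map_one])
  intro x hx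
  have := key (ι x) ⟨x, hx, rfl⟩
  rw [hconj] at this
  exact hι this

end Cfsg.Agent.Helper15.CritDet
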