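import Mathlib
import Cfsg.Agent.Lib.Helper15.CritDet1

/-!
# A small subgroup of a `p`-group detecting `p'`-automorphisms: the main theorem (helper15)
-/

set_option autoImplicit false

namespace Cfsg.Agent.Helper15.CritDet

open scoped commutatorElement

variable {P : Type*} [Group P]

/-- the join of two commuting abelian subgroups is abelian -/
theorem comm_sup (A Z : Subgroup P) (hA : ∀ a ∈ A, ∀ b ∈ A, a * b = b * a)
    (hZ : ∀ z ∈ Z, ∀ w ∈ Z, z * w = w * z) (hAZ : ∀ a ∈ A, ∀ z ∈ Z, a * z = z * a) :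
    ∀ k₁ ∈ A ⊔ Z, ∀ k₂ ∈ A ⊔ Z, k₁ * k₂ = k₂ * k₁ := by
  have step1 : ∀ a ∈ A, A ⊔ Z ≤ Subgroup.centralizer ({a} : Set P) := by
    intro a ha
    apply sup_le
    · intro b hb
      rw [Subgroup.mem_centralizer_singleton_iff]
      exact hA b hb a ha
    · intro z hz
      rw [Subgroup.mem_centralizer_singleton_iff]
      exact (hAZ a ha z hz).symm
  have step1' : ∀ z ∈ Z, A ⊔ Z ≤ Subgroup.centralizer ({z} : Set P) := by
    intro z hz
    apply sup_le
    · intro b hb
      rw [Subgroup.mem_centralizer_singleton_iff]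
      exact hAZ b hb z hz
    · intro w hw
      rw [Subgroup.mem_centralizer_singleton_iff]
      exact hZ w hw z hz
  intro k₁ hk₁ k₂ hk₂
  have step2 : A ⊔ Z ≤ Subgroup.centralizer ({k₂} : Set P) := by
    apply sup_le
    · intro a ha
      rw [Subgroup.mem_centralizer_singleton_iff]
      have := step1 a ha hk₂
      rw [Subgroup.mem_centralizer_singleton_iff] at this
      exact this.symm
    · intro z hz
      rw [Subgroup.mem_centralizer_singleton_iff]
      have := step1' z hz hk₂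
      rw [Subgroup.mem_centralizer_singleton_iff] at this
      exact this.symm
  have := step2 hk₁
  rw [Subgroup.mem_centralizer_singleton_iff] at this
  exact this

theorem aut_pow_fixed (α : MulAut P) {a : P} (ha : α a = a) (j : ℕ) : (α ^ j) a = a := by
  induction j with
  | zero => simp
  | succ j ih => rw [pow_succ, MulAut.mul_apply, ha, ih]

/-- **Main theorem.** -/
theorem main [Finite P] {p : ℕ} [Fact p.Prime] (hP : IsPGroup p P)
    (G : Subgroup (MulAut P)) (hG : Cfsg.Inn P ≤ G) :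
    ∃ D : Subgroup P,
      (∀ α ∈ G, D.map α.toMonoidHom = D) ∧
      D ≤ Subgroup.closure {y : P | ∃ α ∈ Cfsg.pResidual p ↥G, ∃ x : P,
        y = x⁻¹ * (α : MulAut P) x} ∧
      (∀ d ∈ D, d ^ p = 1 ∨ (p = 2 ∧ d ^ 4 = 1)) ∧
      ⁅D, (⊤ : Subgroup P)⁆ ≤ D ⊓ Subgroup.centralizer (D : Set P) ∧
      (∀ α ∈ G, (orderOf α).Coprime p → (∀ d ∈ D, α d = d) → α = 1) ∧
      ∀ A : Subgroup P, A ≤ D → IsMulCommutative ↥A →
        (∀ B : Subgroup P, A ≤ B → B ≤ D → IsMulCommutative ↥B → B = A) →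
        A.Normal ∧ ∀ α ∈ G, (∀ a ∈ A, α a = a) → ∃ k : ℕ, orderOf α = p ^ k := by
  have hpp : p.Prime := Fact.out
  obtain ⟨C, hCchar, hCfr, hCcomm, hCcent⟩ := Cfsg.Agent.Helper1.exists_critical hP
  have hCp : IsPGroup p ↥C := hP.to_subgroup C
  haveI hCn : C.Normal := Subgroup.normal_of_characteristic C
  have hCinv : ∀ (β : MulAut P) (x : P), x ∈ C ↔ β x ∈ C := by
    intro β x
    have := Subgroup.characteristic_iff_map_eq.mp hCchar β
    constructor
    · intro hx
      rw [← this]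
      exact ⟨x, hx, rfl⟩
    · intro hx
      rw [← this] at hx
      obtain ⟨y, hy, hyx⟩ := hx
      have : y = x := β.injective hyx
      rwa [← this]
  have hcl : Cl2 p C := by
    constructor
    · intro x hx y hy w hw
      have h1 := Cfsg.Agent.Helper21.commutator_mem_frattini_of_isPGroup hCp
        (⟨y, hy⟩ : ↥C) ⟨x, hx⟩
      have h2 : ⁅y, x⁆ ∈ (frattini ↥C).map C.subtype :=
        ⟨_, h1, by simp [commutatorElement_def]⟩
      have h3 := hCfr h2
      rw [Subgroup.mem_centralizer_iff] at h3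
      exact (h3 w hw).symm
    · intro y hy w hw
      have h1 := Cfsg.Agent.Helper21.pow_mem_frattini_of_isPGroup hCp (⟨y, hy⟩ : ↥C)
      have h2 : y ^ p ∈ (frattini ↥C).map C.subtype := ⟨_, h1, by simp⟩
      have h3 := hCfr h2
      rw [Subgroup.mem_centralizer_iff] at h3
      exact (h3 w hw).symm
  obtain ⟨D₀, hD₀⟩ : ∃ D₀ : Subgroup P, D₀ = omegaE p hpp C hcl := ⟨_, rfl⟩
  have hD₀mem : ∀ x, x ∈ D₀ ↔ x ∈ C ∧ x ^ ee p = 1 := by
    intro x; rw [hD₀]; exact mem_omegaE
  have hD₀inv : ∀ (β : MulAut P) (x : P), x ∈ D₀ → β x ∈ D₀ := by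
    intro β x hx
    rw [hD₀mem] at hx ⊢
    refine ⟨(hCinv β x).mp hx.1, ?_⟩
    rw [← map_pow, hx.2, map_one]
  obtain ⟨S, hS⟩ : ∃ S : Set P, S = {y : P | ∃ α ∈ Cfsg.pResidual p ↥G, ∃ x ∈ D₀,
      y = x⁻¹ * (α : MulAut P) x} := ⟨_, rfl⟩
  obtain ⟨D, hD⟩ : ∃ D : Subgroup P, D = Subgroup.closure S := ⟨_, rfl⟩
  haveI hRn : (Cfsg.pResidual p ↥G).Normal := Cfsg.Agent.Helper22.pResidual_normal
  have hgen : ∀ α ∈ Cfsg.pResidual p ↥G, ∀ x ∈ D₀, x⁻¹ * (α : MulAut P) x ∈ D := by
    intro α hα x hx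
    rw [hD]
    apply Subgroup.subset_closure
    rw [hS]
    exact ⟨α, hα, x, hx, rfl⟩
  have hmap_le : ∀ β ∈ G, D.map β.toMonoidHom ≤ D := by
    intro β hβ
    rw [hD, MonoidHom.map_closure, Subgroup.closure_le, ← hD]
    rintro _ ⟨y, hy, rfl⟩
    rw [hS] at hy
    obtain ⟨α, hα, x, hx, rfl⟩ := hy
    have hγ : (⟨β, hβ⟩ : ↥G) * α * (⟨β, hβ⟩ : ↥G)⁻¹ ∈ Cfsg.pResidual p ↥G :=
      hRn.conj_mem α hα ⟨β, hβ⟩
    have := hgen _ hγ (β x) (hD₀inv β x hx)
    have e1 : (β.toMonoidHom) (x⁻¹ * (α : MulAut P) x) =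
        (β x)⁻¹ * (((⟨β, hβ⟩ : ↥G) * α * (⟨β, hβ⟩ : ↥G)⁻¹ : ↥G) : MulAut P) (β x) := by
      simp
    rw [SetLike.mem_coe, e1]
    exact this
  have hDinv : ∀ β ∈ G, ∀ x ∈ D, β x ∈ D := by
    intro β hβ x hx
    exact hmap_le β hβ ⟨x, hx, rfl⟩
  have hmap : ∀ β ∈ G, D.map β.toMonoidHom = D := by
    intro β hβ
    apply le_antisymm (hmap_le β hβ)
    intro d hd
    refine ⟨β⁻¹ d, hDinv β⁻¹ (G.inv_mem hβ) d hd, ?_⟩
    simp
  have hDD₀ : D ≤ D₀ := by
    rw [hD, Subgroup.closure_le]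
    intro y hy
    rw [hS] at hy
    obtain ⟨α, -, x, hx, rfl⟩ := hy
    exact D₀.mul_mem (D₀.inv_mem hx) (hD₀inv _ x hx)
  have hD₀C : D₀ ≤ C := by rw [hD₀]; exact omegaE_le hpp C hcl
  have hDC : D ≤ C := hDD₀.trans hD₀C
  have hDn : D.Normal := by
    constructor
    intro d hd g
    have hc : MulAut.conj g ∈ G := hG ⟨g, rfl⟩
    have := hDinv _ hc d hd
    rwa [MulAut.conj_apply] at this
  have hcomm : ⁅D, (⊤ : Subgroup P)⁆ ≤ D ⊓ Subgroup.centralizer (D : Set P) := by
    apply le_inf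
    · exact Subgroup.commutator_le_left D ⊤
    · have h1 : ⁅D, (⊤ : Subgroup P)⁆ ≤ ⁅C, (⊤ : Subgroup P)⁆ := Subgroup.commutator_mono hDC le_rfl
      have h2 : Subgroup.centralizer (C : Set P) ≤ Subgroup.centralizer (D : Set P) :=
        Subgroup.centralizer_le hDC
      exact (h1.trans hCcomm).trans (inf_le_right.trans h2)
  -- detection
  have hdet : ∀ α ∈ G, (orderOf α).Coprime p → (∀ d ∈ D, α d = d) → α = 1 := by
    intro α hα hcop hfix
    have hαR : (⟨α, hα⟩ : ↥G) ∈ Cfsg.pResidual p ↥G := by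
      apply Cfsg.Agent.Helper22.mem_pResidual_of_coprime
      rw [Subgroup.orderOf_mk]
      exact hcop
    have ha : ∀ x ∈ D₀, α x = x := by
      intro x hx
      have hc := hgen _ hαR x hx
      exact fixed_of_commutator_fixed hP α hcop x (hfix _ hc)
    have hb : ∀ x ∈ C, α x = x := by
      apply omega_aut α hcop C hCp (hCinv α)
      intro x hx hxe
      exact ha x ((hD₀mem x).mpr ⟨hx, (ee_iff x).mpr hxe⟩)
    ext x
    rw [MulAut.one_apply]
    apply fixed_of_commutator_fixed hP α hcop x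
    apply hb
    apply hCcent
    rw [Subgroup.mem_centralizer_iff]
    intro w hw
    have h1 : x * w * x⁻¹ ∈ C := hCn.conj_mem w hw x
    have h2 := hb _ h1
    rw [map_mul, map_mul, map_inv, hb w hw] at h2
    calc w * (x⁻¹ * α x) = x⁻¹ * (x * w * x⁻¹) * α x := by group
      _ = x⁻¹ * (α x * w * (α x)⁻¹) * α x := by rw [h2]
      _ = x⁻¹ * α x * w := by group
  refine ⟨D, hmap, ?_, ?_, hcomm, hdet, ?_⟩
  · rw [hD]
    apply Subgroup.closure_mono
    intro y hy
    rw [hS] at hy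
    obtain ⟨α, hα, x, -, rfl⟩ := hy
    exact ⟨α, hα, x, rfl⟩
  · intro d hd
    rw [← ee_iff]
    exact ((hD₀mem d).mp (hDD₀ hd)).2
  · intro A hAD hAcomm hmax
    have hAc : ∀ a ∈ A, ∀ b ∈ A, a * b = b * a := by
      intro a ha b hb
      have := hAcomm.is_comm.comm (⟨a, ha⟩ : ↥A) ⟨b, hb⟩
      exact congrArg Subtype.val this
    have mkComm : ∀ K : Subgroup P, (∀ k₁ ∈ K, ∀ k₂ ∈ K, k₁ * k₂ = k₂ * k₁) →
        IsMulCommutative ↥K := by
      intro K hK
      exact ⟨⟨fun a b => Subtype.ext (hK a a.2 b b.2)⟩⟩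
    -- the centre of `D` lies in `A`
    have hZc : ∀ z ∈ D ⊓ Subgroup.centralizer (D : Set P), ∀ d ∈ D, z * d = d * z := by
      intro z hz d hd
      have := (Subgroup.mem_inf.mp hz).2
      rw [Subgroup.mem_centralizer_iff] at this
      exact (this d hd).symm
    have hZA : D ⊓ Subgroup.centralizer (D : Set P) ≤ A := by
      have hK := comm_sup A (D ⊓ Subgroup.centralizer (D : Set P)) hAc
        (fun z hz w hw => hZc z hz w (Subgroup.mem_inf.mp hw).1)
        (fun a ha z hz => (hZc z hz a (hAD ha)).symm)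
      have := hmax _ le_sup_left (sup_le hAD inf_le_left) (mkComm _ hK)
      rw [← this]
      exact le_sup_right
    have hAn : A.Normal := by
      constructor
      intro a ha g
      have h1 : ⁅g, a⁆ ∈ ⁅D, (⊤ : Subgroup P)⁆ := by
        rw [Subgroup.commutator_comm]
        exact Subgroup.commutator_mem_commutator (Subgroup.mem_top g) (hAD ha)
      have h2 : ⁅g, a⁆ ∈ A := hZA (hcomm h1)
      have : g * a * g⁻¹ = ⁅g, a⁆ * a := by rw [commutatorElement_def]; group
      rw [this]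
      exact A.mul_mem h2 ha
    refine ⟨hAn, ?_⟩
    intro α hα hαA
    have hn0 : orderOf α ≠ 0 := (orderOf_pos α).ne'
    obtain ⟨k, m, hm, hnm⟩ := Nat.exists_eq_pow_mul_and_not_dvd hn0 p hpp.ne_one
    obtain ⟨β, hβdef⟩ : ∃ β : MulAut P, β = α ^ (p ^ k) := ⟨_, rfl⟩
    have hβG : β ∈ G := by rw [hβdef]; exact G.pow_mem hα _
    have hβo : orderOf β = m := by
      rw [hβdef, orderOf_pow_of_dvd (pow_pos hpp.pos k).ne' (by rw [hnm]; exact dvd_mul_right _ _),
        hnm]
      exact Nat.mul_div_cancel_left m (pow_pos hpp.pos k)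
    have hβcop : (orderOf β).Coprime p := by
      rw [hβo]
      exact ((Nat.Prime.coprime_iff_not_dvd hpp).mpr hm).symm
    have hβA : ∀ a ∈ A, β a = a := by
      intro a ha
      rw [hβdef]
      exact aut_pow_fixed α (hαA a ha) _
    have hβD : ∀ x ∈ D, β x = x := by
      intro x hx
      apply fixed_of_commutator_fixed hP β hβcop x
      have hcD : x⁻¹ * β x ∈ D := D.mul_mem (D.inv_mem hx) (hDinv β hβG x hx)
      have hcA : ∀ a ∈ A, a * (x⁻¹ * β x) = (x⁻¹ * β x) * a := by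
        intro a ha
        have h1 : x * a * x⁻¹ ∈ A := hAn.conj_mem a ha x
        have h2 := hβA _ h1
        rw [map_mul, map_mul, map_inv, hβA a ha] at h2
        calc a * (x⁻¹ * β x) = x⁻¹ * (x * a * x⁻¹) * β x := by group
          _ = x⁻¹ * (β x * a * (β x)⁻¹) * β x := by rw [h2]
          _ = x⁻¹ * β x * a := by group
      have hcmem : x⁻¹ * β x ∈ A := by
        have hK := comm_sup A (Subgroup.zpowers (x⁻¹ * β x)) hAc
          (by
            intro z hz w hw
            obtain ⟨i, rfl⟩ := Subgroup.mem_zpowers_iff.mp hz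
            obtain ⟨j, rfl⟩ := Subgroup.mem_zpowers_iff.mp hw
            rw [← zpow_add, ← zpow_add, add_comm])
          (by
            intro a ha z hz
            obtain ⟨i, rfl⟩ := Subgroup.mem_zpowers_iff.mp hz
            have : Commute a (x⁻¹ * β x) := hcA a ha
            exact (this.zpow_right i).eq)
        have := hmax _ le_sup_left
          (sup_le hAD (by rw [Subgroup.zpowers_le]; exact hcD)) (mkComm _ hK)
        rw [← this]
        exact Subgroup.mem_sup_right (Subgroup.mem_zpowers _)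
      exact hβA _ hcmem
    have hβ1 := hdet β hβG hβcop hβD
    refine ⟨k, ?_⟩
    rw [hβ1, orderOf_one] at hβo
    rw [hnm, ← hβo, mul_one]

end Cfsg.Agent.Helper15.CritDet
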