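import Mathlib
import Cfsg.Prelude.Def_Blocks
import Cfsg.Agent.Lib.Helper24.CharLinear
import Cfsg.Agent.Lib.Helper24.CharComplete
import Cfsg.Agent.Lib.Helper17.M11Defs

/-!
# Simple groups of order 7920, piece S14 (helper15): two elements with the same values under all
irreducible characters are conjugate (second orthogonality).
-/

set_option autoImplicit false
set_option linter.unusedSectionVars false
set_option linter.unusedVariables false

namespace Cfsg.Agent.Helper17.M11

open scoped ComplexConjugate
open Cfsg Cfsg.Agent.Helper24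

universe u

variable {G : Type u} [Group G] [Fintype G]

/-- PIECE S14. -/
theorem isConj_of_values_eq [Fintype (IrrCharacter G)] {y y' : G}
    (h : ∀ χ : IrrCharacter G, (χ : G → ℂ) y = (χ : G → ℂ) y') : IsConj y y' := by
  classical
  by_contra hc
  have h1 := second_orthogonality' (G := G) y' y
  rw [if_neg hc] at h1
  have h2 := second_orthogonality' (G := G) y y
  rw [if_pos (IsConj.refl y)] at h2
  have h3 : ∑ χ : IrrCharacter G, (χ : G → ℂ) y' * conj ((χ : G → ℂ) y) =
      ∑ χ : IrrCharacter G, (χ : G → ℂ) y * conj ((χ : G → ℂ) y) :=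
    Finset.sum_congr rfl fun χ _ => by rw [h χ]
  rw [h1, h2] at h3
  have hpos : 0 < Nat.card (Subgroup.centralizer ({y} : Set G)) := Nat.card_pos
  have : (Nat.card (Subgroup.centralizer ({y} : Set G)) : ℂ) ≠ 0 := by
    exact_mod_cast hpos.ne'
  exact this h3.symm

end Cfsg.Agent.Helper17.M11
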