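import Mathlib
import Cfsg.Prelude.Def_Blocks
import Cfsg.Agent.Lib.Helper17.M11Defs
import Cfsg.Agent.Lib.Helper17.M11S1

/-!
# Simple groups of order 7920, piece S6 (helper15): a Sylow `5`-subgroup is self-centralizing with
`|N(Q) : Q| = 4`, given that no involution commutes with an element of order `5` and that the Sylow
`11`-subgroups are self-centralizing.
-/

set_option autoImplicit false
set_option linter.unusedSectionVars false
set_option linter.unusedVariables false
set_option linter.style.haveILetI false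

namespace Cfsg.Agent.Helper17.M11

open Cfsg Subgroup

universe u

variable {G : Type u} [Group G] [Fintype G]

namespace S6

/-- the arithmetic: `v q (1 + 5 n) = 1584` with `v` odd, prime to `11`, `q ∈ {2, 4}` -/
theorem arith {v q n : ℕ} (h : v * q * (1 + n * 5) = 1584) (hq2 : 2 ≤ q) (hq4 : q ∣ 4)
    (hv2 : ¬ 2 ∣ v) (hv11 : ¬ 11 ∣ v) : v = 1 ∧ q = 4 := by
  have hvd : v ∣ 1584 := ⟨q * (1 + n * 5), by rw [← h]; ring⟩
  have hmem : v ∈ Nat.divisors 1584 := Nat.mem_divisors.2 ⟨hvd, by norm_num⟩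
  simp only [Nat.divisors_ofNat, Finset.mem_insert, Finset.mem_singleton] at hmem
  have hv : v = 1 ∨ v = 3 ∨ v = 9 := by omega
  have hq : q = 2 ∨ q = 4 := by
    have hle : q ≤ 4 := Nat.le_of_dvd (by norm_num) hq4
    interval_cases q
    · left; rfl
    · exfalso; revert hq4; decide
    · right; rfl
  rcases hv with rfl | rfl | rfl <;> rcases hq with rfl | rfl <;> omega

end S6

/-- PIECE S6. -/
theorem syl5 (hs : IsSimpleGroup G) (hG : Nat.card G = 7920)
    (hinv : ∀ t u : G, orderOf t = 2 → orderOf u = 5 → ¬ Commute t u)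
    (h11 : ∀ P : Sylow 11 G,
      Subgroup.centralizer ((P : Subgroup G) : Set G) = (P : Subgroup G)) (Q : Sylow 5 G) :
    Nat.card (Q : Subgroup G) = 5 ∧
    Subgroup.centralizer ((Q : Subgroup G) : Set G) = (Q : Subgroup G) ∧
    (Subgroup.centralizer ((Q : Subgroup G) : Set G)).relIndex
      (Subgroup.normalizer ((Q : Subgroup G) : Set G)) = 4 := by
  have hperf := S1.perfect hs hG
  have hQ := S1.card_sylow5 hG Q
  obtain ⟨q, v, n, hq, hq2, hqd, hn1, hv0, hv5, hnp, hCc, hGc, hCi⟩ :=
    Cfsg.Agent.Helper17.BRRed.numerics hperf Q hQ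
  -- a generator of `Q`
  obtain ⟨u, hu⟩ := exists_prime_orderOf_dvd_card' (G := (Q : Subgroup G)) 5 (by rw [hQ])
  have hu5 : orderOf (u : G) = 5 := by rw [Subgroup.orderOf_coe]; exact hu
  -- `v` is odd
  have hv2 : ¬ 2 ∣ v := by
    intro h2
    haveI : Fact (Nat.Prime 2) := ⟨Nat.prime_two⟩
    have h2C : 2 ∣ Nat.card (centralizer ((Q : Subgroup G) : Set G)) := by
      rw [hCc]; exact Dvd.dvd.mul_left h2 5
    obtain ⟨t, ht⟩ := exists_prime_orderOf_dvd_card'
      (G := centralizer ((Q : Subgroup G) : Set G)) 2 h2C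
    have ht2 : orderOf (t : G) = 2 := by rw [Subgroup.orderOf_coe]; exact ht
    apply hinv (t : G) (u : G) ht2 hu5
    exact ((Subgroup.mem_centralizer_iff.1 t.2) (u : G) u.2).symm
  -- `11 ∤ v`
  have hv11 : ¬ 11 ∣ v := by
    intro h11v
    have h11C : 11 ∣ Nat.card (centralizer ((Q : Subgroup G) : Set G)) := by
      rw [hCc]; exact Dvd.dvd.mul_left h11v 5
    obtain ⟨y, hy⟩ := exists_prime_orderOf_dvd_card'
      (G := centralizer ((Q : Subgroup G) : Set G)) 11 h11C
    have hy11 : orderOf (y : G) = 11 := by rw [Subgroup.orderOf_coe]; exact hy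
    have hZc : Nat.card (zpowers (y : G)) = 11 := by rw [Nat.card_zpowers, hy11]
    have hp : IsPGroup 11 (zpowers (y : G)) := IsPGroup.of_card (n := 1) (by rw [hZc]; norm_num)
    obtain ⟨P, hP⟩ := hp.exists_le_sylow
    have hPe : zpowers (y : G) = (P : Subgroup G) :=
      Subgroup.eq_of_le_of_card_ge hP (by rw [hZc, S1.card_sylow11 hG P])
    -- `u` centralizes `P`
    have huC : (u : G) ∈ centralizer ((P : Subgroup G) : Set G) := by
      rw [← hPe, Subgroup.mem_centralizer_iff]
      intro z hz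
      obtain ⟨k, rfl⟩ := Subgroup.mem_zpowers_iff.1 hz
      have hyu : Commute (y : G) (u : G) := (Subgroup.mem_centralizer_iff.1 y.2) (u : G) u.2 |>.symm
      exact (hyu.zpow_left k).eq
    rw [h11 P] at huC
    have h5 : orderOf (u : G) ∣ Nat.card (P : Subgroup G) := by
      have := orderOf_dvd_natCard (⟨(u : G), huC⟩ : (P : Subgroup G))
      rwa [← Subgroup.orderOf_coe] at this
    rw [hu5, S1.card_sylow11 hG P] at h5
    omega
  have harith : v * q * (1 + n * 5) = 1584 := by
    rw [hG] at hGc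
    have : 5 * (v * q * (1 + n * 5)) = 5 * 1584 := by
      have e : 5 * (v * q * (1 + n * 5)) = 5 * v * q * (1 + n * 5) := by ring
      rw [e, ← hGc]
    exact Nat.eq_of_mul_eq_mul_left (by norm_num) this
  obtain ⟨rfl, rfl⟩ := S6.arith harith hq2 (by simpa using hqd) hv2 hv11
  refine ⟨hQ, ?_, hq.symm⟩
  have hle := Cfsg.Agent.Helper5.TL.gt_le_centralizer 5 Q hQ
  exact (Subgroup.eq_of_le_of_card_ge hle (by rw [hCc, hQ])).symm

end Cfsg.Agent.Helper17.M11
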