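import Mathlib
import Cfsg.Prelude.Def_Blocks
import Cfsg.Agent.Lib.Helper17.M11Defs

/-!
# Simple groups of order 7920, piece S3 (helper15): no involution inverts a nontrivial element of a
Sylow `11`-subgroup `P` with `C(P) = P`, `|N(P) : C(P)| = 5` (the normalizer has odd order `55`).
-/

set_option autoImplicit false
set_option linter.unusedSectionVars false
set_option linter.unusedVariables false

namespace Cfsg.Agent.Helper17.M11

open Cfsg Subgroup

universe u

variable {G : Type u} [Group G] [Fintype G]

namespace S3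

/-- an element of square one conjugating a generator of a subgroup of prime order into the
subgroup normalizes it -/
theorem mem_normalizer_of_conj_mem {p : ℕ} [Fact p.Prime] (P : Subgroup G) (hP : Nat.card P = p)
    {x s : G} (hx : x ∈ P) (hx1 : x ≠ 1) (hs : s * s = 1) (hsx : s * x * s⁻¹ ∈ P) :
    s ∈ normalizer (P : Set G) := by
  have hsinv : s⁻¹ = s := inv_eq_of_mul_eq_one_left hs
  have hfwd : ∀ y ∈ P, s * y * s⁻¹ ∈ P := by
    intro y hy
    have hmem : (⟨y, hy⟩ : P) ∈ zpowers (⟨x, hx⟩ : P) :=
      mem_zpowers_of_prime_card hP (fun h => hx1 (congrArg Subtype.val h))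
    obtain ⟨k, hk⟩ := mem_zpowers_iff.1 hmem
    have hk' : x ^ k = y := by
      have := congrArg Subtype.val hk
      simpa using this
    have e : s * y * s⁻¹ = (s * x * s⁻¹) ^ k := by
      rw [← hk', conj_zpow]
    rw [e]
    exact P.zpow_mem hsx k
  rw [mem_normalizer_iff]
  intro y
  constructor
  · exact hfwd y
  · intro hy
    have := hfwd _ hy
    have e : s * (s * y * s⁻¹) * s⁻¹ = y := by
      rw [hsinv]
      calc s * (s * y * s) * s = (s * s) * y * (s * s) := by group
        _ = y := by rw [hs]; simp
    rwa [e] at this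

end S3

/-- PIECE S3. -/
theorem no_invol_inverts (P : Sylow 11 G) (hP : Nat.card (P : Subgroup G) = 11)
    (hC : Subgroup.centralizer ((P : Subgroup G) : Set G) = (P : Subgroup G))
    (hw : (Subgroup.centralizer ((P : Subgroup G) : Set G)).relIndex
      (Subgroup.normalizer ((P : Subgroup G) : Set G)) = 5) {x : G} (hx : x ∈ (P : Subgroup G))
    (hx1 : x ≠ 1) : ∀ s : G, s * s = 1 → s ≠ 1 → s * x * s⁻¹ ≠ x⁻¹ := by
  intro s hs hs1 hsx
  have hsN : s ∈ normalizer ((P : Subgroup G) : Set G) :=
    S3.mem_normalizer_of_conj_mem (p := 11) (P : Subgroup G) hP hx hx1 hs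
      (by rw [hsx]; exact (P : Subgroup G).inv_mem hx)
  have hcard : Nat.card (normalizer ((P : Subgroup G) : Set G)) = 55 := by
    have := Subgroup.relIndex_mul_relIndex (H := (⊥ : Subgroup G))
      (K := centralizer ((P : Subgroup G) : Set G)) (L := normalizer ((P : Subgroup G) : Set G))
      bot_le (Subgroup.centralizer_le_normalizer _)
    rw [Subgroup.relIndex_bot_left, Subgroup.relIndex_bot_left, hw, hC, hP] at this
    omega
  have hord : orderOf s = 2 := orderOf_eq_prime (by rw [pow_two]; exact hs) hs1
  have hdvd : orderOf (⟨s, hsN⟩ : normalizer ((P : Subgroup G) : Set G)) ∣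
      Nat.card (normalizer ((P : Subgroup G) : Set G)) := orderOf_dvd_natCard _
  rw [← Subgroup.orderOf_coe, hcard] at hdvd
  simp only [hord] at hdvd
  omega

end Cfsg.Agent.Helper17.M11
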