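import Mathlib
import Cfsg.Prelude.Def_Blocks
import Cfsg.Agent.Lib.Helper24.CharLinear
import Cfsg.Agent.Lib.Helper24.CharComplete
import Cfsg.Agent.Lib.Helper13.BR996CC
import Cfsg.Agent.Lib.Helper17.M11Defs

/-!
# Simple groups of order 7920, piece T2 (helper15): if no involution inverts `x` then the class
multiplication constant `a(t,t,x)` vanishes for an involution `t`.
-/

set_option autoImplicit false
set_option linter.unusedSectionVars false
set_option linter.unusedVariables false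
set_option linter.style.haveILetI false

namespace Cfsg.Agent.Helper17.M11

open scoped ComplexConjugate
open Cfsg Cfsg.Agent.Helper24

universe u

variable {G : Type u} [Group G] [Fintype G]

/-- PIECE T2. -/
theorem cc_invol_zero [Fintype (IrrCharacter G)] {t x : G} (ht : t * t = 1) (ht1 : t ≠ 1)
    (hno : ∀ s : G, s * s = 1 → s ≠ 1 → s * x * s⁻¹ ≠ x⁻¹) :
    ∑ χ : IrrCharacter G,
      (χ : G → ℂ) t * (χ : G → ℂ) t * conj ((χ : G → ℂ) x) / (χ : G → ℂ) 1 = 0 := by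
  have hcc := Cfsg.Agent.Helper10.BR996.class_const t t x
  haveI : IsEmpty {c : G × G // (c.1 * t * c.1⁻¹) * (c.2 * t * c.2⁻¹) = x} := by
    constructor
    rintro ⟨⟨c₁, c₂⟩, hc⟩
    simp only at hc
    have hs : (c₁ * t * c₁⁻¹) * (c₁ * t * c₁⁻¹) = 1 := by
      calc (c₁ * t * c₁⁻¹) * (c₁ * t * c₁⁻¹) = c₁ * (t * t) * c₁⁻¹ := by group
        _ = 1 := by rw [ht]; group
    have hs' : (c₂ * t * c₂⁻¹) * (c₂ * t * c₂⁻¹) = 1 := by
      calc (c₂ * t * c₂⁻¹) * (c₂ * t * c₂⁻¹) = c₂ * (t * t) * c₂⁻¹ := by group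
        _ = 1 := by rw [ht]; group
    have hs1 : c₁ * t * c₁⁻¹ ≠ 1 := by
      intro h1
      apply ht1
      have : t = c₁⁻¹ * (c₁ * t * c₁⁻¹) * c₁ := by group
      rw [this, h1]; group
    apply hno (c₁ * t * c₁⁻¹) hs hs1
    obtain ⟨s, hsdef⟩ : ∃ s, s = c₁ * t * c₁⁻¹ := ⟨_, rfl⟩
    obtain ⟨s', hsdef'⟩ : ∃ s', s' = c₂ * t * c₂⁻¹ := ⟨_, rfl⟩
    rw [← hsdef] at hs hc ⊢
    rw [← hsdef'] at hs' hc
    have hsinv : s⁻¹ = s := inv_eq_of_mul_eq_one_left hs
    have hsinv' : s'⁻¹ = s' := inv_eq_of_mul_eq_one_left hs'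
    rw [← hc, mul_inv_rev, hsinv, hsinv', ← mul_assoc, hs, one_mul]
  rw [Nat.card_of_isEmpty, Nat.cast_zero] at hcc
  have hG : (Nat.card G : ℂ) ≠ 0 := by exact_mod_cast (Nat.card_pos (α := G)).ne'
  rcases mul_eq_zero.1 hcc.symm with h | h
  · exact absurd h hG
  · exact h

end Cfsg.Agent.Helper17.M11
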