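import Mathlib
import Cfsg.Agent.Lib.Helper17.M11Asm2

/-!
# Transitive groups of degree 11 (S0679): facts on simple groups of order 7920 from helper17's library
-/

set_option autoImplicit false

namespace Cfsg.Agent.Helper15.D11

open Cfsg Cfsg.Agent.Helper24 Cfsg.Agent.Helper17.M11

universe u

variable {G : Type u} [Group G] [Fintype G]

/-- In a simple group of order `7920` an element of order `3` has a centralizer of order `18`, and
all the elements of order `3` are conjugate. -/
theorem ord3_facts (hs : IsSimpleGroup G) (hG : Nat.card G = 7920) :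
    (∀ y : G, orderOf y = 3 → Nat.card (Subgroup.centralizer ({y} : Set G)) = 18) ∧
    (∀ y y' : G, orderOf y = 3 → orderOf y' = 3 → IsConj y y') := by
  classical
  obtain ⟨P⟩ : Nonempty (Sylow 11 G) := inferInstance
  obtain ⟨Q⟩ : Nonempty (Sylow 5 G) := inferInstance
  obtain ⟨T⟩ := main_ct hs hG P Q
  have h11 : ∀ P' : Sylow 11 G,
      Subgroup.centralizer ((P' : Subgroup G) : Set G) = (P' : Subgroup G) :=
    fun P' => (syl11 hs hG P').2.1
  have h5 : ∀ Q' : Sylow 5 G,
      Subgroup.centralizer ((Q' : Subgroup G) : Set G) = (Q' : Subgroup G) :=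
    fun Q' => (syl5_all hs hG Q').2.1
  have hv := fun (y : G) (hy : orderOf y = 3) => ord3_values hG h11 h5 T hy
  refine ⟨fun y hy => (hv y hy).1, ?_⟩
  intro y y' hy hy'
  letI : Fintype (IrrCharacter G) := irrFintype
  apply isConj_of_values_eq
  intro χ
  obtain ⟨-, a1, a2, a3, a4, a5, a6, a7, a8, a9⟩ := hv y hy
  obtain ⟨-, b1, b2, b3, b4, b5, b6, b7, b8, b9⟩ := hv y' hy'
  rcases S13.all_cases T χ with h | h | h | h | h | h | h | h | h | h
  · rw [h]; rfl
  · rw [h, a1, b1]
  · rw [h, a2, b2]
  · rw [h, a3, b3]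
  · rw [h, a4, b4]
  · rw [h, a5, b5]
  · rw [h, a6, b6]
  · rw [h, a7, b7]
  · rw [h, a8, b8]
  · rw [h, a9, b9]

/-- In a simple group of order `7920` every involution has a centralizer of order `48`. -/
theorem invol_fact (hs : IsSimpleGroup G) (hG : Nat.card G = 7920) {t : G} (ht : orderOf t = 2) :
    Nat.card (Subgroup.centralizer ({t} : Set G)) = 48 :=
  card_centralizer_invol_main hs hG ht

end Cfsg.Agent.Helper15.D11
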