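import Mathlib
import Cfsg.Agent.Lib.Helper3.DPDefs

/-!
# S2205, piece FIXN (helper15, for helper3's skeleton)

If `P₀ = P ∩ K` is normal in `K` and `K_x ≠ 1`, then `K_x` fixes exactly one point on every
translate of the block `B`.
-/

set_option autoImplicit false
set_option linter.unusedSectionVars false
set_option linter.unusedVariables false
set_option linter.style.haveILetI false

open scoped Pointwise
open MulAction

namespace Cfsg.Agent.Helper3.DP

variable {G Ω : Type*} [Group G] [Finite G] [Fintype Ω] [MulAction G Ω] [FaithfulSMul G Ω] {p : ℕ}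

/-- an element of `K_x` centralising `P₀` is trivial -/
theorem fixn_eq_one (S : Setup G Ω p) {B : Set Ω} (hK : KData S B) {x : Ω} (hx : x ∈ B)
    {d : G} (hd : d ∈ kern G S.a B) (hdx : d • x = x)
    (hc : ∀ v ∈ S.P ⊓ kern G S.a B, d * v = v * d) : d = 1 := by
  apply hK.faithful d hd 1 (Subgroup.one_mem _)
  intro y hy
  have hx1 : x ∈ (1 : G) • B := by rw [one_smul]; exact hx
  obtain ⟨v, hv, hvx⟩ := hK.trans 1 (Subgroup.one_mem _) x hx1 y hy
  rw [← hvx, ← mul_smul, hc v hv, mul_smul, hdx]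

/-- PIECE FIXN. -/
theorem fixOne_of_normal (S : Setup G Ω p) {B : Set Ω} (hK : KData S B) {x : Ω} (hx : x ∈ B)
    (hne : ∃ k ∈ kern G S.a B, k • x = x ∧ k ≠ 1)
    (hn : ∀ k ∈ kern G S.a B, ∀ z ∈ S.P ⊓ kern G S.a B, k * z * k⁻¹ ∈ S.P ⊓ kern G S.a B) :
    FixOne S B x := by
  classical
  have hp : p.Prime := S.prime
  haveI : Fact p.Prime := ⟨hp⟩
  set P0 : Subgroup G := S.P ⊓ kern G S.a B with hP0
  have hP0card : Nat.card P0 = p := hK.card_P0
  haveI : IsCyclic P0 := isCyclic_of_prime_card hP0card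
  have hP0comm : ∀ v ∈ P0, ∀ w ∈ P0, v * w = w * v := by
    intro v hv w hw
    have hc : IsMulCommutative P0 := IsCyclic.isMulCommutative
    have := isMulCommutative_iff.mp hc ⟨v, hv⟩ ⟨w, hw⟩
    exact congrArg Subtype.val this
  have hxa : x ≠ S.a := fun h => hK.blk.1 (h ▸ hx)
  obtain ⟨k₀, hk₀K, hk₀x, hk₀1⟩ := hne
  -- a nonidentity element of `P₀` commuting with `k` forces `k` to centralise `P₀`
  have hcent : ∀ k ∈ kern G S.a B, k • x = x → ∀ u ∈ P0, u ≠ 1 → k * u = u * k → k = 1 := by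
    intro k hkK hkx u hu hu1 hku
    apply fixn_eq_one S hK hx hkK hkx
    intro v hv
    have htop : Subgroup.zpowers (⟨u, hu⟩ : P0) = ⊤ :=
      zpowers_eq_top_of_prime_card hP0card (fun h => hu1 (congrArg Subtype.val h))
    have hmem : (⟨v, hv⟩ : P0) ∈ Subgroup.zpowers (⟨u, hu⟩ : P0) := by rw [htop]; trivial
    obtain ⟨i, hi⟩ := Subgroup.mem_zpowers_iff.1 hmem
    have hvi : v = u ^ i := by
      have := congrArg Subtype.val hi
      simpa using this.symm
    rw [hvi]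
    exact (Commute.zpow_right hku i).eq
  -- the twisted map `v ↦ v⁻¹ (k v k⁻¹)` is injective on `P₀`
  have hinj : ∀ k ∈ kern G S.a B, k • x = x → k ≠ 1 → ∀ v ∈ P0, ∀ w ∈ P0,
      v⁻¹ * (k * v * k⁻¹) = w⁻¹ * (k * w * k⁻¹) → v = w := by
    intro k hkK hkx hk1 v hv w hw hvw
    by_contra hne'
    set u := w * v⁻¹ with hu
    have huP : u ∈ P0 := P0.mul_mem hw (P0.inv_mem hv)
    have hu1 : u ≠ 1 := by
      intro h
      apply hne'
      have := mul_inv_eq_one.1 h
      exact this.symm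
    have hkv : k * v * k⁻¹ ∈ P0 := hn k hkK v hv
    have hkw : k * w * k⁻¹ ∈ P0 := hn k hkK w hw
    -- `k u k⁻¹ = u`
    have h1 : k * w * k⁻¹ = w * v⁻¹ * (k * v * k⁻¹) := by
      rw [mul_assoc w, hvw]; group
    have h2 : k * u * k⁻¹ = u := by
      have e : k * u * k⁻¹ = (k * w * k⁻¹) * (k * v * k⁻¹)⁻¹ := by rw [hu]; group
      rw [e, h1, mul_assoc, mul_inv_cancel, mul_one]
    have h3 : k * u = u * k := by
      have := congrArg (fun t => t * k) h2
      simpa [mul_assoc] using this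
    exact hk1 (hcent k hkK hkx u huP hu1 h3)
  -- commutativity with `k₀`
  have hcomm : ∀ k ∈ kern G S.a B, k • x = x → k * k₀ = k₀ * k := by
    intro k hkK hkx
    obtain ⟨g, hg⟩ := IsCyclic.exists_generator (α := P0)
    -- the element `d = (k₀ k)⁻¹ (k k₀)` centralises the generator
    have hgK : ∀ m : G, m ∈ kern G S.a B → ∃ i : ℤ, m * (g : G) * m⁻¹ = (g : G) ^ i := by
      intro m hm
      have h1 : m * (g : G) * m⁻¹ ∈ P0 := hn m hm g g.2
      obtain ⟨i, hi⟩ := Subgroup.mem_zpowers_iff.1 (hg ⟨_, h1⟩)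
      refine ⟨i, ?_⟩
      have := congrArg Subtype.val hi
      simpa using this.symm
    obtain ⟨i, hi⟩ := hgK k hkK
    obtain ⟨i₀, hi₀⟩ := hgK k₀ hk₀K
    have e1 : (k * k₀) * (g : G) * (k * k₀)⁻¹ = (g : G) ^ (i * i₀) := by
      have : (k * k₀) * (g : G) * (k * k₀)⁻¹ = k * (k₀ * (g : G) * k₀⁻¹) * k⁻¹ := by group
      rw [this, hi₀]
      have h2 : k * (g : G) ^ i₀ * k⁻¹ = (k * (g : G) * k⁻¹) ^ i₀ := by
        rw [← MulAut.conj_apply, map_zpow, MulAut.conj_apply]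
      rw [h2, hi, ← zpow_mul]
    have e2 : (k₀ * k) * (g : G) * (k₀ * k)⁻¹ = (g : G) ^ (i * i₀) := by
      have : (k₀ * k) * (g : G) * (k₀ * k)⁻¹ = k₀ * (k * (g : G) * k⁻¹) * k₀⁻¹ := by group
      rw [this, hi]
      have h2 : k₀ * (g : G) ^ i * k₀⁻¹ = (k₀ * (g : G) * k₀⁻¹) ^ i := by
        rw [← MulAut.conj_apply, map_zpow, MulAut.conj_apply]
      rw [h2, hi₀, ← zpow_mul, mul_comm]
    set d := (k₀ * k)⁻¹ * (k * k₀) with hd
    have hdK : d ∈ kern G S.a B :=
      Subgroup.mul_mem _ (Subgroup.inv_mem _ (Subgroup.mul_mem _ hk₀K hkK))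
        (Subgroup.mul_mem _ hkK hk₀K)
    have hdx : d • x = x := by
      rw [hd, mul_smul, mul_smul, hk₀x, hkx, inv_smul_eq_iff, mul_smul, hkx, hk₀x]
    have hdg : d * (g : G) = (g : G) * d := by
      have h3 : (k * k₀) * (g : G) * (k * k₀)⁻¹ = (k₀ * k) * (g : G) * (k₀ * k)⁻¹ := by
        rw [e1, e2]
      have h4 : d * (g : G) * d⁻¹ = (g : G) := by
        have : d * (g : G) * d⁻¹ =
            (k₀ * k)⁻¹ * ((k * k₀) * (g : G) * (k * k₀)⁻¹) * (k₀ * k) := by
          rw [hd]; group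
        rw [this, h3]; group
      have := congrArg (fun t => t * d) h4
      simpa [mul_assoc] using this
    have hd1 : d = 1 := by
      apply fixn_eq_one S hK hx hdK hdx
      intro v hv
      obtain ⟨j, hj⟩ := Subgroup.mem_zpowers_iff.1 (hg ⟨v, hv⟩)
      have hvj : v = (g : G) ^ j := by
        have := congrArg Subtype.val hj
        simpa using this.symm
      rw [hvj]
      exact (Commute.zpow_right hdg j).eq
    have : k₀ * k * d = k * k₀ := by rw [hd]; group
    rw [hd1, mul_one] at this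
    exact this.symm
  -- the main claim
  intro h hh
  have hy'mem : h • x ∈ h • B := Set.smul_mem_smul_set hx
  have hy'a : h • x ≠ S.a := by
    intro hh'
    apply hxa
    have := (mem_stabilizer_iff.1 hh)
    rw [← this] at hh'
    exact smul_left_cancel h hh'
  have hk₀B : k₀ • (h • B) = h • B := (mem_kern.1 hk₀K).2 h hh
  have hk₀y' : k₀ • (h • x) ∈ h • B := by
    rw [← hk₀B]
    exact Set.smul_mem_smul_set hy'mem
  obtain ⟨c, hc, hcy'⟩ := hK.trans h hh (h • x) hy'mem _ hk₀y'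
  -- surjectivity of the twisted map
  let f : P0 → P0 := fun v => ⟨(v : G)⁻¹ * (k₀ * (v : G) * k₀⁻¹),
    P0.mul_mem (P0.inv_mem v.2) (hn k₀ hk₀K v v.2)⟩
  have hfinj : Function.Injective f := by
    intro v w hvw
    apply Subtype.ext
    exact hinj k₀ hk₀K hk₀x hk₀1 v v.2 w w.2 (congrArg Subtype.val hvw)
  have hfsurj : Function.Surjective f := Finite.injective_iff_surjective.1 hfinj
  obtain ⟨v, hv⟩ := hfsurj ⟨c⁻¹, P0.inv_mem hc⟩
  have hv' : (v : G)⁻¹ * (k₀ * (v : G) * k₀⁻¹) = c⁻¹ := congrArg Subtype.val hv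
  -- fixed points of `k₀` on the translate
  have hfixchar : ∀ w ∈ P0, (k₀ • (w • (h • x)) = w • (h • x) ↔
      w⁻¹ * (k₀ * w * k₀⁻¹) = c⁻¹) := by
    intro w hw
    have e : k₀ • (w • (h • x)) = ((k₀ * w * k₀⁻¹) * c) • (h • x) := by
      symm
      calc ((k₀ * w * k₀⁻¹) * c) • (h • x) = (k₀ * w * k₀⁻¹) • (c • (h • x)) := mul_smul _ _ _
        _ = (k₀ * w * k₀⁻¹) • (k₀ • (h • x)) := by rw [hcy']
        _ = (k₀ * w * k₀⁻¹ * k₀) • (h • x) := (mul_smul _ _ _).symm
        _ = (k₀ * w) • (h • x) := by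
          have : k₀ * w * k₀⁻¹ * k₀ = k₀ * w := by group
          rw [this]
        _ = k₀ • (w • (h • x)) := mul_smul _ _ _
    rw [e]
    constructor
    · intro hfix
      have hmem : w⁻¹ * ((k₀ * w * k₀⁻¹) * c) ∈ S.P :=
        (P0.mul_mem (P0.inv_mem hw) (P0.mul_mem (hn k₀ hk₀K w hw) hc)).1
      have h1 : (w⁻¹ * ((k₀ * w * k₀⁻¹) * c)) • (h • x) = h • x := by
        rw [mul_smul, hfix, ← mul_smul, inv_mul_cancel, one_smul]
      have h2 := S.P_reg (h • x) hy'a _ hmem h1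
      have : w⁻¹ * (k₀ * w * k₀⁻¹) * c = 1 := by rw [← h2]; group
      exact eq_inv_of_mul_eq_one_left this
    · intro hw'
      have : (k₀ * w * k₀⁻¹) * c = w := by
        have h3 : w⁻¹ * (k₀ * w * k₀⁻¹) * c = 1 := by rw [hw', inv_mul_cancel]
        have := congrArg (fun t => w * t) h3
        simpa [mul_assoc] using this
      rw [this]
  set y₀ := (v : G) • (h • x) with hy₀
  have hy₀B : y₀ ∈ h • B := by
    have hvK : (v : G) ∈ kern G S.a B := v.2.2
    have := (mem_kern.1 hvK).2 h hh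
    rw [← this]
    exact Set.smul_mem_smul_set hy'mem
  have hy₀fix : k₀ • y₀ = y₀ := (hfixchar v v.2).2 hv'
  have huniq : ∀ y ∈ h • B, k₀ • y = y → y = y₀ := by
    intro y hy hky
    obtain ⟨w, hw, hwy⟩ := hK.trans h hh (h • x) hy'mem y hy
    rw [← hwy] at hky
    have h1 := (hfixchar w hw).1 hky
    have h2 : w = (v : G) := hinj k₀ hk₀K hk₀x hk₀1 w hw v v.2 (h1.trans hv'.symm)
    rw [← hwy, h2]
  refine ⟨y₀, ⟨hy₀B, ?_⟩, ?_⟩
  · intro k hkK hkx
    apply huniq
    · have := (mem_kern.1 hkK).2 h hh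
      rw [← this]
      exact Set.smul_mem_smul_set hy₀B
    · rw [← mul_smul, ← hcomm k hkK hkx, mul_smul, hy₀fix]
  · rintro y ⟨hyB, hyfix⟩
    exact huniq y hyB (hyfix k₀ hk₀K hk₀x)

end Cfsg.Agent.Helper3.DP
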