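import Mathlib
import Cfsg.Agent.Lib.Helper3.DPDefs
import Cfsg.Agent.Lib.Helper3.DPBasA
import Cfsg.Agent.Lib.Helper3.DPBasB
import Cfsg.Agent.Lib.Helper15.DPFIXN

/-!
# S2205, piece EXP (helper15, for helper3's skeleton)

If `K_x ≠ 1` then `P` has exponent `p`.  Proof: otherwise some `g ∈ P` has `z = g ^ p ≠ 1`,
`z ∈ P₀ = P ∩ K`.  Every `f ∈ N_K(P₀)` then centralises `P₀` (the commutator `d = f⁻¹ (g f g⁻¹)`
lies in `C_K(P₀) = P₀`, so `z f z⁻¹ = f d ^ p = f`).  Burnside's transfer theorem gives a normal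
`p`-complement of `K`, which contains `K_x`, fixes `x`, hence fixes `B` pointwise, hence is
trivial.
-/

set_option autoImplicit false
set_option linter.unusedSectionVars false
set_option linter.unusedVariables false
set_option linter.style.haveILetI false

open scoped Pointwise
open MulAction

namespace Cfsg.Agent.Helper3.DP

variable {G Ω : Type*} [Group G] [Finite G] [Fintype Ω] [MulAction G Ω] [FaithfulSMul G Ω] {p : ℕ}

/-- `g ^ p ∈ P₀` for `g ∈ P`. -/
theorem exp_pow_mem (S : Setup G Ω p) {B : Set Ω} (hK : KData S B) {g : G} (hg : g ∈ S.P) :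
    g ^ p ∈ S.P ⊓ kern G S.a B := by
  have hp : p.Prime := S.prime
  have hP0P : S.P ⊓ kern G S.a B ≤ S.P := inf_le_left
  haveI hnorm : ((S.P ⊓ kern G S.a B).subgroupOf S.P).Normal := by
    constructor
    intro n hn c
    have h1 : c * n * c⁻¹ = n := by
      apply Subtype.ext
      have h2 := S.P_comm (c : G) c.2 (n : G) n.2
      simp only [Subgroup.coe_mul, Subgroup.coe_inv]
      rw [h2, mul_inv_cancel_right]
    rw [h1]; exact hn
  have hidx : ((S.P ⊓ kern G S.a B).subgroupOf S.P).index = p := by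
    have h1 := ((S.P ⊓ kern G S.a B).subgroupOf S.P).card_mul_index
    rw [Nat.card_congr (Subgroup.subgroupOfEquivOfLe hP0P).toEquiv, hK.card_P0, S.P_card] at h1
    apply Nat.eq_of_mul_eq_mul_left hp.pos
    rw [h1]; ring
  have := Subgroup.pow_index_mem ((S.P ⊓ kern G S.a B).subgroupOf S.P) (⟨g, hg⟩ : S.P)
  rw [hidx, Subgroup.mem_subgroupOf] at this
  simpa using this

/-- elements of `P₀` have order dividing `p` -/
theorem exp_P0_pow (S : Setup G Ω p) {B : Set Ω} (hK : KData S B) {v : G}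
    (hv : v ∈ S.P ⊓ kern G S.a B) : v ^ p = 1 := by
  have h := pow_card_eq_one' (G := ↥(S.P ⊓ kern G S.a B)) (x := ⟨v, hv⟩)
  rw [hK.card_P0] at h
  simpa using congrArg Subtype.val h

/-- a nontrivial element of `P₀` generates it -/
theorem exp_P0_gen (S : Setup G Ω p) {B : Set Ω} (hK : KData S B) {z : G}
    (hz : z ∈ S.P ⊓ kern G S.a B) (hz1 : z ≠ 1) {v : G} (hv : v ∈ S.P ⊓ kern G S.a B) :
    ∃ k : ℤ, z ^ k = v := by
  haveI : Fact p.Prime := ⟨S.prime⟩
  have h := zpowers_eq_top_of_prime_card (G := ↥(S.P ⊓ kern G S.a B)) hK.card_P0 (g := ⟨z, hz⟩)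
    (by intro h; exact hz1 (congrArg Subtype.val h))
  have hm : (⟨v, hv⟩ : ↥(S.P ⊓ kern G S.a B)) ∈ Subgroup.zpowers
      (⟨z, hz⟩ : ↥(S.P ⊓ kern G S.a B)) := by rw [h]; trivial
  obtain ⟨k, hk⟩ := Subgroup.mem_zpowers_iff.1 hm
  exact ⟨k, by simpa using congrArg Subtype.val hk⟩

/-- if `P` does not have exponent `p`, then `N_K(P₀) ≤ C_K(P₀)` -/
theorem exp_centralize (S : Setup G Ω p) {B : Set Ω} (hK : KData S B) {x : Ω} (hx : x ∈ B)
    {g : G} (hg : g ∈ S.P) (hgp : g ^ p ≠ 1)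
    {f : G} (hf : f ∈ kern G S.a B)
    (hfn : ∀ v ∈ S.P ⊓ kern G S.a B, f * v * f⁻¹ ∈ S.P ⊓ kern G S.a B) :
    ∀ v ∈ S.P ⊓ kern G S.a B, f * v = v * f := by
  have hgH : g ∈ stabilizer G S.a := S.P_le hg
  obtain ⟨c, hc⟩ : ∃ c : G, c = g * f * g⁻¹ := ⟨_, rfl⟩
  have hcK : c ∈ kern G S.a B := by rw [hc]; exact hK.normal g hgH f hf
  obtain ⟨d, hd⟩ : ∃ d : G, d = f⁻¹ * c := ⟨_, rfl⟩
  have hdK : d ∈ kern G S.a B := by
    rw [hd]; exact (kern G S.a B).mul_mem ((kern G S.a B).inv_mem hf) hcK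
  -- `c v c⁻¹ = f v f⁻¹`
  have hcv : ∀ v ∈ S.P ⊓ kern G S.a B, c * v * c⁻¹ = f * v * f⁻¹ := by
    intro v hv
    have h1 : g⁻¹ * v = v * g⁻¹ := S.P_comm _ (S.P.inv_mem hg) _ hv.1
    have h2 : g * (f * v * f⁻¹) = (f * v * f⁻¹) * g := S.P_comm _ hg _ (hfn v hv).1
    calc c * v * c⁻¹ = g * f * (g⁻¹ * v) * g * f⁻¹ * g⁻¹ := by rw [hc]; group
      _ = g * f * (v * g⁻¹) * g * f⁻¹ * g⁻¹ := by rw [h1]
      _ = g * (f * v * f⁻¹) * g⁻¹ := by group
      _ = f * v * f⁻¹ := by rw [h2]; group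
  have hdc : ∀ v ∈ S.P ⊓ kern G S.a B, d * v = v * d := by
    intro v hv
    have := hcv v hv
    calc d * v = f⁻¹ * (c * v * c⁻¹) * c := by rw [hd]; group
      _ = f⁻¹ * (f * v * f⁻¹) * c := by rw [this]
      _ = v * d := by rw [hd]; group
  -- `d ∈ P₀`
  have hdP0 : d ∈ S.P ⊓ kern G S.a B := by
    have hx1 : x ∈ (1 : G) • B := by rw [one_smul]; exact hx
    have hdx : d • x ∈ (1 : G) • B := by
      have := (mem_kern.1 hdK).2 1 (Subgroup.one_mem _)
      rw [← this]; exact Set.smul_mem_smul_set hx1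
    obtain ⟨v, hv, hvx⟩ := hK.trans 1 (Subgroup.one_mem _) x hx1 (d • x) hdx
    have h1 : v⁻¹ * d = 1 := by
      apply fixn_eq_one S hK hx ((kern G S.a B).mul_mem ((kern G S.a B).inv_mem hv.2) hdK)
      · rw [mul_smul, ← hvx, inv_smul_smul]
      · intro w hw
        have hvw : v⁻¹ * w = w * v⁻¹ := S.P_comm _ (S.P.inv_mem hv.1) _ hw.1
        rw [mul_assoc, hdc w hw, ← mul_assoc, hvw, mul_assoc]
    have h2 : d = v := by
      calc d = v * (v⁻¹ * d) := by group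
        _ = v := by rw [h1, mul_one]
    rw [h2]; exact hv
  have hgd : g * d = d * g := S.P_comm _ hg _ hdP0.1
  have hcf : g * f * g⁻¹ = f * d := by rw [hd, hc]; group
  have hpow : ∀ n : ℕ, g ^ n * f * (g ^ n)⁻¹ = f * d ^ n := by
    intro n
    induction n with
    | zero => simp
    | succ n ih =>
      have hgdn : g * d ^ n = d ^ n * g := (Commute.pow_right hgd n)
      calc g ^ (n + 1) * f * (g ^ (n + 1))⁻¹ = g * (g ^ n * f * (g ^ n)⁻¹) * g⁻¹ := by
            rw [pow_succ']; group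
        _ = g * (f * d ^ n) * g⁻¹ := by rw [ih]
        _ = (g * f * g⁻¹) * (g * d ^ n) * g⁻¹ := by group
        _ = (f * d) * (d ^ n * g) * g⁻¹ := by rw [hcf, hgdn]
        _ = f * d ^ (n + 1) := by rw [pow_succ']; group
  have hdp : d ^ p = 1 := exp_P0_pow S hK hdP0
  have hzf : g ^ p * f = f * g ^ p := by
    have := hpow p
    rw [hdp, mul_one] at this
    calc g ^ p * f = (g ^ p * f * (g ^ p)⁻¹) * g ^ p := by group
      _ = f * g ^ p := by rw [this]
  intro v hv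
  obtain ⟨k, hk⟩ := exp_P0_gen S hK (exp_pow_mem S hK hg) hgp hv
  rw [← hk]
  have hcomm : Commute f (g ^ p) := hzf.symm
  exact (hcomm.zpow_right k).eq

/-- PIECE EXP. -/
theorem P_exp (S : Setup G Ω p) {B : Set Ω} (hK : KData S B) {x : Ω} (hx : x ∈ B)
    (hne : ∃ k ∈ kern G S.a B, k • x = x ∧ k ≠ 1) : ∀ g ∈ S.P, g ^ p = 1 := by
  classical
  intro g hg
  by_contra hgp
  have hp : p.Prime := S.prime
  haveI : Fact p.Prime := ⟨hp⟩
  have hxa : x ≠ S.a := S.blk_ne hK.blk hx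
  have hP0K : S.P ⊓ kern G S.a B ≤ kern G S.a B := inf_le_right
  have hcen := fun (f : G) hf hfn => exp_centralize S hK hx hg hgp (f := f) hf hfn
  -- work inside `K`
  have hP0Kcard : Nat.card ((S.P ⊓ kern G S.a B).subgroupOf (kern G S.a B)) = p :=
    (Nat.card_congr (Subgroup.subgroupOfEquivOfLe hP0K).toEquiv).trans hK.card_P0
  have hP0Kp : IsPGroup p ((S.P ⊓ kern G S.a B).subgroupOf (kern G S.a B)) :=
    IsPGroup.of_card (n := 1) (by rw [hP0Kcard, pow_one])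
  obtain ⟨Q, hQle⟩ := hP0Kp.exists_le_sylow
  have hKcard : Nat.card (kern G S.a B) = p * Nat.card ↥(kern G S.a B ⊓ stabilizer G x) :=
    S.card_kern hK hxa
  have hm : ¬ p ∣ Nat.card ↥(kern G S.a B ⊓ stabilizer G x) := S.not_dvd_card_kern_inf hK hxa
  have hm0 : Nat.card ↥(kern G S.a B ⊓ stabilizer G x) ≠ 0 := Nat.card_pos.ne'
  have hfac : (Nat.card (kern G S.a B)).factorization p = 1 := by
    rw [hKcard, Nat.factorization_mul hp.ne_zero hm0, Finsupp.add_apply, hp.factorization_self,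
      Nat.factorization_eq_zero_of_not_dvd hm]
  have hQcard : Nat.card (Q : Subgroup (kern G S.a B)) = p := by
    rw [Sylow.card_eq_multiplicity, hfac, pow_one]
  have hQeq : (S.P ⊓ kern G S.a B).subgroupOf (kern G S.a B) = (Q : Subgroup (kern G S.a B)) :=
    Subgroup.eq_of_le_of_card_ge hQle (by rw [hQcard, hP0Kcard])
  have hQmem : ∀ c : kern G S.a B, c ∈ (Q : Subgroup (kern G S.a B)) ↔
      (c : G) ∈ S.P ⊓ kern G S.a B := by
    intro c
    rw [← hQeq, Subgroup.mem_subgroupOf]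
  have hQ : Subgroup.normalizer ((Q : Subgroup (kern G S.a B)) : Set (kern G S.a B)) ≤
      Subgroup.centralizer ((Q : Subgroup (kern G S.a B)) : Set (kern G S.a B)) := by
    intro c hc
    rw [Subgroup.mem_centralizer_iff]
    intro q hq
    have hcn : ∀ v ∈ S.P ⊓ kern G S.a B, (c : G) * v * (c : G)⁻¹ ∈ S.P ⊓ kern G S.a B := by
      intro v hv
      have h1 : (⟨v, hP0K hv⟩ : kern G S.a B) ∈ (Q : Subgroup (kern G S.a B)) := (hQmem _).2 hv
      have h2 := (Subgroup.mem_normalizer_iff.1 hc ⟨v, hP0K hv⟩).1 h1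
      exact (hQmem _).1 h2
    have := hcen (c : G) c.2 hcn (q : G) ((hQmem q).1 hq)
    exact Subtype.ext this.symm
  obtain ⟨f, hf⟩ : ∃ f : (kern G S.a B) →* (Q : Subgroup (kern G S.a B)),
      f = MonoidHom.transferSylow Q hQ := ⟨_, rfl⟩
  have hcompl : Subgroup.IsComplement' f.ker (Q : Subgroup (kern G S.a B)) := by
    rw [hf]; exact MonoidHom.ker_transferSylow_isComplement' Q hQ
  -- Step 4: `K_x ≤ ker f`
  have h4 : ∀ k : kern G S.a B, (k : G) • x = x → f k = 1 := by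
    intro k hkx
    have h1 : orderOf (f k) ∣ orderOf (k : G) :=
      (orderOf_map_dvd f k).trans (Subgroup.orderOf_coe k).symm.dvd
    have h2 : orderOf (f k) ∣ p := by
      have := orderOf_dvd_natCard (f k)
      rwa [hQcard] at this
    have h3 : orderOf (k : G) ∣ Nat.card ↥(kern G S.a B ⊓ stabilizer G x) := by
      have hmem : (k : G) ∈ kern G S.a B ⊓ stabilizer G x := ⟨k.2, hkx⟩
      have := orderOf_dvd_natCard (⟨(k : G), hmem⟩ : ↥(kern G S.a B ⊓ stabilizer G x))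
      rwa [Subgroup.orderOf_mk] at this
    rcases (Nat.dvd_prime hp).1 h2 with h | h
    · exact orderOf_eq_one_iff.1 h
    · exact absurd ((h ▸ h1).trans h3) hm
  -- Step 5: `ker f` fixes `x`
  have hx1 : x ∈ (1 : G) • B := by rw [one_smul]; exact hx
  have h5 : ∀ q : kern G S.a B, f q = 1 → (q : G) • x = x := by
    intro q hq
    have hqx : (q : G) • x ∈ (1 : G) • B := by
      have := (mem_kern.1 q.2).2 1 (Subgroup.one_mem _)
      rw [← this]; exact Set.smul_mem_smul_set hx1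
    obtain ⟨v, hv, hvx⟩ := hK.trans 1 (Subgroup.one_mem _) x hx1 ((q : G) • x) hqx
    have h1 : f ((⟨v, hP0K hv⟩ : kern G S.a B)⁻¹ * q) = 1 := by
      apply h4
      show (v⁻¹ * (q : G)) • x = x
      rw [mul_smul, ← hvx, inv_smul_smul]
    have h2 : f (⟨v, hP0K hv⟩ : kern G S.a B) = 1 := by
      rw [map_mul, hq, mul_one, map_inv, inv_eq_one] at h1
      exact h1
    have h3 : (⟨v, hP0K hv⟩ : kern G S.a B) ∈ (Q : Subgroup (kern G S.a B)) := (hQmem _).2 hv
    have h4' : (⟨v, hP0K hv⟩ : kern G S.a B) = 1 :=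
      (Subgroup.disjoint_def.1 hcompl.disjoint) (MonoidHom.mem_ker.2 h2) h3
    have h5' : v = 1 := congrArg Subtype.val h4'
    rw [← hvx, h5', one_smul]
  -- Step 6: `K_x` fixes `B` pointwise
  obtain ⟨k₀, hk₀K, hk₀x, hk₀1⟩ := hne
  apply hk₀1
  apply hK.faithful k₀ hk₀K 1 (Subgroup.one_mem _)
  intro y hy
  obtain ⟨v, hv, hvx⟩ := hK.trans 1 (Subgroup.one_mem _) x hx1 y hy
  have h1 : f ((⟨v, hP0K hv⟩ : kern G S.a B)⁻¹ * ⟨k₀, hk₀K⟩ * ⟨v, hP0K hv⟩) = 1 := by
    rw [map_mul, map_mul, h4 ⟨k₀, hk₀K⟩ hk₀x, mul_one, map_inv, inv_mul_cancel]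
  have h3 : (v⁻¹ * k₀ * v) • x = x := h5 _ h1
  rw [← hvx]
  calc k₀ • v • x = v • ((v⁻¹ * k₀ * v) • x) := by simp only [mul_smul, smul_inv_smul]
    _ = v • x := by rw [h3]

end Cfsg.Agent.Helper3.DP
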