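import Mathlib
import Cfsg.Agent.Lib.Helper15.ExtraModule1
import Cfsg.Agent.Lib.Helper15.SylowIn

/-!
# Faithful modules for extraspecial groups: group-theoretic part (helper15's shared library)
-/

set_option autoImplicit false

namespace Cfsg.Agent.Helper15.ExtraMod

open Cfsg.Agent.Helper15

variable {G : Type*} [Group G]

/-- Transport of the abstract decomposition: `u`, `w` commuting elements of order dividing `p`
normalizing the abelian `p'`-group `A`, `w` fixed-point-free. -/
theorem card_pow_le_and_ne_bot {p : ℕ} [Fact p.Prime] (A : Subgroup G) [Finite A]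
    (hAc : IsMulCommutative A) (hcop : (Nat.card A).Coprime p) {u w : G}
    (hu : u ∈ Subgroup.normalizer (A : Set G)) (hw : w ∈ Subgroup.normalizer (A : Set G))
    (huw : Commute u w) (hup : u ^ p = 1) (hwp : w ^ p = 1)
    (hfix : ∀ a ∈ A, w * a = a * w → a = 1)
    (hcard : ∀ i < p, Nat.card ↥(A ⊓ Subgroup.centralizer ({u * w ^ i} : Set G)) =
      Nat.card ↥(A ⊓ Subgroup.centralizer ({u} : Set G))) :
    Nat.card ↥(A ⊓ Subgroup.centralizer ({u} : Set G)) ^ p ≤ Nat.card A ∧
      (A ≠ ⊥ → A ⊓ Subgroup.centralizer ({u} : Set G) ≠ ⊥) := by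
  letI : CommGroup ↥A := { (inferInstance : Group ↥A) with mul_comm := fun a b => mul_comm' a b }
  set σ : MulAut ↥A := Subgroup.normalizerMonoidHom A ⟨u, hu⟩ with hσdef
  set τ : MulAut ↥A := Subgroup.normalizerMonoidHom A ⟨w, hw⟩ with hτdef
  have hc : Commute σ τ := by
    show σ * τ = τ * σ
    rw [hσdef, hτdef, ← map_mul, ← map_mul]
    congr 1
    exact Subtype.ext huw.eq
  have hσ : σ ^ p = 1 := by
    rw [hσdef, ← map_pow]
    have : (⟨u, hu⟩ : Subgroup.normalizer (A : Set G)) ^ p = 1 := Subtype.ext (by simpa using hup)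
    rw [this, map_one]
  have hτ : τ ^ p = 1 := by
    rw [hτdef, ← map_pow]
    have : (⟨w, hw⟩ : Subgroup.normalizer (A : Set G)) ^ p = 1 := Subtype.ext (by simpa using hwp)
    rw [this, map_one]
  have hfix' : ∀ a : ↥A, τ a = a → a = 1 := by
    intro a ha
    have h1 : w * (a : G) * w⁻¹ = a := congrArg Subtype.val ha
    have h2 : w * (a : G) = a * w := by
      calc w * (a : G) = (w * (a : G) * w⁻¹) * w := by group
        _ = a * w := by rw [h1]
    exact Subtype.ext (hfix a a.2 h2)
  -- fixed points of `σ τ^i`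
  have happly : ∀ (i : ℕ) (a : ↥A), (((σ * τ ^ i) a : ↥A) : G) = (u * w ^ i) * a * (u * w ^ i)⁻¹ := by
    intro i a
    have h1 : σ * τ ^ i = Subgroup.normalizerMonoidHom A
        (⟨u, hu⟩ * ⟨w, hw⟩ ^ i : Subgroup.normalizer (A : Set G)) := by
      rw [map_mul, map_pow]
    rw [h1]
    rfl
  have hmap : ∀ i : ℕ, (fixedSub (σ * τ ^ i)).map A.subtype =
      A ⊓ Subgroup.centralizer ({u * w ^ i} : Set G) := by
    intro i
    ext x
    constructor
    · rintro ⟨a, ha, rfl⟩
      have h1 := congrArg Subtype.val (mem_fixedSub.mp ha)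
      rw [happly] at h1
      refine Subgroup.mem_inf.mpr ⟨a.2, ?_⟩
      rw [Subgroup.mem_centralizer_singleton_iff]
      show (a : G) * (u * w ^ i) = (u * w ^ i) * a
      calc (a : G) * (u * w ^ i) = ((u * w ^ i) * a * (u * w ^ i)⁻¹) * (u * w ^ i) := by rw [h1]
        _ = (u * w ^ i) * a := by group
    · intro hx
      obtain ⟨hxA, hxc⟩ := Subgroup.mem_inf.mp hx
      rw [Subgroup.mem_centralizer_singleton_iff] at hxc
      refine ⟨⟨x, hxA⟩, ?_, rfl⟩
      apply mem_fixedSub.mpr
      apply Subtype.ext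
      rw [happly]
      show (u * w ^ i) * x * (u * w ^ i)⁻¹ = x
      rw [← hxc]
      group
  have hcardfix : ∀ i : ℕ, Nat.card (fixedSub (σ * τ ^ i)) =
      Nat.card ↥(A ⊓ Subgroup.centralizer ({u * w ^ i} : Set G)) := by
    intro i
    rw [← hmap i, Subgroup.card_map_of_injective A.subtype_injective]
  constructor
  · have h1 := prod_card_fixedSub_le hc hτ hfix' hcop
    have h2 : ∏ i : Fin p, Nat.card (fixedSub (σ * τ ^ (i : ℕ))) =
        Nat.card ↥(A ⊓ Subgroup.centralizer ({u} : Set G)) ^ p := by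
      rw [Finset.prod_congr rfl (fun (i : Fin p) _ => (hcardfix (i : ℕ)).trans (hcard (i : ℕ) i.2))]
      simp
    rw [h2] at h1
    exact h1
  · intro hne hbot
    apply hne
    rw [eq_bot_iff]
    intro x hx
    have hall : ∀ i < p, fixedSub (σ * τ ^ i) = ⊥ := by
      intro i hi
      apply Subgroup.eq_bot_of_card_eq
      rw [hcardfix, hcard i hi, hbot]
      exact Subgroup.card_bot
    have := eq_one_of_forall_fixedSub_eq_bot hc hσ hτ hfix' hcop hall ⟨x, hx⟩
    rw [Subgroup.mem_bot]
    exact congrArg Subtype.val this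

end Cfsg.Agent.Helper15.ExtraMod
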