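import Mathlib
import Cfsg.Agent.Lib.Helper15.OmegaOne
import Cfsg.Agent.Lib.Helper7.Cores

/-!
# Extraspecial-like pairs `(P, Z)` inside a group (helper15's shared library)
-/

set_option autoImplicit false
set_option linter.unusedSectionVars false

namespace Cfsg.Agent.Helper15.ExtraMod

open Cfsg.Agent.Helper15
open scoped commutatorElement

variable {G : Type*} [Group G]

/-- `Z ≤ P` of order `p`, central in `P`, containing all commutators of `P`, and equal to the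
centre of `P`. -/
structure Sympl (p : ℕ) (P Z : Subgroup G) : Prop where
  le : Z ≤ P
  card : Nat.card Z = p
  central : ∀ g ∈ P, ∀ t ∈ Z, g * t = t * g
  comm_mem : ∀ g ∈ P, ∀ h ∈ P, ⁅g, h⁆ ∈ Z
  center_le : ∀ g ∈ P, (∀ h ∈ P, g * h = h * g) → g ∈ Z

namespace Sympl

variable {p : ℕ} [Fact p.Prime] {P Z : Subgroup G}

theorem comm_mul_left (hS : Sympl p P Z) {g h c : G} (hg : g ∈ P) (hh : h ∈ P) (hc : c ∈ P) :
    ⁅g * h, c⁆ = ⁅g, c⁆ * ⁅h, c⁆ := by
  have h1 : ⁅g * h, c⁆ = g * ⁅h, c⁆ * g⁻¹ * ⁅g, c⁆ := by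
    simp only [commutatorElement_def]
    group
  have h2 : g * ⁅h, c⁆ = ⁅h, c⁆ * g := hS.central g hg _ (hS.comm_mem h hh c hc)
  have h3 : ⁅g, c⁆ * ⁅h, c⁆ = ⁅h, c⁆ * ⁅g, c⁆ :=
    hS.central _ (hS.le (hS.comm_mem g hg c hc)) _ (hS.comm_mem h hh c hc)
  rw [h1, h2, h3]
  group

theorem comm_mul_right (hS : Sympl p P Z) {g c d : G} (hg : g ∈ P) (hc : c ∈ P) (hd : d ∈ P) :
    ⁅g, c * d⁆ = ⁅g, c⁆ * ⁅g, d⁆ := by
  have h1 := hS.comm_mul_left hc hd hg
  have h2 : ⁅g, c * d⁆ = (⁅c * d, g⁆)⁻¹ := (commutatorElement_inv _ _).symm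
  rw [h2, h1, mul_inv_rev, commutatorElement_inv, commutatorElement_inv]
  exact (hS.central _ (hS.le (hS.comm_mem g hg c hc)) _ (hS.comm_mem g hg d hd)).symm

theorem comm_pow_left (hS : Sympl p P Z) {g c : G} (hg : g ∈ P) (hc : c ∈ P) (k : ℕ) :
    ⁅g ^ k, c⁆ = ⁅g, c⁆ ^ k := by
  apply commutatorElement_pow_left_of_commute
  exact (hS.central g hg _ (hS.comm_mem g hg c hc)).symm

theorem comm_pow_right (hS : Sympl p P Z) {g c : G} (hg : g ∈ P) (hc : c ∈ P) (k : ℕ) :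
    ⁅g, c ^ k⁆ = ⁅g, c⁆ ^ k := by
  have h1 := hS.comm_pow_left hc hg k
  have h2 : ⁅g, c ^ k⁆ = (⁅c ^ k, g⁆)⁻¹ := (commutatorElement_inv _ _).symm
  rw [h2, h1, ← inv_pow, commutatorElement_inv]

theorem pow_p_eq_one (hS : Sympl p P Z) {t : G} (ht : t ∈ Z) : t ^ p = 1 := by
  have h1 : (⟨t, ht⟩ : ↥Z) ^ Nat.card ↥Z = 1 := pow_card_eq_one'
  rw [hS.card] at h1
  exact congrArg Subtype.val h1

theorem exists_pow_eq (hS : Sympl p P Z) {z t : G} (hz : z ∈ Z) (hz1 : z ≠ 1) (ht : t ∈ Z) :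
    ∃ k : ℕ, z ^ k = t := by
  have hne : (⟨z, hz⟩ : ↥Z) ≠ 1 := fun h => hz1 (congrArg Subtype.val h)
  obtain ⟨k, hk⟩ := mem_powers_of_prime_card (p := p) hS.card (g' := (⟨t, ht⟩ : ↥Z)) hne
  exact ⟨k, congrArg Subtype.val hk⟩

theorem commute_of_mem (hS : Sympl p P Z) {a b : G} (ha : a ∈ Z) (hb : b ∈ Z) : a * b = b * a :=
  hS.central a (hS.le ha) b hb

theorem exists_noncomm (hS : Sympl p P Z) {g : G} (hg : g ∈ P) (hgZ : g ∉ Z) :
    ∃ h ∈ P, ⁅h, g⁆ ≠ 1 := by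
  by_contra hcon
  push Not at hcon
  apply hgZ
  apply hS.center_le g hg
  intro h hh
  exact (commutatorElement_eq_one_iff_mul_comm.mp (hcon h hh)).symm

theorem pow_p_mem (hS : Sympl p P Z) {g : G} (hg : g ∈ P) : g ^ p ∈ Z := by
  apply hS.center_le _ (P.pow_mem hg p)
  intro h hh
  apply commutatorElement_eq_one_iff_mul_comm.mp
  rw [hS.comm_pow_left hg hh, hS.pow_p_eq_one (hS.comm_mem g hg h hh)]

theorem conj_eq (g c : G) : g * c * g⁻¹ = ⁅g, c⁆ * c := by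
  rw [commutatorElement_def]; group

/-- the index of a centralizer is at most `p` -/
theorem card_le_mul_card_inf_centralizer [Finite G] (hS : Sympl p P Z) {c : G} (hc : c ∈ P)
    (Q : Subgroup G) (hQ : Q ≤ P) :
    Nat.card ↥Q ≤ p * Nat.card ↥(Q ⊓ Subgroup.centralizer ({c} : Set G)) := by
  let φ : ↥Q →* ↥Z :=
    { toFun := fun g => ⟨⁅(g : G), c⁆, hS.comm_mem _ (hQ g.2) c hc⟩
      map_one' := by
        apply Subtype.ext
        show ⁅(1 : G), c⁆ = 1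
        simp
      map_mul' := by
        intro a b
        apply Subtype.ext
        show ⁅(a : G) * b, c⁆ = ⁅(a : G), c⁆ * ⁅(b : G), c⁆
        exact hS.comm_mul_left (hQ a.2) (hQ b.2) hc }
  have hker : φ.ker = (Q ⊓ Subgroup.centralizer ({c} : Set G)).subgroupOf Q := by
    ext g
    rw [MonoidHom.mem_ker, Subgroup.mem_subgroupOf, Subgroup.mem_inf,
      Subgroup.mem_centralizer_singleton_iff]
    constructor
    · intro h
      have h1 : ⁅(g : G), c⁆ = 1 := congrArg Subtype.val h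
      exact ⟨g.2, commutatorElement_eq_one_iff_mul_comm.mp h1⟩
    · intro h
      apply Subtype.ext
      show ⁅(g : G), c⁆ = 1
      exact commutatorElement_eq_one_iff_mul_comm.mpr h.2
  have h1 := Subgroup.card_mul_index φ.ker
  rw [Subgroup.index_ker, hker, Cfsg.Agent.Helper7.card_subgroupOf_of_le inf_le_left] at h1
  have h2 : Nat.card ↥φ.range ≤ p := by
    rw [← hS.card]
    exact Subgroup.card_le_card_group _
  calc Nat.card ↥Q = Nat.card ↥(Q ⊓ Subgroup.centralizer ({c} : Set G)) * Nat.card ↥φ.range :=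
        h1.symm
    _ ≤ Nat.card ↥(Q ⊓ Subgroup.centralizer ({c} : Set G)) * p := Nat.mul_le_mul_left _ h2
    _ = p * Nat.card ↥(Q ⊓ Subgroup.centralizer ({c} : Set G)) := Nat.mul_comm _ _

end Sympl

end Cfsg.Agent.Helper15.ExtraMod
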