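import Mathlib
import Cfsg.Agent.Lib.Helper15.ExtraModule2
import Cfsg.Agent.Lib.Helper15.ExtraModule3
import Cfsg.Agent.Lib.Helper15.CoprimeGen2
import Cfsg.Agent.Lib.Helper16.CyclicCrit
import Cfsg.Agent.Lib.Helper1.CommutatorBasic

/-!
# Extraspecial-like pairs: noncentral elements of order `p`, the inductive step
(helper15's shared library)
-/

set_option autoImplicit false
set_option linter.unusedSectionVars false

namespace Cfsg.Agent.Helper15.ExtraMod

open Cfsg.Agent.Helper15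
open scoped commutatorElement

variable {G : Type*} [Group G]

namespace Sympl

variable {p : ℕ} [Fact p.Prime] {P Z : Subgroup G}

/-- if every element of order dividing `p` is central then `p = 2` -/
theorem two_of_no_noncentral (hS : Sympl p P Z) {x y : G} (hx : x ∈ P) (hy : y ∈ P)
    (hxy : ⁅y, x⁆ ≠ 1) (hno : ∀ u ∈ P, u ^ p = 1 → u ∈ Z) : p = 2 := by
  by_contra hp2
  have hxZ : x ∉ Z := fun h =>
    hxy (commutatorElement_eq_one_iff_mul_comm.mpr (hS.central y hy x h))
  have hxp : x ^ p ≠ 1 := fun h => hxZ (hno x hx h)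
  have hxpZ := hS.pow_p_mem hx
  have hypZ := hS.pow_p_mem hy
  obtain ⟨s, hs⟩ := hS.exists_pow_eq hxpZ hxp (Z.inv_mem hypZ)
  have hxsP : x ^ s ∈ P := P.pow_mem hx s
  have huP : x ^ s * y ∈ P := P.mul_mem hxsP hy
  have hcZ : ⁅y, x ^ s⁆ ∈ Z := hS.comm_mem y hy _ hxsP
  have h1 := mul_pow_of_commutator_central (x := x ^ s) (y := y)
    (hS.central _ hxsP _ hcZ).symm (hS.central _ hy _ hcZ).symm p
  obtain ⟨m, hm⟩ := dvd_sum_range_of_odd (Fact.out : p.Prime) hp2
  have h2 : ⁅y, x ^ s⁆ ^ (∑ i ∈ Finset.range p, i) = 1 := by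
    rw [hm, pow_mul, hS.pow_p_eq_one hcZ, one_pow]
  have h3 : (x ^ s) ^ p = (y ^ p)⁻¹ := by
    rw [← pow_mul, mul_comm, pow_mul, hs]
  have hup : (x ^ s * y) ^ p = 1 := by
    rw [h1, h2, h3]; group
  have huZ := hno _ huP hup
  have h4 : ⁅x ^ s * y, x⁆ = ⁅y, x⁆ := by
    rw [hS.comm_mul_left hxsP hy hx, hS.comm_pow_left hx hx, commutatorElement_self, one_pow,
      one_mul]
  apply hxy
  rw [← h4]
  exact commutatorElement_eq_one_iff_mul_comm.mpr (hS.central x hx _ huZ).symm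

/-- if every involution is central then the group has order at most `8` -/
theorem inf_centralizer_le_of_no_noncentral (hS : Sympl p P Z) (hp : p = 2) {x y : G}
    (hx : x ∈ P) (hy : y ∈ P) (hxy : ⁅y, x⁆ ≠ 1) (hno : ∀ u ∈ P, u ^ p = 1 → u ∈ Z) :
    P ⊓ Subgroup.centralizer ({x} : Set G) ⊓ Subgroup.centralizer ({y} : Set G) ≤ Z := by
  subst hp
  intro t ht
  obtain ⟨ht1, hty⟩ := Subgroup.mem_inf.mp ht
  obtain ⟨htP, htx⟩ := Subgroup.mem_inf.mp ht1
  rw [Subgroup.mem_centralizer_singleton_iff] at htx hty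
  by_contra htZ
  have ht2 : t ^ 2 ≠ 1 := fun h => htZ (hno t htP h)
  have hxZ : x ∉ Z := fun h =>
    hxy (commutatorElement_eq_one_iff_mul_comm.mpr (hS.central y hy x h))
  have hx2 : x ^ 2 ≠ 1 := fun h => hxZ (hno x hx h)
  have hx2Z := hS.pow_p_mem hx
  have ht2Z := hS.pow_p_mem htP
  obtain ⟨k, hk⟩ := hS.exists_pow_eq hx2Z hx2 ht2Z
  have hx4 : (x ^ 2) ^ 2 = 1 := hS.pow_p_eq_one hx2Z
  have heq : t ^ 2 = x ^ 2 := by
    rcases Nat.even_or_odd' k with ⟨m, rfl | rfl⟩
    · exfalso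
      apply ht2
      rw [← hk, pow_mul, hx4, one_pow]
    · rw [← hk, pow_succ, pow_mul, hx4, one_pow, one_mul]
  have hc : Commute x t := htx.symm
  have hxt : (x * t) ^ 2 = 1 := by
    rw [hc.mul_pow, heq, ← pow_two, hx4]
  have hxtZ := hno _ (P.mul_mem hx htP) hxt
  apply hxy
  apply commutatorElement_eq_one_iff_mul_comm.mpr
  have h1 : y * (x * t) = (x * t) * y := hS.central y hy _ hxtZ
  calc y * x = y * (x * t) * t⁻¹ := by group
    _ = x * t * y * t⁻¹ := by rw [h1]
    _ = x * (t * y) * t⁻¹ := by group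
    _ = x * (y * t) * t⁻¹ := by rw [hty]
    _ = x * y := by group

end Sympl

/-- a fixed-point-free element of order `p` on an elementary abelian `r`-group -/
theorem base_bound [Finite G] {p r : ℕ} [Fact p.Prime] [Fact r.Prime] {n : ℕ}
    (hmin : ∀ k : ℕ, 1 ≤ k → p ∣ r ^ k - 1 → n ≤ k) {A : Subgroup G}
    (hA : Cfsg.IsElementaryAbelian r A) (hAne : A ≠ ⊥) {t : G}
    (htN : t ∈ Subgroup.normalizer (A : Set G)) (htp : t ^ p = 1)
    (hfix : ∀ a ∈ A, t * a = a * t → a = 1) : r ^ n ≤ Nat.card ↥A := by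
  have hAc : IsMulCommutative ↥A := hA.1
  letI : CommGroup ↥A := { (inferInstance : Group ↥A) with mul_comm := fun a b => mul_comm' a b }
  set τ : MulAut ↥A := Subgroup.normalizerMonoidHom A ⟨t, htN⟩ with hτdef
  have hτ : τ ^ p = 1 := by
    rw [hτdef, ← map_pow]
    have : (⟨t, htN⟩ : Subgroup.normalizer (A : Set G)) ^ p = 1 := Subtype.ext (by simpa using htp)
    rw [this, map_one]
  have hfix' : ∀ a : ↥A, τ a = a → a = 1 := by
    intro a ha
    have h1 : t * (a : G) * t⁻¹ = a := congrArg Subtype.val ha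
    have h2 : t * (a : G) = a * t := by
      calc t * (a : G) = (t * (a : G) * t⁻¹) * t := by group
        _ = a * t := by rw [h1]
    exact Subtype.ext (hfix a a.2 h2)
  have hmod := card_modEq_one (p := p) hτ hfix'
  obtain ⟨k, hk⟩ := (isPGroup_of_isElementaryAbelian hA).exists_card_eq
  have hk0 : k ≠ 0 := by
    rintro rfl
    apply hAne
    apply Subgroup.eq_bot_of_card_eq
    rw [hk, pow_zero]
  have hr : 1 < r := (Fact.out : r.Prime).one_lt
  have hpos : 1 ≤ r ^ k := Nat.one_le_pow _ _ (by omega)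
  have hdvd : p ∣ r ^ k - 1 := by
    rw [hk] at hmod
    exact (Nat.modEq_iff_dvd' hpos).mp hmod.symm
  have hnk := hmin k (by omega) hdvd
  rw [hk]
  exact Nat.pow_le_pow_right (by omega) hnk

/-- if a commutator of two normalizing elements acts without fixed points then the order is at
least `r ^ 2` -/
theorem sq_le_card_of_fpf_commutator [Finite G] {r : ℕ} [Fact r.Prime] {A : Subgroup G}
    (hA : Cfsg.IsElementaryAbelian r A) (hAne : A ≠ ⊥) {x y : G}
    (hx : x ∈ Subgroup.normalizer (A : Set G)) (hy : y ∈ Subgroup.normalizer (A : Set G))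
    (hfix : ∀ a ∈ A, ⁅x, y⁆ * a = a * ⁅x, y⁆ → a = 1) : r ^ 2 ≤ Nat.card ↥A := by
  obtain ⟨k, hk⟩ := (isPGroup_of_isElementaryAbelian hA).exists_card_eq
  have hr : 1 < r := (Fact.out : r.Prime).one_lt
  have hk0 : k ≠ 0 := by
    rintro rfl
    apply hAne
    apply Subgroup.eq_bot_of_card_eq
    rw [hk, pow_zero]
  have hk1 : k ≠ 1 := by
    rintro rfl
    rw [pow_one] at hk
    haveI : IsCyclic ↥A := isCyclic_of_prime_card hk
    apply hAne
    rw [eq_bot_iff]
    intro a ha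
    rw [Subgroup.mem_bot]
    apply hfix a ha
    set σ : MulAut ↥A := Subgroup.normalizerMonoidHom A ⟨x, hx⟩ with hσdef
    set τ : MulAut ↥A := Subgroup.normalizerMonoidHom A ⟨y, hy⟩ with hτdef
    have hc : ⁅σ, τ⁆ = 1 :=
      commutatorElement_eq_one_iff_mul_comm.mpr (Cfsg.Agent.Helper16.mulAut_comm_of_isCyclic σ τ)
    have h1 : Subgroup.normalizerMonoidHom A ⁅(⟨x, hx⟩ : Subgroup.normalizer (A : Set G)),
        (⟨y, hy⟩ : Subgroup.normalizer (A : Set G))⁆ = 1 := by
      rw [map_commutatorElement]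
      exact hc
    have h2 := congrArg (fun f : MulAut ↥A => ((f ⟨a, ha⟩ : ↥A) : G)) h1
    have h3 : ⁅x, y⁆ * a * ⁅x, y⁆⁻¹ = a := h2
    calc ⁅x, y⁆ * a = (⁅x, y⁆ * a * ⁅x, y⁆⁻¹) * ⁅x, y⁆ := by group
      _ = a * ⁅x, y⁆ := by rw [h3]
  rw [hk]
  exact Nat.pow_le_pow_right (by omega) (by omega)

/-- conjugate centralizers in a normalized subgroup have the same order -/
theorem card_inf_centralizer_conj (A : Subgroup G) {g u v : G}
    (hg : g ∈ Subgroup.normalizer (A : Set G)) (h : g * u * g⁻¹ = v) :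
    Nat.card ↥(A ⊓ Subgroup.centralizer ({v} : Set G)) =
      Nat.card ↥(A ⊓ Subgroup.centralizer ({u} : Set G)) := by
  have heq : A ⊓ Subgroup.centralizer ({v} : Set G) =
      (A ⊓ Subgroup.centralizer ({u} : Set G)).map (MulAut.conj g).toMonoidHom := by
    ext x
    rw [Subgroup.mem_map]
    constructor
    · intro hx
      obtain ⟨hxA, hxv⟩ := Subgroup.mem_inf.mp hx
      rw [Subgroup.mem_centralizer_singleton_iff] at hxv
      refine ⟨g⁻¹ * x * g, Subgroup.mem_inf.mpr ⟨?_, ?_⟩, ?_⟩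
      · have := (Subgroup.mem_normalizer_iff.mp (Subgroup.inv_mem _ hg) x).mp hxA
        simpa using this
      · rw [Subgroup.mem_centralizer_singleton_iff]
        have hu : u = g⁻¹ * v * g := by rw [← h]; group
        rw [hu]
        calc g⁻¹ * x * g * (g⁻¹ * v * g) = g⁻¹ * (x * v) * g := by group
          _ = g⁻¹ * (v * x) * g := by rw [hxv]
          _ = g⁻¹ * v * g * (g⁻¹ * x * g) := by group
      · show g * (g⁻¹ * x * g) * g⁻¹ = x
        group
    · rintro ⟨a, ha, rfl⟩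
      obtain ⟨haA, hau⟩ := Subgroup.mem_inf.mp ha
      rw [Subgroup.mem_centralizer_singleton_iff] at hau
      refine Subgroup.mem_inf.mpr ⟨?_, ?_⟩
      · exact (Subgroup.mem_normalizer_iff.mp hg a).mp haA
      · rw [Subgroup.mem_centralizer_singleton_iff]
        show g * a * g⁻¹ * v = v * (g * a * g⁻¹)
        rw [← h]
        calc g * a * g⁻¹ * (g * u * g⁻¹) = g * (a * u) * g⁻¹ := by group
          _ = g * (u * a) * g⁻¹ := by rw [hau]
          _ = g * u * g⁻¹ * (g * a * g⁻¹) := by group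
  rw [heq, card_map_conj]

end Cfsg.Agent.Helper15.ExtraMod
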