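import Mathlib
import Cfsg.Agent.Lib.Helper15.ExtraModule4

/-!
# Extraspecial-like pairs acting on elementary abelian groups: the order bound
(helper15's shared library)
-/

set_option autoImplicit false
set_option linter.unusedSectionVars false

namespace Cfsg.Agent.Helper15.ExtraMod

open Cfsg.Agent.Helper15
open scoped commutatorElement

variable {G : Type*} [Group G]

theorem isElementaryAbelian_of_le {r : ℕ} {A B : Subgroup G} (hBA : B ≤ A)
    (hA : Cfsg.IsElementaryAbelian r A) : Cfsg.IsElementaryAbelian r B := by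
  obtain ⟨h1, h2⟩ := hA
  refine ⟨⟨⟨?_⟩⟩, fun b hb => h2 b (hBA hb)⟩
  rintro ⟨a, ha⟩ ⟨b, hb⟩
  have := mul_comm' (⟨a, hBA ha⟩ : A) ⟨b, hBA hb⟩
  apply Subtype.ext
  have h3 := congrArg Subtype.val this
  exact h3

namespace Sympl

variable {p : ℕ} [Fact p.Prime] {P Z : Subgroup G}

theorem exists_mul_mem_inf_centralizer (hS : Sympl p P Z) {u y : G} (hu : u ∈ P) (hy : y ∈ P)
    (hz : ⁅y, u⁆ ≠ 1) {h : G} (hh : h ∈ P) :
    ∃ s t : ℕ, h * y ^ s * u ^ t ∈
      P ⊓ Subgroup.centralizer ({u} : Set G) ⊓ Subgroup.centralizer ({y} : Set G) := by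
  have hzZ : ⁅y, u⁆ ∈ Z := hS.comm_mem y hy u hu
  obtain ⟨s, hs⟩ := hS.exists_pow_eq hzZ hz (Z.inv_mem (hS.comm_mem h hh u hu))
  obtain ⟨t, ht⟩ := hS.exists_pow_eq hzZ hz (hS.comm_mem h hh y hy)
  refine ⟨s, t, ?_⟩
  have hysP : y ^ s ∈ P := P.pow_mem hy s
  have hutP : u ^ t ∈ P := P.pow_mem hu t
  have hhyP : h * y ^ s ∈ P := P.mul_mem hh hysP
  have hmem : h * y ^ s * u ^ t ∈ P := P.mul_mem hhyP hutP
  have e1 : ⁅h * y ^ s * u ^ t, u⁆ = 1 := by
    rw [hS.comm_mul_left hhyP hutP hu, hS.comm_mul_left hh hysP hu, hS.comm_pow_left hy hu,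
      hS.comm_pow_left hu hu, commutatorElement_self, one_pow, mul_one, hs, mul_inv_cancel]
  have e2 : ⁅h * y ^ s * u ^ t, y⁆ = 1 := by
    have h1 : ⁅u, y⁆ = (⁅y, u⁆)⁻¹ := (commutatorElement_inv y u).symm
    rw [hS.comm_mul_left hhyP hutP hy, hS.comm_mul_left hh hysP hy, hS.comm_pow_left hy hy,
      hS.comm_pow_left hu hy, commutatorElement_self, one_pow, mul_one, h1, inv_pow, ht,
      mul_inv_cancel]
  refine Subgroup.mem_inf.mpr ⟨Subgroup.mem_inf.mpr ⟨hmem, ?_⟩, ?_⟩
  · rw [Subgroup.mem_centralizer_singleton_iff]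
    exact commutatorElement_eq_one_iff_mul_comm.mp e1
  · rw [Subgroup.mem_centralizer_singleton_iff]
    exact commutatorElement_eq_one_iff_mul_comm.mp e2

/-- the centralizer of a hyperbolic pair is again extraspecial-like -/
theorem inf_centralizer (hS : Sympl p P Z) {u y : G} (hu : u ∈ P) (hy : y ∈ P)
    (hz : ⁅y, u⁆ ≠ 1) :
    Sympl p (P ⊓ Subgroup.centralizer ({u} : Set G) ⊓ Subgroup.centralizer ({y} : Set G)) Z where
  le := by
    intro t ht
    refine Subgroup.mem_inf.mpr ⟨Subgroup.mem_inf.mpr ⟨hS.le ht, ?_⟩, ?_⟩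
    · rw [Subgroup.mem_centralizer_singleton_iff]
      exact (hS.central u hu t ht).symm
    · rw [Subgroup.mem_centralizer_singleton_iff]
      exact (hS.central y hy t ht).symm
  card := hS.card
  central := fun g hg t ht => hS.central g (Subgroup.mem_inf.mp (Subgroup.mem_inf.mp hg).1).1 t ht
  comm_mem := fun g hg h hh =>
    hS.comm_mem g (Subgroup.mem_inf.mp (Subgroup.mem_inf.mp hg).1).1 h
      (Subgroup.mem_inf.mp (Subgroup.mem_inf.mp hh).1).1
  center_le := by
    intro g hg hcomm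
    obtain ⟨hg1, hgy⟩ := Subgroup.mem_inf.mp hg
    obtain ⟨hgP, hgu⟩ := Subgroup.mem_inf.mp hg1
    rw [Subgroup.mem_centralizer_singleton_iff] at hgu hgy
    apply hS.center_le g hgP
    intro h hh
    obtain ⟨s, t, hst⟩ := hS.exists_mul_mem_inf_centralizer hu hy hz hh
    have c1 : Commute g (h * y ^ s * u ^ t) := hcomm _ hst
    have cu : Commute g u := hgu
    have cy : Commute g y := hgy
    have e : h = (h * y ^ s * u ^ t) * (u ^ t)⁻¹ * (y ^ s)⁻¹ := by group
    have c2 : Commute g ((h * y ^ s * u ^ t) * (u ^ t)⁻¹ * (y ^ s)⁻¹) :=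
      (c1.mul_right (cu.pow_right t).inv_right).mul_right (cy.pow_right s).inv_right
    rw [← e] at c2
    exact c2

theorem card_le_sq_mul [Finite G] (hS : Sympl p P Z) {u y : G} (hu : u ∈ P) (hy : y ∈ P) :
    Nat.card ↥P ≤ p ^ 2 * Nat.card
      ↥(P ⊓ Subgroup.centralizer ({u} : Set G) ⊓ Subgroup.centralizer ({y} : Set G)) := by
  have h1 := hS.card_le_mul_card_inf_centralizer hu P le_rfl
  have h2 := hS.card_le_mul_card_inf_centralizer hy (P ⊓ Subgroup.centralizer ({u} : Set G))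
    inf_le_left
  calc Nat.card ↥P ≤ p * Nat.card ↥(P ⊓ Subgroup.centralizer ({u} : Set G)) := h1
    _ ≤ p * (p * Nat.card
        ↥(P ⊓ Subgroup.centralizer ({u} : Set G) ⊓ Subgroup.centralizer ({y} : Set G))) :=
      Nat.mul_le_mul_left _ h2
    _ = _ := by ring

theorem exists_ne_one (hS : Sympl p P Z) : ∃ t ∈ Z, t ≠ 1 := by
  by_contra hcon
  push Not at hcon
  have hbot : Z = ⊥ := eq_bot_iff.mpr (fun t ht => by rw [Subgroup.mem_bot]; exact hcon t ht)
  have h1 := hS.card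
  rw [hbot, Subgroup.card_bot] at h1
  exact (Fact.out : p.Prime).one_lt.ne h1

end Sympl

/-- **The order bound.** -/
theorem main_bound [Finite G] {p r : ℕ} [Fact p.Prime] [Fact r.Prime] (hpr : p ≠ r) {n : ℕ}
    (hmin : ∀ k : ℕ, 1 ≤ k → p ∣ r ^ k - 1 → n ≤ k) :
    ∀ (w : ℕ) (P Z A : Subgroup G), Sympl p P Z → p ^ (2 * w + 1) ≤ Nat.card ↥P →
      Cfsg.IsElementaryAbelian r A → A ≠ ⊥ → P ≤ Subgroup.normalizer (A : Set G) →
      (∀ t ∈ Z, t ≠ 1 → ∀ a ∈ A, t * a = a * t → a = 1) → r ^ (n * p ^ w) ≤ Nat.card ↥A := by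
  have hp : p.Prime := Fact.out
  have hr : r.Prime := Fact.out
  intro w
  induction w with
  | zero =>
    intro P Z A hS _ hA hAne hPA hfix
    obtain ⟨t, htZ, ht1⟩ := hS.exists_ne_one
    have := base_bound hmin hA hAne (hPA (hS.le htZ)) (hS.pow_p_eq_one htZ) (hfix t htZ ht1)
    simpa using this
  | succ w ih =>
    intro P Z A hS hcard hA hAne hPA hfix
    -- a noncentral element
    have hx : ∃ x ∈ P, x ∉ Z := by
      by_contra hcon
      push Not at hcon
      have hPZ : P = Z := le_antisymm hcon hS.le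
      rw [hPZ, hS.card] at hcard
      have : p ^ 1 < p ^ (2 * (w + 1) + 1) := Nat.pow_lt_pow_right hp.one_lt (by omega)
      rw [pow_one] at this
      omega
    obtain ⟨x, hxP, hxZ⟩ := hx
    by_cases hex : ∃ u ∈ P, u ∉ Z ∧ u ^ p = 1
    · obtain ⟨u, hu, huZ, hup⟩ := hex
      obtain ⟨y, hy, hz1⟩ := hS.exists_noncomm hu huZ
      have hzZ : ⁅y, u⁆ ∈ Z := hS.comm_mem y hy u hu
      obtain ⟨k, hk⟩ := (isPGroup_of_isElementaryAbelian hA).exists_card_eq
      have hcop : (Nat.card ↥A).Coprime p := by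
        rw [hk]
        exact Nat.Coprime.pow_left k ((Nat.coprime_primes hr hp).mpr (Ne.symm hpr))
      have huw : Commute u ⁅y, u⁆ := hS.central u hu _ hzZ
      have hcardeq : ∀ i < p,
          Nat.card ↥(A ⊓ Subgroup.centralizer ({u * ⁅y, u⁆ ^ i} : Set G)) =
            Nat.card ↥(A ⊓ Subgroup.centralizer ({u} : Set G)) := by
        intro i _
        apply card_inf_centralizer_conj A (g := y ^ i) (hPA (P.pow_mem hy i))
        rw [Sympl.conj_eq, hS.comm_pow_left hy hu]
        exact (hS.central u hu _ (Z.pow_mem hzZ i)).symm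
      obtain ⟨h1, h2⟩ := card_pow_le_and_ne_bot A hA.1 hcop (hPA hu) (hPA (hS.le hzZ)) huw hup
        (hS.pow_p_eq_one hzZ) (hfix _ hzZ hz1) hcardeq
      have hS1 := hS.inf_centralizer hu hy hz1
      have hc1 := hS.card_le_sq_mul hu hy
      have hcard1 : p ^ (2 * w + 1) ≤ Nat.card
          ↥(P ⊓ Subgroup.centralizer ({u} : Set G) ⊓ Subgroup.centralizer ({y} : Set G)) := by
        have h3 : p ^ 2 * p ^ (2 * w + 1) ≤ p ^ 2 * Nat.card
            ↥(P ⊓ Subgroup.centralizer ({u} : Set G) ⊓ Subgroup.centralizer ({y} : Set G)) := by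
          calc p ^ 2 * p ^ (2 * w + 1) = p ^ (2 * (w + 1) + 1) := by ring
            _ ≤ _ := hcard.trans hc1
        exact Nat.le_of_mul_le_mul_left h3 (pow_pos hp.pos 2)
      have hA0 : Cfsg.IsElementaryAbelian r (A ⊓ Subgroup.centralizer ({u} : Set G)) :=
        isElementaryAbelian_of_le inf_le_left hA
      have hnorm1 : P ⊓ Subgroup.centralizer ({u} : Set G) ⊓ Subgroup.centralizer ({y} : Set G) ≤
          Subgroup.normalizer ((A ⊓ Subgroup.centralizer ({u} : Set G) : Subgroup G) : Set G) := by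
        apply Cfsg.Agent.Helper1.le_normalizer_of_forall_conj_mem
        intro g hg a ha
        obtain ⟨hg1, _⟩ := Subgroup.mem_inf.mp hg
        obtain ⟨hgP, hgu⟩ := Subgroup.mem_inf.mp hg1
        obtain ⟨haA, hau⟩ := Subgroup.mem_inf.mp ha
        rw [Subgroup.mem_centralizer_singleton_iff] at hgu hau
        refine Subgroup.mem_inf.mpr ⟨(Subgroup.mem_normalizer_iff.mp (hPA hgP) a).mp haA, ?_⟩
        rw [Subgroup.mem_centralizer_singleton_iff]
        have cg : Commute g u := hgu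
        have ca : Commute a u := hau
        exact (cg.mul_left ca).mul_left cg.inv_left
      have hfix1 : ∀ t ∈ Z, t ≠ 1 → ∀ a ∈ A ⊓ Subgroup.centralizer ({u} : Set G),
          t * a = a * t → a = 1 :=
        fun t ht ht1 a ha => hfix t ht ht1 a (Subgroup.mem_inf.mp ha).1
      have hih := ih _ Z _ hS1 hcard1 hA0 (h2 hAne) hnorm1 hfix1
      calc r ^ (n * p ^ (w + 1)) = (r ^ (n * p ^ w)) ^ p := by
            rw [← pow_mul]; ring_nf
        _ ≤ Nat.card ↥(A ⊓ Subgroup.centralizer ({u} : Set G)) ^ p :=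
            Nat.pow_le_pow_left hih p
        _ ≤ Nat.card ↥A := h1
    · have hno : ∀ u ∈ P, u ^ p = 1 → u ∈ Z := by
        intro u hu hup
        by_contra huZ
        exact hex ⟨u, hu, huZ, hup⟩
      obtain ⟨y, hy, hz1⟩ := hS.exists_noncomm hxP hxZ
      have hp2 := hS.two_of_no_noncentral hxP hy hz1 hno
      have hle := hS.inf_centralizer_le_of_no_noncentral hp2 hxP hy hz1 hno
      have hc1 := hS.card_le_sq_mul hxP hy
      have hc2 : Nat.card
          ↥(P ⊓ Subgroup.centralizer ({x} : Set G) ⊓ Subgroup.centralizer ({y} : Set G)) ≤ p := by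
        rw [← hS.card]
        exact Subgroup.card_le_of_le hle
      have hc3 : p ^ (2 * (w + 1) + 1) ≤ p ^ 3 := by
        calc p ^ (2 * (w + 1) + 1) ≤ _ := hcard.trans hc1
          _ ≤ p ^ 2 * p := Nat.mul_le_mul_left _ hc2
          _ = p ^ 3 := by ring
      have hw : 2 * (w + 1) + 1 ≤ 3 := (Nat.pow_le_pow_iff_right hp.one_lt).mp hc3
      have hw0 : w = 0 := by omega
      subst hw0
      have hn1 : n ≤ 1 := by
        apply hmin 1 le_rfl
        rw [hp2, pow_one]
        have hr2 : r ≠ 2 := fun h => hpr (hp2.trans h.symm)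
        obtain ⟨m, hm⟩ := hr.odd_of_ne_two hr2
        exact ⟨m, by omega⟩
      have hsq := sq_le_card_of_fpf_commutator hA hAne (hPA hy) (hPA hxP)
        (hfix _ (hS.comm_mem y hy x hxP) hz1)
      have hr1 : 1 ≤ r := hr.one_lt.le
      calc r ^ (n * p ^ (0 + 1)) ≤ r ^ 2 := by
            apply Nat.pow_le_pow_right hr1
            rw [hp2]
            interval_cases n <;> simp
        _ ≤ Nat.card ↥A := hsq

end Cfsg.Agent.Helper15.ExtraMod
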