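import Mathlib
import Cfsg.Agent.Lib.Helper15.ExtraModule5
import Cfsg.Agent.Lib.Helper15.SylowIn
import Cfsg.Agent.Lib.Helper1.Coprime

/-!
# Extraspecial groups of order `p ^ 3` and exponent `p ^ 2`, `p` odd (helper15's shared library)
-/

set_option autoImplicit false
set_option linter.unusedSectionVars false
set_option linter.style.haveILetI false

namespace Cfsg.Agent.Helper15.ExtraMod

open Cfsg.Agent.Helper15
open scoped commutatorElement

variable {G : Type*} [Group G]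

/-- an extraspecial subgroup with its centre is an extraspecial-like pair -/
theorem sympl_of_isExtraspecial' {p : ℕ} (E : Subgroup G) (hE : Cfsg.IsExtraspecial p ↥E) :
    Sympl p E ((Subgroup.center ↥E).map E.subtype) where
  le := Subgroup.map_subtype_le _
  card := by
    rw [Subgroup.card_map_of_injective E.subtype_injective]
    exact hE.2
  central := by
    rintro g hg _ ⟨c, hc, rfl⟩
    have h1 := Subgroup.mem_center_iff.mp hc ⟨g, hg⟩
    exact congrArg Subtype.val h1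
  comm_mem := by
    intro g hg h hh
    refine ⟨⁅(⟨g, hg⟩ : ↥E), ⟨h, hh⟩⁆, ?_, rfl⟩
    rw [← hE.1.2.2, commutator_def]
    exact Subgroup.commutator_mem_commutator (Subgroup.mem_top _) (Subgroup.mem_top _)
  center_le := by
    intro g hg hcomm
    refine ⟨⟨g, hg⟩, ?_, rfl⟩
    rw [SetLike.mem_coe, Subgroup.mem_center_iff]
    intro h
    exact Subtype.ext (hcomm h h.2).symm

namespace Sympl

variable {p : ℕ} [Fact p.Prime] {P Z : Subgroup G}

theorem comm_inv_left (hS : Sympl p P Z) {g c : G} (hg : g ∈ P) (hc : c ∈ P) :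
    ⁅g⁻¹, c⁆ = (⁅g, c⁆)⁻¹ := by
  have h1 := hS.comm_mul_left (P.inv_mem hg) hg hc
  rw [inv_mul_cancel, commutatorElement_one_left] at h1
  exact eq_inv_of_mul_eq_one_left h1.symm

theorem comm_inv_right (hS : Sympl p P Z) {g c : G} (hg : g ∈ P) (hc : c ∈ P) :
    ⁅g, c⁻¹⁆ = (⁅g, c⁆)⁻¹ := by
  have h1 := hS.comm_mul_right hg (P.inv_mem hc) hc
  rw [inv_mul_cancel, commutatorElement_one_right] at h1
  exact eq_inv_of_mul_eq_one_left h1.symm

/-- for `p` odd the `p`-th power map is a homomorphism -/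
theorem mul_pow_p (hS : Sympl p P Z) (hp : p ≠ 2) {g h : G} (hg : g ∈ P) (hh : h ∈ P) :
    (g * h) ^ p = g ^ p * h ^ p := by
  have hcZ : ⁅h, g⁆ ∈ Z := hS.comm_mem h hh g hg
  have h1 := mul_pow_of_commutator_central (x := g) (y := h)
    (hS.central _ hg _ hcZ).symm (hS.central _ hh _ hcZ).symm p
  obtain ⟨m, hm⟩ := dvd_sum_range_of_odd (Fact.out : p.Prime) hp
  rw [h1, hm, pow_mul, hS.pow_p_eq_one hcZ, one_pow, mul_one]

/-- `Ω₁(P)`: the elements of order dividing `p` -/
def omega (hS : Sympl p P Z) (hp : p ≠ 2) : Subgroup G where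
  carrier := {g | g ∈ P ∧ g ^ p = 1}
  one_mem' := ⟨P.one_mem, one_pow p⟩
  mul_mem' := by
    rintro a b ⟨ha, ha1⟩ ⟨hb, hb1⟩
    exact ⟨P.mul_mem ha hb, by rw [hS.mul_pow_p hp ha hb, ha1, hb1, one_mul]⟩
  inv_mem' := by
    rintro a ⟨ha, ha1⟩
    exact ⟨P.inv_mem ha, by rw [inv_pow, ha1, inv_one]⟩

theorem mem_omega (hS : Sympl p P Z) (hp : p ≠ 2) {g : G} :
    g ∈ hS.omega hp ↔ g ∈ P ∧ g ^ p = 1 := Iff.rfl

theorem omega_le (hS : Sympl p P Z) (hp : p ≠ 2) : hS.omega hp ≤ P := fun _ h => h.1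

theorem le_omega (hS : Sympl p P Z) (hp : p ≠ 2) : Z ≤ hS.omega hp :=
  fun _ h => ⟨hS.le h, hS.pow_p_eq_one h⟩

theorem le_normalizer_omega (hS : Sympl p P Z) (hp : p ≠ 2) :
    P ≤ Subgroup.normalizer ((hS.omega hp : Subgroup G) : Set G) := by
  apply Cfsg.Agent.Helper1.le_normalizer_of_forall_conj_mem
  intro g hg e he
  refine ⟨P.mul_mem (P.mul_mem hg he.1) (P.inv_mem hg), ?_⟩
  rw [conj_pow, he.2, mul_one, mul_inv_cancel]

/-- a conjugate of `Ω₁(P)` inside `P` is `Ω₁(P)` -/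
theorem mem_normalizer_omega_of_map_le [Finite G] (hS : Sympl p P Z) (hp : p ≠ 2) {g : G}
    (h : (hS.omega hp).map (MulAut.conj g).toMonoidHom ≤ P) :
    g ∈ Subgroup.normalizer ((hS.omega hp : Subgroup G) : Set G) := by
  apply mem_normalizer_of_map_conj_eq
  rw [map_conj_eq_iff_le]
  rintro _ ⟨e, he, rfl⟩
  refine ⟨h ⟨e, he, rfl⟩, ?_⟩
  simp only [MulEquiv.coe_toMonoidHom, MulAut.conj_apply]
  rw [conj_pow, he.2, mul_one, mul_inv_cancel]

section Order

variable [Finite G]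

/-- `|Ω₁(P)| = p ^ 2` when `|P| = p ^ 3` and `P` has an element of order `p ^ 2` -/
theorem card_omega (hS : Sympl p P Z) (hp : p ≠ 2) (hcard : Nat.card ↥P = p ^ 3)
    (hexp : ∃ u ∈ P, u ^ p ≠ 1) : Nat.card ↥(hS.omega hp) = p ^ 2 := by
  have hpp : p.Prime := Fact.out
  let φ : ↥P →* ↥Z :=
    { toFun := fun g => ⟨(g : G) ^ p, hS.pow_p_mem g.2⟩
      map_one' := by
        apply Subtype.ext
        show ((1 : ↥P) : G) ^ p = 1
        simp
      map_mul' := by
        intro a b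
        apply Subtype.ext
        show ((a * b : ↥P) : G) ^ p = (a : G) ^ p * (b : G) ^ p
        exact hS.mul_pow_p hp a.2 b.2 }
  have hker : φ.ker = (hS.omega hp).subgroupOf P := by
    ext g
    rw [MonoidHom.mem_ker, Subgroup.mem_subgroupOf]
    constructor
    · intro h
      exact ⟨g.2, congrArg Subtype.val h⟩
    · intro h
      exact Subtype.ext h.2
  have hrange : Nat.card ↥φ.range = p := by
    have h1 : Nat.card ↥φ.range ∣ p := by
      rw [← hS.card]
      exact Subgroup.card_subgroup_dvd_card _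
    rcases (Nat.dvd_prime hpp).mp h1 with h2 | h2
    · exfalso
      obtain ⟨u, hu, hup⟩ := hexp
      have h3 : φ.range = ⊥ := Subgroup.eq_bot_of_card_eq _ h2
      have h4 : φ ⟨u, hu⟩ ∈ φ.range := ⟨_, rfl⟩
      rw [h3, Subgroup.mem_bot] at h4
      exact hup (congrArg Subtype.val h4)
    · exact h2
  have h1 := Subgroup.card_mul_index φ.ker
  rw [Subgroup.index_ker, hker, Cfsg.Agent.Helper7.card_subgroupOf_of_le (hS.omega_le hp), hrange,
    hcard] at h1
  have h2 : Nat.card ↥(hS.omega hp) * p = p ^ 2 * p := by rw [h1]; ring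
  exact Nat.eq_of_mul_eq_mul_right hpp.pos h2

theorem omega_comm (hS : Sympl p P Z) (hp : p ≠ 2) (hcard : Nat.card ↥P = p ^ 3)
    (hexp : ∃ u ∈ P, u ^ p ≠ 1) {a b : G} (ha : a ∈ hS.omega hp) (hb : b ∈ hS.omega hp) :
    a * b = b * a := by
  have hc : IsMulCommutative ↥(hS.omega hp) :=
    IsPGroup.isMulCommutative_of_card_eq_prime_sq (hS.card_omega hp hcard hexp)
  have h1 := mul_comm' (⟨a, ha⟩ : ↥(hS.omega hp)) ⟨b, hb⟩
  exact congrArg Subtype.val h1

/-- the centralizer in `P` of a noncentral element of `Ω₁(P)` is `Ω₁(P)` -/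
theorem inf_centralizer_eq_omega (hS : Sympl p P Z) (hp : p ≠ 2) (hcard : Nat.card ↥P = p ^ 3)
    (hexp : ∃ u ∈ P, u ^ p ≠ 1) {y : G} (hy : y ∈ hS.omega hp) (hyZ : y ∉ Z) :
    P ⊓ Subgroup.centralizer ({y} : Set G) = hS.omega hp := by
  have hpp : p.Prime := Fact.out
  have hle : hS.omega hp ≤ P ⊓ Subgroup.centralizer ({y} : Set G) := by
    intro e he
    refine Subgroup.mem_inf.mpr ⟨he.1, ?_⟩
    rw [Subgroup.mem_centralizer_singleton_iff]
    exact hS.omega_comm hp hcard hexp he hy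
  symm
  apply Subgroup.eq_of_le_of_card_ge hle
  rw [hS.card_omega hp hcard hexp]
  -- the centralizer is a proper subgroup of `P`
  have hdvd : Nat.card ↥(P ⊓ Subgroup.centralizer ({y} : Set G)) ∣ p ^ 3 := by
    rw [← hcard]; exact Subgroup.card_dvd_of_le inf_le_left
  obtain ⟨k, hk3, hk⟩ := (Nat.dvd_prime_pow hpp).mp hdvd
  rw [hk]
  apply Nat.pow_le_pow_right hpp.pos
  by_contra hk2
  have hk3' : k = 3 := by omega
  apply hyZ
  apply hS.center_le y hy.1
  intro h hh
  have heq : P ⊓ Subgroup.centralizer ({y} : Set G) = P := by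
    apply Subgroup.eq_of_le_of_card_ge inf_le_left
    rw [hk, hk3', hcard]
  have : h ∈ P ⊓ Subgroup.centralizer ({y} : Set G) := by rw [heq]; exact hh
  exact (Subgroup.mem_centralizer_singleton_iff.mp (Subgroup.mem_inf.mp this).2).symm

end Order

end Sympl

end Cfsg.Agent.Helper15.ExtraMod
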