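import Mathlib
import Cfsg.Agent.Lib.Helper15.Extra3

/-!
# Extraspecial Sylow subgroups of order `p ^ 3` and exponent `p ^ 2`: the centre is strongly closed
(helper15's shared library)
-/

set_option autoImplicit false
set_option linter.unusedSectionVars false
set_option linter.style.haveILetI false

namespace Cfsg.Agent.Helper15.ExtraMod

open Cfsg.Agent.Helper15
open scoped commutatorElement

variable {G : Type*} [Group G]

/-- extremal conjugation onto a central element of a Sylow subgroup -/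
theorem exists_extremal_conj_central [Finite G] {p : ℕ} [Fact p.Prime] (P : Sylow p G) {z g : G}
    (hz : ∀ h ∈ (P : Subgroup G), h * z = z * h) :
    ∃ g' : G, g' * (g * z * g⁻¹) * g'⁻¹ = z ∧
      ((P : Subgroup G) ⊓ Subgroup.centralizer ({g * z * g⁻¹} : Set G)).map
        (MulAut.conj g').toMonoidHom ≤ (P : Subgroup G) := by
  have hPz : (P : Subgroup G) ≤ Subgroup.centralizer ({z} : Set G) := by
    intro h hh
    rw [Subgroup.mem_centralizer_singleton_iff]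
    exact hz h hh
  have hSyl : IsSylowIn p (P : Subgroup G) (Subgroup.centralizer ({z} : Set G)) :=
    isSylowIn_of_sylow_le P hPz
  set D := ((P : Subgroup G) ⊓ Subgroup.centralizer ({g * z * g⁻¹} : Set G)).map
    (MulAut.conj g⁻¹).toMonoidHom with hD
  have hDp : IsPGroup p ↥D := isPGroup_map_conj (P.isPGroup'.to_le inf_le_left) g⁻¹
  have hDle : D ≤ Subgroup.centralizer ({z} : Set G) := by
    rintro _ ⟨d, hd, rfl⟩
    have hd2 := Subgroup.mem_centralizer_singleton_iff.mp (Subgroup.mem_inf.mp hd).2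
    rw [Subgroup.mem_centralizer_singleton_iff]
    simp only [MulEquiv.coe_toMonoidHom, MulAut.conj_apply, inv_inv]
    calc g⁻¹ * d * g * z = g⁻¹ * (d * (g * z * g⁻¹)) * g := by group
      _ = g⁻¹ * ((g * z * g⁻¹) * d) * g := by rw [hd2]
      _ = z * (g⁻¹ * d * g) := by group
  obtain ⟨T, hDT, hT⟩ := exists_isSylowIn_ge hDp hDle
  obtain ⟨c, hcC, hc⟩ := hT.exists_conj hSyl
  rw [Subgroup.mem_centralizer_singleton_iff] at hcC
  refine ⟨c * g⁻¹, ?_, ?_⟩
  · calc c * g⁻¹ * (g * z * g⁻¹) * (c * g⁻¹)⁻¹ = (c * z) * c⁻¹ := by group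
      _ = z * c * c⁻¹ := by rw [hcC]
      _ = z := by group
  · rw [← map_conj_map_conj]
    exact (map_conj_mono hDT c).trans hc.le

namespace Sympl

variable {p : ℕ} [Fact p.Prime] {P Z : Subgroup G} [Finite G]

/-- if a noncentral element of `Ω₁(P)` is conjugate to a central one by an element normalizing
`Ω₁(P)` then some element of the normalizer of `Ω₁(P)` inverts `Ω₁(P)` -/
theorem exists_inverting (hS : Sympl p P Z) (hp : p ≠ 2) (hcard : Nat.card ↥P = p ^ 3)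
    (hexp : ∃ u ∈ P, u ^ p ≠ 1) {y z g' : G} (hy : y ∈ hS.omega hp) (hyZ : y ∉ Z) (hzZ : z ∈ Z)
    (hg' : g' ∈ Subgroup.normalizer ((hS.omega hp : Subgroup G) : Set G))
    (hconj : g' * y * g'⁻¹ = z) :
    ∃ s ∈ Subgroup.normalizer ((hS.omega hp : Subgroup G) : Set G),
      ∀ e ∈ hS.omega hp, s * e * s⁻¹ = e⁻¹ := by
  have hpp : p.Prime := Fact.out
  set E := hS.omega hp with hE
  obtain ⟨u, hu, hup⟩ := hexp
  have huE : u ∉ E := fun h => hup h.2
  have hyP : y ∈ P := hy.1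
  have hy1 : y ≠ 1 := fun h => hyZ (h ▸ Z.one_mem)
  have hz1 : z ≠ 1 := by
    intro h
    apply hy1
    have : g' * y * g'⁻¹ = g' * 1 * g'⁻¹ := by rw [hconj, h]; group
    exact mul_left_cancel (mul_right_cancel this)
  have hyconj : g'⁻¹ * z * g' = y := by rw [← hconj]; group
  have hCy := hS.inf_centralizer_eq_omega hp hcard ⟨u, hu, hup⟩ hy hyZ
  -- `z₀ = [u, y]`
  set z₀ := ⁅u, y⁆ with hz₀
  have hz₀Z : z₀ ∈ Z := hS.comm_mem u hu y hyP
  have hz₀1 : z₀ ≠ 1 := by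
    intro h
    apply huE
    rw [hE, ← hCy]
    refine Subgroup.mem_inf.mpr ⟨hu, ?_⟩
    rw [Subgroup.mem_centralizer_singleton_iff]
    exact commutatorElement_eq_one_iff_mul_comm.mp h
  have hz₀E : z₀ ∈ E := hS.le_omega hp hz₀Z
  set u' := g'⁻¹ * u * g' with hu'
  have huN : u ∈ Subgroup.normalizer ((E : Subgroup G) : Set G) := hS.le_normalizer_omega hp hu
  have hu'N : u' ∈ Subgroup.normalizer ((E : Subgroup G) : Set G) :=
    Subgroup.mul_mem _ (Subgroup.mul_mem _ (Subgroup.inv_mem _ hg') huN) hg'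
  -- the action of `u`
  have F1 : MulAut.conj u z₀ = z₀ := by
    rw [MulAut.conj_apply, hS.central u hu z₀ hz₀Z, mul_inv_cancel_right]
  have F2 : MulAut.conj u y = z₀ * y := by
    rw [MulAut.conj_apply, hz₀, commutatorElement_def]; group
  have hz₀y : z₀ * y = y * z₀ := (hS.central y hyP z₀ hz₀Z).symm
  -- the action of `u'`
  have F3 : MulAut.conj u' y = y := by
    rw [MulAut.conj_apply, hu']
    calc g'⁻¹ * u * g' * y * (g'⁻¹ * u * g')⁻¹ = g'⁻¹ * (u * (g' * y * g'⁻¹) * u⁻¹) * g' := by group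
      _ = g'⁻¹ * (u * z * u⁻¹) * g' := by rw [hconj]
      _ = g'⁻¹ * z * g' := by rw [hS.central u hu z hzZ, mul_inv_cancel_right]
      _ = y := hyconj
  -- `z₁ = g' z₀ g'⁻¹` is not central
  set z₁ := g' * z₀ * g'⁻¹ with hz₁
  have hz₁E : z₁ ∈ E := (Subgroup.mem_normalizer_iff.mp hg' z₀).mp hz₀E
  have hz₁Z : z₁ ∉ Z := by
    intro h
    obtain ⟨i, hi⟩ := hS.exists_pow_eq hzZ hz1 h
    have h1 : z₀ = y ^ i := by
      calc z₀ = g'⁻¹ * z₁ * g' := by rw [hz₁]; group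
        _ = g'⁻¹ * z ^ i * g' := by rw [hi]
        _ = (g'⁻¹ * z * g') ^ i := by
            have := conj_pow (a := g'⁻¹) (b := z) (i := i)
            rw [inv_inv] at this
            exact this.symm
        _ = y ^ i := by rw [hyconj]
    -- then `y` is a power of `z₀`
    have hyi1 : y ^ i ≠ 1 := h1 ▸ hz₀1
    have hord : orderOf y = p := orderOf_eq_prime hy.2 hy1
    have hnd : ¬ p ∣ i := by
      intro hd
      apply hyi1
      rw [← hord] at hd
      exact orderOf_dvd_iff_pow_eq_one.mp hd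
    have hcop : Nat.Coprime i p := ((Nat.Prime.coprime_iff_not_dvd hpp).mpr hnd).symm
    obtain ⟨m, -, hm⟩ := Nat.exists_mul_mod_eq_one_of_coprime hcop hpp.one_lt
    have h2 : (y ^ i) ^ m = y := by
      rw [← pow_mul, pow_eq_pow_mod (i * m) hy.2, hm, pow_one]
    apply hyZ
    rw [← h2, ← h1]
    exact Z.pow_mem hz₀Z m
  have hCz₁ := hS.inf_centralizer_eq_omega hp hcard ⟨u, hu, hup⟩ hz₁E hz₁Z
  have hc1 : ⁅u, z₁⁆ ≠ 1 := by
    intro h
    apply huE
    rw [hE, ← hCz₁]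
    refine Subgroup.mem_inf.mpr ⟨hu, ?_⟩
    rw [Subgroup.mem_centralizer_singleton_iff]
    exact commutatorElement_eq_one_iff_mul_comm.mp h
  have hc1Z : ⁅u, z₁⁆ ∈ Z := hS.comm_mem u hu z₁ hz₁E.1
  -- `d = [u', z₀]`
  set d := g'⁻¹ * ⁅u, z₁⁆ * g' with hd
  have F4 : MulAut.conj u' z₀ = d * z₀ := by
    rw [MulAut.conj_apply, hd, hu', hz₁, commutatorElement_def]; group
  have hd1 : d ≠ 1 := by
    intro h
    apply hc1
    have : ⁅u, z₁⁆ = g' * d * g'⁻¹ := by rw [hd]; group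
    rw [this, h]; group
  obtain ⟨m, hm⟩ := hS.exists_pow_eq hzZ hz1 hc1Z
  have hdy : d = y ^ m := by
    rw [hd, ← hm]
    calc g'⁻¹ * z ^ m * g' = (g'⁻¹ * z * g') ^ m := by
          have := conj_pow (a := g'⁻¹) (b := z) (i := m)
          rw [inv_inv] at this
          exact this.symm
      _ = y ^ m := by rw [hyconj]
  have hord : orderOf y = p := orderOf_eq_prime hy.2 hy1
  have hcardY : Nat.card ↥(Subgroup.zpowers y) = p := by rw [Nat.card_zpowers, hord]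
  have hdY : d ∈ Subgroup.zpowers y := hdy ▸ Subgroup.pow_mem _ (Subgroup.mem_zpowers y) m
  have hyinvY : y⁻¹ ∈ Subgroup.zpowers y := Subgroup.inv_mem _ (Subgroup.mem_zpowers y)
  have hne : (⟨d, hdY⟩ : ↥(Subgroup.zpowers y)) ≠ 1 := fun h => hd1 (congrArg Subtype.val h)
  obtain ⟨j, hj⟩ := mem_powers_of_prime_card (p := p) hcardY
    (g' := (⟨y⁻¹, hyinvY⟩ : ↥(Subgroup.zpowers y))) hne
  have hj' : d ^ j = y⁻¹ := congrArg Subtype.val hj
  have F5 : MulAut.conj u' d = d := by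
    rw [hdy, map_pow, F3]
  have F6 : ∀ k : ℕ, MulAut.conj (u' ^ k) z₀ = d ^ k * z₀ := by
    intro k
    induction k with
    | zero => simp
    | succ k ih =>
      have e1 : MulAut.conj (u' ^ (k + 1)) z₀ = MulAut.conj u' (MulAut.conj (u' ^ k) z₀) := by
        rw [pow_succ', map_mul, MulAut.mul_apply]
      rw [e1, ih, map_mul, map_pow, F5, F4, pow_succ]
      exact (mul_assoc _ _ _).symm
  have F7 : ∀ k : ℕ, MulAut.conj (u' ^ k) y = y := by
    intro k
    induction k with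
    | zero => simp
    | succ k ih =>
      rw [pow_succ', map_mul, MulAut.mul_apply, ih, F3]
  -- the element `w`
  set w := u * u' ^ j * u with hw
  have hwN : w ∈ Subgroup.normalizer ((E : Subgroup G) : Set G) :=
    Subgroup.mul_mem _ (Subgroup.mul_mem _ huN (Subgroup.pow_mem _ hu'N j)) huN
  have W1 : MulAut.conj w z₀ = y⁻¹ := by
    rw [hw, map_mul, map_mul, MulAut.mul_apply, MulAut.mul_apply, F1, F6, hj', map_mul, map_inv,
      F2, F1, mul_inv_rev, inv_mul_cancel_right]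
  have W2 : MulAut.conj w y = z₀ := by
    rw [hw, map_mul, map_mul, MulAut.mul_apply, MulAut.mul_apply, F2, map_mul, F6, F7, hj',
      map_mul, map_mul, map_inv, F2, F1, mul_inv_rev]
    rw [hz₀y]
    group
  refine ⟨w * w, Subgroup.mul_mem _ hwN hwN, ?_⟩
  have S1 : MulAut.conj (w * w) z₀ = z₀⁻¹ := by
    rw [map_mul, MulAut.mul_apply, W1, map_inv, W2]
  have S2 : MulAut.conj (w * w) y = y⁻¹ := by
    rw [map_mul, MulAut.mul_apply, W2, W1]
  -- `E` is generated by `z₀` and `y`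
  have hgen : Subgroup.closure ({z₀, y} : Set G) = E := by
    have hle : Subgroup.closure ({z₀, y} : Set G) ≤ E := by
      rw [Subgroup.closure_le]
      intro x hx
      rcases hx with rfl | rfl
      · exact hz₀E
      · exact hy
    apply Subgroup.eq_of_le_of_card_ge hle
    rw [hS.card_omega hp hcard ⟨u, hu, hup⟩]
    have hZle : Z ≤ Subgroup.closure ({z₀, y} : Set G) := by
      intro t ht
      obtain ⟨k, hk⟩ := hS.exists_pow_eq hz₀Z hz₀1 ht
      rw [← hk]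
      exact Subgroup.pow_mem _ (Subgroup.subset_closure (by simp)) k
    have hdvd : Nat.card ↥(Subgroup.closure ({z₀, y} : Set G)) ∣ p ^ 2 := by
      rw [← hS.card_omega hp hcard ⟨u, hu, hup⟩]
      exact Subgroup.card_dvd_of_le hle
    obtain ⟨k, hk2, hk⟩ := (Nat.dvd_prime_pow hpp).mp hdvd
    rw [hk]
    apply Nat.pow_le_pow_right hpp.pos
    by_contra hlt
    have hk1 : k ≤ 1 := by omega
    have hcardle : Nat.card ↥(Subgroup.closure ({z₀, y} : Set G)) ≤ Nat.card ↥Z := by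
      rw [hk, hS.card]
      calc p ^ k ≤ p ^ 1 := Nat.pow_le_pow_right hpp.pos hk1
        _ = p := pow_one p
    have heq : Z = Subgroup.closure ({z₀, y} : Set G) := Subgroup.eq_of_le_of_card_ge hZle hcardle
    apply hyZ
    rw [heq]
    exact Subgroup.subset_closure (by simp)
  intro e he
  rw [← hgen] at he
  have key : ∀ x (hx : x ∈ Subgroup.closure ({z₀, y} : Set G)),
      MulAut.conj (w * w) x = x⁻¹ := by
    intro x hx
    induction hx using Subgroup.closure_induction with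
    | mem x hx =>
      rcases hx with rfl | rfl
      · exact S1
      · exact S2
    | one => simp
    | mul a b ha hb iha ihb =>
      rw [map_mul, iha, ihb, mul_inv_rev]
      have haE : a ∈ E := hgen ▸ ha
      have hbE : b ∈ E := hgen ▸ hb
      have := hS.omega_comm hp hcard ⟨u, hu, hup⟩ (E.inv_mem haE) (E.inv_mem hbE)
      exact this
    | inv a ha iha =>
      rw [map_inv, iha]
  exact key e he

/-- no element of the normalizer of `Ω₁(P)` inverts `Ω₁(P)`, when `P` is a Sylow subgroup -/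
theorem no_inverting (P₀ : Sylow p G) (hS : Sympl p (P₀ : Subgroup G) Z) (hp : p ≠ 2)
    (hcard : Nat.card ↥(P₀ : Subgroup G) = p ^ 3)
    (hexp : ∃ u ∈ (P₀ : Subgroup G), u ^ p ≠ 1) {s : G}
    (hsN : s ∈ Subgroup.normalizer ((hS.omega hp : Subgroup G) : Set G))
    (hs : ∀ e ∈ hS.omega hp, s * e * s⁻¹ = e⁻¹) : False := by
  have hpp : p.Prime := Fact.out
  set E := hS.omega hp with hE
  set C := Subgroup.centralizer ((E : Subgroup G) : Set G) with hC
  have hPE : (P₀ : Subgroup G) ≤ Subgroup.normalizer ((E : Subgroup G) : Set G) :=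
    hS.le_normalizer_omega hp
  -- the normalizer of `E` normalizes `C`
  have hNC : Subgroup.normalizer ((E : Subgroup G) : Set G) ≤
      Subgroup.normalizer ((C : Subgroup G) : Set G) := by
    apply Cfsg.Agent.Helper1.le_normalizer_of_forall_conj_mem
    intro g hg c hc
    rw [hC, Subgroup.mem_centralizer_iff] at hc ⊢
    intro e he
    have he' : g⁻¹ * e * g⁻¹⁻¹ ∈ E :=
      (Subgroup.mem_normalizer_iff.mp (Subgroup.inv_mem _ hg) e).mp he
    have h1 := hc _ he'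
    calc e * (g * c * g⁻¹) = g * ((g⁻¹ * e * g⁻¹⁻¹) * c) * g⁻¹ := by group
      _ = g * (c * (g⁻¹ * e * g⁻¹⁻¹)) * g⁻¹ := by rw [h1]
      _ = g * c * g⁻¹ * e := by group
  have hPC : (P₀ : Subgroup G) ≤ Subgroup.normalizer ((C : Subgroup G) : Set G) := hPE.trans hNC
  have hsinv : ∀ e ∈ E, s⁻¹ * e * s = e⁻¹ := by
    intro e he
    have h1 := hs e⁻¹ (E.inv_mem he)
    rw [inv_inv] at h1
    calc s⁻¹ * e * s = s⁻¹ * (s * e⁻¹ * s⁻¹) * s := by rw [h1]
      _ = e⁻¹ := by group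
  -- `s P s⁻¹ ≤ C ⊔ P`
  have hsK : (P₀ : Subgroup G).map (MulAut.conj s).toMonoidHom ≤ C ⊔ (P₀ : Subgroup G) := by
    rintro _ ⟨g, hg, rfl⟩
    have hcomm : s * g * s⁻¹ * g⁻¹ ∈ C := by
      rw [hC, Subgroup.mem_centralizer_iff]
      intro e he
      have he1 : g⁻¹ * e * g⁻¹⁻¹ ∈ E :=
        (Subgroup.mem_normalizer_iff.mp (Subgroup.inv_mem _ (hPE hg)) e).mp he
      have h1 := hsinv _ he1
      have h2 : g * (g⁻¹ * e * g⁻¹⁻¹)⁻¹ * g⁻¹ = e⁻¹ := by group
      have h3 := hs e⁻¹ (E.inv_mem he)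
      rw [inv_inv] at h3
      have key : (s * g * s⁻¹ * g⁻¹) * e * (s * g * s⁻¹ * g⁻¹)⁻¹ = e := by
        calc (s * g * s⁻¹ * g⁻¹) * e * (s * g * s⁻¹ * g⁻¹)⁻¹
            = s * (g * (s⁻¹ * (g⁻¹ * e * g⁻¹⁻¹) * s) * g⁻¹) * s⁻¹ := by group
          _ = s * (g * (g⁻¹ * e * g⁻¹⁻¹)⁻¹ * g⁻¹) * s⁻¹ := by rw [h1]
          _ = s * e⁻¹ * s⁻¹ := by rw [h2]
          _ = e := h3
      calc e * (s * g * s⁻¹ * g⁻¹)
          = ((s * g * s⁻¹ * g⁻¹) * e * (s * g * s⁻¹ * g⁻¹)⁻¹) * (s * g * s⁻¹ * g⁻¹) := by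
            rw [key]
        _ = (s * g * s⁻¹ * g⁻¹) * e := by group
    have e1 : (MulAut.conj s).toMonoidHom g = (s * g * s⁻¹ * g⁻¹) * g := by
      simp only [MulEquiv.coe_toMonoidHom, MulAut.conj_apply]; group
    rw [e1]
    exact Subgroup.mul_mem _ (le_sup_left (a := C) hcomm) (le_sup_right (a := C) hg)
  have hP' : IsSylowIn p ((P₀ : Subgroup G).map (MulAut.conj s).toMonoidHom)
      (C ⊔ (P₀ : Subgroup G)) := by
    have h1 := (isSylowIn_top P₀).map_conj s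
    refine h1.of_le hsK ?_
    rw [Subgroup.map_top_of_surjective _ (MulAut.conj s).surjective]
    exact le_top
  have hPK : IsSylowIn p (P₀ : Subgroup G) (C ⊔ (P₀ : Subgroup G)) :=
    isSylowIn_of_sylow_le P₀ le_sup_right
  obtain ⟨k, hkK, hk⟩ := hP'.exists_conj hPK
  rw [map_conj_map_conj] at hk
  have hksN : k * s ∈ Subgroup.normalizer (((P₀ : Subgroup G) : Subgroup G) : Set G) :=
    mem_normalizer_of_map_conj_eq hk
  obtain ⟨c, hc, g₁, hg₁, rfl⟩ := Cfsg.Agent.Helper1.exists_mul_of_mem_sup hPC hkK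
  -- `t` normalizes `P` and inverts `E`
  set t := g₁⁻¹ * (c * g₁ * s) with ht
  have htN : t ∈ Subgroup.normalizer (((P₀ : Subgroup G) : Subgroup G) : Set G) :=
    Subgroup.mul_mem _ (Subgroup.inv_mem _ (Subgroup.le_normalizer hg₁)) hksN
  have hc' : g₁⁻¹ * c * g₁⁻¹⁻¹ ∈ C :=
    (Subgroup.mem_normalizer_iff.mp (Subgroup.inv_mem _ (hPC hg₁)) c).mp hc
  have htinv : ∀ e ∈ E, t * e * t⁻¹ = e⁻¹ := by
    intro e he
    have h1 := hs e he
    have h2 : (g₁⁻¹ * c * g₁⁻¹⁻¹) * e⁻¹ = e⁻¹ * (g₁⁻¹ * c * g₁⁻¹⁻¹) := by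
      rw [hC, Subgroup.mem_centralizer_iff] at hc'
      exact (hc' _ (E.inv_mem he)).symm
    calc t * e * t⁻¹ = (g₁⁻¹ * c * g₁⁻¹⁻¹) * (s * e * s⁻¹) * (g₁⁻¹ * c * g₁⁻¹⁻¹)⁻¹ := by
          rw [ht]; group
      _ = (g₁⁻¹ * c * g₁⁻¹⁻¹) * e⁻¹ * (g₁⁻¹ * c * g₁⁻¹⁻¹)⁻¹ := by rw [h1]
      _ = e⁻¹ := by rw [h2]; group
  -- the final contradiction
  obtain ⟨u, hu, hup⟩ := hexp
  obtain ⟨y, hyE, hyZ⟩ : ∃ y ∈ E, y ∉ Z := by
    by_contra hcon
    push Not at hcon
    have hle : E ≤ Z := hcon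
    have h1 := Subgroup.card_le_of_le hle
    rw [hS.card_omega hp hcard ⟨u, hu, hup⟩, hS.card] at h1
    have : p ^ 1 < p ^ 2 := Nat.pow_lt_pow_right hpp.one_lt (by norm_num)
    rw [pow_one] at this
    omega
  have hCy := hS.inf_centralizer_eq_omega hp hcard ⟨u, hu, hup⟩ hyE hyZ
  have hyP : y ∈ (P₀ : Subgroup G) := hyE.1
  set u₂ := t * u * t⁻¹ with hu₂
  have hu₂P : u₂ ∈ (P₀ : Subgroup G) := (Subgroup.mem_normalizer_iff.mp htN u).mp hu
  have hupZ : u ^ p ∈ Z := hS.pow_p_mem hu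
  have hu₂p : u₂ ^ p = (u ^ p)⁻¹ := by
    rw [hu₂, conj_pow]
    exact htinv _ (hS.le_omega hp hupZ)
  have he₁ : u₂ * u ∈ E := by
    refine ⟨Subgroup.mul_mem _ hu₂P hu, ?_⟩
    rw [hS.mul_pow_p hp hu₂P hu, hu₂p, inv_mul_cancel]
  have hcomm1 : ⁅u₂, y⁻¹⁆ = (⁅u, y⁆)⁻¹ := by
    have h1 : MulAut.conj t ⁅u, y⁆ = ⁅MulAut.conj t u, MulAut.conj t y⁆ :=
      map_commutatorElement (MulAut.conj t) u y
    have h2 : MulAut.conj t y = y⁻¹ := htinv y hyE
    have h3 : MulAut.conj t ⁅u, y⁆ = (⁅u, y⁆)⁻¹ :=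
      htinv _ (hS.le_omega hp (hS.comm_mem u hu y hyP))
    rw [h2, h3] at h1
    exact h1.symm
  have hcomm2 : ⁅u₂, y⁻¹⁆ = ⁅u, y⁆ := by
    have e : u₂ = (u₂ * u) * u⁻¹ := by group
    have hyinvP : y⁻¹ ∈ (P₀ : Subgroup G) := Subgroup.inv_mem _ hyP
    rw [e, hS.comm_mul_left he₁.1 (Subgroup.inv_mem _ hu) hyinvP,
      hS.comm_inv_left hu hyinvP, hS.comm_inv_right hu hyP, inv_inv]
    have h1 : ⁅u₂ * u, y⁻¹⁆ = 1 :=
      commutatorElement_eq_one_iff_mul_comm.mpr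
        (hS.omega_comm hp hcard ⟨u, hu, hup⟩ he₁ (E.inv_mem hyE))
    rw [h1, one_mul]
  have hsq : ⁅u, y⁆ ^ 2 = 1 := by
    have h1 : (⁅u, y⁆)⁻¹ = ⁅u, y⁆ := hcomm1.symm.trans hcomm2
    rw [pow_two]
    nth_rewrite 1 [← h1]
    exact inv_mul_cancel _
  have hpw : ⁅u, y⁆ ^ p = 1 := hS.pow_p_eq_one (hS.comm_mem u hu y hyP)
  have hone : ⁅u, y⁆ = 1 := by
    have h1 : orderOf ⁅u, y⁆ ∣ 2 := orderOf_dvd_of_pow_eq_one hsq
    have h2 : orderOf ⁅u, y⁆ ∣ p := orderOf_dvd_of_pow_eq_one hpw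
    have h3 : orderOf ⁅u, y⁆ ∣ Nat.gcd 2 p := Nat.dvd_gcd h1 h2
    have h4 : Nat.gcd 2 p = 1 := (Nat.coprime_primes Nat.prime_two hpp).mpr (Ne.symm hp)
    rw [h4, Nat.dvd_one] at h3
    exact orderOf_eq_one_iff.mp h3
  apply hup
  have huE : u ∈ E := by
    rw [hE, ← hCy]
    refine Subgroup.mem_inf.mpr ⟨hu, ?_⟩
    rw [Subgroup.mem_centralizer_singleton_iff]
    exact commutatorElement_eq_one_iff_mul_comm.mp hone
  exact huE.2

end Sympl

end Cfsg.Agent.Helper15.ExtraMod
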