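import Mathlib
import Cfsg.Agent.Lib.Helper9.CyclicTransfer

set_option autoImplicit false

namespace Cfsg.Agent.Helper15

open MulAction
open Cfsg.Agent.Helper9

section counting

universe u

variable {G : Type u} [Group G] [Finite G]

/-- Transfer into a cyclic quotient `S/T` (copy of helper9's lemma with a weaker hypothesis): when
every homomorphism from `G` to an abelian 2-group kills `y`, `S` has odd index and `y` is an
involution of `S` outside `T`, the number of cosets `gS` with `g⁻¹ y g ∈ T` is odd. -/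
theorem odd_card_goodCosets' (S T : Subgroup G) (hTS : T ≤ S)
    (hTn : (T.subgroupOf S).Normal) (hcyc : IsCyclic (↥S ⧸ T.subgroupOf S))
    (hodd : Odd S.index) (y : G) (hy2 : y * y = 1) (hyS : y ∈ S) (hyT : y ∉ T)
    (hS2 : IsPGroup 2 ↥S)
    (hV : ∀ (A : Type u) [CommGroup A] (f : G →* A), IsPGroup 2 A → f y = 1) :
    Odd (Nat.card (goodCosets S T y)) := by
  classical
  have hA2 : IsPGroup 2 (↥S ⧸ T.subgroupOf S) := hS2.to_quotient _
  letI : CommGroup (↥S ⧸ T.subgroupOf S) := IsCyclic.commGroup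
  obtain ⟨ϕ, hϕdef⟩ : ∃ ϕ : ↥S →* ↥S ⧸ T.subgroupOf S, ϕ = QuotientGroup.mk' (T.subgroupOf S) :=
    ⟨_, rfl⟩
  have hVy : MonoidHom.transfer ϕ y = 1 := hV _ (MonoidHom.transfer ϕ) hA2
  let _ : Fintype (Quotient (orbitRel (Subgroup.zpowers y) (G ⧸ S))) := Fintype.ofFinite _
  have hformula := MonoidHom.transfer_eq_prod_quotient_orbitRel_zpowers_quot ϕ y
  have hsum := Subgroup.index_eq_sum_minimalPeriod S y
  have hϕ1 : ∀ s : S, ϕ s = 1 ↔ (s : G) ∈ T := fun s => by
    rw [hϕdef, QuotientGroup.mk'_apply, QuotientGroup.eq_one_iff, Subgroup.mem_subgroupOf]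
  have hϕsq : ∀ s : S, (s : G) * (s : G) = 1 → (ϕ s) ^ 2 = 1 := by
    intro s hs2
    rw [← map_pow]
    have : s ^ 2 = 1 := Subtype.ext (by simp [pow_two, hs2])
    rw [this, map_one]
  have ha₀1 : ϕ ⟨y, hyS⟩ ≠ 1 := by
    intro h
    rw [hϕ1] at h
    exact hyT h
  have ha₀o : orderOf (ϕ ⟨y, hyS⟩) = 2 := orderOf_eq_prime (hϕsq _ hy2) ha₀1
  have hϕinv : ∀ s : S, (s : G) * (s : G) = 1 → (s : G) ∉ T → ϕ s = ϕ ⟨y, hyS⟩ := by
    intro s hs2 hsT
    apply involution_unique_of_isCyclic _ ha₀o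
    apply orderOf_eq_prime (hϕsq s hs2)
    rw [Ne, hϕ1]
    exact hsT
  have hper : ∀ c : G ⧸ S, Function.minimalPeriod (y • ·) c = 1 ∨
      Function.minimalPeriod (y • ·) c = 2 := by
    intro c
    have hdvd : Function.minimalPeriod (y • ·) c ∣ 2 := by
      apply Function.IsPeriodicPt.minimalPeriod_dvd
      show (y • ·)^[2] c = c
      rw [smul_iterate, pow_two, hy2]
      exact one_smul _ _
    exact (Nat.dvd_prime Nat.prime_two).mp hdvd
  have hkey : ∀ q : Quotient (orbitRel (Subgroup.zpowers y) (G ⧸ S)),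
      ∃ χ : ℕ, ϕ ⟨q.out.out⁻¹ * y ^ Function.minimalPeriod (y • ·) q.out * q.out.out,
            QuotientGroup.out_conj_pow_minimalPeriod_mem S y q.out⟩ = (ϕ ⟨y, hyS⟩) ^ χ ∧
        (if q.out ∈ goodCosets S T y then 1 else 0) + 2 * (if q.out ∈ goodCosets S T y then 0 else 1)
          = Function.minimalPeriod (y • ·) q.out + χ := by
    intro q
    rcases hper q.out with h1 | h2
    · by_cases hT : q.out.out⁻¹ * y * q.out.out ∈ T
      · refine ⟨0, ?_, ?_⟩
        · rw [pow_zero, hϕ1]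
          simp only [h1, pow_one]
          exact hT
        · have hgood : q.out ∈ goodCosets S T y := (mem_goodCosets_iff hTS hTn _).mpr hT
          rw [if_pos hgood, if_pos hgood, h1]
      · refine ⟨1, ?_, ?_⟩
        · rw [pow_one]
          apply hϕinv
          · simp only [h1, pow_one]
            calc q.out.out⁻¹ * y * q.out.out * (q.out.out⁻¹ * y * q.out.out)
                = q.out.out⁻¹ * (y * y) * q.out.out := by group
              _ = 1 := by rw [hy2]; group
          · simp only [h1, pow_one]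
            exact hT
        · have hgood : q.out ∉ goodCosets S T y := fun h =>
            hT ((mem_goodCosets_iff hTS hTn _).mp h)
          rw [if_neg hgood, if_neg hgood, h1]
    · refine ⟨0, ?_, ?_⟩
      · rw [pow_zero, hϕ1]
        simp only [h2, pow_two, hy2, mul_one, inv_mul_cancel]
        exact T.one_mem
      · have hgood : q.out ∉ goodCosets S T y := by
          intro h
          have h3 := smul_eq_of_mem_goodCosets hTS h
          have h4 : Function.minimalPeriod (y • ·) q.out = 1 :=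
            Function.minimalPeriod_eq_one_iff_isFixedPt.mpr h3
          omega
        rw [if_neg hgood, if_neg hgood, h2]
  choose χ hχ1 hχ2 using hkey
  have hprod : MonoidHom.transfer ϕ y = (ϕ ⟨y, hyS⟩) ^ (∑ q, χ q) := by
    rw [hformula, ← Finset.prod_pow_eq_pow_sum]
    exact Finset.prod_congr rfl (fun q _ => hχ1 q)
  have hχeven : 2 ∣ ∑ q, χ q := by
    rw [← ha₀o]
    apply orderOf_dvd_of_pow_eq_one
    rw [← hprod, hVy]
  have hsumeq : (∑ q : Quotient (orbitRel (Subgroup.zpowers y) (G ⧸ S)),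
        (if q.out ∈ goodCosets S T y then 1 else 0)) +
      2 * (∑ q : Quotient (orbitRel (Subgroup.zpowers y) (G ⧸ S)),
        (if q.out ∈ goodCosets S T y then 0 else 1)) = S.index + ∑ q, χ q := by
    rw [hsum, Finset.mul_sum, ← Finset.sum_add_distrib, ← Finset.sum_add_distrib]
    exact Finset.sum_congr rfl (fun q _ => hχ2 q)
  have hfodd : Odd (∑ q : Quotient (orbitRel (Subgroup.zpowers y) (G ⧸ S)),
        (if q.out ∈ goodCosets S T y then 1 else 0)) := by
    obtain ⟨k, hk⟩ := hodd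
    obtain ⟨l, hl⟩ := hχeven
    rw [hk, hl] at hsumeq
    rw [Nat.odd_iff]
    omega
  have hkeyout : ∀ c : G ⧸ S, c ∈ goodCosets S T y →
      (Quotient.mk (orbitRel (Subgroup.zpowers y) (G ⧸ S)) c).out = c := by
    intro c hc
    have hfix : y • c = c := smul_eq_of_mem_goodCosets hTS hc
    have hrel : (Quotient.mk (orbitRel (Subgroup.zpowers y) (G ⧸ S)) c).out ∈
        orbit (Subgroup.zpowers y) c := Quotient.mk_out (s := orbitRel (Subgroup.zpowers y) (G ⧸ S)) c
    obtain ⟨⟨k, hk⟩, hkc⟩ := hrel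
    obtain ⟨n, rfl⟩ := Subgroup.mem_zpowers_iff.mp hk
    rw [← hkc]
    show y ^ n • c = c
    have hstab : y ∈ stabilizer G c := hfix
    exact (stabilizer G c).zpow_mem hstab n
  have hcard : Nat.card (goodCosets S T y) =
      ∑ q : Quotient (orbitRel (Subgroup.zpowers y) (G ⧸ S)),
        (if q.out ∈ goodCosets S T y then 1 else 0) := by
    rw [← Finset.card_filter, ← Fintype.card_subtype, ← Nat.card_eq_fintype_card]
    apply Nat.card_congr
    exact
      { toFun := fun c => ⟨Quotient.mk _ c.1, by rw [hkeyout c.1 c.2]; exact c.2⟩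
        invFun := fun q => ⟨q.1.out, q.2⟩
        left_inv := fun c => Subtype.ext (hkeyout c.1 c.2)
        right_inv := fun q => Subtype.ext (Quotient.out_eq q.1) }
  rw [hcard]
  exact hfodd

/-- Extremal conjugation (Thompson transfer into a cyclic quotient); copy of helper9's lemma with the
hypothesis `G` perfect weakened. -/
theorem exists_extremal_conj' (S : Sylow 2 G) (T : Subgroup G) (hTS : T ≤ S)
    (hTn : (T.subgroupOf (S : Subgroup G)).Normal)
    (hcyc : IsCyclic (↥(S : Subgroup G) ⧸ T.subgroupOf (S : Subgroup G)))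
    (y : G) (hy : orderOf y = 2) (hyS : y ∈ S) (hyT : y ∉ T)
    (hV : ∀ (A : Type u) [CommGroup A] (f : G →* A), IsPGroup 2 A → f y = 1) :
    ∃ g : G, g * y * g⁻¹ ∈ T ∧
      ¬ 2 ∣ ((S : Subgroup G) ⊓ Subgroup.centralizer {g * y * g⁻¹}).relIndex
          (Subgroup.centralizer {g * y * g⁻¹}) ∧
      ((S : Subgroup G) ⊓ Subgroup.centralizer {y}).map (MulAut.conj g).toMonoidHom ≤
        (S : Subgroup G) ⊓ Subgroup.centralizer {g * y * g⁻¹} := by
  have : Fact (Nat.Prime 2) := ⟨Nat.prime_two⟩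
  have hy2 : y * y = 1 := by rw [← pow_two, ← hy, pow_orderOf_eq_one]
  have hodd : Odd (S : Subgroup G).index := by
    rw [← Nat.not_even_iff_odd, even_iff_two_dvd]
    exact S.not_dvd_index
  have hcount := odd_card_goodCosets' (S : Subgroup G) T hTS hTn hcyc hodd y hy2 hyS hyT S.isPGroup' hV
  have hCS : IsPGroup 2 (((S : Subgroup G) ⊓ Subgroup.centralizer {y}).subgroupOf
      (Subgroup.centralizer {y})) := (S.2.to_le inf_le_left).comap_subtype
  obtain ⟨R, hR⟩ := hCS.exists_le_sylow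
  obtain ⟨RG, hRGdef⟩ : ∃ RG : Subgroup G,
      RG = (R : Subgroup (Subgroup.centralizer ({y} : Set G))).map (Subgroup.centralizer {y}).subtype :=
    ⟨_, rfl⟩
  have hRGC : RG ≤ Subgroup.centralizer {y} := by
    rw [hRGdef]; exact Subgroup.map_subtype_le _
  have hSCRG : (S : Subgroup G) ⊓ Subgroup.centralizer {y} ≤ RG := by
    intro s hs
    rw [hRGdef]
    exact ⟨⟨s, hs.2⟩, hR (by rw [Subgroup.mem_subgroupOf]; exact hs), rfl⟩
  have hRGp : IsPGroup 2 RG := by rw [hRGdef]; exact R.2.map _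
  have hcardRG : Nat.card RG = 2 ^ (Nat.card (Subgroup.centralizer ({y} : Set G))).factorization 2 := by
    rw [hRGdef, Subgroup.card_map_of_injective (Subgroup.subtype_injective _)]
    exact R.card_eq_multiplicity
  have hcomm : ∀ r ∈ RG, r * y = y * r := fun r hr =>
    Subgroup.mem_centralizer_singleton_iff.mp (hRGC hr)
  let F : SubMulAction RG (G ⧸ (S : Subgroup G)) :=
    { carrier := goodCosets (S : Subgroup G) T y
      smul_mem' := by
        rintro r c ⟨g, rfl, hg⟩
        refine ⟨(r : G) * g, rfl, ?_⟩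
        have h1 : ((r : G) * g)⁻¹ * y * ((r : G) * g) = g⁻¹ * ((r : G)⁻¹ * (y * (r : G))) * g := by
          group
        rw [h1, ← hcomm r r.2, inv_mul_cancel_left]
        exact hg }
  have hnd : ¬ 2 ∣ Nat.card F := by
    have : Nat.card F = Nat.card (goodCosets (S : Subgroup G) T y) := rfl
    rw [this]
    intro h2
    rw [Nat.odd_iff] at hcount
    omega
  obtain ⟨⟨c, hc⟩, hfix⟩ := hRGp.nonempty_fixed_point_of_prime_not_dvd_card F hnd
  obtain ⟨g₀, rfl, hg₀⟩ := hc
  have hconjS : ∀ r ∈ RG, g₀⁻¹ * r * g₀ ∈ (S : Subgroup G) := by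
    intro r hr
    have h1 := hfix ⟨r, hr⟩
    have h2 : ((r * g₀ : G) : G ⧸ (S : Subgroup G)) = (g₀ : G ⧸ (S : Subgroup G)) :=
      congrArg Subtype.val h1
    have h3 := QuotientGroup.eq.mp h2
    have h4 : g₀⁻¹ * r * g₀ = ((r * g₀)⁻¹ * g₀)⁻¹ := by group
    rw [h4]
    exact Subgroup.inv_mem _ h3
  have hconjC : ∀ r ∈ RG, g₀⁻¹ * r * g₀ ∈ Subgroup.centralizer {g₀⁻¹ * y * g₀⁻¹⁻¹} := by
    intro r hr
    rw [Subgroup.mem_centralizer_singleton_iff, inv_inv]
    calc g₀⁻¹ * r * g₀ * (g₀⁻¹ * y * g₀) = g₀⁻¹ * (r * y) * g₀ := by group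
      _ = g₀⁻¹ * (y * r) * g₀ := by rw [hcomm r hr]
      _ = g₀⁻¹ * y * g₀ * (g₀⁻¹ * r * g₀) := by group
  refine ⟨g₀⁻¹, by rw [inv_inv]; exact hg₀, ?_, ?_⟩
  · intro hdvd
    -- the conjugate of RG
    have hR'le : RG.map (MulAut.conj g₀⁻¹).toMonoidHom ≤
        (S : Subgroup G) ⊓ Subgroup.centralizer {g₀⁻¹ * y * g₀⁻¹⁻¹} := by
      rintro _ ⟨r, hr, rfl⟩
      have e : (MulAut.conj g₀⁻¹).toMonoidHom r = g₀⁻¹ * r * g₀ := by simp
      rw [e]
      exact ⟨hconjS r hr, hconjC r hr⟩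
    have hdvd2 : 2 ∣ (RG.map (MulAut.conj g₀⁻¹).toMonoidHom).relIndex
        (Subgroup.centralizer {g₀⁻¹ * y * g₀⁻¹⁻¹}) :=
      dvd_trans hdvd (Subgroup.relIndex_dvd_of_le_left _ hR'le)
    have hmul := Subgroup.relIndex_mul_relIndex (⊥ : Subgroup G)
      (RG.map (MulAut.conj g₀⁻¹).toMonoidHom) (Subgroup.centralizer {g₀⁻¹ * y * g₀⁻¹⁻¹}) bot_le
      (hR'le.trans inf_le_right)
    rw [Subgroup.relIndex_bot_left, Subgroup.relIndex_bot_left, card_map_conj, hcardRG] at hmul
    have hCC : Nat.card (Subgroup.centralizer ({g₀⁻¹ * y * g₀⁻¹⁻¹} : Set G)) =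
        Nat.card (Subgroup.centralizer ({y} : Set G)) := by
      have : Subgroup.centralizer ({g₀⁻¹ * y * g₀⁻¹⁻¹} : Set G) =
          (Subgroup.centralizer ({y} : Set G)).map (MulAut.conj g₀⁻¹).toMonoidHom := by
        ext x
        rw [mem_map_conj, Subgroup.mem_centralizer_singleton_iff,
          Subgroup.mem_centralizer_singleton_iff, inv_inv]
        constructor
        · intro h
          calc g₀ * x * g₀⁻¹ * y = g₀ * (x * (g₀⁻¹ * y * g₀)) * g₀⁻¹ := by group
            _ = g₀ * ((g₀⁻¹ * y * g₀) * x) * g₀⁻¹ := by rw [h]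
            _ = y * (g₀ * x * g₀⁻¹) := by group
        · intro h
          calc x * (g₀⁻¹ * y * g₀) = g₀⁻¹ * ((g₀ * x * g₀⁻¹) * y) * g₀ := by group
            _ = g₀⁻¹ * (y * (g₀ * x * g₀⁻¹)) * g₀ := by rw [h]
            _ = g₀⁻¹ * y * g₀ * x := by group
      rw [this, card_map_conj]
    rw [hCC] at hmul
    obtain ⟨k, hk⟩ := hdvd2
    rw [hk] at hmul
    have hbad : 2 ^ ((Nat.card (Subgroup.centralizer ({y} : Set G))).factorization 2 + 1) ∣
        Nat.card (Subgroup.centralizer ({y} : Set G)) := by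
      refine ⟨k, ?_⟩
      rw [pow_succ, mul_assoc]
      exact hmul.symm
    exact Nat.pow_succ_factorization_not_dvd Nat.card_pos.ne' Nat.prime_two hbad
  · rintro _ ⟨s, hs, rfl⟩
    have e : (MulAut.conj g₀⁻¹).toMonoidHom s = g₀⁻¹ * s * g₀ := by simp
    rw [e]
    exact ⟨hconjS s (hSCRG hs), hconjC s (hSCRG hs)⟩

end counting

end Cfsg.Agent.Helper15
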