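import Mathlib

set_option autoImplicit false

/-!
# Generic tools for recognising Sylow subgroups through explicit lists (helper15)
-/

namespace Cfsg.Agent.Helper15.SylGen

lemma card_eq_pow_factorization {X : Type*} [Group X] [Finite X] (p : ℕ) [Fact p.Prime] (k : ℕ)
    (C : Subgroup X) (hC : Nat.card C = p ^ k) (hX : ¬ p ^ (k + 1) ∣ Nat.card X) :
    Nat.card C = p ^ (Nat.card X).factorization p := by
  rw [hC]
  congr 1
  have h1 : p ^ k ∣ Nat.card X := hC ▸ C.card_subgroup_dvd_card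
  have hp : p.Prime := Fact.out
  have hne : Nat.card X ≠ 0 := Nat.card_pos.ne'
  have h2 : k ≤ (Nat.card X).factorization p := (hp.pow_dvd_iff_le_factorization hne).mp h1
  have h3 : ¬ (k + 1 ≤ (Nat.card X).factorization p) := fun h =>
    hX ((hp.pow_dvd_iff_le_factorization hne).mpr h)
  omega

/-- two groups with isomorphic subgroups of order `p ^ k`, where `p ^ (k+1)` divides neither group
order, have isomorphic Sylow `p`-subgroups. -/
theorem sylow_iso_of_sub {G H : Type*} [Group G] [Group H] [Finite G] [Finite H]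
    (p : ℕ) [Fact p.Prime] (k : ℕ) (A : Subgroup G) (B : Subgroup H) (e : A ≃* B)
    (hA : Nat.card A = p ^ k) (hG : ¬ p ^ (k + 1) ∣ Nat.card G) (hH : ¬ p ^ (k + 1) ∣ Nat.card H)
    (P : Sylow p G) (Q : Sylow p H) : Nonempty (P ≃* Q) := by
  have hB : Nat.card B = p ^ k := by rw [← hA]; exact Nat.card_congr e.symm.toEquiv
  let PA : Sylow p G := Sylow.ofCard A (card_eq_pow_factorization p k A hA hG)
  let QB : Sylow p H := Sylow.ofCard B (card_eq_pow_factorization p k B hB hH)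
  have e1 : P ≃* PA := Sylow.equiv P PA
  have e2 : QB ≃* Q := Sylow.equiv QB Q
  exact ⟨e1.trans (e.trans e2)⟩

/-- homomorphisms with the same kernel have isomorphic ranges. -/
theorem range_equiv_of_ker_eq {T A B : Type*} [Group T] [Group A] [Group B]
    (α : T →* A) (β : T →* B) (h : α.ker = β.ker) : Nonempty (α.range ≃* β.range) :=
  ⟨((QuotientGroup.quotientKerEquivRange α).symm.trans
    (QuotientGroup.quotientMulEquivOfEq h)).trans (QuotientGroup.quotientKerEquivRange β)⟩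

section ConjPerm

variable {Γ M : Type*} [Group Γ] [Monoid M] (ι : Γ →* M) {m : ℕ} (Ω : Fin m → M)

/-- the elements permuting the family `Ω` by conjugation. -/
def stabFam : Subgroup Γ where
  carrier := {g | ∃ σ : Equiv.Perm (Fin m), ∀ i, ι g * Ω i = Ω (σ i) * ι g}
  one_mem' := ⟨1, fun i => by simp⟩
  mul_mem' := by
    rintro g h ⟨σ, hσ⟩ ⟨τ, hτ⟩
    refine ⟨σ * τ, fun i => ?_⟩
    rw [map_mul, mul_assoc, hτ i, ← mul_assoc, hσ (τ i), mul_assoc]
    rfl
  inv_mem' := by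
    rintro g ⟨σ, hσ⟩
    refine ⟨σ⁻¹, fun i => ?_⟩
    have h := hσ (σ⁻¹ i)
    have e : σ (σ⁻¹ i) = i := by simp
    rw [e] at h
    have h1 : ι g⁻¹ * ι g = 1 := by rw [← map_mul, inv_mul_cancel, map_one]
    have h2 : ι g * ι g⁻¹ = 1 := by rw [← map_mul, mul_inv_cancel, map_one]
    calc ι g⁻¹ * Ω i = ι g⁻¹ * (Ω i * ι g) * ι g⁻¹ := by
          rw [mul_assoc, mul_assoc, h2, mul_one]
      _ = ι g⁻¹ * (ι g * Ω (σ⁻¹ i)) * ι g⁻¹ := by rw [h]
      _ = Ω (σ⁻¹ i) * ι g⁻¹ := by rw [← mul_assoc, h1, one_mul]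

lemma mem_stabFam {g : Γ} :
    g ∈ stabFam ι Ω ↔ ∃ σ : Equiv.Perm (Fin m), ∀ i, ι g * Ω i = Ω (σ i) * ι g := Iff.rfl

variable (hΩ : Function.Injective Ω)

include hΩ in
lemma perm_unique {g : Γ} {σ τ : Equiv.Perm (Fin m)}
    (hσ : ∀ i, ι g * Ω i = Ω (σ i) * ι g) (hτ : ∀ i, ι g * Ω i = Ω (τ i) * ι g) : σ = τ := by
  ext i
  have h2 : ι g * ι g⁻¹ = 1 := by rw [← map_mul, mul_inv_cancel, map_one]
  have h : Ω (σ i) * ι g = Ω (τ i) * ι g := by rw [← hσ, ← hτ]
  have h3 : Ω (σ i) = Ω (τ i) := by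
    calc Ω (σ i) = Ω (σ i) * ι g * ι g⁻¹ := by rw [mul_assoc, h2, mul_one]
      _ = Ω (τ i) * ι g * ι g⁻¹ := by rw [h]
      _ = Ω (τ i) := by rw [mul_assoc, h2, mul_one]
  exact congrArg _ (hΩ h3)

/-- the permutation representation on the family. -/
noncomputable def permHom : stabFam ι Ω →* Equiv.Perm (Fin m) where
  toFun g := Classical.choose g.2
  map_one' := by
    apply perm_unique ι Ω hΩ (g := 1) (Classical.choose_spec (1 : stabFam ι Ω).2)
    intro i; simp
  map_mul' g h := by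
    apply perm_unique ι Ω hΩ (g := (g * h : stabFam ι Ω)) (Classical.choose_spec (g * h).2)
    intro i
    have hg := Classical.choose_spec g.2
    have hh := Classical.choose_spec h.2
    rw [Subgroup.coe_mul, map_mul, mul_assoc, hh i, ← mul_assoc, hg, mul_assoc]
    rfl

lemma permHom_spec (g : stabFam ι Ω) (i : Fin m) :
    ι g * Ω i = Ω (permHom ι Ω hΩ g i) * ι g :=
  Classical.choose_spec g.2 i

lemma permHom_eq (g : stabFam ι Ω) (σ : Equiv.Perm (Fin m))
    (hσ : ∀ i, ι g * Ω i = Ω (σ i) * ι g) : permHom ι Ω hΩ g = σ :=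
  perm_unique ι Ω hΩ (permHom_spec ι Ω hΩ g) hσ

lemma permHom_eq_one_iff (g : stabFam ι Ω) :
    permHom ι Ω hΩ g = 1 ↔ ∀ i, ι g * Ω i = Ω i * ι g := by
  constructor
  · intro h i
    have := permHom_spec ι Ω hΩ g i
    rwa [h] at this
  · intro h
    exact permHom_eq ι Ω hΩ g 1 h

end ConjPerm

end Cfsg.Agent.Helper15.SylGen
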