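import Mathlib
import Cfsg.Agent.Lib.Helper15.SylGen1

set_option autoImplicit false

/-!
# Identifying a quotient of a matrix group with a permutation group on a family of matrices,
and stabiliser-chain lower bounds for permutation groups given by generators (helper15)
-/

namespace Cfsg.Agent.Helper15.SylGen

/-- counting criterion: a homomorphism whose kernel contains `Z` and whose range contains `R`
induces `Γ ⧸ Z ≃* R` as soon as `|Γ| ≤ |Z| |R|`. -/
theorem quot_equiv_of_card {Γ P : Type*} [Group Γ] [Finite Γ] [Group P] (Φ : Γ →* P)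
    (Z : Subgroup Γ) [Z.Normal] (R : Subgroup P) (hZ : Z ≤ Φ.ker) (hR : R ≤ Φ.range)
    (hcard : Nat.card Γ ≤ Nat.card Z * Nat.card R) :
    Nat.card Γ = Nat.card Z * Nat.card R ∧ Nonempty (Γ ⧸ Z ≃* R) := by
  have hfin : Finite Φ.range := Finite.of_surjective Φ.rangeRestrict Φ.rangeRestrict_surjective
  have hfinR : Finite R := Finite.of_injective (Subgroup.inclusion hR) (Subgroup.inclusion_injective hR)
  have h1 : Nat.card Φ.ker * Nat.card Φ.range = Nat.card Γ := by
    rw [← Subgroup.index_ker]; exact Subgroup.card_mul_index _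
  have hZk : Nat.card Z ≤ Nat.card Φ.ker := Subgroup.card_le_of_le hZ
  have hRr : Nat.card R ≤ Nat.card Φ.range := Subgroup.card_le_of_le hR
  have hz0 : 0 < Nat.card Z := Nat.card_pos
  have hr0 : 0 < Nat.card R := Nat.card_pos
  have hk0 : 0 < Nat.card Φ.ker := Nat.card_pos
  have e1 : Nat.card Z * Nat.card R ≤ Nat.card Φ.ker * Nat.card R := Nat.mul_le_mul_right _ hZk
  have e2 : Nat.card Φ.ker * Nat.card R ≤ Nat.card Φ.ker * Nat.card Φ.range :=
    Nat.mul_le_mul_left _ hRr
  have e3 : Nat.card Φ.ker * Nat.card R = Nat.card Z * Nat.card R := by omega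
  have e4 : Nat.card Φ.ker * Nat.card R = Nat.card Φ.ker * Nat.card Φ.range := by omega
  have hk : Nat.card Φ.ker = Nat.card Z := Nat.eq_of_mul_eq_mul_right hr0 e3
  have hr : Nat.card R = Nat.card Φ.range := Nat.eq_of_mul_eq_mul_left hk0 e4
  have hZeq : Z = Φ.ker := Subgroup.eq_of_le_of_card_ge hZ hk.le
  have hReq : R = Φ.range := Subgroup.eq_of_le_of_card_ge hR hr.symm.le
  refine ⟨by omega, ?_⟩
  subst hReq
  exact ⟨(QuotientGroup.quotientMulEquivOfEq hZeq).trans (QuotientGroup.quotientKerEquivRange Φ)⟩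

/-- a finite group `Γ` mapped to a monoid in which two of its elements permute an injective family
`Ω` by conjugation through `σ₁, σ₂`; if a normal subgroup `Z` commuting with the family satisfies
`|Γ| ≤ |Z| |⟨σ₁, σ₂⟩|`, then `Γ ⧸ Z ≃* ⟨σ₁, σ₂⟩`. -/
theorem quot_equiv_closure {Γ M : Type*} [Group Γ] [Finite Γ] [Monoid M] (ι : Γ →* M) {m : ℕ}
    (Ω : Fin m → M) (hΩ : Function.Injective Ω) (g1 g2 : Γ) (σ1 σ2 : Equiv.Perm (Fin m))
    (h1 : ∀ i, ι g1 * Ω i = Ω (σ1 i) * ι g1) (h2 : ∀ i, ι g2 * Ω i = Ω (σ2 i) * ι g2)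
    (Z : Subgroup Γ) [Z.Normal] (hZc : ∀ z ∈ Z, ∀ i, ι z * Ω i = Ω i * ι z)
    (hcard : Nat.card Γ ≤
      Nat.card Z * Nat.card (Subgroup.closure ({σ1, σ2} : Set (Equiv.Perm (Fin m))))) :
    Nonempty (Γ ⧸ Z ≃* Subgroup.closure ({σ1, σ2} : Set (Equiv.Perm (Fin m)))) := by
  have hg1 : g1 ∈ stabFam ι Ω := ⟨σ1, h1⟩
  have hg2 : g2 ∈ stabFam ι Ω := ⟨σ2, h2⟩
  have hZS : Z ≤ stabFam ι Ω := fun z hz => ⟨1, fun i => by simpa using hZc z hz i⟩
  have hf1 : permHom ι Ω hΩ ⟨g1, hg1⟩ = σ1 := permHom_eq ι Ω hΩ ⟨g1, hg1⟩ σ1 h1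
  have hf2 : permHom ι Ω hΩ ⟨g2, hg2⟩ = σ2 := permHom_eq ι Ω hΩ ⟨g2, hg2⟩ σ2 h2
  -- step 1: everything permutes the family
  have hS : stabFam ι Ω = ⊤ := by
    have hker : Z.subgroupOf (stabFam ι Ω) ≤ (permHom ι Ω hΩ).ker := by
      intro z hz
      rw [MonoidHom.mem_ker, permHom_eq_one_iff]
      exact hZc z.1 (Subgroup.mem_subgroupOf.mp hz)
    have hran : Subgroup.closure ({σ1, σ2} : Set (Equiv.Perm (Fin m))) ≤ (permHom ι Ω hΩ).range := by
      rw [Subgroup.closure_le]
      intro x hx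
      rcases hx with rfl | rfl
      · exact ⟨⟨g1, hg1⟩, hf1⟩
      · exact ⟨⟨g2, hg2⟩, hf2⟩
    have hc1 : Nat.card (Z.subgroupOf (stabFam ι Ω)) = Nat.card Z :=
      Nat.card_congr (Subgroup.subgroupOfEquivOfLe hZS).toEquiv
    have hfin : Finite (permHom ι Ω hΩ).range :=
      Finite.of_surjective (permHom ι Ω hΩ).rangeRestrict (permHom ι Ω hΩ).rangeRestrict_surjective
    have h3 : Nat.card (permHom ι Ω hΩ).ker * Nat.card (permHom ι Ω hΩ).range
        = Nat.card (stabFam ι Ω) := by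
      rw [← Subgroup.index_ker]; exact Subgroup.card_mul_index _
    have h4 : Nat.card (Z.subgroupOf (stabFam ι Ω)) ≤ Nat.card (permHom ι Ω hΩ).ker :=
      Subgroup.card_le_of_le hker
    have h5 := Subgroup.card_le_of_le hran
    have h6 : Nat.card (stabFam ι Ω) ≤ Nat.card Γ := Subgroup.card_le_card_group _
    have h7 : Nat.card Z * Nat.card (Subgroup.closure ({σ1, σ2} : Set (Equiv.Perm (Fin m))))
        ≤ Nat.card (permHom ι Ω hΩ).ker * Nat.card (permHom ι Ω hΩ).range := by
      rw [← hc1]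
      exact Nat.mul_le_mul h4 h5
    exact Subgroup.eq_top_of_card_eq _ (by omega)
  -- step 2: the induced homomorphism on `Γ`
  let e : Γ →* stabFam ι Ω :=
    { toFun := fun g => ⟨g, by rw [hS]; trivial⟩
      map_one' := rfl
      map_mul' := fun _ _ => rfl }
  refine (quot_equiv_of_card ((permHom ι Ω hΩ).comp e) Z _ ?_ ?_ hcard).2
  · intro z hz
    rw [MonoidHom.mem_ker, MonoidHom.comp_apply, permHom_eq_one_iff]
    exact hZc z hz
  · rw [Subgroup.closure_le]
    intro x hx
    rcases hx with rfl | rfl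
    · exact ⟨g1, hf1⟩
    · exact ⟨g2, hf2⟩

section Chain

variable {m : ℕ}

/-- the elements of `R` fixing every point of the list `B`. -/
def fixList (R : Subgroup (Equiv.Perm (Fin m))) (B : List (Fin m)) :
    Subgroup (Equiv.Perm (Fin m)) where
  carrier := {g | g ∈ R ∧ ∀ b ∈ B, g b = b}
  one_mem' := ⟨R.one_mem, fun _ _ => rfl⟩
  mul_mem' := by
    rintro a b ⟨ha, ha'⟩ ⟨hb, hb'⟩
    exact ⟨R.mul_mem ha hb, fun x hx => by rw [Equiv.Perm.mul_apply, hb' x hx, ha' x hx]⟩
  inv_mem' := by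
    rintro a ⟨ha, ha'⟩
    exact ⟨R.inv_mem ha, fun x hx => by rw [Equiv.Perm.inv_eq_iff_eq]; exact (ha' x hx).symm⟩

lemma mem_fixList {R : Subgroup (Equiv.Perm (Fin m))} {B : List (Fin m)} {g : Equiv.Perm (Fin m)} :
    g ∈ fixList R B ↔ g ∈ R ∧ ∀ b ∈ B, g b = b := Iff.rfl

lemma fixList_nil (R : Subgroup (Equiv.Perm (Fin m))) : fixList R [] = R := by
  ext g
  simp [mem_fixList]

lemma card_fixList_ge (R : Subgroup (Equiv.Perm (Fin m))) (B : List (Fin m)) (β : Fin m) (n : ℕ)
    (t : Fin n → Equiv.Perm (Fin m)) (ht : ∀ i, t i ∈ fixList R B)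
    (hinj : ∀ i j, t i β = t j β → i = j) :
    n * Nat.card (fixList R (B ++ [β])) ≤ Nat.card (fixList R B) := by
  have hsub : ∀ g : fixList R (B ++ [β]), (g : Equiv.Perm (Fin m)) ∈ fixList R B := fun g =>
    ⟨g.2.1, fun b hb => g.2.2 b (List.mem_append_left _ hb)⟩
  let f : Fin n × fixList R (B ++ [β]) → fixList R B := fun p =>
    ⟨t p.1 * p.2, (fixList R B).mul_mem (ht p.1) (hsub p.2)⟩
  have hf : Function.Injective f := by
    rintro ⟨i, g⟩ ⟨j, g'⟩ h
    have h0 : t i * (g : Equiv.Perm (Fin m)) = t j * (g' : Equiv.Perm (Fin m)) :=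
      congrArg Subtype.val h
    have hg : (g : Equiv.Perm (Fin m)) β = β := g.2.2 β (by simp)
    have hg' : (g' : Equiv.Perm (Fin m)) β = β := g'.2.2 β (by simp)
    have h1 := congrArg (fun x : Equiv.Perm (Fin m) => x β) h0
    simp only [Equiv.Perm.mul_apply, hg, hg'] at h1
    have hij := hinj i j h1
    subst hij
    have h2 : (g : Equiv.Perm (Fin m)) = g' := mul_left_cancel h0
    rw [Subtype.ext h2]
  have := Nat.card_le_card_of_injective f hf
  rwa [Nat.card_prod, Nat.card_eq_fintype_card, Fintype.card_fin] at this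

lemma one_le_card_fixList (R : Subgroup (Equiv.Perm (Fin m))) (B : List (Fin m)) :
    1 ≤ Nat.card (fixList R B) := Nat.card_pos

/-- evaluation of a word in two generators. -/
def evw (σ : Bool → Equiv.Perm (Fin m)) : List Bool → Equiv.Perm (Fin m)
  | [] => 1
  | b :: w => σ b * evw σ w

lemma evw_mem (σ : Bool → Equiv.Perm (Fin m)) (w : List Bool) :
    evw σ w ∈ Subgroup.closure ({σ true, σ false} : Set (Equiv.Perm (Fin m))) := by
  induction w with
  | nil => exact Subgroup.one_mem _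
  | cons b w ih =>
    refine Subgroup.mul_mem _ (Subgroup.subset_closure ?_) ih
    cases b <;> simp

/-- evaluation of a word on raw functions. -/
def evf (s : Bool → Fin m → Fin m) : List Bool → Fin m → Fin m
  | [], x => x
  | b :: w, x => s b (evf s w x)

lemma evw_apply (σ : Bool → Equiv.Perm (Fin m)) (s : Bool → Fin m → Fin m)
    (hs : ∀ b x, σ b x = s b x) (w : List Bool) (x : Fin m) : evw σ w x = evf s w x := by
  induction w with
  | nil => rfl
  | cons b w ih =>
    change σ b (evw σ w x) = s b (evf s w x)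
    rw [ih, hs]

/-- one step of a stabiliser chain, certified by words. -/
theorem chain_step (σ : Bool → Equiv.Perm (Fin m)) (s : Bool → Fin m → Fin m)
    (hs : ∀ b x, σ b x = s b x) (B : List (Fin m)) (β : Fin m) (W : List (List Bool))
    (hfix : ∀ w ∈ W, ∀ b ∈ B, evf s w b = b)
    (hnd : (W.map (fun w => evf s w β)).Nodup) :
    W.length * Nat.card (fixList (Subgroup.closure ({σ true, σ false} : Set (Equiv.Perm (Fin m))))
        (B ++ [β]))
      ≤ Nat.card (fixList (Subgroup.closure ({σ true, σ false} : Set (Equiv.Perm (Fin m)))) B) := by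
  apply card_fixList_ge _ B β W.length (fun i => evw σ (W.get i))
  · intro i
    refine ⟨evw_mem σ _, fun b hb => ?_⟩
    rw [evw_apply σ s hs]
    exact hfix _ (List.get_mem W i) b hb
  · intro i j h
    rw [evw_apply σ s hs, evw_apply σ s hs] at h
    have h2 := List.nodup_iff_injective_get.mp hnd
    have hl : (W.map (fun w => evf s w β)).length = W.length := List.length_map _
    have := @h2 (Fin.cast hl.symm i) (Fin.cast hl.symm j) (by simpa using h)
    simpa [Fin.ext_iff] using this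

end Chain

end Cfsg.Agent.Helper15.SylGen
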