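import Mathlib
import Cfsg.Agent.Lib.Helper15.SylGen3

set_option autoImplicit false

/-!
# `PSU₄(2) ≅ PSp₄(3)`: the common permutation group of degree 40 (helper15)

Data produced by an external search; everything is re-checked by the kernel.
-/

namespace Cfsg.Agent.Helper15.U4

open SylGen

def s1L : List ℕ := [3, 1, 2, 0, 10, 8, 6, 7, 5, 12, 4, 11, 9, 24, 26, 28, 27, 29, 22, 30, 23, 25, 18, 20, 13, 21, 14, 16, 15, 17, 19, 39, 32, 34, 33, 35, 37, 36, 38, 31]

def s2L : List ℕ := [22, 18, 11, 38, 12, 17, 39, 23, 0, 24, 37, 16, 10, 31, 13, 4, 9, 20, 36, 29, 3, 27, 26, 30, 2, 6, 33, 14, 34, 7, 19, 21, 35, 8, 1, 25, 28, 15, 5, 32]

def s1iL : List ℕ := [3, 1, 2, 0, 10, 8, 6, 7, 5, 12, 4, 11, 9, 24, 26, 28, 27, 29, 22, 30, 23, 25, 18, 20, 13, 21, 14, 16, 15, 17, 19, 39, 32, 34, 33, 35, 37, 36, 38, 31]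

def s2iL : List ℕ := [8, 34, 24, 20, 15, 38, 25, 29, 33, 16, 12, 2, 4, 14, 27, 37, 11, 5, 1, 30, 17, 31, 0, 7, 9, 35, 22, 21, 36, 19, 23, 13, 39, 26, 28, 32, 18, 10, 3, 6]

/-- the two generating permutations as raw functions (`true` is the first). -/
def sf (b : Bool) (x : Fin 40) : Fin 40 := Fin.ofNat 40 ((if b then s1L else s2L).getD x.val 0)

def sfi (b : Bool) (x : Fin 40) : Fin 40 := Fin.ofNat 40 ((if b then s1iL else s2iL).getD x.val 0)

lemma sfi_sf : ∀ (b : Bool) (x : Fin 40), sfi b (sf b x) = x := by decide +kernel

lemma sf_sfi : ∀ (b : Bool) (x : Fin 40), sf b (sfi b x) = x := by decide +kernel

/-- the two generating permutations. -/
def sg (b : Bool) : Equiv.Perm (Fin 40) where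
  toFun := sf b
  invFun := sfi b
  left_inv := sfi_sf b
  right_inv := sf_sfi b

lemma sg_apply (b : Bool) (x : Fin 40) : sg b x = sf b x := rfl

/-- the permutation group. -/
abbrev R : Subgroup (Equiv.Perm (Fin 40)) :=
  Subgroup.closure ({sg true, sg false} : Set (Equiv.Perm (Fin 40)))

def W0 : List (List Bool) := [[],
  [false, true, false, false, false],
  [false, true, false, true, false, false],
  [true],
  [false, false, true, false, true, false],
  [false, false, true],
  [false, true, false, false, false, true, false, false],
  [false, true, false, false, false, true],
  [true, false, false, true],
  [true, false, false, false, true, false, true, false],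
  [true, false, false, true, false, true, false],
  [false, false, true, false, true, false, false],
  [false, false, false, true, false, true, false],
  [false, true, false, false],
  [true, false, false],
  [false, true, false, true, false],
  [false, false, false, true, false, true, false, false],
  [false, false, false, true],
  [true, false],
  [true, false, true, false, false, false, false, true],
  [false, false, false, false, true],
  [false, false, false, true, false, false],
  [false],
  [true, false, false, false, false, true],
  [true, false, true, false, false],
  [true, false, false, false, true, false, false],
  [false, false],
  [false, false, false, false, true, false, false],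
  [false, false, true, false],
  [true, false, false, false, true],
  [false, true, false, false, false, false, true],
  [false, false, true, false, false],
  [false, true, false, false, true, false, false],
  [false, false, false],
  [true, false, false, false],
  [false, false, true, false, false, true, false, false],
  [false, true, false],
  [true, false, true, false],
  [false, true],
  [true, false, false, true, false, false]]

def W1 : List (List Bool) := [[],
  [true, false, true, false, false, false, true, false, false, false, true, false, false, true, false, true],
  [false, true, false, false, false, false, true, false, false, true, false, false, true, false, false, false, false, true],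
  [false, true, false, true, false, true, false, true, false, false, true],
  [true, false, true, false, true, false, false, true, false, false, true, false, true, false, false, false, true],
  [false, false, true, false, false, false, true, false],
  [true, false, true, false, true, false, true, false, false, false, true],
  [false, false, true, false, false, true, false, true, false, true, false, false, true, false],
  [false, false, false, false, true, false, true, false, true, false, false, false],
  [true, false, false, false, false, true, false, true],
  [true, false, false, true, false, true, false, false, true, false, true, false, false, false, true],
  [false, true, false, true, false, true, false, false, true, false, false, false, true, false],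
  [false, false, true, false, true, false, true, false, true, false],
  [false, false, false, false, true, false, false, true, false, false, false],
  [true, false, false, true, false, false, true, false, false, false, false, true, false, false, false, true],
  [false, true, false, false, true, false, false, true, false, false, false, true, false],
  [false, true, false, false, false, true, false, true, false, true, false, false, true, false, true],
  [true, false, true, false, false, true, false, false, true, false, true, false, true, false, false, true],
  [true, false, false, false, true, false, true, false, true, false, true, false, true, false],
  [false, true, false, false, true, false, false, false, false, true, false, false, true, false, false, false],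
  [true, false, true, false, false, true, false, false, false, true],
  [false, true, false, false, true],
  [true, false, false, true, false, true, false, true, false, false, false, false, true],
  [true, false, true, false, false, false, true, false, false, false, true, false, false, false, true],
  [true, false, true, false, false, false, true, false, false, true, false, true, false, false, false, true],
  [false, true, false, false, true, false, true, false, false, true],
  [true, false, false, false, true, false, true, false, false, false, true, false]]

def W2 : List (List Bool) := [[],
  [false, false, false, true, false, false, false, false, true, false, false, false, true, false, false, true, false, true, false, false],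
  [false, true, false, true, false, true],
  [false, false, false, false, true, false, true, false, false, true, false, false, true, false, false, true, false, true, false],
  [false, true, false, false, false, true, false, true, false, false, false, true, false, false, false, true, false, true, false, false, true, false, true],
  [false, true, false, true, false, true, false, true, false, true, false, true],
  [false, false, true, false, false, true, false, true, false, false, true, false, true, false, false, true, false, false, true],
  [false, true, false, false, false, true, false, true, false, false, true, false, true, false, false, true, false, false, false, false]]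

def W3 : List (List Bool) := [[],
  [false, true, false, false, false, true, false, true, false, false, true, false, true, false, false, false, true, false, true],
  [false, false, false, false, true, false, false, false, true, false, false, false, true, false, false, false, true, false, true, false, true, false, false]]

set_option maxRecDepth 100000 in
lemma fix0 : ∀ w ∈ W0, ∀ b ∈ ([] : List (Fin 40)), evf sf w b = b := by decide +kernel

set_option maxRecDepth 100000 in
lemma nd0 : (W0.map (fun w => evf sf w (0 : Fin 40))).Nodup := by decide +kernel

lemma len0 : W0.length = 40 := by decide +kernel

set_option maxRecDepth 100000 in
lemma fix1 : ∀ w ∈ W1, ∀ b ∈ ([0] : List (Fin 40)), evf sf w b = b := by decide +kernel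

set_option maxRecDepth 100000 in
lemma nd1 : (W1.map (fun w => evf sf w (4 : Fin 40))).Nodup := by decide +kernel

lemma len1 : W1.length = 27 := by decide +kernel

set_option maxRecDepth 100000 in
lemma fix2 : ∀ w ∈ W2, ∀ b ∈ ([0, 4] : List (Fin 40)), evf sf w b = b := by decide +kernel

set_option maxRecDepth 100000 in
lemma nd2 : (W2.map (fun w => evf sf w (2 : Fin 40))).Nodup := by decide +kernel

lemma len2 : W2.length = 8 := by decide +kernel

set_option maxRecDepth 100000 in
lemma fix3 : ∀ w ∈ W3, ∀ b ∈ ([0, 4, 2] : List (Fin 40)), evf sf w b = b := by decide +kernel

set_option maxRecDepth 100000 in
lemma nd3 : (W3.map (fun w => evf sf w (13 : Fin 40))).Nodup := by decide +kernel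

lemma len3 : W3.length = 3 := by decide +kernel

/-- the permutation group has at least `25920` elements. -/
theorem card_R_ge : 25920 ≤ Nat.card R := by
  have h0 := chain_step sg sf sg_apply [] 0 W0 fix0 nd0
  have h1 := chain_step sg sf sg_apply [0] 4 W1 fix1 nd1
  have h2 := chain_step sg sf sg_apply [0, 4] 2 W2 fix2 nd2
  have h3 := chain_step sg sf sg_apply [0, 4, 2] 13 W3 fix3 nd3
  have h4 := one_le_card_fixList (Subgroup.closure ({sg true, sg false} : Set (Equiv.Perm (Fin 40)))) [0, 4, 2, 13]
  change 25920 ≤ Nat.card (Subgroup.closure ({sg true, sg false} : Set (Equiv.Perm (Fin 40))))
  rw [len0] at h0
  rw [len1] at h1
  rw [len2] at h2
  rw [len3] at h3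
  rw [fixList_nil] at h0
  simp only [List.nil_append, List.cons_append] at h0 h1 h2 h3
  omega

end Cfsg.Agent.Helper15.U4
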