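import Mathlib
import Cfsg.Prelude.Def_Classical
import Cfsg.Agent.Lib.Helper15.U4a
import Cfsg.Agent.Lib.Helper11.Unitary
import Cfsg.Agent.Lib.Helper11.Unitary2
import Cfsg.Agent.Lib.Helper11.Unitary3

set_option autoImplicit false

/-!
# `PSU₄(2) ≅ PSp₄(3)`: the unitary side, computations over the model `𝔽₂[ω]` (helper15)

`SU₄(2)` permutes the forty rank one matrices `w w*` (`w` a vector of norm one) by conjugation.
Data produced by an external search; everything is re-checked by the kernel.
-/

namespace Cfsg.Agent.Helper15.U4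

open Matrix SylGen

/-- the computable model `𝔽₂[ω]`, `ω² = 1 + ω`. -/
abbrev R4 := QuadraticAlgebra (ZMod 2) 1 1

/-- decode a matrix over `R4` from its code: entry `(i, j)` is the base-4 digit `4 i + j`,
a digit `d` standing for `d % 2 + (d / 2) ω`. -/
def mat4 (c : ℕ) : Matrix (Fin 4) (Fin 4) R4 := fun i j =>
  ⟨((c / 4 ^ (4 * i.val + j.val) % 4 % 2 : ℕ) : ZMod 2), ((c / 4 ^ (4 * i.val + j.val) % 4 / 2 : ℕ) : ZMod 2)⟩

def yC (b : Bool) : ℕ := if b then 650994396 else 2257162016

def PC : List ℕ := [1291880013, 1905393777, 2090112000, 1447485, 1024, 1157645637, 1224787785, 1397948577, 1956148224, 1976121, 1657864401, 1717557, 2023547904, 1048576, 1191200649, 1241564613, 1364262993, 1549575168, 1910301, 1641218145, 1783341, 1826141184, 1073741824, 1258342029, 1174423245, 1674707121, 1414812672, 1652505, 1381105905, 2041125, 1758778368, 1, 1325434245, 1308657609, 1922236641, 1482224640, 1381653, 1938882705, 1513257, 1692165120]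

/-- the two generators of `SU₄(2)`. -/
def yM (b : Bool) : Matrix (Fin 4) (Fin 4) R4 := mat4 (yC b)

/-- the forty rank one matrices. -/
def PM (i : Fin 40) : Matrix (Fin 4) (Fin 4) R4 := mat4 (PC.getD i.val 0)

set_option maxRecDepth 100000 in
lemma yM_det : ∀ b : Bool, (yM b).det = 1 := by decide +kernel

lemma yM_unitary : ∀ b : Bool, (yM b)ᵀ * (yM b).map (fun x => x ^ 2) = 1 := by decide +kernel

set_option maxRecDepth 100000 in
lemma yM_PM : ∀ (b : Bool) (i : Fin 40), yM b * PM i = PM (sf b i) * yM b := by decide +kernel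

set_option maxRecDepth 100000 in
lemma PM_inj : ∀ i j : Fin 40, PM i = PM j → i = j := by decide +kernel

lemma R4_cube : ∀ a b : ZMod 2, (⟨a, b⟩ : R4) = 0 ∨ (⟨a, b⟩ : R4) ^ 3 = 1 := by decide

end Cfsg.Agent.Helper15.U4
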