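import Mathlib
import Cfsg.Prelude.Def_Classical
import Cfsg.Agent.Lib.Helper15.U4c

set_option autoImplicit false

/-!
# `PSU₄(2) ≅ PSp₄(3)`: the unitary side over an abstract field with four elements (helper15)
-/

namespace Cfsg.Agent.Helper15.U4

open Matrix SylGen

variable {F : Type*} [Field F] [Fintype F]

/-- an injective ring hom from the model `𝔽₂[ω]` into any field with four elements. -/
lemma exists_ringHom4 (hF : Fintype.card F = 4) : ∃ ρ : R4 →+* F, Function.Injective ρ := by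
  have : Fact (Nat.Prime 2) := ⟨Nat.prime_two⟩
  have hchar : CharP F 2 := charP_of_card_eq_prime_pow (p := 2) (f := 2) (by rw [hF]; norm_num)
  let _ : Algebra (ZMod 2) F := ZMod.algebra F 2
  -- an element different from `0` and `1`
  obtain ⟨x, hx0, hx1⟩ : ∃ x : F, x ≠ 0 ∧ x ≠ 1 := by
    classical
    by_contra hcon
    push Not at hcon
    have hsub : (Finset.univ : Finset F) ⊆ {0, 1} := by
      intro x _
      by_cases h : x = 0
      · simp [h]
      · simp [hcon x h]
    have := Finset.card_le_card hsub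
    rw [Finset.card_univ, hF] at this
    have h2 : ({0, 1} : Finset F).card ≤ 2 := Finset.card_le_two
    omega
  have hx3 : x ^ 3 = 1 := by
    have := FiniteField.pow_card_sub_one_eq_one x hx0
    rwa [hF] at this
  have hq : x * x = 1 + x := by
    have h1 : (x - 1) * (x * x + x + 1) = 0 := by ring_nf; rw [hx3]; ring
    rcases mul_eq_zero.mp h1 with h | h
    · exact absurd (sub_eq_zero.mp h) hx1
    · have h2 : x * x = -(x + 1) := by linear_combination h
      rw [h2, CharTwo.neg_eq, add_comm]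
  have h : x * x = (1 : ZMod 2) • (1 : F) + (1 : ZMod 2) • x := by
    rw [hq]; simp
  refine ⟨(QuadraticAlgebra.lift ⟨x, h⟩ : R4 →ₐ[ZMod 2] F).toRingHom, ?_⟩
  rw [injective_iff_map_eq_zero]
  intro z hz
  rcases R4_cube z.re z.im with h0 | h1
  · exact h0
  · exfalso
    have h2 := congrArg (QuadraticAlgebra.lift ⟨x, h⟩ : R4 →ₐ[ZMod 2] F).toRingHom h1
    rw [map_pow, map_one] at h2
    change (QuadraticAlgebra.lift ⟨x, h⟩ : R4 →ₐ[ZMod 2] F).toRingHom z = 0 at hz
    rw [hz] at h2
    simp at h2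

lemma guOrder_two_four : Cfsg.Agent.Helper11.Herm.guOrder 2 4 = 77760 := by decide

lemma card_SU4 (hF : Fintype.card F = 4) : Nat.card (Cfsg.SU 4 F 2) = 25920 := by
  have hF' : Fintype.card F = 2 ^ 2 := by rw [hF]; norm_num
  have h1 := Cfsg.Agent.Helper11.Herm.card_GU_eq_SU hF' 4 (by norm_num)
  rw [Cfsg.Agent.Helper11.Herm.card_GU hF', guOrder_two_four] at h1
  omega

lemma center_SU4 (hF : Fintype.card F = 4) : Subgroup.center (Cfsg.SU 4 F 2) = ⊥ := by
  have hF' : Fintype.card F = 2 ^ 2 := by rw [hF]; norm_num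
  have h1 := Cfsg.Agent.Helper11.Herm.card_center_SU hF' 4 (by norm_num)
  have h2 : Nat.gcd 4 (2 + 1) = 1 := by decide
  rw [h2] at h1
  exact Subgroup.card_eq_one.mp h1

/-- the matrix of an element of `SU₄`. -/
def toM4 : Cfsg.SU 4 F 2 →* Matrix (Fin 4) (Fin 4) F where
  toFun g := (g.1 : Matrix (Fin 4) (Fin 4) F)
  map_one' := rfl
  map_mul' _ _ := rfl

variable (ρ : R4 →+* F)

omit [Fintype F] in
lemma map_unitary4 (M : Matrix (Fin 4) (Fin 4) R4) (h : M.transpose * M.map (fun x => x ^ 2) = 1)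
    (φ : F →+* F) (hφ : ∀ x, φ x = x ^ 2) :
    Cfsg.Agent.Helper11.Herm.IsU φ (ρ.mapMatrix M) := by
  unfold Cfsg.Agent.Helper11.Herm.IsU
  have h2 := congrArg ρ.mapMatrix h
  rw [map_mul, map_one] at h2
  rw [← h2]
  congr 1
  ext a b
  simp [hφ]

/-- the generators in `SU₄(F, 2)`. -/
noncomputable def yG (hF : Fintype.card F = 4) (b : Bool) : Cfsg.SU 4 F 2 :=
  Cfsg.Agent.Helper11.Herm.mkSU (q := 2) (by rw [hF]; norm_num) 4 (ρ.mapMatrix (yM b))
    (by rw [← RingHom.map_det, yM_det b, map_one])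
    (fun φ hφ => map_unitary4 ρ (yM b) (yM_unitary b) φ hφ)

lemma toM4_yG (hF : Fintype.card F = 4) (b : Bool) : toM4 (yG ρ hF b) = ρ.mapMatrix (yM b) := rfl

/-- `PSU₄(F, 2)` for any field with four elements is the permutation group. -/
theorem psu_equiv (hF : Fintype.card F = 4) : Nonempty (Cfsg.PSU 4 F 2 ≃* R) := by
  obtain ⟨ρ, hρ⟩ := exists_ringHom4 hF
  have hinj : Function.Injective (fun i => ρ.mapMatrix (PM i)) := by
    intro i j h
    apply PM_inj i j
    funext a b
    have h2 := congrFun (congrFun h a) b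
    simp only [RingHom.mapMatrix_apply, Matrix.map_apply] at h2
    exact hρ h2
  have hrel : ∀ (b : Bool) (i : Fin 40), toM4 (yG ρ hF b) * ρ.mapMatrix (PM i)
      = ρ.mapMatrix (PM (sg b i)) * toM4 (yG ρ hF b) := by
    intro b i
    rw [toM4_yG, ← map_mul, ← map_mul, sg_apply, yM_PM]
  apply quot_equiv_closure toM4 (fun i => ρ.mapMatrix (PM i)) hinj (yG ρ hF true) (yG ρ hF false)
    (sg true) (sg false) (hrel true) (hrel false) (Subgroup.center (Cfsg.SU 4 F 2))
  · intro z hz i
    rw [center_SU4 hF, Subgroup.mem_bot] at hz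
    rw [hz, map_one, one_mul, mul_one]
  · rw [card_SU4 hF, center_SU4 hF, Subgroup.card_bot]
    have h : 25920 ≤ Nat.card (Subgroup.closure ({sg true, sg false} : Set (Equiv.Perm (Fin 40)))) :=
      card_R_ge
    omega

end Cfsg.Agent.Helper15.U4
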