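import Mathlib
import Cfsg.Agent.Lib.Helper15.U4d

set_option autoImplicit false

/-!
# Matrices over the field with four elements, coded by natural numbers (helper15)

Entries are base-4 digits (`d` stands for `d % 2 + (d / 2) ω`); products are computed on the
digits by a table and `xor`, so that the kernel only evaluates arithmetic of numerals.
-/

namespace Cfsg.Agent.Helper15.F4Mat

open Matrix
open Cfsg.Agent.Helper15.U4 (R4)

/-- decode a digit. -/
def dec (d : ℕ) : R4 := ⟨((d % 2 : ℕ) : ZMod 2), ((d / 2 : ℕ) : ZMod 2)⟩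

/-- the `k`-th base-4 digit of a code. -/
def ent (c k : ℕ) : ℕ := c / 4 ^ k % 4

/-- multiplication of digits, by a table. -/
def mulT (x y : ℕ) : ℕ := 2625168384 / 4 ^ (4 * x + y) % 4

lemma ent_lt (c k : ℕ) : ent c k < 4 := Nat.mod_lt _ (by norm_num)

lemma mulT_lt (x y : ℕ) : mulT x y < 4 := Nat.mod_lt _ (by norm_num)

lemma dec_mul : ∀ x y : Fin 4, dec (mulT x.val y.val) = dec x.val * dec y.val := by decide

lemma dec_xor : ∀ x y : Fin 4, dec (x.val ^^^ y.val) = dec x.val + dec y.val := by decide

lemma dec_inj : ∀ x y : Fin 4, dec x.val = dec y.val → x = y := by decide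

lemma dec_zero : dec 0 = 0 := by decide

lemma dec_one : dec 1 = 1 := by decide

lemma dec_injective {x y : ℕ} (hx : x < 4) (hy : y < 4) (h : dec x = dec y) : x = y :=
  congrArg Fin.val (dec_inj ⟨x, hx⟩ ⟨y, hy⟩ h)

/-- the coded dot product of two digit sequences. -/
def dotC : ℕ → (ℕ → ℕ) → (ℕ → ℕ) → ℕ
  | 0, _, _ => 0
  | m + 1, x, y => dotC m x y ^^^ mulT (x m) (y m)

lemma dotC_lt (m : ℕ) (x y : ℕ → ℕ) : dotC m x y < 4 := by
  induction m with
  | zero => exact Nat.zero_lt_succ 3
  | succ m ih => exact Nat.xor_lt_two_pow (n := 2) ih (mulT_lt _ _)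

lemma dec_dotC (m : ℕ) (x y : ℕ → ℕ) (hx : ∀ t, x t < 4) (hy : ∀ t, y t < 4) :
    dec (dotC m x y) = ∑ t ∈ Finset.range m, dec (x t) * dec (y t) := by
  induction m with
  | zero => rw [Finset.sum_range_zero]; exact dec_zero
  | succ m ih =>
    rw [Finset.sum_range_succ, ← ih]
    have h1 := dec_xor ⟨dotC m x y, dotC_lt m x y⟩ ⟨mulT (x m) (y m), mulT_lt _ _⟩
    have h2 := dec_mul ⟨x m, hx m⟩ ⟨y m, hy m⟩
    change dec (dotC m x y ^^^ mulT (x m) (y m)) = _
    rw [← h2]
    exact h1

/-- the matrix with a given code. -/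
def matD (r s : ℕ) (c : ℕ) : Matrix (Fin r) (Fin s) R4 := fun i j => dec (ent c (s * i.val + j.val))

lemma matD_apply (r s c : ℕ) (i : Fin r) (j : Fin s) :
    matD r s c i j = dec (ent c (s * i.val + j.val)) := rfl

lemma sum_fin_dec (m : ℕ) (x y : ℕ → ℕ) (hx : ∀ t, x t < 4) (hy : ∀ t, y t < 4) :
    (∑ t : Fin m, dec (x t.val) * dec (y t.val)) = dec (dotC m x y) := by
  rw [dec_dotC m x y hx hy]
  exact Fin.sum_univ_eq_sum_range (fun t => dec (x t) * dec (y t)) m

lemma mul_apply_dec {r m s : ℕ} (a b : ℕ) (i : Fin r) (j : Fin s) :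
    (matD r m a * matD m s b) i j =
      dec (dotC m (fun t => ent a (m * i.val + t)) (fun t => ent b (s * t + j.val))) := by
  rw [Matrix.mul_apply]
  exact sum_fin_dec m (fun t => ent a (m * i.val + t)) (fun t => ent b (s * t + j.val))
    (fun _ => ent_lt _ _) (fun _ => ent_lt _ _)

/-- two products agree as soon as their coded entries do. -/
theorem mul_eq_mul {r m m' s : ℕ} (a b a' b' : ℕ)
    (h : ∀ (i : Fin r) (j : Fin s),
      dotC m (fun t => ent a (m * i.val + t)) (fun t => ent b (s * t + j.val)) =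
      dotC m' (fun t => ent a' (m' * i.val + t)) (fun t => ent b' (s * t + j.val))) :
    matD r m a * matD m s b = matD r m' a' * matD m' s b' := by
  refine Matrix.ext fun i j => ?_
  rw [mul_apply_dec, mul_apply_dec, h i j]

/-- a product is the identity as soon as its coded entries say so. -/
theorem mul_eq_one {r m : ℕ} (a b : ℕ)
    (h : ∀ (i j : Fin r),
      dotC m (fun t => ent a (m * i.val + t)) (fun t => ent b (r * t + j.val)) =
      if i = j then 1 else 0) :
    matD r m a * matD m r b = 1 := by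
  refine Matrix.ext fun i j => ?_
  rw [mul_apply_dec, h i j, Matrix.one_apply]
  split_ifs
  · exact dec_one
  · exact dec_zero

lemma mul_mul_apply_dec {r m m' s : ℕ} (a b c : ℕ) (i : Fin r) (j : Fin s) :
    (matD r m a * (matD m m' b * matD m' s c)) i j =
      dec (dotC m (fun t => ent a (m * i.val + t))
        (fun t => dotC m' (fun u => ent b (m' * t + u)) (fun u => ent c (s * u + j.val)))) := by
  rw [Matrix.mul_apply]
  have h : ∀ t : Fin m, matD r m a i t * (matD m m' b * matD m' s c) t j =
      dec (ent a (m * i.val + t.val)) *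
        dec (dotC m' (fun u => ent b (m' * t.val + u)) (fun u => ent c (s * u + j.val))) := by
    intro t
    rw [mul_apply_dec, matD_apply]
  rw [Finset.sum_congr rfl (fun t _ => h t)]
  exact sum_fin_dec m (fun t => ent a (m * i.val + t))
    (fun t => dotC m' (fun u => ent b (m' * t + u)) (fun u => ent c (s * u + j.val)))
    (fun _ => ent_lt _ _) (fun _ => dotC_lt _ _ _)

/-- the coded entries of a triple product that equals a coded matrix. -/
theorem of_mul_mul_eq {r m m' s : ℕ} (a b c d : ℕ)
    (h : matD r m a * (matD m m' b * matD m' s c) = matD r s d) (i : Fin r) (j : Fin s) :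
    dotC m (fun t => ent a (m * i.val + t))
        (fun t => dotC m' (fun u => ent b (m' * t + u)) (fun u => ent c (s * u + j.val))) =
      ent d (s * i.val + j.val) := by
  have h1 := congrFun (congrFun h i) j
  rw [mul_mul_apply_dec, matD_apply] at h1
  exact dec_injective (dotC_lt _ _ _) (ent_lt _ _) h1

end Cfsg.Agent.Helper15.F4Mat
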