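import Mathlib
import Cfsg.Prelude.Def_SylowChains
import Cfsg.Agent.Lib.Helper15.ClassicalSE

set_option autoImplicit false

namespace Cfsg.Agent.Helper15

variable {G : Type*} [Group G]

/-- a chain of related elements from a `ReflTransGen` -/
theorem exists_chain_of_reflTransGen {α : Type*} {r : α → α → Prop} {a b : α}
    (h : Relation.ReflTransGen r a b) :
    ∃ (n : ℕ) (c : Fin (n + 1) → α), c 0 = a ∧ c (Fin.last n) = b ∧
      ∀ i : Fin n, r (c i.castSucc) (c i.succ) := by
  induction h with
  | refl => exact ⟨0, fun _ => a, rfl, rfl, fun i => i.elim0⟩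
  | @tail b' c' _ hbc ih =>
    obtain ⟨n, c, h0, hl, hc⟩ := ih
    refine ⟨n + 1, Fin.snoc (α := fun _ => α) c c', ?_, ?_, ?_⟩
    · have : (0 : Fin (n + 2)) = (0 : Fin (n + 1)).castSucc := rfl
      rw [this, Fin.snoc_castSucc, h0]
    · rw [Fin.snoc_last]
    · intro i
      refine Fin.lastCases ?_ (fun j => ?_) i
      · rw [Fin.succ_last, Fin.snoc_last, Fin.snoc_castSucc, hl]
        exact hbc
      · have e : (j.castSucc).succ = (j.succ).castSucc := rfl
        rw [e, Fin.snoc_castSucc, Fin.snoc_castSucc]
        exact hc j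

theorem reflTransGen_of_chain {α : Type*} {r : α → α → Prop} {n : ℕ} (c : Fin (n + 1) → α)
    (hc : ∀ i : Fin n, r (c i.castSucc) (c i.succ)) (i : Fin (n + 1)) :
    Relation.ReflTransGen r (c 0) (c i) := by
  induction i using Fin.induction with
  | zero => exact Relation.ReflTransGen.refl
  | succ j ih => exact Relation.ReflTransGen.tail ih (hc j)

/-- adjacency of Sylow subgroups: distinct and meeting nontrivially -/
def sylowAdj (p : ℕ) (S T : Sylow p G) : Prop :=
  S ≠ T ∧ (S : Subgroup G) ⊓ (T : Subgroup G) ≠ ⊥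

theorem sylowAdj_symm {p : ℕ} {S T : Sylow p G} (h : sylowAdj p S T) : sylowAdj p T S :=
  ⟨h.1.symm, by rw [inf_comm]; exact h.2⟩

theorem isSylowChainConnected_iff {p : ℕ} :
    Cfsg.IsSylowChainConnected p G ↔
      ∀ S T : Sylow p G, Relation.ReflTransGen (sylowAdj p) S T := by
  constructor
  · intro h S T
    obtain ⟨n, c, h0, hl, _, hc⟩ := h S T
    have := reflTransGen_of_chain (r := sylowAdj p) c hc (Fin.last n)
    rwa [h0, hl] at this
  · intro h S T
    by_cases hST : S = T
    · subst hST
      exact ⟨0, fun _ => S, rfl, rfl, fun _ => inf_le_left, fun i => i.elim0⟩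
    by_cases hinf : (S : Subgroup G) ⊓ (T : Subgroup G) = ⊥
    · obtain ⟨n, c, h0, hl, hc⟩ := exists_chain_of_reflTransGen (h S T)
      refine ⟨n, c, h0, hl, fun i => ?_, hc⟩
      rw [hinf]; exact bot_le
    · refine ⟨1, ![S, T], rfl, rfl, ?_, ?_⟩
      · intro i
        fin_cases i
        · exact inf_le_left
        · exact inf_le_right
      · intro i
        fin_cases i
        exact ⟨hST, hinf⟩

theorem sylow_coe_smul_eq_map {p : ℕ} (g : G) (P : Sylow p G) :
    ((g • P : Sylow p G) : Subgroup G) = (P : Subgroup G).map (MulAut.conj g).toMonoidHom := rfl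

theorem sylowAdj_smul {p : ℕ} {S T : Sylow p G} (h : sylowAdj p S T) (g : G) :
    sylowAdj p (g • S) (g • T) := by
  refine ⟨fun he => h.1 (MulAction.injective g he), ?_⟩
  rw [sylow_coe_smul_eq_map, sylow_coe_smul_eq_map,
    ← Subgroup.map_inf _ _ _ (MulAut.conj g).injective]
  intro hb
  apply h.2
  have := congrArg (fun K : Subgroup G => K.map (MulAut.conj g⁻¹).toMonoidHom) hb
  rw [map_conj_inv_map_conj, Subgroup.map_bot] at this
  exact this

theorem reflTransGen_sylowAdj_smul {p : ℕ} {S T : Sylow p G}
    (h : Relation.ReflTransGen (sylowAdj p) S T) (g : G) :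
    Relation.ReflTransGen (sylowAdj p) (g • S) (g • T) := by
  induction h with
  | refl => exact Relation.ReflTransGen.refl
  | tail _ hbc ih => exact Relation.ReflTransGen.tail ih (sylowAdj_smul hbc g)

theorem reflTransGen_sylowAdj_symm {p : ℕ} {S T : Sylow p G}
    (h : Relation.ReflTransGen (sylowAdj p) S T) : Relation.ReflTransGen (sylowAdj p) T S := by
  induction h with
  | refl => exact Relation.ReflTransGen.refl
  | tail _ hbc ih => exact Relation.ReflTransGen.head (sylowAdj_symm hbc) ih

/-- the stabilizer of the connected component of `S` -/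
def componentStabilizer (p : ℕ) (S : Sylow p G) : Subgroup G where
  carrier := {g | Relation.ReflTransGen (sylowAdj p) S (g • S)}
  one_mem' := by
    show Relation.ReflTransGen (sylowAdj p) S ((1 : G) • S)
    rw [one_smul]
  mul_mem' := by
    intro a b ha hb
    show Relation.ReflTransGen (sylowAdj p) S ((a * b) • S)
    rw [mul_smul]
    exact Relation.ReflTransGen.trans ha (reflTransGen_sylowAdj_smul hb a)
  inv_mem' := by
    intro a ha
    show Relation.ReflTransGen (sylowAdj p) S (a⁻¹ • S)
    have := reflTransGen_sylowAdj_smul (reflTransGen_sylowAdj_symm ha) a⁻¹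
    rwa [inv_smul_smul] at this

theorem mem_componentStabilizer {p : ℕ} {S : Sylow p G} {g : G} :
    g ∈ componentStabilizer p S ↔ Relation.ReflTransGen (sylowAdj p) S (g • S) := Iff.rfl

end Cfsg.Agent.Helper15
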