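import Mathlib
import Cfsg.Prelude.Def_SylowChains
import Cfsg.Agent.Lib.Helper15.SylowGraph

set_option autoImplicit false

namespace Cfsg.Agent.Helper15

variable {G : Type*} [Group G]

theorem mem_sylowMembers_iff {p : ℕ} {𝓕 : Set (Subgroup G)} {R X : Subgroup G} :
    X ∈ Cfsg.sylowMembers p 𝓕 R ↔ X ∈ 𝓕 ∧ IsSylowIn p (R ⊓ X) X := by
  constructor
  · rintro ⟨hX, P, hP⟩
    exact ⟨hX, hP ▸ isSylowIn_map_subtype P⟩
  · rintro ⟨hX, h⟩
    exact ⟨hX, h.toSylow, h.map_toSylow⟩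

theorem IsNormalSet.map_conj_mem {𝓕 : Set (Subgroup G)} (h𝓕 : Cfsg.IsNormalSet 𝓕) {X : Subgroup G}
    (hX : X ∈ 𝓕) (g : G) : X.map (MulAut.conj g).toMonoidHom ∈ 𝓕 := by
  have := h𝓕 X hX g⁻¹
  unfold Cfsg.subgroupConjRight at this
  rwa [inv_inv] at this

theorem sylowMembers_map_conj {p : ℕ} {𝓕 : Set (Subgroup G)} (h𝓕 : Cfsg.IsNormalSet 𝓕)
    {R X : Subgroup G} (hX : X ∈ Cfsg.sylowMembers p 𝓕 R) (g : G) :
    X.map (MulAut.conj g).toMonoidHom ∈
      Cfsg.sylowMembers p 𝓕 (R.map (MulAut.conj g).toMonoidHom) := by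
  rw [mem_sylowMembers_iff] at hX ⊢
  refine ⟨IsNormalSet.map_conj_mem h𝓕 hX.1 g, ?_⟩
  rw [← Subgroup.map_inf _ _ _ (MulAut.conj g).injective]
  exact hX.2.map_conj g

theorem conjRight_subset_iff {g : G} {A : Set G} {H : Subgroup G} :
    Cfsg.conjRight g A ⊆ (H : Set G) ↔
      A ⊆ ((H.map (MulAut.conj g).toMonoidHom : Subgroup G) : Set G) := by
  unfold Cfsg.conjRight
  rw [Set.image_subset_iff]
  constructor
  · intro h a ha
    exact mem_map_conj_iff.mpr (h ha)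
  · intro h a ha
    exact mem_map_conj_iff.mp (h ha)

/-- from `S'^x = R` (right conjugation) to `S' = x • R` -/
theorem sylow_eq_smul_of_subgroupConjRight {p : ℕ} {R R' : Sylow p G} {x : G}
    (h : Cfsg.subgroupConjRight x (R' : Subgroup G) = (R : Subgroup G)) : R' = x • R := by
  apply Sylow.ext
  rw [sylow_coe_smul_eq_map, ← h]
  unfold Cfsg.subgroupConjRight
  rw [map_conj_map_conj_inv]

theorem subgroupConjRight_smul {p : ℕ} (R : Sylow p G) (x : G) :
    Cfsg.subgroupConjRight x ((x • R : Sylow p G) : Subgroup G) = (R : Subgroup G) := by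
  unfold Cfsg.subgroupConjRight
  rw [sylow_coe_smul_eq_map, map_conj_inv_map_conj]

end Cfsg.Agent.Helper15
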