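import Mathlib
import Cfsg.Prelude.Def_SylowChains
import Cfsg.Agent.Lib.Helper15.SylowControl

set_option autoImplicit false

/-! Control of Sylow intersections as a reflexive-transitive closure. -/

namespace Cfsg.Agent.Helper15.FReg

open Cfsg.Agent.Helper15

variable {G : Type*} [Group G]

/-- one link of a controlling chain, all of whose members contain `D` -/
def Step (p : ℕ) (𝓕 : Set (Subgroup G)) (D : Subgroup G) (R T : Sylow p G) : Prop :=
  ∃ X : Subgroup G, ∃ x : G, X ∈ Cfsg.sylowMembers p 𝓕 (R : Subgroup G) ∧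
    X ∈ Cfsg.sylowMembers p 𝓕 (T : Subgroup G) ∧ x ∈ X ∧
    Cfsg.subgroupConjRight x (T : Subgroup G) = (R : Subgroup G) ∧
    D ≤ (R : Subgroup G) ∧ D ≤ (T : Subgroup G) ⊓ X

/-- linked by a chain all of whose members contain `D` -/
def Linked (p : ℕ) (𝓕 : Set (Subgroup G)) (D : Subgroup G) (S T : Sylow p G) : Prop :=
  Relation.ReflTransGen (Step p 𝓕 D) S T

theorem Step.mono {p : ℕ} {𝓕 𝓕' : Set (Subgroup G)} {D D' : Subgroup G} {R T : Sylow p G}
    (h𝓕 : 𝓕 ⊆ 𝓕') (hD : D' ≤ D) (h : Step p 𝓕 D R T) : Step p 𝓕' D' R T := by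
  obtain ⟨X, x, h1, h2, h3, h4, h5, h6⟩ := h
  exact ⟨X, x, ⟨h𝓕 h1.1, h1.2⟩, ⟨h𝓕 h2.1, h2.2⟩, h3, h4, hD.trans h5, hD.trans h6⟩

theorem Linked.mono {p : ℕ} {𝓕 𝓕' : Set (Subgroup G)} {D D' : Subgroup G} {S T : Sylow p G}
    (h𝓕 : 𝓕 ⊆ 𝓕') (hD : D' ≤ D) (h : Linked p 𝓕 D S T) : Linked p 𝓕' D' S T := by
  induction h with
  | refl => exact Relation.ReflTransGen.refl
  | tail _ hbc ih => exact Relation.ReflTransGen.tail ih (hbc.mono h𝓕 hD)

theorem Linked.refl {p : ℕ} {𝓕 : Set (Subgroup G)} {D : Subgroup G} (S : Sylow p G) :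
    Linked p 𝓕 D S S := Relation.ReflTransGen.refl

theorem Linked.trans {p : ℕ} {𝓕 : Set (Subgroup G)} {D : Subgroup G} {S T U : Sylow p G}
    (h₁ : Linked p 𝓕 D S T) (h₂ : Linked p 𝓕 D T U) : Linked p 𝓕 D S U :=
  Relation.ReflTransGen.trans h₁ h₂

theorem Step.symm {p : ℕ} {𝓕 : Set (Subgroup G)} {D : Subgroup G} {R T : Sylow p G}
    (h : Step p 𝓕 D R T) : Step p 𝓕 D T R := by
  obtain ⟨X, x, h1, h2, h3, h4, h5, h6⟩ := h
  refine ⟨X, x⁻¹, h2, h1, X.inv_mem h3, ?_, (le_inf_iff.1 h6).1, le_inf h5 (le_inf_iff.1 h6).2⟩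
  rw [← h4]
  unfold Cfsg.subgroupConjRight
  rw [inv_inv, map_conj_map_conj_inv]

theorem Linked.symm {p : ℕ} {𝓕 : Set (Subgroup G)} {D : Subgroup G} {S T : Sylow p G}
    (h : Linked p 𝓕 D S T) : Linked p 𝓕 D T S := by
  induction h with
  | refl => exact Relation.ReflTransGen.refl
  | tail _ hbc ih => exact Relation.ReflTransGen.head hbc.symm ih

theorem Step.smul {p : ℕ} {𝓕 : Set (Subgroup G)} (h𝓕 : Cfsg.IsNormalSet 𝓕) {D : Subgroup G}
    {R T : Sylow p G} (h : Step p 𝓕 D R T) (g : G) :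
    Step p 𝓕 (D.map (MulAut.conj g).toMonoidHom) (g • R) (g • T) := by
  obtain ⟨X, x, h1, h2, h3, h4, h5, h6⟩ := h
  refine ⟨X.map (MulAut.conj g).toMonoidHom, g * x * g⁻¹, ?_, ?_, conj_mem_map_conj g h3, ?_, ?_, ?_⟩
  · rw [sylow_coe_smul_eq_map]; exact sylowMembers_map_conj h𝓕 h1 g
  · rw [sylow_coe_smul_eq_map]; exact sylowMembers_map_conj h𝓕 h2 g
  · rw [sylow_coe_smul_eq_map, sylow_coe_smul_eq_map, ← h4]
    unfold Cfsg.subgroupConjRight
    rw [map_conj_map_conj, map_conj_map_conj]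
    congr 3
    group
  · rw [sylow_coe_smul_eq_map]; exact map_conj_mono h5 g
  · rw [sylow_coe_smul_eq_map, ← Subgroup.map_inf _ _ _ (MulAut.conj g).injective]
    exact map_conj_mono h6 g

theorem Linked.smul {p : ℕ} {𝓕 : Set (Subgroup G)} (h𝓕 : Cfsg.IsNormalSet 𝓕) {D : Subgroup G}
    {S T : Sylow p G} (h : Linked p 𝓕 D S T) (g : G) :
    Linked p 𝓕 (D.map (MulAut.conj g).toMonoidHom) (g • S) (g • T) := by
  induction h with
  | refl => exact Relation.ReflTransGen.refl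
  | tail _ hbc ih => exact Relation.ReflTransGen.tail ih (hbc.smul h𝓕 g)

/-- every member of a chain contains `D` as soon as the first does -/
theorem Linked.le_right {p : ℕ} {𝓕 : Set (Subgroup G)} {D : Subgroup G} {S T : Sylow p G}
    (h : Linked p 𝓕 D S T) (hS : D ≤ (S : Subgroup G)) : D ≤ (T : Subgroup G) := by
  induction h with
  | refl => exact hS
  | tail _ hbc _ =>
    obtain ⟨X, x, h1, h2, h3, h4, h5, h6⟩ := hbc
    exact (le_inf_iff.1 h6).1

theorem controls_iff {p : ℕ} {𝓕 : Set (Subgroup G)} :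
    Cfsg.ControlsSylowIntersections p 𝓕 ↔
      ∀ S T : Sylow p G, S ≠ T → (S : Subgroup G) ⊓ (T : Subgroup G) ≠ ⊥ →
        Linked p 𝓕 ((S : Subgroup G) ⊓ (T : Subgroup G)) S T := by
  constructor
  · intro h S T hST hinf
    obtain ⟨n, c, X, x, h0, hl, hstep⟩ := h S T hST hinf
    have hD : ∀ i : Fin (n + 1), (S : Subgroup G) ⊓ (T : Subgroup G) ≤ (c i : Subgroup G) := by
      intro i
      induction i using Fin.induction with
      | zero => rw [h0]; exact inf_le_left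
      | succ j _ => exact (le_inf_iff.1 (hstep j).2.2.2.2).1
    have := reflTransGen_of_chain (r := Step p 𝓕 ((S : Subgroup G) ⊓ (T : Subgroup G))) c
      (fun i => ⟨X i, x i, (hstep i).1, (hstep i).2.1, (hstep i).2.2.1, (hstep i).2.2.2.1,
        hD i.castSucc, (hstep i).2.2.2.2⟩) (Fin.last n)
    rwa [h0, hl] at this
  · intro h S T hST hinf
    obtain ⟨n, c, h0, hl, hc⟩ := exists_chain_of_reflTransGen (h S T hST hinf)
    choose X x hX using hc
    exact ⟨n, c, X, x, h0, hl, fun i => ⟨(hX i).1, (hX i).2.1, (hX i).2.2.1, (hX i).2.2.2.1,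
      (hX i).2.2.2.2.2⟩⟩

end Cfsg.Agent.Helper15.FReg
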