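import Mathlib
import Cfsg.Prelude.Def_SylowChains
import Cfsg.Agent.Lib.Helper15.FunctorReg1

set_option autoImplicit false

/-! Regularity of a subgroup for a normalizer functor, in ambient terms. -/

namespace Cfsg.Agent.Helper15.FReg

open Cfsg.Agent.Helper15

variable {G : Type*} [Group G]

/-- one functor step inside `M`: conjugate `R` by an element of `M` normalizing a member of
`f R` -/
def FStep (f : Subgroup G → Set (Subgroup G)) (M D : Subgroup G) (R T : Subgroup G) : Prop :=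
  ∃ F ∈ f R, ∃ x ∈ M ⊓ Subgroup.normalizer (F : Set G),
    T = R.map (MulAut.conj x).toMonoidHom ∧ D ≤ R ∧ D ≤ T

/-- regularity in ambient terms -/
def RegularAmb (p : ℕ) (f : Subgroup G → Set (Subgroup G)) (M : Subgroup G) : Prop :=
  ∀ R T : Subgroup G, IsSylowIn p R M → IsSylowIn p T M → R ≠ T → R ⊓ T ≠ ⊥ →
    Relation.ReflTransGen (FStep f M (R ⊓ T)) R T

/-- the family induced in `M`, as a family of subgroups of `M` -/
def famIn (p : ℕ) (f : Subgroup G → Set (Subgroup G)) (M : Subgroup G) : Set (Subgroup ↥M) :=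
  (fun X : Subgroup G => X.subgroupOf M) '' Cfsg.functorFamily p f M

theorem isFunctorRegular_iff {p : ℕ} {f : Subgroup G → Set (Subgroup G)} {M : Subgroup G} :
    Cfsg.IsFunctorRegular p f M ↔ Cfsg.ControlsSylowIntersections p (famIn p f M) := Iff.rfl

theorem map_subtype_map_conj {M : Subgroup G} (K : Subgroup ↥M) (k : ↥M) :
    (K.map (MulAut.conj k).toMonoidHom).map M.subtype
      = (K.map M.subtype).map (MulAut.conj (k : G)).toMonoidHom := by
  rw [Subgroup.map_map, Subgroup.map_map]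
  congr 1

theorem FStep.mono {f : Subgroup G → Set (Subgroup G)} {M M' D D' R T : Subgroup G}
    (hM : M ≤ M') (hD : D' ≤ D) (h : FStep f M D R T) : FStep f M' D' R T := by
  obtain ⟨F, hF, x, hx, hT, h1, h2⟩ := h
  exact ⟨F, hF, x, ⟨hM hx.1, hx.2⟩, hT, hD.trans h1, hD.trans h2⟩

theorem FStep.map_conj {p : ℕ} {f : Subgroup G → Set (Subgroup G)}
    (hf : Cfsg.IsNormalizerFunctor p f) {M D R T : Subgroup G} (hR : IsPGroup p R)
    (h : FStep f M D R T) (g : G) :
    FStep f (M.map (MulAut.conj g).toMonoidHom) (D.map (MulAut.conj g).toMonoidHom)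
      (R.map (MulAut.conj g).toMonoidHom) (T.map (MulAut.conj g).toMonoidHom) := by
  obtain ⟨F, hF, x, hx, hT, h1, h2⟩ := h
  refine ⟨F.map (MulAut.conj g).toMonoidHom, ?_, g * x * g⁻¹, ⟨conj_mem_map_conj g hx.1, ?_⟩, ?_,
    map_conj_mono h1 g, map_conj_mono h2 g⟩
  · rw [(hf R hR).2 g]
    exact ⟨F, hF, rfl⟩
  · apply mem_normalizer_of_map_conj_eq
    rw [map_conj_map_conj]
    have e : g * x * g⁻¹ * g = g * x := by group
    rw [e, ← map_conj_map_conj, map_conj_eq_of_mem_normalizer hx.2]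
  · rw [hT, map_conj_map_conj, map_conj_map_conj]
    congr 3
    group

/-- a step in `↥M` gives an ambient functor step -/
theorem fstep_of_step [Finite G] {p : ℕ} [Fact p.Prime] {f : Subgroup G → Set (Subgroup G)}
    (hf : Cfsg.IsNormalizerFunctor p f) {M : Subgroup G} {D' : Subgroup ↥M} {A' B' : Sylow p ↥M}
    (h : Step p (famIn p f M) D' A' B') :
    FStep f M (D'.map M.subtype) ((A' : Subgroup ↥M).map M.subtype)
      ((B' : Subgroup ↥M).map M.subtype) := by
  obtain ⟨X', x', h1, h2, h3, h4, h5, h6⟩ := h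
  rw [mem_sylowMembers_iff] at h1
  obtain ⟨⟨X, ⟨Q, F, hF, rfl⟩, rfl⟩, hA⟩ := h1
  set Q₀ : Subgroup G := (Q : Subgroup ↥M).map M.subtype with hQ₀
  have hQ₀p : IsPGroup p Q₀ := Q.isPGroup'.map _
  have hFQ := (hf Q₀ hQ₀p).1 F hF
  -- `Q` lies in the member
  have hQX : (Q : Subgroup ↥M) ≤ (M ⊓ Subgroup.normalizer (F : Set G)).subgroupOf M := by
    intro q hq
    rw [Subgroup.mem_subgroupOf]
    refine ⟨q.2, hFQ.2 (Subgroup.le_normalizer ?_)⟩
    exact ⟨q, hq, rfl⟩
  have hQsyl := isSylowIn_of_sylow_le Q hQX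
  -- `A'` lies in the member
  have hcard : Nat.card ↥((A' : Subgroup ↥M) ⊓ (M ⊓ Subgroup.normalizer (F : Set G)).subgroupOf M)
      = Nat.card ↥(A' : Subgroup ↥M) := by
    rw [hA.card_eq, ← hQsyl.card_eq, Sylow.card_eq_multiplicity, Sylow.card_eq_multiplicity]
  have hAX : (A' : Subgroup ↥M) ⊓ (M ⊓ Subgroup.normalizer (F : Set G)).subgroupOf M
      = (A' : Subgroup ↥M) := Subgroup.eq_of_le_of_card_ge inf_le_left hcard.ge
  rw [hAX] at hA
  obtain ⟨c', hc', hc⟩ := hA.exists_conj hQsyl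
  rw [Subgroup.mem_subgroupOf] at hc'
  have hcQ : ((A' : Subgroup ↥M).map M.subtype).map (MulAut.conj (c' : G)).toMonoidHom = Q₀ := by
    rw [← map_subtype_map_conj, hc]
  have hAp : IsPGroup p ↥((A' : Subgroup ↥M).map M.subtype) := A'.isPGroup'.map _
  have hFA : F ∈ f ((A' : Subgroup ↥M).map M.subtype) := by
    have := (hf _ hAp).2 (c' : G)
    rw [hcQ] at this
    rw [this] at hF
    obtain ⟨F₀, hF₀, hF₀F⟩ := hF
    have h7 : F₀.map (MulAut.conj (c' : G)).toMonoidHom
        = F.map (MulAut.conj (c' : G)).toMonoidHom := by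
      rw [map_conj_eq_of_mem_normalizer hc'.2]; exact hF₀F
    have h8 := Subgroup.map_injective (MulAut.conj (c' : G)).injective h7
    rwa [← h8]
  rw [Subgroup.mem_subgroupOf] at h3
  refine ⟨F, hFA, (x' : G), h3, ?_, Subgroup.map_mono h5, Subgroup.map_mono (h6.trans inf_le_left)⟩
  rw [← map_subtype_map_conj]
  congr 1
  rw [← h4]
  unfold Cfsg.subgroupConjRight
  rw [map_conj_map_conj_inv]

/-- an ambient functor step gives a step in `↥M` -/
theorem step_of_fstep [Finite G] {p : ℕ} [Fact p.Prime] {f : Subgroup G → Set (Subgroup G)}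
    (hf : Cfsg.IsNormalizerFunctor p f) {M D R T : Subgroup G} (h : FStep f M D R T)
    (R' : Sylow p ↥M) (hR' : (R' : Subgroup ↥M).map M.subtype = R) :
    ∃ T' : Sylow p ↥M, (T' : Subgroup ↥M).map M.subtype = T ∧
      Step p (famIn p f M) (D.subgroupOf M) R' T' := by
  obtain ⟨F, hF, x, hx, hT, h1, h2⟩ := h
  have hRp : IsPGroup p R := hR' ▸ R'.isPGroup'.map _
  have hFR := (hf R hRp).1 F hF
  have hRN : R ≤ Subgroup.normalizer (F : Set G) := Subgroup.le_normalizer.trans hFR.2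
  have hTN : T ≤ Subgroup.normalizer (F : Set G) := by
    rw [hT]; exact map_conj_le_of_mem hRN hx.2
  have hTmap : (((⟨x, hx.1⟩ : ↥M) • R' : Sylow p ↥M) : Subgroup ↥M).map M.subtype = T := by
    rw [sylow_coe_smul_eq_map, map_subtype_map_conj, hR', hT]
  have hXmem : (M ⊓ Subgroup.normalizer (F : Set G)).subgroupOf M ∈ famIn p f M :=
    ⟨_, ⟨R', F, by rw [hR']; exact hF, rfl⟩, rfl⟩
  refine ⟨(⟨x, hx.1⟩ : ↥M) • R', hTmap, (M ⊓ Subgroup.normalizer (F : Set G)).subgroupOf M,
    ⟨x, hx.1⟩, ?_, ?_, ?_, ?_, ?_, ?_⟩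
  · rw [mem_sylowMembers_iff]
    refine ⟨hXmem, ?_⟩
    have hle : (R' : Subgroup ↥M) ≤ (M ⊓ Subgroup.normalizer (F : Set G)).subgroupOf M := by
      intro r hr
      rw [Subgroup.mem_subgroupOf]
      exact ⟨r.2, hRN (hR' ▸ ⟨r, hr, rfl⟩)⟩
    rw [inf_eq_left.2 hle]
    exact isSylowIn_of_sylow_le R' hle
  · rw [mem_sylowMembers_iff]
    refine ⟨hXmem, ?_⟩
    have hle : (((⟨x, hx.1⟩ : ↥M) • R' : Sylow p ↥M) : Subgroup ↥M)
        ≤ (M ⊓ Subgroup.normalizer (F : Set G)).subgroupOf M := by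
      intro r hr
      rw [Subgroup.mem_subgroupOf]
      exact ⟨r.2, hTN (hTmap ▸ ⟨r, hr, rfl⟩)⟩
    rw [inf_eq_left.2 hle]
    exact isSylowIn_of_sylow_le _ hle
  · rw [Subgroup.mem_subgroupOf]; exact hx
  · exact subgroupConjRight_smul R' _
  · intro y hy
    rw [Subgroup.mem_subgroupOf] at hy
    have := h1 hy
    rw [← hR'] at this
    obtain ⟨z, hz, hzy⟩ := this
    have : z = y := Subtype.ext hzy
    rwa [← this]
  · intro y hy
    rw [Subgroup.mem_subgroupOf] at hy
    have hyT := h2 hy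
    refine Subgroup.mem_inf.2 ⟨?_, ?_⟩
    · rw [← hTmap] at hyT
      obtain ⟨z, hz, hzy⟩ := hyT
      have : z = y := Subtype.ext hzy
      rwa [← this]
    · rw [Subgroup.mem_subgroupOf]
      exact ⟨y.2, hTN hyT⟩

theorem regularAmb_of_isFunctorRegular [Finite G] {p : ℕ} [Fact p.Prime]
    {f : Subgroup G → Set (Subgroup G)} (hf : Cfsg.IsNormalizerFunctor p f) {M : Subgroup G}
    (h : Cfsg.IsFunctorRegular p f M) : RegularAmb p f M := by
  intro R T hR hT hne hinf
  rw [isFunctorRegular_iff, controls_iff] at h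
  have hne' : hR.toSylow ≠ hT.toSylow := by
    intro he
    apply hne
    rw [← hR.map_toSylow, ← hT.map_toSylow, he]
  have hmapinf : ((hR.toSylow : Subgroup ↥M) ⊓ (hT.toSylow : Subgroup ↥M)).map M.subtype
      = R ⊓ T := by
    rw [Subgroup.map_inf _ _ _ M.subtype_injective, hR.map_toSylow, hT.map_toSylow]
  have hinf' : (hR.toSylow : Subgroup ↥M) ⊓ (hT.toSylow : Subgroup ↥M) ≠ ⊥ := by
    intro he
    apply hinf
    rw [← hmapinf, he, Subgroup.map_bot]
  have hc := h hR.toSylow hT.toSylow hne' hinf'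
  have key : ∀ (D' : Subgroup ↥M) (A' B' : Sylow p ↥M), Linked p (famIn p f M) D' A' B' →
      Relation.ReflTransGen (FStep f M (D'.map M.subtype))
        ((A' : Subgroup ↥M).map M.subtype) ((B' : Subgroup ↥M).map M.subtype) := by
    intro D' A' B' hl
    induction hl with
    | refl => exact Relation.ReflTransGen.refl
    | tail _ hbc ih => exact Relation.ReflTransGen.tail ih (fstep_of_step hf hbc)
  have := key _ _ _ hc
  rwa [hmapinf, hR.map_toSylow, hT.map_toSylow] at this

theorem linked_of_fstep_chain [Finite G] {p : ℕ} [Fact p.Prime]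
    {f : Subgroup G → Set (Subgroup G)} (hf : Cfsg.IsNormalizerFunctor p f) {M D R T : Subgroup G}
    (h : Relation.ReflTransGen (FStep f M D) R T) (R' : Sylow p ↥M)
    (hR' : (R' : Subgroup ↥M).map M.subtype = R) :
    ∃ T' : Sylow p ↥M, (T' : Subgroup ↥M).map M.subtype = T ∧
      Linked p (famIn p f M) (D.subgroupOf M) R' T' := by
  induction h with
  | refl => exact ⟨R', hR', Linked.refl R'⟩
  | tail _ hbc ih =>
    obtain ⟨B', hB', hlink⟩ := ih
    obtain ⟨C', hC', hstep⟩ := step_of_fstep hf hbc B' hB'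
    exact ⟨C', hC', Relation.ReflTransGen.tail hlink hstep⟩

theorem isFunctorRegular_of_regularAmb [Finite G] {p : ℕ} [Fact p.Prime]
    {f : Subgroup G → Set (Subgroup G)} (hf : Cfsg.IsNormalizerFunctor p f) {M : Subgroup G}
    (h : RegularAmb p f M) : Cfsg.IsFunctorRegular p f M := by
  rw [isFunctorRegular_iff, controls_iff]
  intro S' T' hne hinf
  have hmapinf : ((S' : Subgroup ↥M) ⊓ (T' : Subgroup ↥M)).map M.subtype
      = (S' : Subgroup ↥M).map M.subtype ⊓ (T' : Subgroup ↥M).map M.subtype :=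
    Subgroup.map_inf _ _ _ M.subtype_injective
  have hne' : (S' : Subgroup ↥M).map M.subtype ≠ (T' : Subgroup ↥M).map M.subtype := by
    intro he
    exact hne (Sylow.ext (Subgroup.map_injective M.subtype_injective he))
  have hinf' : (S' : Subgroup ↥M).map M.subtype ⊓ (T' : Subgroup ↥M).map M.subtype ≠ ⊥ := by
    rw [← hmapinf]
    intro he
    exact hinf ((Subgroup.map_eq_bot_iff_of_injective _ M.subtype_injective).1 he)
  have hc := h _ _ (isSylowIn_map_subtype S') (isSylowIn_map_subtype T') hne' hinf'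
  obtain ⟨T'', hT'', hlink⟩ := linked_of_fstep_chain hf hc S' rfl
  have hTT : T'' = T' := Sylow.ext (Subgroup.map_injective M.subtype_injective hT'')
  rw [hTT] at hlink
  have hD : ((S' : Subgroup ↥M).map M.subtype ⊓ (T' : Subgroup ↥M).map M.subtype).subgroupOf M
      = (S' : Subgroup ↥M) ⊓ (T' : Subgroup ↥M) := by
    rw [← hmapinf]
    exact Subgroup.comap_map_eq_self_of_injective M.subtype_injective _
  rwa [hD] at hlink

end Cfsg.Agent.Helper15.FReg
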