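import Mathlib
import Cfsg.Prelude.Def_SylowChains
import Cfsg.Agent.Lib.Helper15.FunctorReg2

set_option autoImplicit false

/-! Chains of functor steps: monotonicity, conjugation; regularity of a product. -/

namespace Cfsg.Agent.Helper15.FReg

open Cfsg.Agent.Helper15

variable {G : Type*} [Group G]

/-- chains of functor steps inside `M` containing `D` -/
def FChain (f : Subgroup G → Set (Subgroup G)) (M D : Subgroup G) (R T : Subgroup G) : Prop :=
  Relation.ReflTransGen (FStep f M D) R T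

theorem FChain.refl {f : Subgroup G → Set (Subgroup G)} {M D : Subgroup G} (R : Subgroup G) :
    FChain f M D R R := Relation.ReflTransGen.refl

theorem FChain.trans {f : Subgroup G → Set (Subgroup G)} {M D R T U : Subgroup G}
    (h₁ : FChain f M D R T) (h₂ : FChain f M D T U) : FChain f M D R U :=
  Relation.ReflTransGen.trans h₁ h₂

theorem FChain.mono {f : Subgroup G → Set (Subgroup G)} {M M' D D' R T : Subgroup G}
    (hM : M ≤ M') (hD : D' ≤ D) (h : FChain f M D R T) : FChain f M' D' R T := by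
  induction h with
  | refl => exact Relation.ReflTransGen.refl
  | tail _ hbc ih => exact Relation.ReflTransGen.tail ih (hbc.mono hM hD)

theorem FStep.isPGroup {p : ℕ} {f : Subgroup G → Set (Subgroup G)} {M D R T : Subgroup G}
    (hR : IsPGroup p R) (h : FStep f M D R T) : IsPGroup p T := by
  obtain ⟨F, hF, x, hx, hT, h1, h2⟩ := h
  rw [hT]; exact isPGroup_map_conj hR x

theorem FChain.isPGroup {p : ℕ} {f : Subgroup G → Set (Subgroup G)} {M D R T : Subgroup G}
    (hR : IsPGroup p R) (h : FChain f M D R T) : IsPGroup p T := by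
  induction h with
  | refl => exact hR
  | tail _ hbc ih => exact hbc.isPGroup ih

theorem FChain.map_conj {p : ℕ} {f : Subgroup G → Set (Subgroup G)}
    (hf : Cfsg.IsNormalizerFunctor p f) {M D R T : Subgroup G} (hR : IsPGroup p R)
    (h : FChain f M D R T) (g : G) :
    FChain f (M.map (MulAut.conj g).toMonoidHom) (D.map (MulAut.conj g).toMonoidHom)
      (R.map (MulAut.conj g).toMonoidHom) (T.map (MulAut.conj g).toMonoidHom) := by
  induction h with
  | refl => exact Relation.ReflTransGen.refl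
  | tail hab hbc ih =>
    exact Relation.ReflTransGen.tail ih (hbc.map_conj hf (FChain.isPGroup hR hab) g)

theorem map_conj_top (g : G) : (⊤ : Subgroup G).map (MulAut.conj g).toMonoidHom = ⊤ :=
  map_conj_eq_self_of_mem (Subgroup.mem_top g)

theorem map_conj_ne_bot {D : Subgroup G} (hD : D ≠ ⊥) (g : G) :
    D.map (MulAut.conj g).toMonoidHom ≠ ⊥ := by
  intro h
  exact hD ((Subgroup.map_eq_bot_iff_of_injective _ (MulAut.conj g).injective).1 h)

/-- the key step for a product `G = G₂ G₁` -/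
theorem fchain_of_prod [Finite G] {p : ℕ} [Fact p.Prime] {f : Subgroup G → Set (Subgroup G)}
    (hf : Cfsg.IsNormalizerFunctor p f) (S : Sylow p G) (G₁ G₂ : Subgroup G)
    (h₁ : (S : Subgroup G) ≤ G₁) (h₂ : (S : Subgroup G) ≤ G₂)
    (a₁ : RegularAmb p f G₁) (a₂ : RegularAmb p f G₂) (g₁ g₂ : G) (hg₁ : g₁ ∈ G₁) (hg₂ : g₂ ∈ G₂)
    (hne : (S : Subgroup G) ⊓ (S : Subgroup G).map (MulAut.conj (g₂ * g₁)).toMonoidHom ≠ ⊥) :
    FChain f ⊤ ((S : Subgroup G) ⊓ (S : Subgroup G).map (MulAut.conj (g₂ * g₁)).toMonoidHom)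
      (S : Subgroup G) ((S : Subgroup G).map (MulAut.conj (g₂ * g₁)).toMonoidHom) := by
  set D : Subgroup G :=
    (S : Subgroup G) ⊓ (S : Subgroup G).map (MulAut.conj (g₂ * g₁)).toMonoidHom with hD
  -- `A₁ = D^{g₂⁻¹}` lies in `G₁ ⊓ G₂`
  set A₁ : Subgroup G := D.map (MulAut.conj g₂⁻¹).toMonoidHom with hA₁
  have hA₁2 : A₁ ≤ G₂ := map_conj_le_of_mem (inf_le_left.trans h₂) (G₂.inv_mem hg₂)
  have hA₁S₁ : A₁ ≤ (S : Subgroup G).map (MulAut.conj g₁).toMonoidHom := by
    have : D ≤ ((S : Subgroup G).map (MulAut.conj g₁).toMonoidHom).map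
        (MulAut.conj g₂).toMonoidHom := by
      rw [map_conj_map_conj]; exact inf_le_right
    have h := map_conj_mono this g₂⁻¹
    rwa [map_conj_inv_map_conj] at h
  have hA₁1 : A₁ ≤ G₁ := hA₁S₁.trans (map_conj_le_of_mem h₁ hg₁)
  have hA₁p : IsPGroup p A₁ := isPGroup_map_conj (S.isPGroup'.to_le inf_le_left) _
  have hSH : IsSylowIn p (S : Subgroup G) (G₁ ⊓ G₂) := isSylowIn_of_sylow_le S (le_inf h₁ h₂)
  obtain ⟨T₁, hAT₁, hT₁⟩ := exists_isSylowIn_ge hA₁p (le_inf hA₁1 hA₁2)
  obtain ⟨h, hh, hhT⟩ := hT₁.exists_conj hSH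
  have hA₁h : A₁.map (MulAut.conj h).toMonoidHom ≤ (S : Subgroup G) := by
    rw [← hhT]; exact map_conj_mono hAT₁ h
  -- new factorization `g₂ g₁ = (g₂ h⁻¹)(h g₁)`
  set k₁ : G := h * g₁ with hk₁
  set k₂ : G := g₂ * h⁻¹ with hk₂
  have hk : k₂ * k₁ = g₂ * g₁ := by rw [hk₁, hk₂]; group
  have hk₁G : k₁ ∈ G₁ := G₁.mul_mem hh.1 hg₁
  have hk₂G : k₂ ∈ G₂ := G₂.mul_mem hg₂ (G₂.inv_mem hh.2)
  set B : Subgroup G := A₁.map (MulAut.conj h).toMonoidHom with hB
  have hBD : B.map (MulAut.conj k₂).toMonoidHom = D := by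
    rw [hB, hA₁, map_conj_map_conj, map_conj_map_conj]
    have e : k₂ * h * g₂⁻¹ = 1 := by rw [hk₂]; group
    rw [e, map_conj_one]
  have hBne : B ≠ ⊥ := map_conj_ne_bot (map_conj_ne_bot hne _) _
  have hBS₁ : B ≤ (S : Subgroup G).map (MulAut.conj k₁).toMonoidHom := by
    rw [hk₁, ← map_conj_map_conj]; exact map_conj_mono hA₁S₁ h
  -- first leg, inside `G₂`
  have hS₂ : IsSylowIn p (S : Subgroup G) G₂ := isSylowIn_of_sylow_le S h₂
  have hS₁ : IsSylowIn p (S : Subgroup G) G₁ := isSylowIn_of_sylow_le S h₁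
  have hDS₂ : D ≤ (S : Subgroup G).map (MulAut.conj k₂).toMonoidHom := by
    rw [← hBD]; exact map_conj_mono hA₁h k₂
  have leg1 : FChain f ⊤ D (S : Subgroup G) ((S : Subgroup G).map (MulAut.conj k₂).toMonoidHom) := by
    by_cases he : (S : Subgroup G) = (S : Subgroup G).map (MulAut.conj k₂).toMonoidHom
    · rw [← he]; exact FChain.refl _
    · have hD' : D ≤ (S : Subgroup G) ⊓ (S : Subgroup G).map (MulAut.conj k₂).toMonoidHom :=
        le_inf inf_le_left hDS₂
      have hne' : (S : Subgroup G) ⊓ (S : Subgroup G).map (MulAut.conj k₂).toMonoidHom ≠ ⊥ := by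
        intro hb; rw [hb, le_bot_iff] at hD'; exact hne hD'
      exact FChain.mono le_top hD' (a₂ _ _ hS₂ (hS₂.map_conj_of_mem hk₂G) he hne')
  -- second leg, inside `G₁`, then conjugated by `k₂`
  have leg2 : FChain f ⊤ B (S : Subgroup G) ((S : Subgroup G).map (MulAut.conj k₁).toMonoidHom) := by
    by_cases he : (S : Subgroup G) = (S : Subgroup G).map (MulAut.conj k₁).toMonoidHom
    · rw [← he]; exact FChain.refl _
    · have hB' : B ≤ (S : Subgroup G) ⊓ (S : Subgroup G).map (MulAut.conj k₁).toMonoidHom :=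
        le_inf hA₁h hBS₁
      have hne' : (S : Subgroup G) ⊓ (S : Subgroup G).map (MulAut.conj k₁).toMonoidHom ≠ ⊥ := by
        intro hb; rw [hb, le_bot_iff] at hB'; exact hBne hB'
      exact FChain.mono le_top hB' (a₁ _ _ hS₁ (hS₁.map_conj_of_mem hk₁G) he hne')
  have leg2' := FChain.map_conj hf S.isPGroup' leg2 k₂
  rw [map_conj_top, hBD, map_conj_map_conj, hk] at leg2'
  exact leg1.trans leg2'

end Cfsg.Agent.Helper15.FReg
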