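import Mathlib
import Cfsg.Prelude.Def_SylowChains
import Cfsg.Agent.Lib.Helper15.FunctorReg3

set_option autoImplicit false

/-! Normalizers of functor members and singular maximal `p`-locals control Sylow intersections. -/

namespace Cfsg.Agent.Helper15.FReg

open Cfsg.Agent.Helper15

variable {G : Type*} [Group G]

/-- the controlling family of the theorem -/
def ctrlFam (p : ℕ) (f : Subgroup G → Set (Subgroup G)) : Set (Subgroup G) :=
  Cfsg.functorFamily p f ⊤ ∪ {M | Cfsg.IsMaximalPLocal p M ∧ ¬ Cfsg.IsFunctorRegular p f M}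

theorem exists_isMaximalPLocal_ge [Finite G] {p : ℕ} {N : Subgroup G} (hN : Cfsg.IsPLocal p N) :
    ∃ M : Subgroup G, Cfsg.IsMaximalPLocal p M ∧ N ≤ M := by
  obtain ⟨M, hNM, hM⟩ := Finite.exists_le_maximal (p := fun L : Subgroup G => Cfsg.IsPLocal p L) hN
  exact ⟨M, ⟨hM.prop, fun N' hN' hle => le_antisymm (hM.le_of_ge hN' hle) hle⟩, hNM⟩

theorem card_sylow_eq [Finite G] {p : ℕ} [Fact p.Prime] (S T : Sylow p G) :
    Nat.card (S : Subgroup G) = Nat.card (T : Subgroup G) := by
  rw [Sylow.card_eq_multiplicity, Sylow.card_eq_multiplicity]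

/-- a step through the normalizer of a member of `f V` -/
theorem step_functor [Finite G] {p : ℕ} [Fact p.Prime] {f : Subgroup G → Set (Subgroup G)}
    (hf : Cfsg.IsNormalizerFunctor p f) (V : Sylow p G) {F : Subgroup G}
    (hF : F ∈ f (V : Subgroup G)) {x : G} (hx : x ∈ Subgroup.normalizer (F : Set G))
    {E : Subgroup G} (hEV : E ≤ (V : Subgroup G)) (hEx : E ≤ ((x • V : Sylow p G) : Subgroup G)) :
    Step p (ctrlFam p f) E V (x • V) := by
  have hFV := (hf (V : Subgroup G) V.isPGroup').1 F hF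
  have hVN : (V : Subgroup G) ≤ Subgroup.normalizer (F : Set G) := Subgroup.le_normalizer.trans hFV.2
  have hxVN : ((x • V : Sylow p G) : Subgroup G) ≤ Subgroup.normalizer (F : Set G) := by
    rw [sylow_coe_smul_eq_map]; exact map_conj_le_of_mem hVN hx
  have hmem : (⊤ : Subgroup G) ⊓ Subgroup.normalizer (F : Set G) ∈ ctrlFam p f := by
    left
    refine ⟨(isSylowIn_top V).toSylow, F, ?_, rfl⟩
    rw [(isSylowIn_top V).map_toSylow]; exact hF
  have htop : (⊤ : Subgroup G) ⊓ Subgroup.normalizer (F : Set G) = Subgroup.normalizer (F : Set G) :=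
    top_inf_eq _
  refine ⟨(⊤ : Subgroup G) ⊓ Subgroup.normalizer (F : Set G), x, ?_, ?_, ?_, subgroupConjRight_smul V x,
    hEV, ?_⟩
  · rw [mem_sylowMembers_iff]
    refine ⟨hmem, ?_⟩
    rw [htop, inf_eq_left.2 hVN]
    exact isSylowIn_of_sylow_le V hVN
  · rw [mem_sylowMembers_iff]
    refine ⟨hmem, ?_⟩
    rw [htop, inf_eq_left.2 hxVN]
    exact isSylowIn_of_sylow_le _ hxVN
  · rw [htop]; exact hx
  · rw [htop]; exact le_inf hEx (hEx.trans hxVN)

/-- a step through a singular maximal `p`-local -/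
theorem step_singular [Finite G] {p : ℕ} [Fact p.Prime] {f : Subgroup G → Set (Subgroup G)}
    {M : Subgroup G} (hM : Cfsg.IsMaximalPLocal p M) (hsing : ¬ Cfsg.IsFunctorRegular p f M)
    (V : Sylow p G) (hVM : IsSylowIn p ((V : Subgroup G) ⊓ M) M) {x : G} (hx : x ∈ M)
    {E : Subgroup G} (hEV : E ≤ (V : Subgroup G) ⊓ M)
    (hEx : E ≤ ((x • V : Sylow p G) : Subgroup G)) :
    Step p (ctrlFam p f) E V (x • V) := by
  have hmem : M ∈ ctrlFam p f := Or.inr ⟨hM, hsing⟩
  refine ⟨M, x, ?_, ?_, hx, subgroupConjRight_smul V x, hEV.trans inf_le_left,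
    le_inf hEx (hEV.trans inf_le_right)⟩
  · rw [mem_sylowMembers_iff]; exact ⟨hmem, hVM⟩
  · rw [mem_sylowMembers_iff]
    refine ⟨hmem, ?_⟩
    have := hVM.map_conj_of_mem hx
    rwa [Subgroup.map_inf _ _ _ (MulAut.conj x).injective, map_conj_eq_self_of_mem hx,
      ← sylow_coe_smul_eq_map] at this

/-- in a `p`-group a proper subgroup is properly contained in its normalizer -/
theorem lt_inf_normalizer [Finite G] {p : ℕ} [Fact p.Prime] {H K : Subgroup G} (hK : IsPGroup p K)
    (hHK : H ≤ K) (hne : H ≠ K) :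
    Nat.card H < Nat.card ↥(K ⊓ Subgroup.normalizer (H : Set G)) := by
  have hle : H ≤ K ⊓ Subgroup.normalizer (H : Set G) := le_inf hHK Subgroup.le_normalizer
  by_contra hcon
  push Not at hcon
  have := Subgroup.eq_of_le_of_card_ge hle hcon
  exact hne (eq_of_inf_normalizer_eq hK hHK this.symm).symm

/-- a Sylow subgroup of `G` whose intersection with `M` is a prescribed Sylow subgroup of `M` -/
theorem exists_sylow_inf_eq [Finite G] {p : ℕ} [Fact p.Prime] {M R : Subgroup G}
    (hR : IsSylowIn p R M) : ∃ W : Sylow p G, R ≤ (W : Subgroup G) ∧ (W : Subgroup G) ⊓ M = R := by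
  obtain ⟨W, hW⟩ := hR.isPGroup.exists_le_sylow
  refine ⟨W, hW, ?_⟩
  exact hR.eq_of_le (W.isPGroup'.to_le inf_le_left) (le_inf hW hR.le) inf_le_right

end Cfsg.Agent.Helper15.FReg
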