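import Mathlib
import Cfsg.Prelude.Def_SylowChains
import Cfsg.Agent.Lib.Helper15.FunctorReg4

set_option autoImplicit false

/-! The double induction. -/

namespace Cfsg.Agent.Helper15.FReg

open Cfsg.Agent.Helper15

variable {G : Type*} [Group G]

/-- the outer induction hypothesis, relative to `E` -/
def OIH (p : ℕ) (f : Subgroup G → Set (Subgroup G)) (E : Subgroup G) : Prop :=
  ∀ (S T : Sylow p G) (E' : Subgroup G), E ≤ E' → E' ≤ (S : Subgroup G) → E' ≤ (T : Subgroup G) →
    Nat.card E < Nat.card E' → Linked p (ctrlFam p f) E S T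

theorem claimM [Finite G] {p : ℕ} [Fact p.Prime] {f : Subgroup G → Set (Subgroup G)}
    (hf : Cfsg.IsNormalizerFunctor p f)
    (hf1 : ∀ P : Subgroup G, IsPGroup p ↥P → P ≠ ⊥ → ∀ F ∈ f P, F ≠ ⊥)
    (E : Subgroup G) (hE : E ≠ ⊥) (hO : OIH p f E) :
    ∀ (k : ℕ) (M : Subgroup G) (V : Sylow p G) (x : G), Cfsg.IsMaximalPLocal p M →
      IsSylowIn p ((V : Subgroup G) ⊓ M) M →
      Nat.card (V : Subgroup G) - Nat.card ↥((V : Subgroup G) ⊓ M) = k → x ∈ M →
      E ≤ (V : Subgroup G) ⊓ M → E ≤ ((V : Subgroup G) ⊓ M).map (MulAut.conj x).toMonoidHom →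
      Nat.card E < Nat.card ↥((V : Subgroup G) ⊓ M) →
      Linked p (ctrlFam p f) E V (x • V) := by
  intro k
  induction k using Nat.strong_induction_on with
  | _ k ih =>
  intro M V x hM hVM hk hx hEV hEx hcard
  have hxV : ((V : Subgroup G) ⊓ M).map (MulAut.conj x).toMonoidHom
      ≤ ((x • V : Sylow p G) : Subgroup G) := by
    rw [sylow_coe_smul_eq_map]; exact map_conj_mono inf_le_left x
  by_cases hreg : Cfsg.IsFunctorRegular p f M
  swap
  · exact Relation.ReflTransGen.single (step_singular hM hreg V hVM hx hEV (hEx.trans hxV))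
  have a := regularAmb_of_isFunctorRegular hf hreg
  set R₁ : Subgroup G := (V : Subgroup G) ⊓ M with hR₁
  set R₂ : Subgroup G := R₁.map (MulAut.conj x).toMonoidHom with hR₂
  have hR₂syl : IsSylowIn p R₂ M := hVM.map_conj_of_mem hx
  by_cases h12 : R₁ = R₂
  · exact hO V (x • V) R₁ hEV inf_le_left (by rw [h12]; exact hxV) hcard
  -- the chain inside `M`
  have hne : R₁ ⊓ R₂ ≠ ⊥ := by
    intro hb
    have : E ≤ R₁ ⊓ R₂ := le_inf hEV hEx
    rw [hb, le_bot_iff] at this
    exact hE this
  have hchain : FChain f M E R₁ R₂ := FChain.mono le_rfl (le_inf hEV hEx) (a R₁ R₂ hVM hR₂syl h12 hne)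
  -- lifting the chain
  have key : ∀ P : Subgroup G, FChain f M E R₁ P →
      IsSylowIn p P M ∧ ∀ W : Sylow p G, P ≤ (W : Subgroup G) → Linked p (ctrlFam p f) E V W := by
    intro P hP
    induction hP with
    | refl =>
      exact ⟨hVM, fun W hW => hO V W R₁ hEV inf_le_left hW hcard⟩
    | @tail P P' _ hstep ih' =>
      obtain ⟨hPsyl, hlink⟩ := ih'
      obtain ⟨F, hF, x', hx', hP', hEP, hEP'⟩ := hstep
      have hP'syl : IsSylowIn p P' M := by rw [hP']; exact hPsyl.map_conj_of_mem hx'.1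
      refine ⟨hP'syl, ?_⟩
      intro W' hW'
      obtain ⟨W, hW⟩ := hPsyl.isPGroup.exists_le_sylow
      have hcardP : Nat.card P = Nat.card R₁ := by rw [hPsyl.card_eq, hVM.card_eq]
      have hcardP' : Nat.card P' = Nat.card R₁ := by rw [hP'syl.card_eq, hVM.card_eq]
      have hP'xW : P' ≤ ((x' • W : Sylow p G) : Subgroup G) := by
        rw [sylow_coe_smul_eq_map, hP']; exact map_conj_mono hW x'
      -- the sub-claim
      have hsub : Linked p (ctrlFam p f) E W (x' • W) := by
        by_cases hPW : P = (W : Subgroup G)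
        · rw [hPW] at hF
          exact Relation.ReflTransGen.single
            (step_functor hf W hF hx'.2 (hEP.trans hW) (hEP'.trans hP'xW))
        · -- `P < W`
          have hFP := (hf P hPsyl.isPGroup).1 F hF
          have hPne : P ≠ ⊥ := by
            intro hb; rw [hb, le_bot_iff] at hEP; exact hE hEP
          have hFne : F ≠ ⊥ := hf1 P hPsyl.isPGroup hPne F hF
          have hFp : IsPGroup p F := hPsyl.isPGroup.to_le hFP.1
          obtain ⟨M', hM', hNM'⟩ := exists_isMaximalPLocal_ge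
            (p := p) (N := Subgroup.normalizer (F : Set G)) ⟨F, hFp, hFne, rfl⟩
          set N₁ : Subgroup G := (W : Subgroup G) ⊓ Subgroup.normalizer (P : Set G) with hN₁
          have hN₁card : Nat.card P < Nat.card N₁ := lt_inf_normalizer W.isPGroup' hW hPW
          have hPN₁ : P ≤ N₁ := le_inf hW Subgroup.le_normalizer
          have hN₁M' : N₁ ≤ M' := (inf_le_right.trans hFP.2).trans hNM'
          have hN₁p : IsPGroup p N₁ := W.isPGroup'.to_le inf_le_left
          obtain ⟨R', hN₁R', hR'⟩ := exists_isSylowIn_ge hN₁p hN₁M'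
          obtain ⟨W₁, hR'W₁, hW₁M'⟩ := exists_sylow_inf_eq hR'
          have hcardR' : Nat.card N₁ ≤ Nat.card R' := Subgroup.card_le_of_le hN₁R'
          have hcardR'W : Nat.card R' ≤ Nat.card (W₁ : Subgroup G) := Subgroup.card_le_of_le hR'W₁
          have hx'M' : x' ∈ M' := hNM' hx'.2
          have hrec := ih (Nat.card (W₁ : Subgroup G) - Nat.card ↥((W₁ : Subgroup G) ⊓ M')) (by
              rw [hW₁M', ← hk, card_sylow_eq W₁ V]
              have := card_sylow_eq W₁ V
              omega)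
            M' W₁ x' hM' (by rw [hW₁M']; exact hR') rfl hx'M'
            (by rw [hW₁M']; exact (hEP.trans hPN₁).trans hN₁R')
            (by
              rw [hW₁M']
              refine hEP'.trans ?_
              rw [hP']
              exact map_conj_mono (hPN₁.trans hN₁R') x')
            (by rw [hW₁M']; omega)
          have hl1 : Linked p (ctrlFam p f) E W W₁ :=
            hO W W₁ N₁ (hEP.trans hPN₁) inf_le_left (hN₁R'.trans hR'W₁) (by omega)
          have hl2 : Linked p (ctrlFam p f) E (x' • W₁) (x' • W) := by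
            refine hO (x' • W₁) (x' • W) (N₁.map (MulAut.conj x').toMonoidHom) ?_ ?_ ?_ ?_
            · refine hEP'.trans ?_
              rw [hP']; exact map_conj_mono hPN₁ x'
            · rw [sylow_coe_smul_eq_map]; exact map_conj_mono (hN₁R'.trans hR'W₁) x'
            · rw [sylow_coe_smul_eq_map]; exact map_conj_mono inf_le_left x'
            · rw [card_map_conj]; omega
          exact (hl1.trans hrec).trans hl2
      have hl3 : Linked p (ctrlFam p f) E (x' • W) W' :=
        hO (x' • W) W' P' hEP' hP'xW hW' (by omega)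
      exact ((hlink W hW).trans hsub).trans hl3
  exact (key R₂ hchain).2 (x • V) hxV

theorem main_link [Finite G] {p : ℕ} [Fact p.Prime] {f : Subgroup G → Set (Subgroup G)}
    (hf : Cfsg.IsNormalizerFunctor p f)
    (hf1 : ∀ P : Subgroup G, IsPGroup p ↥P → P ≠ ⊥ → ∀ F ∈ f P, F ≠ ⊥) :
    ∀ (n : ℕ) (S T : Sylow p G) (E : Subgroup G), E ≠ ⊥ → E ≤ (S : Subgroup G) →
      E ≤ (T : Subgroup G) → Nat.card (S : Subgroup G) - Nat.card E = n →
      Linked p (ctrlFam p f) E S T := by
  intro n
  induction n using Nat.strong_induction_on with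
  | _ n ih =>
  intro S T E hE hES hET hn
  have hO : OIH p f E := by
    intro S' T' E' hEE' hE'S hE'T hcard
    have hE'ne : E' ≠ ⊥ := by
      intro hb; rw [hb, le_bot_iff] at hEE'; exact hE hEE'
    have h1 : Nat.card E' ≤ Nat.card (S' : Subgroup G) := Subgroup.card_le_of_le hE'S
    have h2 := card_sylow_eq S' S
    have h3 : Nat.card E ≤ Nat.card (S : Subgroup G) := Subgroup.card_le_of_le hES
    exact (ih (Nat.card (S' : Subgroup G) - Nat.card E') (by omega) S' T' E' hE'ne hE'S hE'T
      rfl).mono le_rfl hEE'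
  by_cases hST : S = T
  · rw [hST]; exact Linked.refl T
  have hES' : E ≠ (S : Subgroup G) := by
    intro he
    apply hST
    apply Sylow.ext
    rw [he] at hET
    exact Subgroup.eq_of_le_of_card_ge hET (by rw [card_sylow_eq T S])
  have hET' : E ≠ (T : Subgroup G) := by
    intro he
    apply hST
    apply Sylow.ext
    rw [he] at hES
    exact (Subgroup.eq_of_le_of_card_ge hES (by rw [card_sylow_eq T S])).symm
  have hEp : IsPGroup p E := S.isPGroup'.to_le hES
  obtain ⟨M, hM, hNM⟩ := exists_isMaximalPLocal_ge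
    (p := p) (N := Subgroup.normalizer (E : Set G)) ⟨E, hEp, hE, rfl⟩
  -- normalizers in `S` and `T`
  set N₁ : Subgroup G := (S : Subgroup G) ⊓ Subgroup.normalizer (E : Set G) with hN₁
  set N₂ : Subgroup G := (T : Subgroup G) ⊓ Subgroup.normalizer (E : Set G) with hN₂
  have hc1 : Nat.card E < Nat.card N₁ := lt_inf_normalizer S.isPGroup' hES hES'
  have hc2 : Nat.card E < Nat.card N₂ := lt_inf_normalizer T.isPGroup' hET hET'
  have hEN₁ : E ≤ N₁ := le_inf hES Subgroup.le_normalizer
  have hEN₂ : E ≤ N₂ := le_inf hET Subgroup.le_normalizer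
  obtain ⟨R₁, hN₁R₁, hR₁⟩ := exists_isSylowIn_ge (S.isPGroup'.to_le (inf_le_left : N₁ ≤ S))
    ((inf_le_right : N₁ ≤ _).trans hNM)
  obtain ⟨R₂, hN₂R₂, hR₂⟩ := exists_isSylowIn_ge (T.isPGroup'.to_le (inf_le_left : N₂ ≤ T))
    ((inf_le_right : N₂ ≤ _).trans hNM)
  obtain ⟨S', hR₁S', hS'M⟩ := exists_sylow_inf_eq hR₁
  obtain ⟨T', hR₂T', hT'M⟩ := exists_sylow_inf_eq hR₂
  obtain ⟨m, hm, hmR⟩ := hR₁.exists_conj hR₂
  have hcR₁ : Nat.card N₁ ≤ Nat.card R₁ := Subgroup.card_le_of_le hN₁R₁
  have hl1 : Linked p (ctrlFam p f) E S S' := hO S S' N₁ hEN₁ inf_le_left (hN₁R₁.trans hR₁S') hc1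
  have hl2 : Linked p (ctrlFam p f) E S' (m • S') :=
    claimM hf hf1 E hE hO _ M S' m hM (by rw [hS'M]; exact hR₁) rfl hm
      (by rw [hS'M]; exact hEN₁.trans hN₁R₁)
      (by rw [hS'M, hmR]; exact hEN₂.trans hN₂R₂)
      (by rw [hS'M]; omega)
  have hl3 : Linked p (ctrlFam p f) E (m • S') T' := by
    refine hO (m • S') T' R₂ (hEN₂.trans hN₂R₂) ?_ hR₂T' ?_
    · rw [sylow_coe_smul_eq_map, ← hmR]; exact map_conj_mono hR₁S' m
    · have h5 : Nat.card N₂ ≤ Nat.card R₂ := Subgroup.card_le_of_le hN₂R₂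
      omega
  have hl4 : Linked p (ctrlFam p f) E T T' := hO T T' N₂ hEN₂ inf_le_left (hN₂R₂.trans hR₂T') hc2
  exact ((hl1.trans hl2).trans hl3).trans hl4.symm

/-- **Theorem**: the normalizers of the members of `f S` (`S` Sylow) together with the singular
maximal `p`-local subgroups control Sylow `p`-intersections. -/
theorem controls_ctrlFam [Finite G] {p : ℕ} [Fact p.Prime] {f : Subgroup G → Set (Subgroup G)}
    (hf : Cfsg.IsNormalizerFunctor p f)
    (hf1 : ∀ P : Subgroup G, IsPGroup p ↥P → P ≠ ⊥ → ∀ F ∈ f P, F ≠ ⊥) :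
    Cfsg.ControlsSylowIntersections p (ctrlFam p f) := by
  rw [controls_iff]
  intro S T _ hinf
  exact main_link hf hf1 _ S T _ hinf inf_le_left inf_le_right rfl

end Cfsg.Agent.Helper15.FReg
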