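import Mathlib

set_option autoImplicit false

/-!
# `G₂(3)` and `PSL₂(13)` have the same prime graph: abstract lemmas (helper15)

Restriction of block triangular matrices to a coordinate subspace, matrices preserving a bilinear
product, the commutant of a cyclic matrix, and elements of order `p * s` in a group whose Sylow
`p`-subgroups have order `p` and are self-centralising.
-/

namespace Cfsg.Agent.Helper15.G23

open Matrix

section Restrict

variable {R : Type*} [CommRing R] {m n : Type*} [Fintype m] [DecidableEq m] [Fintype n]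
  [DecidableEq n]

/-- the columns indexed by `ι` vanish outside the rows indexed by `ι`. -/
def Blk (ι : n → m) (A : Matrix m m R) : Prop :=
  ∀ k, k ∉ Finset.univ.image ι → ∀ b, A k (ι b) = 0

instance (ι : n → m) (A : Matrix m m R) [DecidableEq R] : Decidable (Blk ι A) := by
  unfold Blk; infer_instance

/-- the restriction to the coordinates indexed by `ι`. -/
def res (ι : n → m) (A : Matrix m m R) : Matrix n n R := A.submatrix ι ι

lemma res_mul (ι : n → m) (hι : Function.Injective ι) (A B : Matrix m m R) (hB : Blk ι B) :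
    res ι (A * B) = res ι A * res ι B := by
  ext a b
  simp only [res, Matrix.submatrix_apply, Matrix.mul_apply]
  rw [← Finset.sum_image (s := Finset.univ) (g := ι) (f := fun k => A (ι a) k * B k (ι b))
    (fun x _ y _ h => hι h)]
  symm
  apply Finset.sum_subset (Finset.subset_univ _)
  intro k _ hk
  rw [hB k hk b, mul_zero]

lemma Blk_mul (ι : n → m) (A B : Matrix m m R) (hA : Blk ι A) (hB : Blk ι B) :
    Blk ι (A * B) := by
  intro k hk b
  rw [Matrix.mul_apply]
  apply Finset.sum_eq_zero
  intro j _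
  by_cases hj : j ∈ Finset.univ.image ι
  · obtain ⟨j', _, rfl⟩ := Finset.mem_image.mp hj
    rw [hA k hk j', zero_mul]
  · rw [hB j hj b, mul_zero]

lemma Blk_one (ι : n → m) : Blk ι (1 : Matrix m m R) := by
  intro k hk b
  rw [Matrix.one_apply_ne]
  rintro rfl
  exact hk (Finset.mem_image_of_mem _ (Finset.mem_univ _))

lemma res_one (ι : n → m) (hι : Function.Injective ι) : res ι (1 : Matrix m m R) = 1 :=
  Matrix.submatrix_one ι hι

lemma Blk_pow (ι : n → m) (A : Matrix m m R) (hA : Blk ι A) (k : ℕ) : Blk ι (A ^ k) := by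
  induction k with
  | zero => rw [pow_zero]; exact Blk_one ι
  | succ k ih => rw [pow_succ]; exact Blk_mul ι _ _ ih hA

lemma res_pow (ι : n → m) (hι : Function.Injective ι) (A : Matrix m m R) (hA : Blk ι A) (k : ℕ) :
    res ι (A ^ k) = res ι A ^ k := by
  induction k with
  | zero => rw [pow_zero, pow_zero]; exact res_one ι hι
  | succ k ih => rw [pow_succ, pow_succ, res_mul ι hι _ _ hA, ih]

end Restrict

section Bracket

variable {R : Type*} [CommRing R] {n : Type*} [Fintype n] [DecidableEq n]

/-- bilinearity of a product on `n → R`. -/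
structure IsBilin (B : (n → R) → (n → R) → (n → R)) : Prop where
  add_left : ∀ u u' v, B (u + u') v = B u v + B u' v
  smul_left : ∀ (s : R) u v, B (s • u) v = s • B u v
  add_right : ∀ u v v', B u (v + v') = B u v + B u v'
  smul_right : ∀ (s : R) u v, B u (s • v) = s • B u v

variable (B : (n → R) → (n → R) → (n → R))

/-- the product as a bilinear map. -/
def BrL (hB : IsBilin B) : (n → R) →ₗ[R] (n → R) →ₗ[R] (n → R) :=
  LinearMap.mk₂ R B hB.add_left hB.smul_left hB.add_right hB.smul_right

/-- the matrix preserves the product. -/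
def Pres (M : Matrix n n R) : Prop :=
  ∀ u v : n → R, B (M *ᵥ u) (M *ᵥ v) = M *ᵥ B u v

/-- the matrix preserves the product of the basis vectors. -/
def PresB (M : Matrix n n R) : Prop :=
  ∀ a b : n, B (M *ᵥ Pi.single a 1) (M *ᵥ Pi.single b 1) =
    M *ᵥ B (Pi.single a 1) (Pi.single b 1)

instance (M : Matrix n n R) [DecidableEq R] : Decidable (PresB B M) := by
  unfold PresB; infer_instance

lemma pres_of_presB (hB : IsBilin B) (M : Matrix n n R) (h : PresB B M) : Pres B M := by
  have key : (BrL B hB).compl₁₂ (Matrix.toLin' M) (Matrix.toLin' M) =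
      (BrL B hB).compr₂ (Matrix.toLin' M) := by
    apply LinearMap.ext_basis (Pi.basisFun R n) (Pi.basisFun R n)
    intro a b
    simp only [LinearMap.compl₁₂_apply, LinearMap.compr₂_apply, Matrix.toLin'_apply,
      Pi.basisFun_apply, BrL, LinearMap.mk₂_apply]
    exact h a b
  intro u v
  have h2 := LinearMap.congr_fun (LinearMap.congr_fun key u) v
  simpa only [LinearMap.compl₁₂_apply, LinearMap.compr₂_apply, Matrix.toLin'_apply,
    BrL, LinearMap.mk₂_apply] using h2

lemma Pres_mul (M N : Matrix n n R) (hM : Pres B M) (hN : Pres B N) : Pres B (M * N) := by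
  intro u v
  rw [← Matrix.mulVec_mulVec, ← Matrix.mulVec_mulVec, hM, hN, Matrix.mulVec_mulVec]

lemma Pres_one : Pres B (1 : Matrix n n R) := by
  intro u v
  rw [Matrix.one_mulVec, Matrix.one_mulVec, Matrix.one_mulVec]

lemma Pres_pow (M : Matrix n n R) (hM : Pres B M) (k : ℕ) : Pres B (M ^ k) := by
  induction k with
  | zero => rw [pow_zero]; exact Pres_one B
  | succ k ih => rw [pow_succ]; exact Pres_mul B _ _ ih hM

/-- the test satisfied by the image `w = C v₀` of a vector under a matrix preserving the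
product, in terms of matrices `M`, `Z` commuting with `C`. -/
lemma test_of_pres (C M Z : Matrix n n R) (v0 b : n → R) (hP : Pres B C)
    (hCM : C * M = M * C) (hCZ : C * Z = Z * C) (hM : M *ᵥ v0 = b) (hZ : Z *ᵥ v0 = B v0 b) :
    B (C *ᵥ v0) (M *ᵥ (C *ᵥ v0)) = Z *ᵥ (C *ᵥ v0) := by
  have h1 := hP v0 b
  rw [← hZ, ← hM, Matrix.mulVec_mulVec, Matrix.mulVec_mulVec, hCM, hCZ,
    ← Matrix.mulVec_mulVec, ← Matrix.mulVec_mulVec] at h1
  exact h1

end Bracket

section Commutant

variable {R : Type*} [CommRing R]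

/-- a matrix commuting with a cyclic matrix `X` is determined by the image of a cyclic vector. -/
lemma eq_of_commute {n : ℕ} (X C Kinv : Matrix (Fin n) (Fin n) R) (v0 : Fin n → R)
    (hc : C * X = X * C)
    (hK : (Matrix.of fun (i j : Fin n) => ((X ^ j.val) *ᵥ v0) i) * Kinv = 1) :
    C = (Matrix.of fun (i j : Fin n) => ((X ^ j.val) *ᵥ (C *ᵥ v0)) i) * Kinv := by
  have h1 : ∀ j : ℕ, C * X ^ j = X ^ j * C := fun j => (Commute.pow_right hc j)
  have h2 : C * (Matrix.of fun (i j : Fin n) => ((X ^ j.val) *ᵥ v0) i) =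
      Matrix.of fun (i j : Fin n) => ((X ^ j.val) *ᵥ (C *ᵥ v0)) i := by
    ext i j
    change (C *ᵥ (X ^ j.val *ᵥ v0)) i = (X ^ j.val *ᵥ (C *ᵥ v0)) i
    rw [Matrix.mulVec_mulVec, Matrix.mulVec_mulVec, h1]
  calc C = C * 1 := (mul_one C).symm
    _ = C * ((Matrix.of fun (i j : Fin n) => ((X ^ j.val) *ᵥ v0) i) * Kinv) := by rw [hK]
    _ = (C * (Matrix.of fun (i j : Fin n) => ((X ^ j.val) *ᵥ v0) i)) * Kinv :=
        (mul_assoc _ _ _).symm
    _ = _ := by rw [h2]

lemma eq_of_commute' {n : ℕ} (X C Kinv : Matrix (Fin n) (Fin n) R) (v0 : Fin n → R)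
    (P : Fin n → Matrix (Fin n) (Fin n) R) (hP : ∀ j : Fin n, P j = X ^ j.val)
    (hc : C * X = X * C)
    (hK : (Matrix.of fun (i j : Fin n) => ((P j) *ᵥ v0) i) * Kinv = 1) :
    C = (Matrix.of fun (i j : Fin n) => ((P j) *ᵥ (C *ᵥ v0)) i) * Kinv := by
  have h : P = fun j => X ^ j.val := funext hP
  subst h
  exact eq_of_commute X C Kinv v0 hc hK

lemma eq_of_cyclic {n : ℕ} (X C C' Kinv : Matrix (Fin n) (Fin n) R) (v0 : Fin n → R)
    (P : Fin n → Matrix (Fin n) (Fin n) R) (hP : ∀ j : Fin n, P j = X ^ j.val)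
    (hc : C * X = X * C) (hc' : C' * X = X * C')
    (hK : (Matrix.of fun (i j : Fin n) => ((P j) *ᵥ v0) i) * Kinv = 1)
    (h : C *ᵥ v0 = C' *ᵥ v0) : C = C' := by
  rw [eq_of_commute' X C Kinv v0 P hP hc hK, eq_of_commute' X C' Kinv v0 P hP hc' hK, h]

/-- a matrix commuting with `X` commutes with the polynomials in `X`. -/
lemma commute_poly {n : ℕ} (X C : Matrix (Fin n) (Fin n) R)
    (P : Fin n → Matrix (Fin n) (Fin n) R) (hP : ∀ j : Fin n, P j = X ^ j.val)
    (hc : C * X = X * C) (k : Fin n → R) :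
    C * (∑ j, k j • P j) = (∑ j, k j • P j) * C := by
  rw [Finset.mul_sum, Finset.sum_mul]
  apply Finset.sum_congr rfl
  intro j _
  rw [Matrix.mul_smul, Matrix.smul_mul, hP j, (Commute.pow_right hc j.val).eq]

end Commutant

section Sylow

/-- if the Sylow `p`-subgroups have order `p` and an element of order `p` is self-centralising,
there is no element of order `p * s`. -/
theorem no_order_mul {G : Type*} [Group G] [Finite G] (p : ℕ) [hp : Fact p.Prime]
    (hcard : (Nat.card G).factorization p = 1) (x : G) (hx : orderOf x = p)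
    (hC : ∀ c : G, c * x = x * c → c ∈ Subgroup.zpowers x) (s : ℕ) (hs : s.Prime) (hsp : s ≠ p)
    (g : G) (hg : orderOf g = p * s) : False := by
  have hp0 : 0 < p := hp.out.pos
  have hs0 : 0 < s := hs.pos
  set y := g ^ s with hy
  set z := g ^ p with hz
  have hoy : orderOf y = p := by
    rw [hy, orderOf_pow' g hs0.ne', hg, Nat.gcd_eq_right (Dvd.intro_left p rfl),
      Nat.mul_div_cancel _ hs0]
  have hoz : orderOf z = s := by
    rw [hz, orderOf_pow' g hp0.ne', hg, Nat.gcd_eq_right (Dvd.intro s rfl),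
      Nat.mul_div_cancel_left _ hp0]
  have hyz : y * z = z * y := by
    rw [hy, hz, ← pow_add, ← pow_add, add_comm]
  -- the two Sylow subgroups
  have hcx : Nat.card (Subgroup.zpowers x) = p ^ (Nat.card G).factorization p := by
    rw [hcard, pow_one, Nat.card_zpowers, hx]
  have hcy : Nat.card (Subgroup.zpowers y) = p ^ (Nat.card G).factorization p := by
    rw [hcard, pow_one, Nat.card_zpowers, hoy]
  let P : Sylow p G := Sylow.ofCard (Subgroup.zpowers x) hcx
  let Q : Sylow p G := Sylow.ofCard (Subgroup.zpowers y) hcy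
  obtain ⟨u, hu⟩ := MulAction.exists_smul_eq G Q P
  have hu' : ((u • Q : Sylow p G) : Subgroup G) = (P : Subgroup G) := by rw [hu]
  set e : G ≃* G := MulAut.conj u with he
  have hy' : e y ∈ Subgroup.zpowers x := by
    have : e y ∈ ((u • Q : Sylow p G) : Subgroup G) := by
      rw [Sylow.coe_subgroup_smul]
      exact Subgroup.smul_mem_pointwise_smul y (MulAut.conj u) _ (Subgroup.mem_zpowers y)
    rw [hu'] at this
    exact this
  have hoy' : orderOf (e y) = p := by rw [MulEquiv.orderOf_eq, hoy]
  -- `x` is a power of `e y`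
  have hzp : Subgroup.zpowers (e y) = Subgroup.zpowers x := by
    apply Subgroup.eq_of_le_of_card_ge
    · rw [Subgroup.zpowers_le]; exact hy'
    · rw [Nat.card_zpowers, Nat.card_zpowers, hoy', hx]
  have hxm : x ∈ Subgroup.zpowers (e y) := by rw [hzp]; exact Subgroup.mem_zpowers x
  obtain ⟨k, hk⟩ := Subgroup.mem_zpowers_iff.mp hxm
  have hcomm : e z * x = x * e z := by
    rw [← hk]
    have h1 : e z * e y = e y * e z := by rw [← map_mul, ← map_mul, hyz]
    exact ((Commute.zpow_right (show Commute (e z) (e y) from h1) k)).eq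
  have hzm := hC (e z) hcomm
  have hoz' : orderOf (e z) = s := by rw [MulEquiv.orderOf_eq, hoz]
  have hdvd : s ∣ p := by
    have := orderOf_dvd_natCard (⟨e z, hzm⟩ : Subgroup.zpowers x)
    rw [Nat.card_zpowers, hx, Subgroup.orderOf_mk, hoz'] at this
    exact this
  exact hsp ((Nat.prime_dvd_prime_iff_eq hs hp.out).mp hdvd)

theorem no_order_mul' {G : Type*} [Group G] [Finite G] (p m : ℕ) [hp : Fact p.Prime]
    (hcard : Nat.card G = p * m) (hm : ¬ p ∣ m) (x : G) (hx : orderOf x = p)
    (hC : ∀ c : G, c * x = x * c → c ∈ Subgroup.zpowers x) (s : ℕ) (hs : s.Prime) (hsp : s ≠ p)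
    (g : G) (hg : orderOf g = p * s) : False := by
  have hm0 : m ≠ 0 := by
    rintro rfl
    exact hm (dvd_zero p)
  have h1 : (Nat.card G).factorization p = 1 := by
    rw [hcard, Nat.factorization_mul hp.out.ne_zero hm0, Finsupp.add_apply,
      hp.out.factorization_self, Nat.factorization_eq_zero_of_not_dvd hm]
  exact no_order_mul p h1 x hx hC s hs hsp g hg

end Sylow

end Cfsg.Agent.Helper15.G23
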