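import Mathlib
import Cfsg.Prelude.Def_ChevG2
import Cfsg.Prelude.Def_ChevWords
import Cfsg.Agent.Lib.Lead.ChevGL
import Cfsg.Agent.Lib.Lead.ChevFactsAll
import Cfsg.Agent.S1055
import Cfsg.Agent.S1059
import Cfsg.Agent.Lib.Helper15.G23a

set_option autoImplicit false

/-!
# `G₂(3)` and `PSL₂(13)` have the same prime graph: the elements of orders 7 and 13 of `G₂(3)`
are self-centralising (helper15)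

`G₂(3)` over `ZMod 3` preserves the ideal of the short roots of the Lie algebra (seven coordinates)
and its Lie product; an element of order 7 or 13 is cyclic on it, so a matrix commuting with it is
determined by the image of a cyclic vector; only the powers of the element preserve the product.
Data produced by an external search; everything is re-checked by the kernel.
-/

namespace Cfsg.Agent.Helper15.G23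

open Cfsg Cfsg.Lie Matrix

abbrev K3 := ZMod 3

abbrev I14 := chevG2.Idx

/-- `G₂(3)` over `ZMod 3`. -/
abbrev Γ3 : Subgroup (GL I14 K3) := chevG2.group K3

/-- the coordinates of the ideal of the short roots. -/
def ι7 : Fin 7 → I14 := fun i =>
  (![Sum.inl 0, Sum.inr 2, Sum.inr 3, Sum.inr 4, Sum.inr 7, Sum.inr 8, Sum.inr 9] :
    Fin 7 → Fin 2 ⊕ Fin 12) i

lemma ι7_inj : Function.Injective ι7 := by decide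

/-- the Lie product of the ideal of the short roots. -/
def br7 (u v : Fin 7 → K3) : Fin 7 → K3 :=
  ![u 1 * v 6 + 2 * u 2 * v 5 + 2 * u 3 * v 4 + u 4 * v 3 + u 5 * v 2 + 2 * u 6 * v 1,
    2 * u 0 * v 1 + u 1 * v 0 + u 2 * v 3 + 2 * u 3 * v 2,
    u 0 * v 2 + u 1 * v 4 + 2 * u 2 * v 0 + 2 * u 4 * v 1,
    u 0 * v 3 + 2 * u 1 * v 5 + 2 * u 3 * v 0 + u 5 * v 1,
    2 * u 0 * v 4 + 2 * u 2 * v 6 + u 4 * v 0 + u 6 * v 2,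
    2 * u 0 * v 5 + u 3 * v 6 + u 5 * v 0 + 2 * u 6 * v 3,
    u 0 * v 6 + u 4 * v 5 + 2 * u 5 * v 4 + 2 * u 6 * v 0]

lemma br7_bilin : IsBilin br7 where
  add_left := by
    intro u u' v
    funext k
    fin_cases k <;> simp [br7] <;> ring
  smul_left := by
    intro s u v
    funext k
    fin_cases k <;> simp [br7] <;> ring
  add_right := by
    intro u v v'
    funext k
    fin_cases k <;> simp [br7] <;> ring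
  smul_right := by
    intro s u v
    funext k
    fin_cases k <;> simp [br7] <;> ring

set_option maxRecDepth 100000 in
lemma gen_blk : ∀ (r : Fin chevG2.nroots) (t : K3), Blk ι7 (chevG2.xMat K3 r t) := by
  decide +kernel

set_option maxRecDepth 100000 in
lemma gen_pres : ∀ (r : Fin chevG2.nroots) (t : K3),
    PresB br7 (res ι7 (chevG2.xMat K3 r t)) := by
  decide +kernel

lemma mem_props (g : GL I14 K3) (hg : g ∈ Γ3) :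
    Blk ι7 (g : Matrix I14 I14 K3) ∧ Pres br7 (res ι7 (g : Matrix I14 I14 K3)) := by
  induction hg using Subgroup.closure_induction with
  | mem x hx =>
    obtain ⟨r, t, h⟩ := hx
    rw [h]
    exact ⟨gen_blk r t, pres_of_presB br7 br7_bilin _ (gen_pres r t)⟩
  | one =>
    rw [Units.val_one, res_one ι7 ι7_inj]
    exact ⟨Blk_one ι7, Pres_one br7⟩
  | mul x y _ _ hx hy =>
    rw [Units.val_mul, res_mul ι7 ι7_inj _ _ hy.1]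
    exact ⟨Blk_mul ι7 _ _ hx.1 hy.1, Pres_mul br7 _ _ hx.2 hy.2⟩
  | inv x _ hx =>
    have hfin : x⁻¹ = x ^ (orderOf x - 1) := by
      have hpos := orderOf_pos x
      rw [eq_comm, ← mul_eq_one_iff_eq_inv, ← pow_succ, Nat.sub_add_cancel hpos,
        pow_orderOf_eq_one]
    rw [hfin, Units.val_pow_eq_pow_val, res_pow ι7 ι7_inj _ hx.1]
    exact ⟨Blk_pow ι7 _ hx.1 _, Pres_pow br7 _ hx.2 _⟩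

/-- the action on the ideal of the short roots. -/
def ρ : Γ3 →* Matrix (Fin 7) (Fin 7) K3 where
  toFun g := res ι7 ((g : GL I14 K3) : Matrix I14 I14 K3)
  map_one' := by
    change res ι7 (((1 : GL I14 K3)) : Matrix I14 I14 K3) = 1
    rw [Units.val_one, res_one ι7 ι7_inj]
  map_mul' g h := by
    change res ι7 (((g : GL I14 K3) * (h : GL I14 K3) : GL I14 K3) : Matrix I14 I14 K3) = _
    rw [Units.val_mul, res_mul ι7 ι7_inj _ _ (mem_props h h.2).1]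

lemma ρ_pres (g : Γ3) : Pres br7 (ρ g) := (mem_props g g.2).2

lemma chevG2_mem : chevG2 ∈ [chevG2, chevB2, chevD4, chevF4, chevE6, chevE7, chevE8] := by simp

lemma hX3 : Cfsg.Agent.Lead.Chev.XAdd chevG2 K3 :=
  (Cfsg.Agent.Lead.Chev.chevFacts_of_mem chevG2 chevG2_mem).xadd

/-- the element of a word in the root elements. -/
def elt (w : List (ℕ × K3)) : Γ3 :=
  ⟨Cfsg.Agent.Lead.Chev.wordGL chevG2 hX3 w, Cfsg.Agent.Lead.Chev.wordGL_mem_group chevG2 hX3 w⟩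

lemma ρ_elt (w : List (ℕ × K3)) : ρ (elt w) = res ι7 (chevG2.wordMat K3 w) := by
  change res ι7 ((Cfsg.Agent.Lead.Chev.wordGL chevG2 hX3 w : GL I14 K3) : Matrix I14 I14 K3) = _
  rw [Cfsg.Agent.Lead.Chev.wordGL_val]

def w6 : List (ℕ × K3) := [(8, 1), (3, 2)]

def w7 : List (ℕ × K3) := [(8, 2), (5, 2), (2, 2), (11, 1)]

def w13 : List (ℕ × K3) := [(5, 1), (1, 2), (8, 2)]

def X7 : Matrix (Fin 7) (Fin 7) K3 := !![1, 2, 0, 2, 1, 2, 2; 2, 1, 1, 0, 0, 0, 2; 0, 1, 1, 1, 2, 1, 0; 1, 0, 2, 1, 0, 1, 1; 0, 2, 0, 0, 1, 2, 0; 2, 0, 1, 2, 1, 0, 1; 0, 2, 2, 0, 1, 2, 1]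

def X13 : Matrix (Fin 7) (Fin 7) K3 := !![1, 0, 2, 0, 0, 0, 0; 0, 1, 0, 0, 2, 0, 0; 0, 1, 1, 2, 2, 0, 2; 0, 2, 0, 1, 1, 0, 1; 2, 0, 2, 0, 1, 1, 0; 2, 0, 2, 0, 0, 1, 0; 0, 0, 0, 0, 1, 0, 1]

set_option maxRecDepth 100000 in
lemma ρ_w7 : res ι7 (chevG2.wordMat K3 w7) = X7 := by decide +kernel

set_option maxRecDepth 100000 in
lemma ρ_w13 : res ι7 (chevG2.wordMat K3 w13) = X13 := by decide +kernel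

/-- the powers of `X7`. -/
def pw7 : List (Matrix (Fin 7) (Fin 7) K3) := [!![1, 0, 0, 0, 0, 0, 0; 0, 1, 0, 0, 0, 0, 0; 0, 0, 1, 0, 0, 0, 0; 0, 0, 0, 1, 0, 0, 0; 0, 0, 0, 0, 1, 0, 0; 0, 0, 0, 0, 0, 1, 0; 0, 0, 0, 0, 0, 0, 1],
  !![1, 2, 0, 2, 1, 2, 2; 2, 1, 1, 0, 0, 0, 2; 0, 1, 1, 1, 2, 1, 0; 1, 0, 2, 1, 0, 1, 1; 0, 2, 0, 0, 1, 2, 0; 2, 0, 1, 2, 1, 0, 1; 0, 2, 2, 0, 1, 2, 1],
  !![2, 1, 0, 2, 0, 1, 0; 1, 1, 0, 2, 0, 0, 2; 2, 0, 2, 1, 2, 0, 1; 1, 0, 1, 1, 1, 1, 2; 2, 1, 1, 1, 0, 2, 0; 1, 0, 1, 1, 0, 2, 1; 2, 2, 2, 0, 2, 0, 1],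
  !![2, 2, 0, 2, 0, 0, 0; 2, 1, 0, 1, 0, 2, 2; 0, 0, 0, 1, 0, 1, 0; 1, 0, 2, 0, 1, 1, 0; 0, 0, 0, 1, 0, 0, 0; 0, 2, 1, 2, 0, 0, 0; 0, 2, 0, 0, 0, 0, 0],
  !![2, 0, 0, 0, 2, 0, 1; 0, 0, 0, 0, 0, 0, 2; 0, 0, 0, 0, 1, 1, 2; 0, 0, 0, 0, 1, 0, 0; 1, 0, 2, 1, 0, 1, 1; 0, 0, 1, 0, 2, 0, 0; 1, 2, 2, 0, 0, 0, 1],
  !![2, 1, 2, 1, 2, 1, 2; 0, 1, 1, 0, 2, 1, 2; 2, 0, 2, 2, 1, 0, 0; 0, 2, 0, 0, 1, 2, 0; 1, 0, 1, 1, 1, 1, 2; 0, 2, 1, 1, 1, 2, 0; 2, 2, 0, 1, 0, 0, 1],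
  !![1, 0, 1, 0, 2, 0, 1; 1, 1, 1, 0, 1, 0, 2; 1, 2, 0, 2, 1, 1, 0; 2, 1, 1, 1, 0, 2, 0; 1, 0, 2, 0, 1, 1, 0; 0, 2, 1, 0, 2, 1, 1; 1, 2, 0, 2, 0, 1, 1]]

/-- the powers of `X13`. -/
def pw13 : List (Matrix (Fin 7) (Fin 7) K3) := [!![1, 0, 0, 0, 0, 0, 0; 0, 1, 0, 0, 0, 0, 0; 0, 0, 1, 0, 0, 0, 0; 0, 0, 0, 1, 0, 0, 0; 0, 0, 0, 0, 1, 0, 0; 0, 0, 0, 0, 0, 1, 0; 0, 0, 0, 0, 0, 0, 1],
  !![1, 0, 2, 0, 0, 0, 0; 0, 1, 0, 0, 2, 0, 0; 0, 1, 1, 2, 2, 0, 2; 0, 2, 0, 1, 1, 0, 1; 2, 0, 2, 0, 1, 1, 0; 2, 0, 2, 0, 0, 1, 0; 0, 0, 0, 0, 1, 0, 1],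
  !![1, 2, 1, 1, 1, 0, 1; 1, 1, 1, 0, 1, 2, 0; 1, 0, 2, 1, 1, 2, 0; 2, 1, 2, 1, 1, 1, 2; 0, 2, 1, 1, 2, 2, 1; 1, 2, 2, 1, 1, 1, 1; 2, 0, 2, 0, 2, 1, 1],
  !![0, 2, 2, 0, 0, 1, 1; 1, 2, 0, 2, 2, 0, 2; 1, 1, 1, 2, 0, 0, 2; 0, 2, 1, 2, 1, 2, 1; 2, 2, 0, 0, 1, 1, 1; 2, 0, 2, 2, 2, 2, 0; 2, 2, 0, 1, 1, 0, 2],
  !![2, 1, 1, 1, 0, 1, 2; 2, 0, 0, 2, 1, 2, 1; 1, 0, 0, 1, 2, 0, 0; 0, 1, 1, 1, 1, 0, 2; 0, 2, 2, 0, 0, 2, 1; 1, 0, 2, 0, 2, 1, 0; 1, 1, 0, 1, 2, 1, 0],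
  !![1, 1, 1, 0, 1, 1, 2; 2, 1, 1, 2, 1, 0, 0; 2, 2, 0, 1, 0, 2, 1; 2, 1, 0, 0, 2, 1, 2; 1, 1, 0, 1, 0, 2, 2; 1, 2, 1, 1, 0, 0, 1; 1, 0, 2, 1, 2, 0, 1],
  !![2, 2, 1, 2, 1, 2, 1; 1, 0, 1, 1, 1, 1, 1; 0, 1, 2, 1, 0, 2, 2; 2, 1, 1, 0, 0, 0, 2; 2, 0, 0, 1, 2, 2, 0; 1, 2, 0, 0, 2, 0, 1; 2, 1, 2, 2, 2, 2, 0],
  !![2, 1, 2, 1, 1, 0, 2; 2, 0, 1, 0, 2, 2, 1; 1, 2, 0, 2, 0, 2, 1; 2, 2, 2, 2, 0, 0, 1; 1, 2, 0, 1, 0, 1, 1; 2, 2, 0, 0, 1, 2, 1; 1, 1, 2, 0, 1, 1, 0],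
  !![1, 2, 2, 2, 1, 1, 1; 1, 1, 1, 2, 2, 1, 0; 2, 0, 0, 2, 1, 2, 0; 2, 2, 0, 0, 2, 0, 1; 0, 1, 1, 1, 0, 1, 2; 2, 2, 1, 0, 0, 0, 1; 2, 0, 2, 1, 1, 2, 1],
  !![2, 2, 2, 0, 0, 2, 1; 1, 0, 0, 1, 2, 0, 1; 2, 1, 1, 2, 0, 0, 2; 0, 2, 2, 0, 1, 2, 1; 2, 1, 0, 0, 1, 1, 2; 2, 0, 2, 2, 1, 0, 0; 2, 1, 0, 2, 1, 0, 0],
  !![0, 1, 1, 1, 0, 2, 2; 2, 2, 0, 1, 1, 2, 2; 2, 0, 2, 1, 2, 0, 0; 0, 1, 2, 1, 1, 0, 2; 0, 1, 2, 0, 2, 2, 2; 1, 0, 2, 0, 1, 1, 0; 1, 2, 0, 2, 2, 1, 2],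
  !![1, 1, 2, 0, 1, 2, 2; 2, 1, 1, 1, 2, 0, 0; 0, 1, 1, 2, 1, 2, 2; 2, 2, 1, 2, 1, 1, 1; 2, 0, 1, 1, 1, 1, 0; 2, 2, 2, 1, 2, 2, 1; 1, 0, 2, 2, 1, 0, 1],
  !![1, 0, 1, 1, 0, 0, 0; 0, 1, 0, 0, 1, 2, 0; 0, 0, 1, 1, 0, 0, 0; 0, 1, 0, 1, 1, 2, 2; 0, 0, 0, 0, 1, 2, 0; 1, 0, 2, 2, 0, 1, 0; 0, 0, 0, 0, 2, 1, 1]]

def Kinv7 : Matrix (Fin 7) (Fin 7) K3 := !![1, 2, 2, 0, 2, 2, 2; 0, 2, 0, 2, 0, 2, 0; 0, 2, 0, 2, 0, 0, 0; 0, 1, 1, 2, 2, 1, 1; 0, 0, 2, 0, 0, 0, 1; 0, 0, 0, 0, 2, 0, 1; 0, 2, 1, 2, 2, 0, 1]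

def Kinv13 : Matrix (Fin 7) (Fin 7) K3 := !![2, 1, 2, 0, 2, 0, 0; 0, 0, 2, 1, 1, 0, 0; 1, 0, 0, 0, 0, 1, 2; 2, 0, 0, 0, 1, 0, 2; 2, 0, 2, 2, 2, 1, 2; 2, 0, 2, 2, 1, 2, 0; 0, 0, 1, 1, 2, 2, 1]

set_option maxRecDepth 100000 in
lemma pw7_eq : ∀ j : Fin 7, pw7.getD j.val 0 = X7 ^ j.val := by decide +kernel

set_option maxRecDepth 100000 in
lemma pw13_eq : ∀ j : Fin 13, pw13.getD j.val 0 = X13 ^ j.val := by decide +kernel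

set_option maxRecDepth 100000 in
lemma X7_pow : X7 ^ 7 = 1 ∧ X7 ≠ 1 := by decide +kernel

set_option maxRecDepth 100000 in
lemma X13_pow : X13 ^ 13 = 1 ∧ X13 ≠ 1 := by decide +kernel

end Cfsg.Agent.Helper15.G23
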