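import Mathlib
import Cfsg.Agent.Lib.Helper15.G23b

set_option autoImplicit false

/-!
# `G₂(3)` and `PSL₂(13)` have the same prime graph: the prime graph of `G₂(3)` (helper15)
-/

namespace Cfsg.Agent.Helper15.G23

open Cfsg Cfsg.Lie Matrix

def x6 : Γ3 := elt w6

def x7 : Γ3 := elt w7

def x13 : Γ3 := elt w13

lemma ρ_x7 : ρ x7 = X7 := by rw [x7, ρ_elt, ρ_w7]

lemma ρ_x13 : ρ x13 = X13 := by rw [x13, ρ_elt, ρ_w13]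

lemma ρ_injective : Function.Injective ρ := by
  have hs : IsSimpleGroup Γ3 :=
    (Cfsg.Agent.S1055.result (F := K3) ⟨2, by decide, by decide⟩).1
  rw [← MonoidHom.ker_eq_bot_iff]
  rcases hs.eq_bot_or_eq_top_of_normal ρ.ker (MonoidHom.normal_ker ρ) with h | h
  · exact h
  · exfalso
    have : x7 ∈ ρ.ker := by rw [h]; exact Subgroup.mem_top _
    rw [MonoidHom.mem_ker, ρ_x7] at this
    exact X7_pow.2 this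

def e7 (i : Fin 7) : Fin 7 → K3 := Pi.single i 1

def P7 (j : Fin 7) : Matrix (Fin 7) (Fin 7) K3 := pw7.getD j.val 0

def P13 (j : Fin 7) : Matrix (Fin 7) (Fin 7) K3 := pw13.getD j.val 0

lemma P7_eq (j : Fin 7) : P7 j = X7 ^ j.val := pw7_eq j

lemma P13_eq (j : Fin 7) : P13 j = X13 ^ j.val :=
  pw13_eq ⟨j.val, lt_of_lt_of_le j.2 (by norm_num)⟩

set_option maxRecDepth 100000 in
lemma hK7 : (Matrix.of fun (i j : Fin 7) => ((P7 j) *ᵥ e7 0) i) * Kinv7 = 1 := by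
  decide +kernel

set_option maxRecDepth 100000 in
lemma hK13 : (Matrix.of fun (i j : Fin 7) => ((P13 j) *ᵥ e7 1) i) * Kinv13 = 1 := by
  decide +kernel

lemma vec7_eta (w : Fin 7 → K3) : w = ![w 0, w 1, w 2, w 3, w 4, w 5, w 6] := by
  funext i
  fin_cases i <;> rfl

/-! ### the polynomial matrices of the tests -/

def k7a : Fin 7 → K3 := ![2, 2, 0, 1, 0, 0, 0]

def M7a : Matrix (Fin 7) (Fin 7) K3 := !![0, 0, 0, 0, 2, 1, 1; 0, 2, 2, 1, 0, 2, 0; 0, 2, 1, 0, 1, 0, 0; 0, 0, 0, 1, 1, 0, 2; 0, 1, 0, 1, 1, 1, 0; 1, 2, 0, 0, 2, 2, 2; 0, 0, 1, 0, 2, 1, 1]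

def z7a : Fin 7 → K3 := ![1, 1, 0, 2, 0, 0, 0]

def Z7a : Matrix (Fin 7) (Fin 7) K3 := !![0, 0, 0, 0, 1, 2, 2; 0, 1, 1, 2, 0, 1, 0; 0, 1, 2, 0, 2, 0, 0; 0, 0, 0, 2, 2, 0, 1; 0, 2, 0, 2, 2, 2, 0; 2, 1, 0, 0, 1, 1, 1; 0, 0, 2, 0, 1, 2, 2]

def k13a : Fin 7 → K3 := ![2, 2, 0, 0, 2, 2, 1]

def M13a : Matrix (Fin 7) (Fin 7) K3 := !![0, 0, 0, 1, 0, 0, 0; 0, 0, 0, 0, 0, 2, 0; 0, 1, 0, 0, 2, 0, 2; 0, 0, 0, 0, 2, 2, 0; 2, 0, 2, 0, 0, 0, 0; 0, 0, 1, 2, 0, 0, 0; 0, 0, 0, 0, 0, 1, 0]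

def z13a : Fin 7 → K3 := ![0, 0, 0, 0, 0, 0, 0]

def Z13a : Matrix (Fin 7) (Fin 7) K3 := !![0, 0, 0, 0, 0, 0, 0; 0, 0, 0, 0, 0, 0, 0; 0, 0, 0, 0, 0, 0, 0; 0, 0, 0, 0, 0, 0, 0; 0, 0, 0, 0, 0, 0, 0; 0, 0, 0, 0, 0, 0, 0; 0, 0, 0, 0, 0, 0, 0]

def k13b : Fin 7 → K3 := ![2, 0, 1, 2, 2, 2, 0]

def M13b : Matrix (Fin 7) (Fin 7) K3 := !![0, 1, 0, 0, 0, 0, 2; 2, 0, 0, 0, 0, 0, 0; 0, 0, 0, 0, 2, 0, 0; 0, 0, 0, 0, 0, 1, 0; 0, 0, 2, 0, 0, 0, 0; 0, 0, 0, 1, 0, 0, 0; 1, 0, 0, 0, 0, 0, 0]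

def z13b : Fin 7 → K3 := ![1, 0, 0, 0, 0, 0, 0]

def Z13b : Matrix (Fin 7) (Fin 7) K3 := !![1, 0, 0, 0, 0, 0, 0; 0, 1, 0, 0, 0, 0, 0; 0, 0, 1, 0, 0, 0, 0; 0, 0, 0, 1, 0, 0, 0; 0, 0, 0, 0, 1, 0, 0; 0, 0, 0, 0, 0, 1, 0; 0, 0, 0, 0, 0, 0, 1]

set_option maxRecDepth 100000 in
lemma M7a_eq : M7a = ∑ j, k7a j • P7 j := by decide +kernel

set_option maxRecDepth 100000 in
lemma Z7a_eq : Z7a = ∑ j, z7a j • P7 j := by decide +kernel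

set_option maxRecDepth 100000 in
lemma M13a_eq : M13a = ∑ j, k13a j • P13 j := by decide +kernel

set_option maxRecDepth 100000 in
lemma Z13a_eq : Z13a = ∑ j, z13a j • P13 j := by decide +kernel

set_option maxRecDepth 100000 in
lemma M13b_eq : M13b = ∑ j, k13b j • P13 j := by decide +kernel

set_option maxRecDepth 100000 in
lemma Z13b_eq : Z13b = ∑ j, z13b j • P13 j := by decide +kernel

set_option maxRecDepth 100000 in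
lemma M7a_v0 : M7a *ᵥ e7 0 = e7 5 ∧ Z7a *ᵥ e7 0 = br7 (e7 0) (e7 5) := by decide +kernel

set_option maxRecDepth 100000 in
lemma M13a_v0 : M13a *ᵥ e7 1 = e7 2 ∧ Z13a *ᵥ e7 1 = br7 (e7 1) (e7 2) := by
  decide +kernel

set_option maxRecDepth 100000 in
lemma M13b_v0 : M13b *ᵥ e7 1 = e7 0 ∧ Z13b *ᵥ e7 1 = br7 (e7 1) (e7 0) := by
  decide +kernel

set_option maxRecDepth 100000 in
lemma cent7 : ∀ w0 w1 w2 w3 w4 w5 w6 : K3,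
    br7 ![w0, w1, w2, w3, w4, w5, w6] (M7a *ᵥ ![w0, w1, w2, w3, w4, w5, w6]) =
        Z7a *ᵥ ![w0, w1, w2, w3, w4, w5, w6] →
      (![w0, w1, w2, w3, w4, w5, w6] : Fin 7 → K3) = 0 ∨
        ∃ j : Fin 7, (![w0, w1, w2, w3, w4, w5, w6] : Fin 7 → K3) = (pw7.getD j.val 0) *ᵥ e7 0 := by
  decide +kernel

set_option maxRecDepth 100000 in
lemma cent13 : ∀ w0 w1 w2 w3 w4 w5 w6 : K3,
    br7 ![w0, w1, w2, w3, w4, w5, w6] (M13a *ᵥ ![w0, w1, w2, w3, w4, w5, w6]) =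
        Z13a *ᵥ ![w0, w1, w2, w3, w4, w5, w6] →
    br7 ![w0, w1, w2, w3, w4, w5, w6] (M13b *ᵥ ![w0, w1, w2, w3, w4, w5, w6]) =
        Z13b *ᵥ ![w0, w1, w2, w3, w4, w5, w6] →
      (![w0, w1, w2, w3, w4, w5, w6] : Fin 7 → K3) = 0 ∨
        ∃ j : Fin 13, (![w0, w1, w2, w3, w4, w5, w6] : Fin 7 → K3) =
          (pw13.getD j.val 0) *ᵥ e7 1 := by
  decide +kernel

end Cfsg.Agent.Helper15.G23
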