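import Mathlib
import Cfsg.Agent.Lib.Helper15.G23c

set_option autoImplicit false

/-!
# `G₂(3)` and `PSL₂(13)` have the same prime graph: the prime graph of `G₂(3)` (helper15)
-/

namespace Cfsg.Agent.Helper15.G23

open Cfsg Cfsg.Lie Matrix

lemma e7_ne_zero (i : Fin 7) : e7 i ≠ 0 := by
  intro h
  have h1 := congrFun h i
  rw [e7, Pi.single_eq_same] at h1
  exact one_ne_zero h1

/-- a matrix of the group has no nonzero vector in its kernel. -/
lemma ρ_mulVec_ne_zero (c : Γ3) (v : Fin 7 → K3) (hv : v ≠ 0) : ρ c *ᵥ v ≠ 0 := by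
  intro h
  apply hv
  have h1 : ρ c⁻¹ * ρ c = 1 := by rw [← map_mul, inv_mul_cancel, map_one]
  calc v = (1 : Matrix (Fin 7) (Fin 7) K3) *ᵥ v := (Matrix.one_mulVec v).symm
    _ = (ρ c⁻¹ * ρ c) *ᵥ v := by rw [h1]
    _ = ρ c⁻¹ *ᵥ (ρ c *ᵥ v) := (Matrix.mulVec_mulVec v _ _).symm
    _ = 0 := by rw [h, Matrix.mulVec_zero]

/-- the element of order 7 is self-centralising. -/
theorem cent_x7 (c : Γ3) (hc : c * x7 = x7 * c) : c ∈ Subgroup.zpowers x7 := by
  have hcX : ρ c * X7 = X7 * ρ c := by rw [← ρ_x7, ← map_mul, ← map_mul, hc]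
  have hCM : ρ c * M7a = M7a * ρ c := by
    rw [M7a_eq]; exact commute_poly X7 (ρ c) P7 P7_eq hcX k7a
  have hCZ : ρ c * Z7a = Z7a * ρ c := by
    rw [Z7a_eq]; exact commute_poly X7 (ρ c) P7 P7_eq hcX z7a
  have htest := test_of_pres br7 (ρ c) M7a Z7a (e7 0) (e7 5) (ρ_pres c) hCM hCZ M7a_v0.1
    M7a_v0.2
  have hw0 := ρ_mulVec_ne_zero c (e7 0) (e7_ne_zero 0)
  generalize hw : ρ c *ᵥ e7 0 = w at htest hw0
  rw [vec7_eta w] at htest
  rcases cent7 _ _ _ _ _ _ _ htest with h0 | ⟨j, hj⟩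
  · exfalso
    rw [← vec7_eta w] at h0
    exact hw0 h0
  · rw [← vec7_eta w] at hj
    have hCj : ρ c = X7 ^ j.val := by
      apply eq_of_cyclic X7 (ρ c) (X7 ^ j.val) Kinv7 (e7 0) P7 P7_eq hcX ?_ hK7 ?_
      · exact ((Commute.refl X7).pow_left j.val).eq
      · rw [hw, hj, pw7_eq]
    have : c = x7 ^ j.val := by
      apply ρ_injective
      rw [map_pow, ρ_x7, ← hCj]
    rw [this]
    exact Subgroup.pow_mem _ (Subgroup.mem_zpowers _) _

/-- the element of order 13 is self-centralising. -/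
theorem cent_x13 (c : Γ3) (hc : c * x13 = x13 * c) : c ∈ Subgroup.zpowers x13 := by
  have hcX : ρ c * X13 = X13 * ρ c := by rw [← ρ_x13, ← map_mul, ← map_mul, hc]
  have hCM : ρ c * M13a = M13a * ρ c := by
    rw [M13a_eq]; exact commute_poly X13 (ρ c) P13 P13_eq hcX k13a
  have hCZ : ρ c * Z13a = Z13a * ρ c := by
    rw [Z13a_eq]; exact commute_poly X13 (ρ c) P13 P13_eq hcX z13a
  have hCM' : ρ c * M13b = M13b * ρ c := by
    rw [M13b_eq]; exact commute_poly X13 (ρ c) P13 P13_eq hcX k13b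
  have hCZ' : ρ c * Z13b = Z13b * ρ c := by
    rw [Z13b_eq]; exact commute_poly X13 (ρ c) P13 P13_eq hcX z13b
  have htest := test_of_pres br7 (ρ c) M13a Z13a (e7 1) (e7 2) (ρ_pres c) hCM hCZ M13a_v0.1
    M13a_v0.2
  have htest' := test_of_pres br7 (ρ c) M13b Z13b (e7 1) (e7 0) (ρ_pres c) hCM' hCZ'
    M13b_v0.1 M13b_v0.2
  have hw0 := ρ_mulVec_ne_zero c (e7 1) (e7_ne_zero 1)
  generalize hw : ρ c *ᵥ e7 1 = w at htest htest' hw0
  rw [vec7_eta w] at htest htest'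
  rcases cent13 _ _ _ _ _ _ _ htest htest' with h0 | ⟨j, hj⟩
  · exfalso
    rw [← vec7_eta w] at h0
    exact hw0 h0
  · rw [← vec7_eta w] at hj
    have hCj : ρ c = X13 ^ j.val := by
      apply eq_of_cyclic X13 (ρ c) (X13 ^ j.val) Kinv13 (e7 1) P13 P13_eq hcX ?_ hK13 ?_
      · exact ((Commute.refl X13).pow_left j.val).eq
      · rw [hw, hj, pw13_eq]
    have : c = x13 ^ j.val := by
      apply ρ_injective
      rw [map_pow, ρ_x13, ← hCj]
    rw [this]
    exact Subgroup.pow_mem _ (Subgroup.mem_zpowers _) _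

lemma order_x7 : orderOf x7 = 7 := by
  have : Fact (Nat.Prime 7) := ⟨by norm_num⟩
  apply orderOf_eq_prime
  · apply ρ_injective
    rw [map_pow, ρ_x7, map_one]
    exact X7_pow.1
  · intro h
    apply X7_pow.2
    rw [← ρ_x7, h, map_one]

lemma order_x13 : orderOf x13 = 13 := by
  have : Fact (Nat.Prime 13) := ⟨by norm_num⟩
  apply orderOf_eq_prime
  · apply ρ_injective
    rw [map_pow, ρ_x13, map_one]
    exact X13_pow.1
  · intro h
    apply X13_pow.2
    rw [← ρ_x13, h, map_one]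

lemma card_Γ3 : Nat.card Γ3 = 4245696 := by
  have h1 := Cfsg.Agent.S1059.result (F := K3) (q := 3) (ZMod.card 3)
  rw [h1]
  norm_num

instance : Finite Γ3 := Nat.finite_of_card_ne_zero (by rw [card_Γ3]; norm_num)

theorem no7 (s : ℕ) (hs : s.Prime) (hs7 : s ≠ 7) (g : Γ3) : orderOf g ≠ 7 * s := by
  intro hg
  have : Fact (Nat.Prime 7) := ⟨by norm_num⟩
  exact no_order_mul' 7 606528 (by rw [card_Γ3]) (by norm_num) x7 order_x7 cent_x7 s hs hs7 g hg

theorem no13 (s : ℕ) (hs : s.Prime) (hs13 : s ≠ 13) (g : Γ3) : orderOf g ≠ 13 * s := by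
  intro hg
  have : Fact (Nat.Prime 13) := ⟨by norm_num⟩
  exact no_order_mul' 13 326592 (by rw [card_Γ3]) (by norm_num) x13 order_x13 cent_x13 s hs hs13
    g hg

def X6 : Matrix (Fin 7) (Fin 7) K3 := !![2, 0, 1, 0, 0, 0, 0; 0, 1, 0, 2, 0, 0, 0; 1, 0, 1, 0, 0, 2, 0; 0, 1, 0, 0, 0, 0, 0; 0, 0, 0, 0, 1, 0, 1; 0, 0, 2, 0, 0, 0, 0; 0, 0, 0, 0, 2, 0, 0]

set_option maxRecDepth 100000 in
lemma ρ_w6 : res ι7 (chevG2.wordMat K3 w6) = X6 := by decide +kernel

set_option maxRecDepth 100000 in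
lemma X6_pow : X6 ^ 6 = 1 ∧ X6 ^ 3 ≠ 1 ∧ X6 ^ 2 ≠ 1 := by decide +kernel

lemma ρ_x6 : ρ x6 = X6 := by rw [x6, ρ_elt, ρ_w6]

lemma order_x6 : orderOf x6 = 6 := by
  apply orderOf_eq_of_pow_and_pow_div_prime (by norm_num)
  · apply ρ_injective
    rw [map_pow, ρ_x6, map_one]
    exact X6_pow.1
  · intro p hp hp6
    have h23 : p = 2 ∨ p = 3 := by
      have : p ∣ 2 * 3 := hp6
      rcases (Nat.Prime.dvd_mul hp).1 this with h | h
      · exact Or.inl ((Nat.prime_dvd_prime_iff_eq hp Nat.prime_two).1 h)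
      · exact Or.inr ((Nat.prime_dvd_prime_iff_eq hp Nat.prime_three).1 h)
    intro h1
    have h2 : X6 ^ (6 / p) = 1 := by
      rw [← ρ_x6, ← map_pow, h1, map_one]
    rcases h23 with rfl | rfl
    · exact X6_pow.2.1 h2
    · exact X6_pow.2.2 h2

lemma prime_cases {p : ℕ} (hp : p.Prime) (h : p ∣ 4245696) :
    p = 2 ∨ p = 3 ∨ p = 7 ∨ p = 13 := by
  have e : 4245696 = 2 ^ 6 * 3 ^ 6 * 7 * 13 := by norm_num
  rw [e] at h
  rcases (Nat.Prime.dvd_mul hp).1 h with h | h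
  · rcases (Nat.Prime.dvd_mul hp).1 h with h | h
    · rcases (Nat.Prime.dvd_mul hp).1 h with h | h
      · left
        exact (Nat.prime_dvd_prime_iff_eq hp Nat.prime_two).1 (hp.dvd_of_dvd_pow h)
      · right; left
        exact (Nat.prime_dvd_prime_iff_eq hp Nat.prime_three).1 (hp.dvd_of_dvd_pow h)
    · right; right; left
      exact (Nat.prime_dvd_prime_iff_eq hp (by norm_num)).1 h
  · right; right; right
    exact (Nat.prime_dvd_prime_iff_eq hp (by norm_num)).1 h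

/-- the prime graph of `G₂(3)`: the only edge joins 2 and 3. -/
theorem g23_graph (r s : ℕ) (hr : r.Prime) (hs : s.Prime) (hrs : r ≠ s) :
    (∃ g : Γ3, orderOf g = r * s) ↔ r * s = 6 := by
  constructor
  · rintro ⟨g, hg⟩
    have hdvd : r * s ∣ 4245696 := by
      rw [← card_Γ3, ← hg]
      exact orderOf_dvd_natCard g
    have hr' := prime_cases hr (dvd_trans (dvd_mul_right r s) hdvd)
    have hs' := prime_cases hs (dvd_trans (dvd_mul_left s r) hdvd)
    by_cases h7 : r = 7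
    · subst h7
      exact absurd hg (no7 s hs hrs.symm g)
    by_cases h7' : s = 7
    · subst h7'
      rw [mul_comm] at hg
      exact absurd hg (no7 r hr hrs g)
    by_cases h13 : r = 13
    · subst h13
      exact absurd hg (no13 s hs hrs.symm g)
    by_cases h13' : s = 13
    · subst h13'
      rw [mul_comm] at hg
      exact absurd hg (no13 r hr hrs g)
    rcases hr' with rfl | rfl | rfl | rfl <;> rcases hs' with rfl | rfl | rfl | rfl <;>
      simp_all
  · intro h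
    exact ⟨x6, by rw [order_x6, h]⟩

end Cfsg.Agent.Helper15.G23
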