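import Mathlib
import Cfsg.Agent.Lib.Helper2.CardSL

set_option autoImplicit false

/-!
# `G₂(3)` and `PSL₂(13)` have the same prime graph: the prime graph of `PSL₂(13)` (helper15)

Every element of `PSL₂(13)` has order dividing 6, 7 or 13 (powers of a matrix of determinant one
are given by its trace), and there is an element of order 6.
-/

namespace Cfsg.Agent.Helper15.G23

open Matrix

section Cheb

variable {R : Type*} [CommRing R]

/-- the coefficients of `A ^ n = u • A + v • 1` when `A * A = t • A - 1`. -/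
def cheb (t : R) : ℕ → R × R
  | 0 => (0, 1)
  | n + 1 => (t * (cheb t n).1 + (cheb t n).2, -(cheb t n).1)

lemma pow_eq_cheb (A : Matrix (Fin 2) (Fin 2) R) (t : R) (h : A * A = t • A - 1) (n : ℕ) :
    A ^ n = (cheb t n).1 • A + (cheb t n).2 • (1 : Matrix (Fin 2) (Fin 2) R) := by
  induction n with
  | zero => simp [cheb]
  | succ n ih =>
    rw [pow_succ, ih, cheb]
    simp only [add_mul, smul_mul_assoc, one_mul, h, smul_sub, smul_smul]
    module

lemma cheb_map {S : Type*} [CommRing S] (φ : R →+* S) (t : R) (n : ℕ) :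
    cheb (φ t) n = (φ (cheb t n).1, φ (cheb t n).2) := by
  induction n with
  | zero => simp [cheb]
  | succ n ih => simp [cheb, ih]

lemma cayley_two (A : Matrix (Fin 2) (Fin 2) R) (hdet : A.det = 1) :
    A * A = (A 0 0 + A 1 1) • A - 1 := by
  rw [Matrix.det_fin_two] at hdet
  ext i j
  fin_cases i <;> fin_cases j <;>
    simp [Matrix.mul_apply, Fin.sum_univ_two] <;>
    first | ring1 | linear_combination (-1 : R) * hdet

end Cheb

lemma cheb13 : ∀ t : ZMod 13,
    (cheb t 6 = (0, 1) ∨ cheb t 6 = (0, -1)) ∨ (cheb t 7 = (0, 1) ∨ cheb t 7 = (0, -1)) ∨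
      (cheb t 13 = (0, 1) ∨ cheb t 13 = (0, -1)) := by
  decide

section PSL

variable {E : Type*} [Field E] [Fintype E]

/-- an element of `SL₂` whose matrix is `±1` is central. -/
lemma mem_center_of_coe (B : SpecialLinearGroup (Fin 2) E) (ε : E) (hε : ε = 1 ∨ ε = -1)
    (h : (B : Matrix (Fin 2) (Fin 2) E) = ε • (1 : Matrix (Fin 2) (Fin 2) E)) :
    B ∈ Subgroup.center (SpecialLinearGroup (Fin 2) E) := by
  rw [Matrix.SpecialLinearGroup.mem_center_iff]
  refine ⟨ε, ?_, ?_⟩
  · rw [Fintype.card_fin]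
    rcases hε with rfl | rfl <;> simp
  · rw [h]
    ext i j
    simp [Matrix.scalar_apply, Matrix.diagonal_apply, Matrix.one_apply]

lemma psl_pow_eq_one (A : SpecialLinearGroup (Fin 2) E) (n : ℕ) (ε : E) (hε : ε = 1 ∨ ε = -1)
    (h : cheb ((A : Matrix (Fin 2) (Fin 2) E) 0 0 + (A : Matrix (Fin 2) (Fin 2) E) 1 1) n = (0, ε)) :
    (QuotientGroup.mk A : Matrix.ProjectiveSpecialLinearGroup (Fin 2) E) ^ n = 1 := by
  change (QuotientGroup.mk A : SpecialLinearGroup (Fin 2) E ⧸
    Subgroup.center (SpecialLinearGroup (Fin 2) E)) ^ n = 1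
  rw [← QuotientGroup.mk_pow, QuotientGroup.eq_one_iff]
  apply mem_center_of_coe (A ^ n) ε hε
  rw [Matrix.SpecialLinearGroup.coe_pow,
    pow_eq_cheb _ _ (cayley_two _ A.det_coe) n, h]
  simp

variable (hE : Fintype.card E = 13)

include hE in
/-- every element of `PSL₂(13)` has order dividing 6, 7 or 13. -/
theorem psl_pow (y : Matrix.ProjectiveSpecialLinearGroup (Fin 2) E) :
    y ^ 6 = 1 ∨ y ^ 7 = 1 ∨ y ^ 13 = 1 := by
  obtain ⟨A, rfl⟩ := QuotientGroup.mk_surjective y
  have h13 : Nat.Prime 13 := by norm_num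
  let φ : ZMod 13 ≃+* E := ZMod.ringEquivOfPrime E h13 hE
  set t := (A : Matrix (Fin 2) (Fin 2) E) 0 0 + (A : Matrix (Fin 2) (Fin 2) E) 1 1 with ht
  have hk : t = φ (φ.symm t) := (φ.apply_symm_apply t).symm
  have hmap : ∀ n, cheb t n = (φ (cheb (φ.symm t) n).1, φ (cheb (φ.symm t) n).2) := by
    intro n
    rw [hk]
    have := cheb_map (φ : ZMod 13 →+* E) (φ.symm t) n
    simpa using this
  have key : ∀ n, (cheb (φ.symm t) n = (0, 1) ∨ cheb (φ.symm t) n = (0, -1)) →
      (QuotientGroup.mk A : Matrix.ProjectiveSpecialLinearGroup (Fin 2) E) ^ n = 1 := by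
    intro n hn
    rcases hn with hn | hn
    · apply psl_pow_eq_one A n 1 (Or.inl rfl)
      rw [← ht, hmap n, hn]
      simp
    · apply psl_pow_eq_one A n (-1) (Or.inr rfl)
      rw [← ht, hmap n, hn]
      simp
  rcases cheb13 (φ.symm t) with h | h | h
  · exact Or.inl (key 6 h)
  · exact Or.inr (Or.inl (key 7 h))
  · exact Or.inr (Or.inr (key 13 h))

/-- the diagonal matrix with entries 2 and 7 over `ZMod 13`. -/
def A6 : SpecialLinearGroup (Fin 2) (ZMod 13) := ⟨!![2, 0; 0, 7], by decide⟩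

lemma A6_facts : ((A6 ^ 6 : SpecialLinearGroup (Fin 2) (ZMod 13)) : Matrix (Fin 2) (Fin 2) (ZMod 13))
      = (-1 : ZMod 13) • (1 : Matrix (Fin 2) (Fin 2) (ZMod 13)) ∧
    ((A6 ^ 2 : SpecialLinearGroup (Fin 2) (ZMod 13)) : Matrix (Fin 2) (Fin 2) (ZMod 13)) 0 0 ≠
      ((A6 ^ 2 : SpecialLinearGroup (Fin 2) (ZMod 13)) : Matrix (Fin 2) (Fin 2) (ZMod 13)) 1 1 ∧
    ((A6 ^ 3 : SpecialLinearGroup (Fin 2) (ZMod 13)) : Matrix (Fin 2) (Fin 2) (ZMod 13)) 0 0 ≠
      ((A6 ^ 3 : SpecialLinearGroup (Fin 2) (ZMod 13)) : Matrix (Fin 2) (Fin 2) (ZMod 13)) 1 1 := by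
  decide

include hE in
/-- an element of order 6 of `PSL₂(13)`. -/
theorem psl_exists_six : ∃ y : Matrix.ProjectiveSpecialLinearGroup (Fin 2) E, orderOf y = 6 := by
  have h13 : Nat.Prime 13 := by norm_num
  let φ : ZMod 13 ≃+* E := ZMod.ringEquivOfPrime E h13 hE
  let f : SpecialLinearGroup (Fin 2) (ZMod 13) →* SpecialLinearGroup (Fin 2) E :=
    Matrix.SpecialLinearGroup.map (φ : ZMod 13 →+* E)
  have hcoe : ∀ B : SpecialLinearGroup (Fin 2) (ZMod 13), ∀ i j,
      ((f B : SpecialLinearGroup (Fin 2) E) : Matrix (Fin 2) (Fin 2) E) i j =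
        φ ((B : Matrix (Fin 2) (Fin 2) (ZMod 13)) i j) := by
    intro B i j
    rfl
  have hne : ∀ n : ℕ, ((A6 ^ n : SpecialLinearGroup (Fin 2) (ZMod 13)) :
      Matrix (Fin 2) (Fin 2) (ZMod 13)) 0 0 ≠
      ((A6 ^ n : SpecialLinearGroup (Fin 2) (ZMod 13)) : Matrix (Fin 2) (Fin 2) (ZMod 13)) 1 1 →
      (QuotientGroup.mk (f A6) : Matrix.ProjectiveSpecialLinearGroup (Fin 2) E) ^ n ≠ 1 := by
    intro n hn h1
    change (QuotientGroup.mk (f A6) : SpecialLinearGroup (Fin 2) E ⧸
      Subgroup.center (SpecialLinearGroup (Fin 2) E)) ^ n = 1 at h1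
    rw [← QuotientGroup.mk_pow, QuotientGroup.eq_one_iff, ← map_pow,
      Matrix.SpecialLinearGroup.mem_center_iff] at h1
    obtain ⟨r, -, hr⟩ := h1
    have h00 := congrFun (congrFun hr 0) 0
    have h11 := congrFun (congrFun hr 1) 1
    rw [hcoe] at h00 h11
    simp only [Matrix.scalar_apply, Matrix.diagonal_apply_eq] at h00 h11
    exact hn (φ.injective (h00.symm.trans h11))
  refine ⟨QuotientGroup.mk (f A6), ?_⟩
  apply orderOf_eq_of_pow_and_pow_div_prime (by norm_num)
  · change (QuotientGroup.mk (f A6) : SpecialLinearGroup (Fin 2) E ⧸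
      Subgroup.center (SpecialLinearGroup (Fin 2) E)) ^ 6 = 1
    rw [← QuotientGroup.mk_pow, QuotientGroup.eq_one_iff, ← map_pow]
    apply mem_center_of_coe _ (-1) (Or.inr rfl)
    ext i j
    rw [hcoe, A6_facts.1]
    simp only [Matrix.smul_apply, Matrix.one_apply, smul_eq_mul, map_mul, map_neg, map_one]
    split_ifs <;> simp
  · intro p hp hp6
    have h23 : p = 2 ∨ p = 3 := by
      have : p ∣ 2 * 3 := hp6
      rcases (Nat.Prime.dvd_mul hp).1 this with h | h
      · exact Or.inl ((Nat.prime_dvd_prime_iff_eq hp Nat.prime_two).1 h)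
      · exact Or.inr ((Nat.prime_dvd_prime_iff_eq hp Nat.prime_three).1 h)
    rcases h23 with rfl | rfl
    · exact hne 3 A6_facts.2.2
    · exact hne 2 A6_facts.2.1

include hE in
lemma card_psl13 : Nat.card (Matrix.ProjectiveSpecialLinearGroup (Fin 2) E) = 1092 := by
  have h := Cfsg.Agent.Helper2.card_PSL_mul (F := E) 2 (by norm_num)
  rw [hE, Fin.prod_univ_two] at h
  generalize Nat.card (Matrix.ProjectiveSpecialLinearGroup (Fin 2) E) = c at h ⊢
  norm_num at h
  omega

lemma prime_cases_psl {p : ℕ} (hp : p.Prime) (h : p ∣ 1092) :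
    p = 2 ∨ p = 3 ∨ p = 7 ∨ p = 13 := by
  have e : 1092 = 2 ^ 2 * 3 * 7 * 13 := by norm_num
  rw [e] at h
  rcases (Nat.Prime.dvd_mul hp).1 h with h | h
  · rcases (Nat.Prime.dvd_mul hp).1 h with h | h
    · rcases (Nat.Prime.dvd_mul hp).1 h with h | h
      · left
        exact (Nat.prime_dvd_prime_iff_eq hp Nat.prime_two).1 (hp.dvd_of_dvd_pow h)
      · right; left
        exact (Nat.prime_dvd_prime_iff_eq hp Nat.prime_three).1 h
    · right; right; left
      exact (Nat.prime_dvd_prime_iff_eq hp (by norm_num)).1 h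
  · right; right; right
    exact (Nat.prime_dvd_prime_iff_eq hp (by norm_num)).1 h

include hE in
/-- the prime graph of `PSL₂(13)`: the only edge joins 2 and 3. -/
theorem psl_graph (r s : ℕ) (hr : r.Prime) (hs : s.Prime) (hrs : r ≠ s) :
    (∃ y : Matrix.ProjectiveSpecialLinearGroup (Fin 2) E, orderOf y = r * s) ↔ r * s = 6 := by
  constructor
  · rintro ⟨y, hy⟩
    have h2r := hr.two_le
    have h2s := hs.two_le
    have hnp : ∀ q : ℕ, q.Prime → ¬ r * s ∣ q := by
      intro q hq hd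
      rcases (Nat.dvd_prime hq).1 hd with h | h
      · nlinarith
      · have : r ∣ q := dvd_trans (dvd_mul_right r s) hd
        rcases (Nat.dvd_prime hq).1 this with h' | h'
        · omega
        · rw [h'] at h
          have : s = 1 := by
            have hq0 := hq.pos
            nlinarith
          omega
    rcases psl_pow hE y with h | h | h
    · have hd : r * s ∣ 6 := by rw [← hy]; exact orderOf_dvd_of_pow_eq_one h
      have hle : r * s ≤ 6 := Nat.le_of_dvd (by norm_num) hd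
      have hge : 6 ≤ r * s := by
        rcases Nat.lt_or_gt_of_ne hrs with h' | h'
        · have : 3 ≤ s := by omega
          nlinarith
        · have : 3 ≤ r := by omega
          nlinarith
      omega
    · exact absurd (by rw [← hy]; exact orderOf_dvd_of_pow_eq_one h) (hnp 7 (by norm_num))
    · exact absurd (by rw [← hy]; exact orderOf_dvd_of_pow_eq_one h) (hnp 13 (by norm_num))
  · intro h
    obtain ⟨y, hy⟩ := psl_exists_six hE
    exact ⟨y, by rw [hy, h]⟩

end PSL

end Cfsg.Agent.Helper15.G23
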