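import Mathlib
import Cfsg.Agent.Lib.Helper15.SylGen3

set_option autoImplicit false

/-!
# Identifying a quotient of a group with a permutation group on a family of points permuted
through an action (helper15)
-/

namespace Cfsg.Agent.Helper15.SylGen

section ActPerm

variable {Γ M X : Type*} [Group Γ] [Monoid M] (ι : Γ →* M) (act : M → X → X)
  (hone : ∀ x, act 1 x = x) (hmul : ∀ a b x, act (a * b) x = act a (act b x)) {m : ℕ}
  (Ω : Fin m → X)

/-- the elements permuting the family `Ω` through the action. -/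
def stabAct : Subgroup Γ where
  carrier := {g | ∃ σ : Equiv.Perm (Fin m), ∀ i, act (ι g) (Ω i) = Ω (σ i)}
  one_mem' := ⟨1, fun i => by rw [map_one, hone]; rfl⟩
  mul_mem' := by
    rintro g h ⟨σ, hσ⟩ ⟨τ, hτ⟩
    exact ⟨σ * τ, fun i => by rw [map_mul, hmul, hτ, hσ]; rfl⟩
  inv_mem' := by
    rintro g ⟨σ, hσ⟩
    refine ⟨σ⁻¹, fun i => ?_⟩
    have h := hσ (σ⁻¹ i)
    have e : σ (σ⁻¹ i) = i := by simp
    rw [e] at h
    rw [← h, ← hmul, ← map_mul, inv_mul_cancel, map_one, hone]

variable (hΩ : Function.Injective Ω)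

include hΩ in
lemma permAct_unique {g : Γ} {σ τ : Equiv.Perm (Fin m)}
    (hσ : ∀ i, act (ι g) (Ω i) = Ω (σ i)) (hτ : ∀ i, act (ι g) (Ω i) = Ω (τ i)) : σ = τ := by
  ext i
  exact congrArg _ (hΩ ((hσ i).symm.trans (hτ i)))

/-- the permutation representation on the family. -/
noncomputable def permAct : stabAct ι act hone hmul Ω →* Equiv.Perm (Fin m) where
  toFun g := Classical.choose g.2
  map_one' := by
    apply permAct_unique ι act Ω hΩ (g := 1)
      (Classical.choose_spec (1 : stabAct ι act hone hmul Ω).2)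
    intro i; rw [map_one, hone]; rfl
  map_mul' g h := by
    apply permAct_unique ι act Ω hΩ (g := (g * h : stabAct ι act hone hmul Ω))
      (Classical.choose_spec (g * h).2)
    intro i
    have hg := Classical.choose_spec g.2
    have hh := Classical.choose_spec h.2
    rw [Subgroup.coe_mul, map_mul, hmul, hh i, hg]
    rfl

lemma permAct_spec (g : stabAct ι act hone hmul Ω) (i : Fin m) :
    act (ι g) (Ω i) = Ω (permAct ι act hone hmul Ω hΩ g i) :=
  Classical.choose_spec g.2 i

lemma permAct_eq (g : stabAct ι act hone hmul Ω) (σ : Equiv.Perm (Fin m))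
    (hσ : ∀ i, act (ι g) (Ω i) = Ω (σ i)) : permAct ι act hone hmul Ω hΩ g = σ :=
  permAct_unique ι act Ω hΩ (permAct_spec ι act hone hmul Ω hΩ g) hσ

include hone hmul hΩ in
/-- a finite group `Γ` mapped to a monoid acting on a type, two of its elements permuting an
injective family `Ω` through `σ₁, σ₂`; if a normal subgroup `Z` fixing the family satisfies
`|Γ| ≤ |Z| |⟨σ₁, σ₂⟩|`, then `Γ ⧸ Z ≃* ⟨σ₁, σ₂⟩`. -/
theorem quot_equiv_closure_act [Finite Γ] (g1 g2 : Γ) (σ1 σ2 : Equiv.Perm (Fin m))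
    (h1 : ∀ i, act (ι g1) (Ω i) = Ω (σ1 i)) (h2 : ∀ i, act (ι g2) (Ω i) = Ω (σ2 i))
    (Z : Subgroup Γ) [Z.Normal] (hZc : ∀ z ∈ Z, ∀ i, act (ι z) (Ω i) = Ω i)
    (hcard : Nat.card Γ ≤
      Nat.card Z * Nat.card (Subgroup.closure ({σ1, σ2} : Set (Equiv.Perm (Fin m))))) :
    Nat.card Γ = Nat.card Z * Nat.card (Subgroup.closure ({σ1, σ2} : Set (Equiv.Perm (Fin m)))) ∧
    Nonempty (Γ ⧸ Z ≃* Subgroup.closure ({σ1, σ2} : Set (Equiv.Perm (Fin m)))) := by
  have hg1 : g1 ∈ stabAct ι act hone hmul Ω := ⟨σ1, h1⟩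
  have hg2 : g2 ∈ stabAct ι act hone hmul Ω := ⟨σ2, h2⟩
  have hZS : Z ≤ stabAct ι act hone hmul Ω := fun z hz => ⟨1, fun i => hZc z hz i⟩
  have hf1 : permAct ι act hone hmul Ω hΩ ⟨g1, hg1⟩ = σ1 :=
    permAct_eq ι act hone hmul Ω hΩ ⟨g1, hg1⟩ σ1 h1
  have hf2 : permAct ι act hone hmul Ω hΩ ⟨g2, hg2⟩ = σ2 :=
    permAct_eq ι act hone hmul Ω hΩ ⟨g2, hg2⟩ σ2 h2
  have hS : stabAct ι act hone hmul Ω = ⊤ := by
    have hker : Z.subgroupOf (stabAct ι act hone hmul Ω) ≤ (permAct ι act hone hmul Ω hΩ).ker := by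
      intro z hz
      rw [MonoidHom.mem_ker]
      exact permAct_eq ι act hone hmul Ω hΩ z 1 (hZc z.1 (Subgroup.mem_subgroupOf.mp hz))
    have hran : Subgroup.closure ({σ1, σ2} : Set (Equiv.Perm (Fin m)))
        ≤ (permAct ι act hone hmul Ω hΩ).range := by
      rw [Subgroup.closure_le]
      intro x hx
      rcases hx with rfl | rfl
      · exact ⟨⟨g1, hg1⟩, hf1⟩
      · exact ⟨⟨g2, hg2⟩, hf2⟩
    have hc1 : Nat.card (Z.subgroupOf (stabAct ι act hone hmul Ω)) = Nat.card Z :=
      Nat.card_congr (Subgroup.subgroupOfEquivOfLe hZS).toEquiv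
    have hfin : Finite (permAct ι act hone hmul Ω hΩ).range :=
      Finite.of_surjective (permAct ι act hone hmul Ω hΩ).rangeRestrict
        (permAct ι act hone hmul Ω hΩ).rangeRestrict_surjective
    have h3 : Nat.card (permAct ι act hone hmul Ω hΩ).ker
        * Nat.card (permAct ι act hone hmul Ω hΩ).range
        = Nat.card (stabAct ι act hone hmul Ω) := by
      rw [← Subgroup.index_ker]; exact Subgroup.card_mul_index _
    have h4 : Nat.card (Z.subgroupOf (stabAct ι act hone hmul Ω))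
        ≤ Nat.card (permAct ι act hone hmul Ω hΩ).ker := Subgroup.card_le_of_le hker
    have h5 := Subgroup.card_le_of_le hran
    have h6 : Nat.card (stabAct ι act hone hmul Ω) ≤ Nat.card Γ := Subgroup.card_le_card_group _
    have h7 : Nat.card Z * Nat.card (Subgroup.closure ({σ1, σ2} : Set (Equiv.Perm (Fin m))))
        ≤ Nat.card (permAct ι act hone hmul Ω hΩ).ker
          * Nat.card (permAct ι act hone hmul Ω hΩ).range := by
      rw [← hc1]
      exact Nat.mul_le_mul h4 h5
    exact Subgroup.eq_top_of_card_eq _ (by omega)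
  let e : Γ →* stabAct ι act hone hmul Ω :=
    { toFun := fun g => ⟨g, by rw [hS]; trivial⟩
      map_one' := rfl
      map_mul' := fun _ _ => rfl }
  refine quot_equiv_of_card ((permAct ι act hone hmul Ω hΩ).comp e) Z _ ?_ ?_ hcard
  · intro z hz
    rw [MonoidHom.mem_ker, MonoidHom.comp_apply]
    exact permAct_eq ι act hone hmul Ω hΩ (e z) 1 (hZc z hz)
  · rw [Subgroup.closure_le]
    intro x hx
    rcases hx with rfl | rfl
    · exact ⟨g1, hf1⟩
    · exact ⟨g2, hf2⟩

end ActPerm

/-- a subgroup of index two contains the commutator subgroup. -/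
theorem commutator_le_of_card_eq_two_mul {P : Type*} [Group P] (K H : Subgroup P) [Finite K]
    (hHK : H ≤ K) (hcard : Nat.card K = 2 * Nat.card H) : ⁅K, K⁆ ≤ H := by
  have hidx : (H.subgroupOf K).index = 2 := by
    have h1 := Subgroup.card_mul_index (H.subgroupOf K)
    have h2 : Nat.card (H.subgroupOf K) = Nat.card H :=
      Nat.card_congr (Subgroup.subgroupOfEquivOfLe hHK).toEquiv
    rw [h2, hcard] at h1
    have hfinH : Finite H := Finite.of_injective (Subgroup.inclusion hHK)
      (Subgroup.inclusion_injective hHK)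
    have h0 : 0 < Nat.card H := Nat.card_pos
    have : Nat.card H * (H.subgroupOf K).index = Nat.card H * 2 := by rw [h1]; ring
    exact Nat.eq_of_mul_eq_mul_left h0 this
  have hn : (H.subgroupOf K).Normal := Subgroup.normal_of_index_eq_two hidx
  have hc : Nat.card (K ⧸ H.subgroupOf K) = 2 := hidx
  have : Fact (Nat.Prime 2) := ⟨Nat.prime_two⟩
  have hcyc : IsCyclic (K ⧸ H.subgroupOf K) := isCyclic_of_prime_card hc
  let _ : CommGroup (K ⧸ H.subgroupOf K) := IsCyclic.commGroup
  have h3 := Abelianization.commutator_subset_ker (QuotientGroup.mk' (H.subgroupOf K))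
  rw [QuotientGroup.ker_mk'] at h3
  rw [← Subgroup.map_subtype_commutator]
  intro x hx
  obtain ⟨y, hy, rfl⟩ := hx
  exact Subgroup.mem_subgroupOf.mp (h3 hy)

/-- an isomorphism restricts to the commutator subgroups. -/
theorem commutator_equiv {G H : Type*} [Group G] [Group H] (e : G ≃* H) :
    Nonempty (commutator G ≃* commutator H) := by
  have h : (commutator G).map (e : G →* H) = commutator H := by
    unfold commutator
    rw [Subgroup.map_commutator, ← MonoidHom.range_eq_map, MonoidHom.range_eq_top.mpr e.surjective]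
  exact ⟨(Subgroup.equivMapOfInjective (commutator G) (e : G →* H) e.injective).trans
    (MulEquiv.subgroupCongr h)⟩

lemma evw_append {m : ℕ} (σ : Bool → Equiv.Perm (Fin m)) (w1 w2 : List Bool) :
    evw σ (w1 ++ w2) = evw σ w1 * evw σ w2 := by
  induction w1 with
  | nil => simp [evw]
  | cons b w ih =>
    change σ b * evw σ (w ++ w2) = σ b * evw σ w * evw σ w2
    rw [ih, mul_assoc]

end Cfsg.Agent.Helper15.SylGen
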