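import Mathlib
import Cfsg.Agent.Lib.Helper15.SylGen4

set_option autoImplicit false

/-!
# `G₂(2)′ ≅ PSU₃(3)`: the permutation groups of degree 63 (helper15)

Data produced by an external search; everything is re-checked by the kernel.
-/

namespace Cfsg.Agent.Helper15.G2U3

open SylGen
open scoped commutatorElement

def s1L : List ℕ := [2, 3, 0, 1, 44, 50, 48, 42, 9, 8, 41, 46, 12, 18, 20, 15, 16, 17, 13, 19, 14, 21, 22, 24, 23, 26, 25, 28, 27, 30, 29, 32, 31, 34, 33, 51, 55, 58, 60, 52, 56, 10, 7, 53, 4, 57, 11, 62, 6, 54, 5, 35, 39, 43, 49, 36, 40, 45, 37, 61, 38, 59, 47]

def s2L : List ℕ := [5, 55, 37, 48, 1, 51, 59, 61, 57, 28, 42, 54, 22, 13, 25, 8, 9, 36, 35, 6, 62, 50, 58, 4, 0, 7, 30, 34, 33, 15, 21, 49, 14, 60, 24, 39, 40, 53, 20, 17, 18, 2, 16, 46, 45, 10, 23, 29, 12, 19, 26, 43, 31, 41, 32, 27, 47, 52, 11, 56, 38, 3, 44]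

def s1iL : List ℕ := [2, 3, 0, 1, 44, 50, 48, 42, 9, 8, 41, 46, 12, 18, 20, 15, 16, 17, 13, 19, 14, 21, 22, 24, 23, 26, 25, 28, 27, 30, 29, 32, 31, 34, 33, 51, 55, 58, 60, 52, 56, 10, 7, 53, 4, 57, 11, 62, 6, 54, 5, 35, 39, 43, 49, 36, 40, 45, 37, 61, 38, 59, 47]

def s2iL : List ℕ := [24, 4, 41, 61, 23, 0, 19, 25, 15, 16, 45, 58, 48, 13, 32, 29, 42, 39, 40, 49, 38, 30, 12, 46, 34, 14, 50, 55, 9, 47, 26, 52, 54, 28, 27, 18, 17, 2, 60, 35, 36, 53, 10, 51, 62, 44, 43, 56, 3, 31, 21, 5, 57, 37, 11, 1, 59, 8, 22, 6, 33, 7, 20]

def t1L : List ℕ := [44, 57, 7, 40, 2, 58, 48, 29, 9, 8, 39, 43, 61, 51, 54, 21, 59, 32, 62, 31, 60, 15, 22, 49, 38, 47, 35, 56, 45, 4, 42, 17, 19, 33, 34, 18, 55, 50, 14, 53, 28, 11, 0, 52, 30, 3, 10, 13, 36, 20, 5, 25, 41, 46, 24, 6, 1, 27, 37, 12, 23, 16, 26]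

def t2L : List ℕ := [49, 20, 50, 19, 32, 53, 37, 45, 23, 10, 25, 29, 43, 0, 18, 44, 14, 2, 16, 55, 51, 59, 7, 46, 60, 9, 48, 33, 41, 35, 27, 57, 40, 30, 6, 11, 38, 34, 39, 36, 4, 54, 31, 52, 56, 22, 8, 26, 47, 13, 17, 1, 12, 62, 28, 3, 15, 42, 24, 61, 58, 21, 5]

def t1iL : List ℕ := [42, 56, 4, 45, 29, 50, 55, 2, 9, 8, 46, 41, 59, 47, 38, 21, 61, 31, 35, 32, 49, 15, 22, 60, 54, 51, 62, 57, 40, 7, 44, 19, 17, 33, 34, 26, 48, 58, 24, 10, 3, 52, 30, 11, 0, 28, 53, 25, 6, 23, 37, 13, 43, 39, 14, 36, 27, 1, 5, 16, 20, 12, 18]

def t2iL : List ℕ := [13, 51, 17, 55, 40, 62, 34, 22, 46, 25, 9, 35, 52, 49, 16, 56, 18, 50, 14, 3, 1, 61, 45, 8, 58, 10, 47, 30, 54, 11, 33, 42, 4, 27, 37, 29, 39, 6, 36, 38, 32, 28, 57, 12, 15, 7, 23, 48, 26, 0, 2, 20, 43, 5, 41, 19, 44, 31, 60, 21, 24, 59, 53]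

/-- the generating permutations of the big group as raw functions (`true` is the first). -/
def sf (b : Bool) (x : Fin 63) : Fin 63 := Fin.ofNat 63 ((if b then s1L else s2L).getD x.val 0)

def sfi (b : Bool) (x : Fin 63) : Fin 63 := Fin.ofNat 63 ((if b then s1iL else s2iL).getD x.val 0)

/-- the generating permutations of the small group as raw functions. -/
def tf (b : Bool) (x : Fin 63) : Fin 63 := Fin.ofNat 63 ((if b then t1L else t2L).getD x.val 0)

def tfi (b : Bool) (x : Fin 63) : Fin 63 := Fin.ofNat 63 ((if b then t1iL else t2iL).getD x.val 0)

lemma sfi_sf : ∀ (b : Bool) (x : Fin 63), sfi b (sf b x) = x := by decide +kernel

lemma sf_sfi : ∀ (b : Bool) (x : Fin 63), sf b (sfi b x) = x := by decide +kernel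

lemma tfi_tf : ∀ (b : Bool) (x : Fin 63), tfi b (tf b x) = x := by decide +kernel

lemma tf_tfi : ∀ (b : Bool) (x : Fin 63), tf b (tfi b x) = x := by decide +kernel

def sg (b : Bool) : Equiv.Perm (Fin 63) where
  toFun := sf b
  invFun := sfi b
  left_inv := sfi_sf b
  right_inv := sf_sfi b

def tg (b : Bool) : Equiv.Perm (Fin 63) where
  toFun := tf b
  invFun := tfi b
  left_inv := tfi_tf b
  right_inv := tf_tfi b

lemma sg_apply (b : Bool) (x : Fin 63) : sg b x = sf b x := rfl

lemma tg_apply (b : Bool) (x : Fin 63) : tg b x = tf b x := rfl

/-- the big permutation group. -/
abbrev RA : Subgroup (Equiv.Perm (Fin 63)) :=
  Subgroup.closure ({sg true, sg false} : Set (Equiv.Perm (Fin 63)))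

/-- the small permutation group. -/
abbrev RB : Subgroup (Equiv.Perm (Fin 63)) :=
  Subgroup.closure ({tg true, tg false} : Set (Equiv.Perm (Fin 63)))

def aW0 : List (List Bool) := [[],
  [false, false, false, false, false, false, false],
  [true],
  [false, false, false, true, false, true, false],
  [false, false, false, false, false, false],
  [false],
  [false, false, true, false, false, true, false, true],
  [false, true, false, true, false],
  [false, false, true, false, false, true, false],
  [false, false, false, true, false, false, false, true],
  [true, false, false, false, true],
  [false, true, false, true],
  [false, false, false, false, false, true, false, true, false],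
  [true, false, false, false, false, false, true, false, false],
  [false, false, false, false, true, false, true],
  [false, true, false, false, true, false],
  [false, false, true, false, false, false, true],
  [false, false, true, false, false],
  [false, false, false, false, false, true, false, false],
  [false, true, false, false, true, false, true],
  [true, false, false, false, false, true, false, true],
  [false, false, false, true, false],
  [false, false, false, false, false, false, true, false, true, false],
  [false, false, false, false, false],
  [true, false, false, false, false, false],
  [true, false, true, false],
  [false, true, false],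
  [false, true, false, false, false, true, false, false],
  [false, false, false, false, true, false, false, false, true],
  [true, false, false, true, false],
  [false, false, true, false],
  [false, true, false, true, false, false],
  [false, false, false, true, false, true],
  [false, false, false, false, false, true, false, false, false, true],
  [false, false, true, false, false, false, true, false, false],
  [true, false, false],
  [false, false, false, true, false, false],
  [false, true],
  [true, false, false, false, false, false, false, true, false, false, false, true],
  [false, true, false, false],
  [false, false, false, false, true, false, false],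
  [false, false, false, true],
  [false, true, false, false, false, true],
  [false, false, false],
  [true, false, false, false, false, false, false],
  [false, true, false, false, false, false, false, false],
  [false, false, false, false],
  [false, false, true, false, false, true, false, true, false],
  [false, false, false, false, true, false, true, false],
  [true, false, false, true, false, true],
  [true, false],
  [false, false],
  [true, false, true, false, false],
  [false, false, true],
  [false, false, true, false, true],
  [true, false, false, false, true, false, false],
  [false, true, false, false, true, false, true, false],
  [false, false, false, true, false, false, true, false],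
  [true, false, true],
  [true, false, false, true, false, true, false],
  [false, false, false, false, false, false, true, false, false, false, true],
  [false, false, true, false, true, false],
  [false, true, false, false, false, false, true, false, true]]

def aW1 : List (List Bool) := [[],
  [false, false, true, false, true, false, false, false, false, false, true, false, true, false, true],
  [false, true, false, true, false, true, false, true],
  [false, false, false, true, false, true, false, false, true, false, false, true, false],
  [false, false, false, false, true, false, false, false, true, false, false],
  [true, false, true, false, false, true, false, false, true, false, true, false, true],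
  [false, true, false, false, false, false, false, true, false, false, true, false, false, false],
  [true, false, false, false, false, true, false, true, false, false, false, false, false],
  [false, true, false, true, false, true, false, false, false, true, false, false, false],
  [true, false, true, false, false, true, false, false, false, false, false, false],
  [false, true, false, true, false, false, false, true, false, true, false, false, true, false, false, true, false, true],
  [false, true, false, false, false, false, true, false, true, false, false, false, true, false],
  [false, false, true, false, false, false, true, false, false, true, false, false, false, true],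
  [false, true, false, false, true, false, false, true],
  [false, false, false, false, false, true, false, false, false, true, false, true, false],
  [false, false, false, true, false, false, false, false, true, false, false, false, true],
  [true, false, false, true, false, false, false],
  [false, true, false, false, false, false, false, false, true, false, false, false, false, false],
  [false, false, false, true, false, false, false, false, true, false, true, false, false, false],
  [false, false, false, false, false, false, true, false, false, true, false, false, false, false, true, false, true],
  [false, false, false, false, false, true, false, false, true, false, true, false, false, false, true],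
  [false, false, true, false, false, false, false, false, true, false, false, false, true],
  [false, true, false, false, false, false, false],
  [false, false, true, false, false, false, false, true, false, true, false, true, false],
  [false, true, false, false, true, false, false, true, false, true, false, false, true, false, false, true],
  [false, false, false, false, true, false, true, false, false, true, false, false],
  [true, false, true, false, true, false, false, false, true, false, false, true, false],
  [true, false, false, false, false, true, false, true, false, true, false, true, false, true],
  [true, false, true, false, true, false, true, false, false, false, true, false, true, false, false, false],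
  [false, false, false, false, false, true, false, false, true, false, true, false, true, false, false, false],
  [true, false, false, false, false, false, false, true, false, false, false],
  [false, false, false, false, false, false, false, false, true, false, true, false, true]]

def aW2 : List (List Bool) := [[],
  [true, false, false, false, false, false, false, false, false, true],
  [true, false, false, false, false, false, false, true, false, false, true, false, false, false, false, true, false],
  [false, false, false, true, false, true, false, true, false, true, false, false, true, false],
  [true, false, false, true, false, false, true, false, false, false, false, true, false],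
  [true, false, false, false, false, true]]

set_option maxRecDepth 100000 in
lemma afix0 : ∀ w ∈ aW0, ∀ b ∈ ([] : List (Fin 63)), evf sf w b = b := by decide +kernel

set_option maxRecDepth 100000 in
lemma and0 : (aW0.map (fun w => evf sf w (0 : Fin 63))).Nodup := by decide +kernel

lemma alen0 : aW0.length = 63 := by decide +kernel

set_option maxRecDepth 100000 in
lemma afix1 : ∀ w ∈ aW1, ∀ b ∈ ([0] : List (Fin 63)), evf sf w b = b := by decide +kernel

set_option maxRecDepth 100000 in
lemma and1 : (aW1.map (fun w => evf sf w (5 : Fin 63))).Nodup := by decide +kernel

lemma alen1 : aW1.length = 32 := by decide +kernel

set_option maxRecDepth 100000 in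
lemma afix2 : ∀ w ∈ aW2, ∀ b ∈ ([0, 5] : List (Fin 63)), evf sf w b = b := by decide +kernel

set_option maxRecDepth 100000 in
lemma and2 : (aW2.map (fun w => evf sf w (6 : Fin 63))).Nodup := by decide +kernel

lemma alen2 : aW2.length = 6 := by decide +kernel

theorem card_RA_ge : 12096 ≤ Nat.card RA := by
  have h0 := chain_step sg sf sg_apply [] 0 aW0 afix0 and0
  rw [alen0] at h0
  have h1 := chain_step sg sf sg_apply [0] 5 aW1 afix1 and1
  rw [alen1] at h1
  have h2 := chain_step sg sf sg_apply [0, 5] 6 aW2 afix2 and2
  rw [alen2] at h2
  have hlast := one_le_card_fixList (Subgroup.closure ({sg true, sg false} : Set (Equiv.Perm (Fin 63)))) [0, 5, 6]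
  change 12096 ≤ Nat.card (Subgroup.closure ({sg true, sg false} : Set (Equiv.Perm (Fin 63))))
  rw [fixList_nil] at h0
  simp only [List.nil_append, List.cons_append] at h0 h1 h2
  omega

def bW0 : List (List Bool) := [[],
  [true, false, true],
  [false, true, false, true, true, true],
  [false, false, true, true, true, false, true, true, true],
  [false, false, true, true, false, true, true, true],
  [true, true, true, false, true, true, false],
  [false, false, true, false, true, true, false],
  [true, false, true, false, true, true, true],
  [false, false, true, true, true, false],
  [false, true, false, true, false],
  [true, false, true, true, true, false],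
  [false, true, false, true, true, false, true, false],
  [true, false, true, false, false, true],
  [false, false],
  [true, true, false, false, true, true, false],
  [false, false, true],
  [true, false, false, true, false, false, true],
  [true, false, true, true, true],
  [false, true, true, false, false, true, true, false],
  [true, true, true, false, true, true, true],
  [true, false],
  [true, false, false, true],
  [false, false, true, false, true, false, true, true, true],
  [true, true, true, false],
  [false, false, true, true, false],
  [true, false, true, false],
  [false, true, true, false, true, false],
  [false, true, true],
  [true, false, true, true, false, true, true, true],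
  [true, true, false, true, false, true, true, true],
  [true, true],
  [false, true, true, true],
  [true, true, false, true, true, true],
  [false, false, true, true],
  [false, true, false, true, true, false],
  [true, false, true, true, false, true, false],
  [false, true, true, false, true, true, true, false],
  [true, false, true, true, false],
  [true, false, false, true, true, false],
  [true, true, false, true, true, true, false],
  [false, true, true, false, true, true, true],
  [false, true, false, true, true, false, true, true, true],
  [true, true, true],
  [false, true, false, true, false, false, true],
  [true],
  [false, true, false, true, false, true, true, true],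
  [false, true, true, true, false],
  [true, true, false, true, false],
  [false, false, true, true, false, true, false],
  [false],
  [true, true, false, true, true, false],
  [false, true, false],
  [true, false, true, false, true, false, false, true],
  [true, true, true, false, true, true, true, false],
  [true, true, true, false, false, true, true, false],
  [false, true, true, true, false, true, true, true],
  [false, true],
  [true, true, false, true],
  [false, true, true, false],
  [false, true, false, false, true],
  [true, true, false],
  [false, false, true, false, false, true],
  [false, true, true, true, false, true, true, true, false]]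

def bW1 : List (List Bool) := [[],
  [true, true, false, true, false, true, true, false, true, false, false],
  [false, false, true, true, true, false, true, false, true],
  [false, true, true, true, false, true, false],
  [true, false, true, false, true, false, false],
  [true, true, false, false, true, true, false, true, false, false],
  [false, true, false, true, false, false, true, false, true, true, false],
  [false, false, true, false, true, false, true, false, true, false],
  [true, false, true, true, true, false, true, false, true, true, false, false, true],
  [true, true, false, false, true, false, false, true, true, true],
  [false, true, true, true, false, false, true, true, false, true, true],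
  [false, false, true, false, true, true, true, false, true, false, true, false],
  [true, true, false, false, true, true, false, false, true, false],
  [true, true, false, true, true, true, false, false, true, true],
  [true, true, true, false, false, true, false, true, false, false, true, false, true, true],
  [false, false, true, false, true, false, false, true, false, true, true, true, false],
  [true, false, true, true, false, true, true, false, true, false, true, false, false],
  [false, true, true, false, false, true, true, false, true, false, true, false],
  [true, false, true, false, true, false, false, true, false, true, true, false, true],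
  [true, false, true, true, false, true, true, false, true, true, false, true],
  [false, true, true, false, true, false, true, true, true, false],
  [true, true, false, false, true, true, true, false, true],
  [true, true, true, false, true, false, true, true, false, true, false, false, true],
  [false, true, true, true, false, false, true, false, true],
  [true, false, true, true, true, false, true, true],
  [true, true, false, true, false, false, true, false, true, true, false, false, true],
  [true, false, true, false, false, true, false],
  [true, true, false, true, true, false, false, true, true],
  [true, false, true, true, false, false, true, true, false, false, true],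
  [true, true, true, false, false, true, false, true, true],
  [false, true, false, true, true, false, true, true, true, false, true, true, true],
  [true, false, true, true, false, true]]

def bW2 : List (List Bool) := [[],
  [true, false, true, true, true, false, false, true, false, true, true, true, false, true],
  [false, true, true, true, false, true, false, false, true, true, true, false, true, false]]

set_option maxRecDepth 100000 in
lemma bfix0 : ∀ w ∈ bW0, ∀ b ∈ ([] : List (Fin 63)), evf tf w b = b := by decide +kernel

set_option maxRecDepth 100000 in
lemma bnd0 : (bW0.map (fun w => evf tf w (0 : Fin 63))).Nodup := by decide +kernel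

lemma blen0 : bW0.length = 63 := by decide +kernel

set_option maxRecDepth 100000 in
lemma bfix1 : ∀ w ∈ bW1, ∀ b ∈ ([0] : List (Fin 63)), evf tf w b = b := by decide +kernel

set_option maxRecDepth 100000 in
lemma bnd1 : (bW1.map (fun w => evf tf w (5 : Fin 63))).Nodup := by decide +kernel

lemma blen1 : bW1.length = 32 := by decide +kernel

set_option maxRecDepth 100000 in
lemma bfix2 : ∀ w ∈ bW2, ∀ b ∈ ([0, 5] : List (Fin 63)), evf tf w b = b := by decide +kernel

set_option maxRecDepth 100000 in
lemma bnd2 : (bW2.map (fun w => evf tf w (1 : Fin 63))).Nodup := by decide +kernel

lemma blen2 : bW2.length = 3 := by decide +kernel

theorem card_RB_ge : 6048 ≤ Nat.card RB := by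
  have h0 := chain_step tg tf tg_apply [] 0 bW0 bfix0 bnd0
  rw [blen0] at h0
  have h1 := chain_step tg tf tg_apply [0] 5 bW1 bfix1 bnd1
  rw [blen1] at h1
  have h2 := chain_step tg tf tg_apply [0, 5] 1 bW2 bfix2 bnd2
  rw [blen2] at h2
  have hlast := one_le_card_fixList (Subgroup.closure ({tg true, tg false} : Set (Equiv.Perm (Fin 63)))) [0, 5, 1]
  change 6048 ≤ Nat.card (Subgroup.closure ({tg true, tg false} : Set (Equiv.Perm (Fin 63))))
  rw [fixList_nil] at h0
  simp only [List.nil_append, List.cons_append] at h0 h1 h2
  omega

def wa1 : List Bool := [true]
def wb1 : List Bool := [false]
def wa2 : List Bool := [false, false]
def wb2 : List Bool := [false, false, true]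

lemma comm_rel1 : ∀ x : Fin 63, tf true (evf sf (wb1 ++ wa1) x) = evf sf (wa1 ++ wb1) x := by
  decide +kernel

lemma comm_rel2 : ∀ x : Fin 63, tf false (evf sf (wb2 ++ wa2) x) = evf sf (wa2 ++ wb2) x := by
  decide +kernel

lemma tg_eq_comm (b : Bool) (wa wb : List Bool)
    (h : ∀ x : Fin 63, tf b (evf sf (wb ++ wa) x) = evf sf (wa ++ wb) x) :
    tg b = ⁅evw sg wa, evw sg wb⁆ := by
  have h2 : tg b * (evw sg wb * evw sg wa) = evw sg wa * evw sg wb := by
    ext x
    rw [← evw_append, ← evw_append, Equiv.Perm.mul_apply, evw_apply sg sf sg_apply,
      evw_apply sg sf sg_apply, tg_apply, h]
  rw [commutatorElement_def, eq_mul_inv_iff_mul_eq, eq_mul_inv_iff_mul_eq, mul_assoc]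
  exact h2

/-- the small group lies in the derived subgroup of the big one. -/
theorem RB_le : RB ≤ ⁅RA, RA⁆ := by
  change Subgroup.closure ({tg true, tg false} : Set (Equiv.Perm (Fin 63))) ≤ _
  rw [Subgroup.closure_le]
  intro x hx
  rcases hx with rfl | rfl
  · rw [SetLike.mem_coe, tg_eq_comm true wa1 wb1 comm_rel1]
    exact Subgroup.commutator_mem_commutator (evw_mem sg _) (evw_mem sg _)
  · rw [SetLike.mem_coe, tg_eq_comm false wa2 wb2 comm_rel2]
    exact Subgroup.commutator_mem_commutator (evw_mem sg _) (evw_mem sg _)

end Cfsg.Agent.Helper15.G2U3
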