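import Mathlib
import Cfsg.Prelude.Def_ChevG2
import Cfsg.Prelude.Def_ChevWords
import Cfsg.Agent.Lib.Helper15.G2U3a
import Cfsg.Agent.Lib.Lead.ChevGL
import Cfsg.Agent.Lib.Lead.ChevFactsAll
import Cfsg.Agent.S1059

set_option autoImplicit false

/-!
# `G₂(2)′ ≅ PSU₃(3)`: `G₂(2)` over `ZMod 2` acting on sixty-three vectors (helper15)

Data produced by an external search; everything is re-checked by the kernel.
-/

namespace Cfsg.Agent.Helper15.G2U3

open Matrix SylGen Cfsg.Lie

abbrev I14 := chevG2.Idx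

/-- position of an index. -/
def ix : I14 → ℕ
  | .inl i => i.val
  | .inr i => 2 + i.val

/-- decode a matrix over `𝔽₂` from its code: entry `(i, j)` is the binary digit `14 i + j`. -/
def mat14 (c : ℕ) : Matrix I14 I14 (ZMod 2) := fun i j => ((c / 2 ^ (14 * ix i + ix j) % 2 : ℕ) : ZMod 2)

/-- decode a vector over `𝔽₂` from its code. -/
def vec14 (c : ℕ) : I14 → ZMod 2 := fun i => ((c / 2 ^ (ix i) % 2 : ℕ) : ZMod 2)

def gC (b : Bool) : ℕ := if b then 50218346425403791685383746607603637046832867491380648255489 else 56937012014156523285154054346621376015990602431306717053445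

def OVC : List ℕ := [4107, 4671, 4239, 4795, 12555, 14199, 15435, 12015, 7499, 7671, 12219, 15327, 128, 256, 386, 4, 132, 8, 264, 12, 398, 184, 188, 340, 348, 502, 506, 4096, 4224, 4644, 4772, 7424, 7608, 8066, 7998, 8192, 8448, 10880, 11220, 9288, 9544, 12162, 11998, 12288, 12674, 14976, 15222, 15616, 15610, 13932, 14318, 8197, 9309, 12421, 14073, 8461, 9557, 14885, 10917, 8045, 11257, 8149, 15805]

/-- the two generators of `G₂(2)`. -/
def gM (b : Bool) : Matrix I14 I14 (ZMod 2) := mat14 (gC b)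

/-- the sixty-three long root vectors. -/
def OV (i : Fin 63) : I14 → ZMod 2 := vec14 (OVC.getD i.val 0)

/-- the words in root elements giving the generators. -/
def gW (b : Bool) : List (ℕ × ZMod 2) := if b then [(0, 1)] else [(2, 1), (4, 1), (9, 1)]

set_option maxRecDepth 100000 in
lemma gM_OV : ∀ (b : Bool) (i : Fin 63), gM b *ᵥ OV i = OV (sf b i) := by decide +kernel

set_option maxRecDepth 100000 in
lemma OV_inj : ∀ i j : Fin 63, OV i = OV j → i = j := by decide +kernel

set_option maxRecDepth 100000 in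
lemma gM_word : ∀ b : Bool, chevG2.wordMat (ZMod 2) (gW b) = gM b := by decide +kernel

/-- `G₂(2)` over `ZMod 2`. -/
abbrev Γ2 : Subgroup (GL I14 (ZMod 2)) := chevG2.group (ZMod 2)

/-- the matrix of an element. -/
def ι14 : Γ2 →* Matrix I14 I14 (ZMod 2) := (Units.coeHom _).comp (Subgroup.subtype _)

lemma chevG2_mem : chevG2 ∈ [chevG2, chevB2, chevD4, chevF4, chevE6, chevE7, chevE8] := by simp

lemma hX2 : Cfsg.Agent.Lead.Chev.XAdd chevG2 (ZMod 2) :=
  (Cfsg.Agent.Lead.Chev.chevFacts_of_mem chevG2 chevG2_mem).xadd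

/-- the generators as elements of the group. -/
def gG (b : Bool) : Γ2 :=
  ⟨Cfsg.Agent.Lead.Chev.wordGL chevG2 hX2 (gW b),
    Cfsg.Agent.Lead.Chev.wordGL_mem_group chevG2 hX2 (gW b)⟩

lemma ι14_gG (b : Bool) : ι14 (gG b) = gM b := by
  change ((Cfsg.Agent.Lead.Chev.wordGL chevG2 hX2 (gW b) : GL I14 (ZMod 2)) :
    Matrix I14 I14 (ZMod 2)) = gM b
  rw [Cfsg.Agent.Lead.Chev.wordGL_val, gM_word]

lemma card_Γ2 : Nat.card Γ2 = 12096 := by
  have h1 := Cfsg.Agent.S1059.result (F := ZMod 2) (q := 2) (ZMod.card 2)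
  rw [h1]
  norm_num

/-- `G₂(2)` over `ZMod 2` is the big permutation group, of order `12096`. -/
theorem g2_equiv_model : Nat.card RA = 12096 ∧ Nonempty (Γ2 ≃* RA) := by
  have hrel : ∀ (b : Bool) (i : Fin 63), (ι14 (gG b)) *ᵥ (OV i) = OV (sg b i) := by
    intro b i
    rw [ι14_gG, sg_apply, gM_OV]
  have hc : Nat.card Γ2 ≤ Nat.card (⊥ : Subgroup Γ2) *
      Nat.card (Subgroup.closure ({sg true, sg false} : Set (Equiv.Perm (Fin 63)))) := by
    rw [card_Γ2, Subgroup.card_bot]
    have h : 12096 ≤ Nat.card (Subgroup.closure ({sg true, sg false} : Set (Equiv.Perm (Fin 63)))) :=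
      card_RA_ge
    omega
  have key := quot_equiv_closure_act ι14 (fun A v => A *ᵥ v) (fun v => Matrix.one_mulVec v)
    (fun A B v => (Matrix.mulVec_mulVec v A B).symm) OV (fun i j h => OV_inj i j h)
    (gG true) (gG false) (sg true) (sg false) (hrel true) (hrel false) (⊥ : Subgroup Γ2)
    (by
      intro z hz i
      rw [Subgroup.mem_bot] at hz
      rw [hz, map_one, Matrix.one_mulVec]) hc
  obtain ⟨h1, ⟨e⟩⟩ := key
  constructor
  · rw [card_Γ2, Subgroup.card_bot, one_mul] at h1
    exact h1.symm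
  · exact ⟨(QuotientGroup.quotientBot (G := Γ2)).symm.trans e⟩

end Cfsg.Agent.Helper15.G2U3
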