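import Mathlib

set_option autoImplicit false

namespace Cfsg.Agent.Helper15.StSL2

/-- Abstract rank one Steinberg data: two families of elements `g true`, `g false`
indexed by a field, additive, with the `w`-conjugation relation. -/
structure Data (K G : Type*) [Field K] [Group G] where
  g : Bool → K → G
  add : ∀ b t u, g b t * g b u = g b (t + u)
  conj : ∀ b t u, t ≠ 0 →
    (g b t * g (!b) (-t⁻¹) * g b t) * g b u * (g b t * g (!b) (-t⁻¹) * g b t)⁻¹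
      = g (!b) (-(t⁻¹ ^ 2 * u))

namespace Data

variable {K G : Type*} [Field K] [Group G] (D : Data K G)

/-- The Weyl-type element. -/
def W (b : Bool) (t : K) : G := D.g b t * D.g (!b) (-t⁻¹) * D.g b t

lemma g_zero (b : Bool) : D.g b 0 = 1 := by
  have h := D.add b 0 0
  rw [add_zero] at h
  exact mul_left_cancel (h.trans (mul_one _).symm)

lemma g_inv (b : Bool) (t : K) : (D.g b t)⁻¹ = D.g b (-t) := by
  apply inv_eq_of_mul_eq_one_right
  rw [D.add, add_neg_cancel, D.g_zero]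

lemma g_sub (b : Bool) (t u : K) : D.g b t * (D.g b u)⁻¹ = D.g b (t - u) := by
  rw [D.g_inv, D.add, sub_eq_add_neg]

lemma W_inv (b : Bool) (t : K) : (D.W b t)⁻¹ = D.W b (-t) := by
  unfold W
  rw [mul_inv_rev, mul_inv_rev, D.g_inv, D.g_inv, inv_neg, neg_neg, mul_assoc]

lemma W_zero (b : Bool) : D.W b 0 = 1 := by
  unfold W
  simp [D.g_zero]

lemma conj_W (b : Bool) (t u : K) (ht : t ≠ 0) :
    MulAut.conj (D.W b t) (D.g b u) = D.g (!b) (-(t⁻¹ ^ 2 * u)) := by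
  rw [MulAut.conj_apply]
  exact D.conj b t u ht

lemma W_swap (b : Bool) (t : K) (ht : t ≠ 0) : D.W b t = D.W (!b) (-t⁻¹) := by
  have h := D.conj b t t ht
  have e : t⁻¹ ^ 2 * t = t⁻¹ := by field_simp
  rw [e] at h
  -- h : (a c a) * a * (a c a)⁻¹ = c
  have h2 : (D.g b t * D.g (!b) (-t⁻¹) * D.g b t) * D.g b t
      = D.g (!b) (-t⁻¹) * (D.g b t * D.g (!b) (-t⁻¹) * D.g b t) :=
    mul_inv_eq_iff_eq_mul.mp h
  unfold W
  have e2 : -(-t⁻¹)⁻¹ = t := by rw [inv_neg, inv_inv, neg_neg]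
  rw [Bool.not_not, e2]
  have h3 : (D.g b t * D.g (!b) (-t⁻¹) * D.g b t) * D.g b t
      = (D.g (!b) (-t⁻¹) * D.g b t * D.g (!b) (-t⁻¹)) * D.g b t := by
    rw [h2]; simp only [mul_assoc]
  exact mul_right_cancel h3

lemma conj_W_not (b : Bool) (t u : K) (ht : t ≠ 0) :
    MulAut.conj (D.W b t) (D.g (!b) u) = D.g b (-(t ^ 2 * u)) := by
  rw [D.W_swap b t ht]
  have ht' : -t⁻¹ ≠ 0 := neg_ne_zero.mpr (inv_ne_zero ht)
  rw [D.conj_W (!b) (-t⁻¹) u ht', Bool.not_not]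
  congr 2
  rw [inv_neg, inv_inv, neg_sq]

/-- conjugating `W b u` by `W b t`. -/
lemma conj_W_W (b : Bool) (t u : K) (ht : t ≠ 0) (hu : u ≠ 0) :
    MulAut.conj (D.W b t) (D.W b u) = D.W b (t ^ 2 * u⁻¹) := by
  have hs : -(t⁻¹ ^ 2 * u) ≠ 0 :=
    neg_ne_zero.mpr (mul_ne_zero (pow_ne_zero 2 (inv_ne_zero ht)) hu)
  have e1 : MulAut.conj (D.W b t) (D.W b u)
      = D.g (!b) (-(t⁻¹ ^ 2 * u)) * D.g b (-(t ^ 2 * (-u⁻¹))) * D.g (!b) (-(t⁻¹ ^ 2 * u)) := by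
    conv_lhs => unfold W
    rw [map_mul, map_mul]
    rw [← W, D.conj_W b t u ht, D.conj_W_not b t (-u⁻¹) ht]
  rw [e1]
  have e2 : D.W b (t ^ 2 * u⁻¹) = D.W (!b) (-(t⁻¹ ^ 2 * u)) := by
    rw [D.W_swap (!b) (-(t⁻¹ ^ 2 * u)) hs, Bool.not_not]
    congr 1
    field_simp
  rw [e2]
  unfold W
  rw [Bool.not_not]
  congr 2
  congr 1
  field_simp

end Data

end Cfsg.Agent.Helper15.StSL2
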