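import Mathlib
import Cfsg.Agent.Lib.Helper15.StSL2a

set_option autoImplicit false

namespace Cfsg.Agent.Helper15.StSL2

namespace Data

variable {K G : Type*} [Field K] [Group G] (D : Data K G)

def x (t : K) : G := D.g true t
def y (t : K) : G := D.g false t
def w (t : K) : G := D.W true t
def h (t : K) : G := D.w t * (D.w 1)⁻¹

lemma x_add (t u : K) : D.x t * D.x u = D.x (t + u) := D.add true t u
lemma y_add (t u : K) : D.y t * D.y u = D.y (t + u) := D.add false t u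
lemma x_zero : D.x 0 = 1 := D.g_zero true
lemma y_zero : D.y 0 = 1 := D.g_zero false
lemma x_inv (t : K) : (D.x t)⁻¹ = D.x (-t) := D.g_inv true t
lemma y_inv (t : K) : (D.y t)⁻¹ = D.y (-t) := D.g_inv false t

lemma w_def (t : K) : D.w t = D.x t * D.y (-t⁻¹) * D.x t := rfl

lemma w_inv (t : K) : (D.w t)⁻¹ = D.w (-t) := D.W_inv true t

lemma conj_w_x (t u : K) (ht : t ≠ 0) :
    MulAut.conj (D.w t) (D.x u) = D.y (-(t⁻¹ ^ 2 * u)) := D.conj_W true t u ht

lemma conj_w_y (t u : K) (ht : t ≠ 0) :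
    MulAut.conj (D.w t) (D.y u) = D.x (-(t ^ 2 * u)) := D.conj_W_not true t u ht

lemma conj_w_w (t u : K) (ht : t ≠ 0) (hu : u ≠ 0) :
    MulAut.conj (D.w t) (D.w u) = D.w (t ^ 2 * u⁻¹) := D.conj_W_W true t u ht hu

lemma conj_h (t : K) : MulAut.conj (D.h t) = MulAut.conj (D.w t) * MulAut.conj (D.w (-1)) := by
  unfold h
  rw [map_mul, D.w_inv]

lemma conj_h_x (t u : K) (ht : t ≠ 0) :
    MulAut.conj (D.h t) (D.x u) = D.x (t ^ 2 * u) := by
  rw [D.conj_h, MulAut.mul_apply, D.conj_w_x (-1) u (by simp), D.conj_w_y t _ ht]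
  congr 1
  simp

lemma conj_h_y (t u : K) (ht : t ≠ 0) :
    MulAut.conj (D.h t) (D.y u) = D.y (t⁻¹ ^ 2 * u) := by
  rw [D.conj_h, MulAut.mul_apply, D.conj_w_y (-1) u (by simp), D.conj_w_x t _ ht]
  congr 1
  simp

lemma conj_h_w (t u : K) (ht : t ≠ 0) (hu : u ≠ 0) :
    MulAut.conj (D.h t) (D.w u) = D.w (t ^ 2 * u) := by
  rw [D.conj_h, MulAut.mul_apply, D.conj_w_w (-1) u (by simp) hu,
    D.conj_w_w t _ ht (by simpa using hu)]
  congr 1
  simp

lemma h_one : D.h 1 = 1 := by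
  unfold h
  rw [mul_inv_cancel]

lemma conj_h_h (t u : K) (ht : t ≠ 0) (hu : u ≠ 0) :
    MulAut.conj (D.h t) (D.h u) = D.h (t ^ 2 * u) * (D.h (t ^ 2))⁻¹ := by
  have e : D.h u = D.w u * (D.w 1)⁻¹ := rfl
  rw [e, map_mul, map_inv, D.conj_h_w t u ht hu, D.conj_h_w t 1 ht one_ne_zero, mul_one]
  unfold h
  group

lemma conj_w1_h (a : K) (ha : a ≠ 0) :
    MulAut.conj (D.w 1) (D.h a) = D.h a⁻¹ := by
  have e : D.h a = D.w a * (D.w 1)⁻¹ := rfl
  rw [e, map_mul, map_inv, D.conj_w_w 1 a one_ne_zero ha, D.conj_w_w 1 1 one_ne_zero one_ne_zero]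
  simp [h]

lemma conj_hinv_x (t u : K) (ht : t ≠ 0) :
    MulAut.conj (D.h t)⁻¹ (D.x u) = D.x (t⁻¹ ^ 2 * u) := by
  rw [map_inv, MulAut.inv_apply, MulEquiv.symm_apply_eq, D.conj_h_x t _ ht]
  congr 1
  field_simp

lemma conj_hinv_y (t u : K) (ht : t ≠ 0) :
    MulAut.conj (D.h t)⁻¹ (D.y u) = D.y (t ^ 2 * u) := by
  rw [map_inv, MulAut.inv_apply, MulEquiv.symm_apply_eq, D.conj_h_y t _ ht]
  congr 1
  field_simp

/-- The symbol. -/
def f (t u : K) : G := D.h t * D.h u * (D.h (t * u))⁻¹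

lemma conj_f_x (t u v : K) (ht : t ≠ 0) (hu : u ≠ 0) :
    MulAut.conj (D.f t u) (D.x v) = D.x v := by
  unfold f
  rw [map_mul, map_mul, MulAut.mul_apply, MulAut.mul_apply,
    D.conj_hinv_x _ _ (mul_ne_zero ht hu), D.conj_h_x u _ hu, D.conj_h_x t _ ht]
  congr 1
  field_simp

lemma conj_f_y (t u v : K) (ht : t ≠ 0) (hu : u ≠ 0) :
    MulAut.conj (D.f t u) (D.y v) = D.y v := by
  unfold f
  rw [map_mul, map_mul, MulAut.mul_apply, MulAut.mul_apply,
    D.conj_hinv_y _ _ (mul_ne_zero ht hu), D.conj_h_y u _ hu, D.conj_h_y t _ ht]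
  congr 1
  field_simp

/-- The generation hypothesis. -/
def Gen : Prop := Subgroup.closure (Set.range (fun p : Bool × K => D.g p.1 p.2)) = ⊤

lemma f_central (hgen : D.Gen) (t u : K) (ht : t ≠ 0) (hu : u ≠ 0) (z : G) :
    D.f t u * z = z * D.f t u := by
  have hz : z ∈ Subgroup.closure (Set.range (fun p : Bool × K => D.g p.1 p.2)) := by
    rw [hgen]; trivial
  have hsub : Subgroup.closure (Set.range (fun p : Bool × K => D.g p.1 p.2))
      ≤ Subgroup.centralizer {D.f t u} := by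
    rw [Subgroup.closure_le]
    rintro _ ⟨⟨b, v⟩, rfl⟩
    rw [SetLike.mem_coe, Subgroup.mem_centralizer_singleton_iff]
    cases b with
    | true =>
      have := D.conj_f_x t u v ht hu
      rw [MulAut.conj_apply] at this
      have h2 : D.f t u * D.x v = D.x v * D.f t u := mul_inv_eq_iff_eq_mul.mp this
      exact h2.symm
    | false =>
      have := D.conj_f_y t u v ht hu
      rw [MulAut.conj_apply] at this
      have h2 : D.f t u * D.y v = D.y v * D.f t u := mul_inv_eq_iff_eq_mul.mp this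
      exact h2.symm
  have := hsub hz
  rw [Subgroup.mem_centralizer_singleton_iff] at this
  exact this.symm

end Data

end Cfsg.Agent.Helper15.StSL2
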