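import Mathlib
import Cfsg.Agent.Lib.Helper15.StSL2b

set_option autoImplicit false

namespace Cfsg.Agent.Helper15.StSL2

namespace Data

variable {K G : Type*} [Field K] [Group G] (D : Data K G)

lemma h_sq_mul (u v : K) (hu : u ≠ 0) (hv : v ≠ 0) :
    D.h (u ^ 2 * v) = D.h u * D.h v * (D.h u)⁻¹ * D.h (u ^ 2) := by
  have e := D.conj_h_h u v hu hv
  rw [MulAut.conj_apply] at e
  rw [e]; group

lemma f_sq_mul (hgen : D.Gen) (t u v : K) (ht : t ≠ 0) (hu : u ≠ 0) (hv : v ≠ 0) :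
    D.f t (u ^ 2 * v) = (D.h t * D.h u * (D.h t)⁻¹ * (D.h u)⁻¹) * D.f t v := by
  have e1 := D.h_sq_mul u v hu hv
  have e2 := D.h_sq_mul u (t * v) hu (mul_ne_zero ht hv)
  have e3 : t * (u ^ 2 * v) = u ^ 2 * (t * v) := by ring
  have hc := D.f_central hgen t v ht hv
  have e4 : D.f t (u ^ 2 * v) = D.h t * D.h u * (D.h t)⁻¹ * D.f t v * (D.h u)⁻¹ := by
    unfold f
    rw [e3, e1, e2]; group
  rw [e4, mul_assoc _ (D.f t v), hc, ← mul_assoc]

/-- A cyclicity hypothesis on the multiplicative group. -/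
def Cyc (K : Type*) [Field K] : Prop := ∃ s : K, s ≠ 0 ∧ ∀ t : K, t ≠ 0 → ∃ n : ℕ, t = s ^ n

lemma h_pow (hgen : D.Gen) (s : K) (hs : s ≠ 0) (n : ℕ) :
    ∃ c : G, (∀ z : G, c * z = z * c) ∧ D.h (s ^ n) = (D.h s) ^ n * c := by
  induction n with
  | zero => exact ⟨1, fun z => by simp, by simp [D.h_one]⟩
  | succ n ih =>
    obtain ⟨c, hc, hn⟩ := ih
    have hsn : s ^ n ≠ 0 := pow_ne_zero n hs
    have hf := D.f_central hgen s (s ^ n) hs hsn
    refine ⟨(D.f s (s ^ n))⁻¹ * c, ?_, ?_⟩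
    · intro z
      have h1 : (D.f s (s ^ n))⁻¹ * z = z * (D.f s (s ^ n))⁻¹ := by
        have := hf z
        calc (D.f s (s ^ n))⁻¹ * z = (D.f s (s ^ n))⁻¹ * (z * D.f s (s ^ n)) * (D.f s (s ^ n))⁻¹ := by group
          _ = (D.f s (s ^ n))⁻¹ * (D.f s (s ^ n) * z) * (D.f s (s ^ n))⁻¹ := by rw [this]
          _ = z * (D.f s (s ^ n))⁻¹ := by group
      rw [mul_assoc, hc z, ← mul_assoc, h1, mul_assoc]
    · have e : D.h (s ^ (n + 1)) = (D.f s (s ^ n))⁻¹ * (D.h s * D.h (s ^ n)) := by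
        have : s ^ (n + 1) = s * s ^ n := by ring
        rw [this]; unfold f; group
      rw [e, hn]
      have h1 : (D.f s (s ^ n))⁻¹ * (D.h s * ((D.h s) ^ n * c))
          = (D.h s * ((D.h s) ^ n * c)) * (D.f s (s ^ n))⁻¹ := by
        have := hf (D.h s * ((D.h s) ^ n * c))
        calc (D.f s (s ^ n))⁻¹ * (D.h s * ((D.h s) ^ n * c))
            = (D.f s (s ^ n))⁻¹ * ((D.h s * ((D.h s) ^ n * c)) * D.f s (s ^ n)) * (D.f s (s ^ n))⁻¹ := by group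
          _ = (D.f s (s ^ n))⁻¹ * (D.f s (s ^ n) * (D.h s * ((D.h s) ^ n * c))) * (D.f s (s ^ n))⁻¹ := by rw [this]
          _ = _ := by group
      rw [h1, pow_succ']
      have h2 := hc ((D.f s (s ^ n))⁻¹)
      rw [mul_assoc, mul_assoc, mul_assoc, h2]

lemma h_comm (hgen : D.Gen) (hcyc : Cyc K) (t u : K) (ht : t ≠ 0) (hu : u ≠ 0) :
    D.h t * D.h u = D.h u * D.h t := by
  obtain ⟨s, hs, hall⟩ := hcyc
  obtain ⟨n, rfl⟩ := hall t ht
  obtain ⟨m, rfl⟩ := hall u hu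
  obtain ⟨c, hc, hn⟩ := D.h_pow hgen s hs n
  obtain ⟨c', hc', hm⟩ := D.h_pow hgen s hs m
  rw [hn, hm]
  calc D.h s ^ n * c * (D.h s ^ m * c') = D.h s ^ n * (c * (D.h s ^ m * c')) := by rw [mul_assoc]
    _ = D.h s ^ n * ((D.h s ^ m * c') * c) := by rw [hc]
    _ = (D.h s ^ n * D.h s ^ m) * (c' * c) := by simp only [mul_assoc]
    _ = (D.h s ^ m * D.h s ^ n) * (c' * c) := by rw [← pow_add, ← pow_add, add_comm]
    _ = D.h s ^ m * (D.h s ^ n * (c' * c)) := by rw [mul_assoc]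
    _ = D.h s ^ m * (c' * (D.h s ^ n * c)) := by rw [← mul_assoc _ c', ← hc', mul_assoc]
    _ = D.h s ^ m * c' * (D.h s ^ n * c) := by rw [mul_assoc]

lemma f_one_right (t : K) : D.f t 1 = 1 := by
  unfold f
  rw [mul_one, D.h_one, mul_one, mul_inv_cancel]

lemma f_sq_mul' (hgen : D.Gen) (hcyc : Cyc K) (t u v : K) (ht : t ≠ 0) (hu : u ≠ 0) (hv : v ≠ 0) :
    D.f t (u ^ 2 * v) = D.f t v := by
  rw [D.f_sq_mul hgen t u v ht hu hv, D.h_comm hgen hcyc t u ht hu]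
  group

lemma f_symm (hgen : D.Gen) (hcyc : Cyc K) (t u : K) (ht : t ≠ 0) (hu : u ≠ 0) :
    D.f t u = D.f u t := by
  unfold f
  rw [D.h_comm hgen hcyc t u ht hu, mul_comm t u]

lemma f_isSquare_right (hgen : D.Gen) (hcyc : Cyc K) (t u : K) (ht : t ≠ 0) (hu : u ≠ 0)
    (hsq : IsSquare u) : D.f t u = 1 := by
  obtain ⟨c, rfl⟩ := hsq
  have hc : c ≠ 0 := fun h => hu (by rw [h, mul_zero])
  have : c * c = c ^ 2 * 1 := by ring
  rw [this, D.f_sq_mul' hgen hcyc t c 1 ht hc one_ne_zero, D.f_one_right]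

end Data

end Cfsg.Agent.Helper15.StSL2
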