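import Mathlib
import Cfsg.Agent.Lib.Helper15.StSL2c

set_option autoImplicit false

namespace Cfsg.Agent.Helper15.StSL2

namespace Data

variable {K G : Type*} [Field K] [Group G] (D : Data K G)

lemma y_eq (c : K) : D.y c = D.x c⁻¹ * D.w (-c⁻¹) * D.x c⁻¹ := by
  rw [D.w_def, inv_neg, inv_inv, neg_neg, ← D.x_inv]
  group

lemma w_mul_x (t u : K) (ht : t ≠ 0) : D.w t * D.x u = D.y (-(t⁻¹ ^ 2 * u)) * D.w t := by
  have := D.conj_w_x t u ht
  rw [MulAut.conj_apply] at this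
  exact mul_inv_eq_iff_eq_mul.mp this

lemma w_mul_y (t u : K) (ht : t ≠ 0) : D.w t * D.y u = D.x (-(t ^ 2 * u)) * D.w t := by
  have := D.conj_w_y t u ht
  rw [MulAut.conj_apply] at this
  exact mul_inv_eq_iff_eq_mul.mp this

lemma h_mul_x (t u : K) (ht : t ≠ 0) : D.h t * D.x u = D.x (t ^ 2 * u) * D.h t := by
  have := D.conj_h_x t u ht
  rw [MulAut.conj_apply] at this
  exact mul_inv_eq_iff_eq_mul.mp this

lemma h_mul_y (t u : K) (ht : t ≠ 0) : D.h t * D.y u = D.y (t⁻¹ ^ 2 * u) * D.h t := by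
  have := D.conj_h_y t u ht
  rw [MulAut.conj_apply] at this
  exact mul_inv_eq_iff_eq_mul.mp this

lemma w1_mul_h (a : K) (ha : a ≠ 0) : D.w 1 * D.h a = D.h a⁻¹ * D.w 1 := by
  have := D.conj_w1_h a ha
  rw [MulAut.conj_apply] at this
  exact mul_inv_eq_iff_eq_mul.mp this

lemma w_eq_h (a : K) : D.w a = D.h a * D.w 1 := by
  unfold h; group

/-- moving `x a` through `w (-1) * w (-r)`. -/
lemma x_mul_ww (r a : K) (hr : r ≠ 0) :
    D.x a * (D.w (-1) * D.w (-r)) = (D.w (-1) * D.w (-r)) * D.x (r ^ 2 * a) := by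
  have hr' : -r ≠ 0 := neg_ne_zero.mpr hr
  have h1 : (-1 : K) ≠ 0 := by simp
  have e1 := D.w_mul_x (-r) (r ^ 2 * a) hr'
  have e1' : -((-r)⁻¹ ^ 2 * (r ^ 2 * a)) = -a := by field_simp
  rw [e1'] at e1
  have e2 := D.w_mul_y (-1) (-a) h1
  have e2' : -((-1 : K) ^ 2 * -a) = a := by ring
  rw [e2'] at e2
  calc D.x a * (D.w (-1) * D.w (-r)) = (D.x a * D.w (-1)) * D.w (-r) := by rw [mul_assoc]
    _ = D.w (-1) * (D.y (-a) * D.w (-r)) := by rw [← e2, mul_assoc]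
    _ = (D.w (-1) * D.w (-r)) * D.x (r ^ 2 * a) := by rw [← e1]; simp only [mul_assoc]

/-- The key rank one relation. -/
lemma w_rel (r : K) (hr : r ≠ 0) (hr1 : 1 + r ≠ 0) :
    D.w (1 + r)⁻¹ * D.w (-1) * D.w (-r) = D.w (-(r * (1 + r)⁻¹)) := by
  set p : K := (1 + r)⁻¹ with hp
  have hp0 : p ≠ 0 := inv_ne_zero hr1
  -- w p in terms of y
  have a1 : D.w p = D.x p * D.y (-(1 + r)) * D.x p := by
    have := D.y_eq (-(1 + r))
    rw [inv_neg, neg_neg, ← hp] at this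
    rw [this, ← D.x_inv]; group
  have a2 : D.y (-(1 + r)) * D.w (-1) = D.w (-1) * D.x (1 + r) := by
    have := D.w_mul_x (-1) (1 + r) (by simp)
    rw [this]
    congr 2
    simp
  have a3 : D.w (-1) = (D.x 1)⁻¹ * D.y 1 * (D.x 1)⁻¹ := by
    have := D.y_eq 1
    rw [inv_one] at this
    rw [this]; group
  have a4 : D.w (-r) = (D.x r)⁻¹ * D.y r⁻¹ * (D.x r)⁻¹ := by
    have := D.y_eq r⁻¹
    rw [inv_inv] at this
    rw [this]; group
  have hs : (1 + r⁻¹)⁻¹ = r * p := by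
    rw [hp]; field_simp; rw [add_comm, div_self]; rwa [add_comm]
  have a5 : D.y (1 + r⁻¹) = D.x (r * p) * D.w (-(r * p)) * D.x (r * p) := by
    have := D.y_eq (1 + r⁻¹)
    rw [hs] at this
    exact this
  have a6 : D.w (-1) * D.x (1 + r) * D.w (-r) = D.x (-1) * D.y (1 + r⁻¹) * D.x (-r) := by
    rw [← D.x_add, ← D.y_add, ← D.x_inv, ← D.x_inv, a3, a4]; group
  calc D.w p * D.w (-1) * D.w (-r)
      = D.x p * D.y (-(1 + r)) * (D.x p * (D.w (-1) * D.w (-r))) := by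
        rw [a1]; simp only [mul_assoc]
    _ = D.x p * (D.y (-(1 + r)) * D.w (-1)) * D.w (-r) * D.x (r ^ 2 * p) := by
        rw [D.x_mul_ww r p hr]; simp only [mul_assoc]
    _ = D.x p * (D.w (-1) * D.x (1 + r) * D.w (-r)) * D.x (r ^ 2 * p) := by
        rw [a2]; simp only [mul_assoc]
    _ = (D.x p * D.x (-1) * D.x (r * p)) * D.w (-(r * p)) *
          (D.x (r * p) * D.x (-r) * D.x (r ^ 2 * p)) := by
        rw [a6, a5]; simp only [mul_assoc]
    _ = D.w (-(r * p)) := by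
        rw [D.x_add, D.x_add, D.x_add, D.x_add]
        have z1 : p + -1 + r * p = 0 := by rw [hp]; field_simp; ring
        have z2 : r * p + -r + r ^ 2 * p = 0 := by rw [hp]; field_simp; ring
        rw [z1, z2, D.x_zero, one_mul, mul_one]

/-- The key relation in terms of `h`. -/
lemma h_rel (r : K) (hr : r ≠ 0) (hr1 : 1 + r ≠ 0) :
    D.h (1 + r)⁻¹ * D.h (-r) = D.h (-(r * (1 + r)⁻¹)) := by
  have e := D.w_rel r hr hr1
  have e1 : D.h (1 + r)⁻¹ = D.w (1 + r)⁻¹ * D.w (-1) := by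
    unfold h; rw [D.w_inv]
  have e2 : D.h (-r) = D.w (-r) * D.w (-1) := by
    unfold h; rw [D.w_inv]
  have e3 : D.h (-(r * (1 + r)⁻¹)) = D.w (-(r * (1 + r)⁻¹)) * D.w (-1) := by
    unfold h; rw [D.w_inv]
  rw [e1, e2, e3, ← e]; simp only [mul_assoc]

end Data

end Cfsg.Agent.Helper15.StSL2
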