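import Mathlib
import Cfsg.Agent.Lib.Helper15.StSL2d

set_option autoImplicit false

namespace Cfsg.Agent.Helper15.StSL2

namespace Data

variable {K G : Type*} [Field K] [Group G] (D : Data K G)

/-- `f t u = 1` when `t⁻¹ + u = 1`. -/
lemma f_of_add (t u : K) (ht : t ≠ 0) (hu : u ≠ 0) (htu : t⁻¹ + u = 1) : D.f t u = 1 := by
  -- r = -u, 1 + r = t⁻¹
  have hr : -u ≠ 0 := neg_ne_zero.mpr hu
  have h1 : 1 + -u = t⁻¹ := by rw [← htu]; ring
  have hr1 : 1 + -u ≠ 0 := by rw [h1]; exact inv_ne_zero ht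
  have e := D.h_rel (-u) hr hr1
  rw [h1, inv_inv, neg_neg] at e
  have e2 : -(-u * t) = t * u := by ring
  rw [e2] at e
  unfold f
  rw [e, mul_inv_cancel]

lemma cyc_sq_of_nonsq (hcyc : Cyc K) (t u : K) (ht : ¬ IsSquare t) (hu : ¬ IsSquare u) :
    IsSquare (t * u) := by
  obtain ⟨s, hs, hall⟩ := hcyc
  have ht0 : t ≠ 0 := fun h => ht (by rw [h]; exact ⟨0, by simp⟩)
  have hu0 : u ≠ 0 := fun h => hu (by rw [h]; exact ⟨0, by simp⟩)
  obtain ⟨n, rfl⟩ := hall t ht0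
  obtain ⟨m, rfl⟩ := hall u hu0
  have hn : Odd n := by
    rcases Nat.even_or_odd n with h | h
    · exact absurd (h.isSquare_pow s) ht
    · exact h
  have hm : Odd m := by
    rcases Nat.even_or_odd m with h | h
    · exact absurd (h.isSquare_pow s) hu
    · exact h
  rw [← pow_add]
  exact (hn.add_odd hm).isSquare_pow s

/-- the multiplicativity of `h`, relation (C). -/
lemma f_eq_one (hgen : D.Gen) (hcyc : Cyc K)
    (hex : (∃ n : K, ¬ IsSquare n) → ∃ a b : K, ¬ IsSquare a ∧ ¬ IsSquare b ∧ a + b = 1)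
    (t u : K) (ht : t ≠ 0) (hu : u ≠ 0) : D.f t u = 1 := by
  by_cases hus : IsSquare u
  · exact D.f_isSquare_right hgen hcyc t u ht hu hus
  by_cases hts : IsSquare t
  · rw [D.f_symm hgen hcyc t u ht hu]
    exact D.f_isSquare_right hgen hcyc u t hu ht hts
  obtain ⟨a', b, ha', hb, hab⟩ := hex ⟨t, hts⟩
  have ha'0 : a' ≠ 0 := fun h => ha' (by rw [h]; exact ⟨0, by simp⟩)
  have hb0 : b ≠ 0 := fun h => hb (by rw [h]; exact ⟨0, by simp⟩)
  set a : K := a'⁻¹ with haa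
  have ha0 : a ≠ 0 := inv_ne_zero ha'0
  have ha : ¬ IsSquare a := by
    rintro ⟨c, hc⟩
    apply ha'
    refine ⟨c⁻¹, ?_⟩
    rw [← mul_inv, ← hc, haa, inv_inv]
  have hab' : a⁻¹ + b = 1 := by rw [haa, inv_inv]; exact hab
  have hfab : D.f a b = 1 := D.f_of_add a b ha0 hb0 hab'
  -- t = c^2 * a, u = d^2 * b
  have hainv : ¬ IsSquare a⁻¹ := by rw [haa, inv_inv]; exact ha'
  have hbinv : ¬ IsSquare b⁻¹ := by
    rintro ⟨c, hc⟩
    apply hb
    refine ⟨c⁻¹, ?_⟩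
    rw [← mul_inv, ← hc, inv_inv]
  obtain ⟨c, hc⟩ := cyc_sq_of_nonsq hcyc t a⁻¹ hts hainv
  obtain ⟨d, hd⟩ := cyc_sq_of_nonsq hcyc u b⁻¹ hus hbinv
  have hc0 : c ≠ 0 := by
    rintro rfl
    rw [mul_zero] at hc
    exact (mul_ne_zero ht (inv_ne_zero ha0)) hc
  have hd0 : d ≠ 0 := by
    rintro rfl
    rw [mul_zero] at hd
    exact (mul_ne_zero hu (inv_ne_zero hb0)) hd
  have et : t = c ^ 2 * a := by
    rw [pow_two, ← hc]; field_simp
  have eu : u = d ^ 2 * b := by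
    rw [pow_two, ← hd]; field_simp
  rw [eu, D.f_sq_mul' hgen hcyc t d b ht hd0 hb0, D.f_symm hgen hcyc t b ht hb0, et,
    D.f_sq_mul' hgen hcyc b c a hb0 hc0 ha0, D.f_symm hgen hcyc b a hb0 ha0, hfab]

lemma h_mul (hgen : D.Gen) (hcyc : Cyc K)
    (hex : (∃ n : K, ¬ IsSquare n) → ∃ a b : K, ¬ IsSquare a ∧ ¬ IsSquare b ∧ a + b = 1)
    (t u : K) (ht : t ≠ 0) (hu : u ≠ 0) : D.h t * D.h u = D.h (t * u) := by
  have := D.f_eq_one hgen hcyc hex t u ht hu
  unfold f at this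
  exact mul_inv_eq_one.mp this

end Data

/-- finite fields have cyclic multiplicative group. -/
lemma cyc_of_finite (K : Type*) [Field K] [Finite K] : Data.Cyc K := by
  obtain ⟨g, hg⟩ := IsCyclic.exists_monoid_generator (α := Kˣ)
  refine ⟨(g : K), g.ne_zero, ?_⟩
  intro t ht
  obtain ⟨n, hn⟩ := hg (Units.mk0 t ht)
  refine ⟨n, ?_⟩
  have := congrArg (fun z : Kˣ => (z : K)) hn
  simp only [Units.val_pow_eq_pow_val, Units.val_mk0] at this
  exact this.symm

/-- in a finite field with a nonsquare, `1` is the sum of two nonsquares. -/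
lemma exists_nonsq_add (K : Type*) [Field K] [Finite K] (hns : ∃ n : K, ¬ IsSquare n) :
    ∃ a b : K, ¬ IsSquare a ∧ ¬ IsSquare b ∧ a + b = 1 := by
  obtain ⟨n₀, hn₀⟩ := hns
  by_contra hcon
  push Not at hcon
  -- for all nonsquare b, 1 - b is a square
  have key : ∀ b : K, ¬ IsSquare b → IsSquare (1 - b) := by
    intro b hb
    by_contra h1
    exact hcon (1 - b) b h1 hb (by ring)
  have hn₀0 : n₀ ≠ 0 := fun h => hn₀ (by rw [h]; exact ⟨0, by simp⟩)
  have hmul : ∀ q : K, q ≠ 0 → IsSquare q → ¬ IsSquare (n₀ * q) := by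
    rintro q hq ⟨c, rfl⟩ ⟨d, hd⟩
    have hc : c ≠ 0 := fun h => hq (by rw [h, mul_zero])
    apply hn₀
    refine ⟨d * c⁻¹, ?_⟩
    field_simp
    rw [pow_two, pow_two]
    exact hd
  let Q := {q : K // q ≠ 0 ∧ IsSquare q}
  have hφ : ∀ q : Q, (1 - n₀ * q.1) ≠ 0 ∧ IsSquare (1 - n₀ * q.1) := by
    intro q
    have h1 := hmul q.1 q.2.1 q.2.2
    refine ⟨?_, key _ h1⟩
    intro h0
    apply h1
    have : n₀ * q.1 = 1 := by
      have := sub_eq_zero.mp h0
      exact this.symm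
    rw [this]
    exact ⟨1, by simp⟩
  let φ : Q → Q := fun q => ⟨1 - n₀ * q.1, hφ q⟩
  have hinj : Function.Injective φ := by
    intro q1 q2 h
    have := congrArg Subtype.val h
    simp only [φ] at this
    have h2 : n₀ * q1.1 = n₀ * q2.1 := by
      have := sub_right_inj.mp this
      exact this
    exact Subtype.ext (mul_left_cancel₀ hn₀0 h2)
  have hsurj := Finite.injective_iff_surjective.mp hinj
  obtain ⟨q, hq⟩ := hsurj ⟨1, one_ne_zero, ⟨1, by simp⟩⟩
  have := congrArg Subtype.val hq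
  simp only [φ] at this
  have h3 : n₀ * q.1 = 0 := by
    have := sub_eq_self.mp this
    exact this
  exact (mul_ne_zero hn₀0 q.2.1) h3

end Cfsg.Agent.Helper15.StSL2
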