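import Mathlib
import Cfsg.Agent.Lib.Helper15.StSL2e

set_option autoImplicit false

namespace Cfsg.Agent.Helper15.StSL2

namespace Data

variable {K G : Type*} [Field K] [Group G] (D : Data K G)

/-- The Borel part. -/
def B : Set G := {z | ∃ a t : K, t ≠ 0 ∧ z = D.x a * D.h t}

/-- The Bruhat normal forms. -/
def S : Set G := {z | z ∈ D.B ∨ ∃ z' ∈ D.B, ∃ b : K, z = z' * D.w 1 * D.x b}

/-- Multiplicativity hypothesis. -/
def HMul : Prop := ∀ t u : K, t ≠ 0 → u ≠ 0 → D.h t * D.h u = D.h (t * u)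

lemma one_mem_B : (1 : G) ∈ D.B := ⟨0, 1, one_ne_zero, by rw [D.x_zero, D.h_one, one_mul]⟩

lemma B_mul_x {z : G} (hz : z ∈ D.B) (c : K) : z * D.x c ∈ D.B := by
  obtain ⟨a, t, ht, rfl⟩ := hz
  refine ⟨a + t ^ 2 * c, t, ht, ?_⟩
  rw [mul_assoc, D.h_mul_x t c ht, ← mul_assoc, D.x_add]

lemma B_mul_h (hm : D.HMul) {z : G} (hz : z ∈ D.B) (u : K) (hu : u ≠ 0) : z * D.h u ∈ D.B := by
  obtain ⟨a, t, ht, rfl⟩ := hz
  refine ⟨a, t * u, mul_ne_zero ht hu, ?_⟩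
  rw [mul_assoc, hm t u ht hu]

lemma y_eq' (c : K) : D.y c = D.x c⁻¹ * D.h (-c⁻¹) * D.w 1 * D.x c⁻¹ := by
  rw [D.y_eq c, D.w_eq_h (-c⁻¹)]
  simp only [mul_assoc]

lemma B_mul_y (hm : D.HMul) {z : G} (hz : z ∈ D.B) (c : K) (hc : c ≠ 0) :
    ∃ z' ∈ D.B, z * D.y c = z' * D.w 1 * D.x c⁻¹ := by
  refine ⟨z * D.x c⁻¹ * D.h (-c⁻¹),
    D.B_mul_h hm (D.B_mul_x hz _) _ (neg_ne_zero.mpr (inv_ne_zero hc)), ?_⟩
  rw [D.y_eq' c]
  simp only [mul_assoc]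

lemma S_mul_x {z : G} (hz : z ∈ D.S) (c : K) : z * D.x c ∈ D.S := by
  rcases hz with hz | ⟨z', hz', b, rfl⟩
  · exact Or.inl (D.B_mul_x hz c)
  · refine Or.inr ⟨z', hz', b + c, ?_⟩
    rw [mul_assoc, D.x_add]

lemma h_inv (hm : D.HMul) (c : K) (hc : c ≠ 0) : (D.h c⁻¹)⁻¹ = D.h c := by
  apply inv_eq_of_mul_eq_one_left
  rw [hm c c⁻¹ hc (inv_ne_zero hc), mul_inv_cancel₀ hc, D.h_one]

lemma w1_x_y (hm : D.HMul) (b c : K) (hc : c ≠ 0) :
    D.w 1 * D.x b * D.y c = D.y (-(b + c⁻¹)) * D.h c * D.x c⁻¹ := by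
  have e1 : D.x b * D.y c = D.x (b + c⁻¹) * D.w (-c⁻¹) * D.x c⁻¹ := by
    rw [D.y_eq c, ← D.x_add]; simp only [mul_assoc]
  have e2 : D.w 1 * D.x (b + c⁻¹) = D.y (-(b + c⁻¹)) * D.w 1 := by
    rw [D.w_mul_x 1 _ one_ne_zero]
    congr 2
    simp
  have e3 : D.w 1 * D.w (-c⁻¹) = D.h c := by
    rw [← D.h_inv hm c hc, ← D.w_inv]
    unfold h
    group
  calc D.w 1 * D.x b * D.y c = D.w 1 * (D.x b * D.y c) := by rw [mul_assoc]
    _ = (D.w 1 * D.x (b + c⁻¹)) * D.w (-c⁻¹) * D.x c⁻¹ := by rw [e1]; simp only [mul_assoc]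
    _ = D.y (-(b + c⁻¹)) * (D.w 1 * D.w (-c⁻¹)) * D.x c⁻¹ := by rw [e2]; simp only [mul_assoc]
    _ = _ := by rw [e3]

lemma S_mul_y (hm : D.HMul) {z : G} (hz : z ∈ D.S) (c : K) : z * D.y c ∈ D.S := by
  by_cases hc : c = 0
  · rw [hc, D.y_zero, mul_one]; exact hz
  rcases hz with hz | ⟨z', hz', b, rfl⟩
  · obtain ⟨z', hz', e⟩ := D.B_mul_y hm hz c hc
    exact Or.inr ⟨z', hz', c⁻¹, e⟩
  · have e : z' * D.w 1 * D.x b * D.y c = z' * D.y (-(b + c⁻¹)) * D.h c * D.x c⁻¹ := by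
      have := D.w1_x_y hm b c hc
      calc z' * D.w 1 * D.x b * D.y c = z' * (D.w 1 * D.x b * D.y c) := by simp only [mul_assoc]
        _ = _ := by rw [this]; simp only [mul_assoc]
    rw [e]
    by_cases hd : -(b + c⁻¹) = 0
    · rw [hd, D.y_zero, mul_one]
      exact Or.inl (D.B_mul_x (D.B_mul_h hm hz' c hc) _)
    · obtain ⟨z'', hz'', e2⟩ := D.B_mul_y hm hz' _ hd
      rw [e2]
      set d : K := -(b + c⁻¹) with hdd
      have e3 : D.x d⁻¹ * D.h c = D.h c * D.x (c⁻¹ ^ 2 * d⁻¹) := by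
        rw [D.h_mul_x c _ hc]
        congr 2
        field_simp
      have e4 := D.w1_mul_h c hc
      refine Or.inr ⟨z'' * D.h c⁻¹, D.B_mul_h hm hz'' _ (inv_ne_zero hc), c⁻¹ ^ 2 * d⁻¹ + c⁻¹, ?_⟩
      calc z'' * D.w 1 * D.x d⁻¹ * D.h c * D.x c⁻¹
          = z'' * D.w 1 * (D.x d⁻¹ * D.h c) * D.x c⁻¹ := by simp only [mul_assoc]
        _ = z'' * (D.w 1 * D.h c) * (D.x (c⁻¹ ^ 2 * d⁻¹) * D.x c⁻¹) := by
            rw [e3]; simp only [mul_assoc]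
        _ = _ := by rw [e4, D.x_add]; simp only [mul_assoc]

lemma mem_S (hgen : D.Gen) (hm : D.HMul) (z : G) : z ∈ D.S := by
  have hz : z ∈ Subgroup.closure (Set.range (fun p : Bool × K => D.g p.1 p.2)) := by
    rw [hgen]; trivial
  induction hz using Subgroup.closure_induction_right with
  | one => exact Or.inl D.one_mem_B
  | mul_right z' hz' g' hg' ih =>
    obtain ⟨⟨b, t⟩, rfl⟩ := hg'
    cases b with
    | true => exact D.S_mul_x ih t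
    | false => exact D.S_mul_y hm ih t
  | mul_inv_cancel z' hz' g' hg' ih =>
    obtain ⟨⟨b, t⟩, rfl⟩ := hg'
    cases b with
    | true =>
      have : (D.g true t)⁻¹ = D.x (-t) := D.g_inv true t
      simp only
      rw [this]
      exact D.S_mul_x ih (-t)
    | false =>
      have : (D.g false t)⁻¹ = D.y (-t) := D.g_inv false t
      simp only
      rw [this]
      exact D.S_mul_y hm ih (-t)

end Data

end Cfsg.Agent.Helper15.StSL2
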