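import Mathlib
import Cfsg.Agent.Lib.Helper15.StSL2f

set_option autoImplicit false

namespace Cfsg.Agent.Helper15.StSL2

variable (K : Type*) [Field K]

/-- The relators of the rank one Steinberg presentation. -/
def rels : Set (FreeGroup (Bool × K)) :=
  {g : FreeGroup (Bool × K) | ∃ (b : Bool) (t u : K), g = FreeGroup.of (b, t) * FreeGroup.of (b, u) * (FreeGroup.of (b, t + u))⁻¹} ∪
    {g | ∃ (b : Bool) (t u : K), t ≠ 0 ∧
      g = (FreeGroup.of (b, t) * FreeGroup.of (!b, -t⁻¹) * FreeGroup.of (b, t)) * FreeGroup.of (b, u) *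
            (FreeGroup.of (b, t) * FreeGroup.of (!b, -t⁻¹) * FreeGroup.of (b, t))⁻¹ * (FreeGroup.of (!b, -(t⁻¹ ^ 2 * u)))⁻¹}

variable {K}

/-- upper unipotent -/
def X (t : K) : Matrix.SpecialLinearGroup (Fin 2) K := ⟨!![1, t; 0, 1], by simp [Matrix.det_fin_two]⟩

/-- lower unipotent -/
def Y (t : K) : Matrix.SpecialLinearGroup (Fin 2) K := ⟨!![1, 0; t, 1], by simp [Matrix.det_fin_two]⟩

/-- the images of the generators -/
def gen (b : Bool) (t : K) : Matrix.SpecialLinearGroup (Fin 2) K := if b then X t else Y t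

@[simp] lemma gen_true (t : K) : gen true t = X t := rfl
@[simp] lemma gen_false (t : K) : gen false t = Y t := rfl

@[simp] lemma coe_X (t : K) : ((X t : Matrix.SpecialLinearGroup (Fin 2) K) : Matrix (Fin 2) (Fin 2) K)
    = !![1, t; 0, 1] := rfl
@[simp] lemma coe_Y (t : K) : ((Y t : Matrix.SpecialLinearGroup (Fin 2) K) : Matrix (Fin 2) (Fin 2) K)
    = !![1, 0; t, 1] := rfl

lemma X_add (t u : K) : X t * X u = X (t + u) := by
  apply Subtype.ext
  simp only [Matrix.SpecialLinearGroup.coe_mul, coe_X]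
  ext i j; fin_cases i <;> fin_cases j <;> simp [Matrix.mul_apply, Fin.sum_univ_two, add_comm]

lemma Y_add (t u : K) : Y t * Y u = Y (t + u) := by
  apply Subtype.ext
  simp only [Matrix.SpecialLinearGroup.coe_mul, coe_Y]
  ext i j; fin_cases i <;> fin_cases j <;> simp [Matrix.mul_apply, Fin.sum_univ_two, add_comm]

lemma coe_WX (t : K) (ht : t ≠ 0) :
    ((X t * Y (-t⁻¹) * X t : Matrix.SpecialLinearGroup (Fin 2) K) : Matrix (Fin 2) (Fin 2) K)
      = !![0, t; -t⁻¹, 0] := by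
  simp only [Matrix.SpecialLinearGroup.coe_mul, coe_X, coe_Y]
  ext i j; fin_cases i <;> fin_cases j <;> simp [Matrix.mul_apply, Fin.sum_univ_two, ht]

lemma coe_WY (t : K) (ht : t ≠ 0) :
    ((Y t * X (-t⁻¹) * Y t : Matrix.SpecialLinearGroup (Fin 2) K) : Matrix (Fin 2) (Fin 2) K)
      = !![0, -t⁻¹; t, 0] := by
  simp only [Matrix.SpecialLinearGroup.coe_mul, coe_X, coe_Y]
  ext i j; fin_cases i <;> fin_cases j <;> simp [Matrix.mul_apply, Fin.sum_univ_two, ht]

lemma conj_X (t u : K) (ht : t ≠ 0) :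
    (X t * Y (-t⁻¹) * X t) * X u * (X t * Y (-t⁻¹) * X t)⁻¹ = Y (-(t⁻¹ ^ 2 * u)) := by
  rw [mul_inv_eq_iff_eq_mul]
  apply Subtype.ext
  rw [Matrix.SpecialLinearGroup.coe_mul, Matrix.SpecialLinearGroup.coe_mul _ (X t * Y (-t⁻¹) * X t),
    coe_WX t ht, coe_X, coe_Y]
  ext i j; fin_cases i <;> fin_cases j <;> simp [Matrix.mul_apply, Fin.sum_univ_two, ht] <;> field_simp

lemma conj_Y (t u : K) (ht : t ≠ 0) :
    (Y t * X (-t⁻¹) * Y t) * Y u * (Y t * X (-t⁻¹) * Y t)⁻¹ = X (-(t⁻¹ ^ 2 * u)) := by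
  rw [mul_inv_eq_iff_eq_mul]
  apply Subtype.ext
  rw [Matrix.SpecialLinearGroup.coe_mul, Matrix.SpecialLinearGroup.coe_mul _ (Y t * X (-t⁻¹) * Y t),
    coe_WY t ht, coe_X, coe_Y]
  ext i j; fin_cases i <;> fin_cases j <;> simp [Matrix.mul_apply, Fin.sum_univ_two, ht] <;> field_simp

variable (K) in
/-- the concrete data in `SL₂`. -/
def SLD : Data K (Matrix.SpecialLinearGroup (Fin 2) K) where
  g := gen
  add b t u := by
    cases b
    · exact Y_add t u
    · exact X_add t u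
  conj b t u ht := by
    cases b
    · exact conj_Y t u ht
    · exact conj_X t u ht

variable (K) in
/-- the data in the presented group. -/
def PD : Data K (PresentedGroup (rels K)) where
  g b t := PresentedGroup.of (b, t)
  add b t u := by
    have hmem : FreeGroup.of (b, t) * FreeGroup.of (b, u) * (FreeGroup.of (b, t + u))⁻¹ ∈ rels K :=
      Or.inl ⟨b, t, u, rfl⟩
    have := PresentedGroup.one_of_mem hmem
    rw [map_mul, map_mul, map_inv] at this
    exact mul_inv_eq_one.mp this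
  conj b t u ht := by
    have hmem : (FreeGroup.of (b, t) * FreeGroup.of (!b, -t⁻¹) * FreeGroup.of (b, t)) * FreeGroup.of (b, u) *
            (FreeGroup.of (b, t) * FreeGroup.of (!b, -t⁻¹) * FreeGroup.of (b, t))⁻¹ *
            (FreeGroup.of (!b, -(t⁻¹ ^ 2 * u)))⁻¹ ∈ rels K :=
      Or.inr ⟨b, t, u, ht, rfl⟩
    have := PresentedGroup.one_of_mem hmem
    simp only [map_mul, map_inv] at this
    exact mul_inv_eq_one.mp this

lemma PD_gen : (PD K).Gen := by
  unfold Data.Gen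
  exact PresentedGroup.closure_range_of (rels K)

lemma lift_rels : ∀ r ∈ rels K, FreeGroup.lift (fun p : Bool × K => gen p.1 p.2) r = 1 := by
  rintro r (⟨b, t, u, rfl⟩ | ⟨b, t, u, ht, rfl⟩)
  · simp only [map_mul, map_inv, FreeGroup.lift_apply_of]
    rw [mul_inv_eq_one]
    exact (SLD K).add b t u
  · simp only [map_mul, map_inv, FreeGroup.lift_apply_of]
    rw [mul_inv_eq_one]
    exact (SLD K).conj b t u ht

variable (K) in
/-- the comparison homomorphism. -/
def φ : PresentedGroup (rels K) →* Matrix.SpecialLinearGroup (Fin 2) K :=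
  PresentedGroup.toGroup lift_rels

@[simp] lemma φ_of (b : Bool) (t : K) : φ K (PresentedGroup.of (b, t)) = gen b t := by
  unfold φ
  rw [PresentedGroup.toGroup.of]

lemma φ_x (t : K) : φ K ((PD K).x t) = X t := φ_of true t
lemma φ_y (t : K) : φ K ((PD K).y t) = Y t := φ_of false t

lemma coe_φ_w (t : K) (ht : t ≠ 0) :
    ((φ K ((PD K).w t) : Matrix.SpecialLinearGroup (Fin 2) K) : Matrix (Fin 2) (Fin 2) K)
      = !![0, t; -t⁻¹, 0] := by
  rw [Data.w_def, map_mul, map_mul, φ_x, φ_y, coe_WX t ht]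

lemma coe_φ_h (t : K) (ht : t ≠ 0) :
    ((φ K ((PD K).h t) : Matrix.SpecialLinearGroup (Fin 2) K) : Matrix (Fin 2) (Fin 2) K)
      = !![t, 0; 0, t⁻¹] := by
  have e : (PD K).h t = (PD K).w t * (PD K).w (-1) := by
    unfold Data.h; rw [Data.w_inv]
  rw [e, map_mul, Matrix.SpecialLinearGroup.coe_mul, coe_φ_w t ht, coe_φ_w (-1) (by simp)]
  ext i j; fin_cases i <;> fin_cases j <;> simp [Matrix.mul_apply, Fin.sum_univ_two, ht]

lemma coe_φ_B (a t : K) (ht : t ≠ 0) :
    ((φ K ((PD K).x a * (PD K).h t) : Matrix.SpecialLinearGroup (Fin 2) K) : Matrix (Fin 2) (Fin 2) K)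
      = !![t, a * t⁻¹; 0, t⁻¹] := by
  rw [map_mul, Matrix.SpecialLinearGroup.coe_mul, coe_φ_h t ht, φ_x, coe_X]
  ext i j; fin_cases i <;> fin_cases j <;> simp [Matrix.mul_apply, Fin.sum_univ_two, ht]

lemma φ_ker (hm : (PD K).HMul) (z : PresentedGroup (rels K)) (hz : φ K z = 1) : z = 1 := by
  have hS := (PD K).mem_S PD_gen hm z
  rcases hS with ⟨a, t, ht, rfl⟩ | ⟨z', ⟨a, t, ht, rfl⟩, b, rfl⟩
  · have h1 := coe_φ_B a t ht
    rw [hz] at h1
    have h00 := congrFun (congrFun h1 0) 0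
    have h01 := congrFun (congrFun h1 0) 1
    simp at h00 h01
    subst h00
    have ha : a = 0 := by simpa using h01.symm
    rw [ha, Data.x_zero, Data.h_one, one_mul]
  · exfalso
    have h1 : ((φ K ((PD K).x a * (PD K).h t * (PD K).w 1 * (PD K).x b)
        : Matrix.SpecialLinearGroup (Fin 2) K) : Matrix (Fin 2) (Fin 2) K) 1 0 = -t⁻¹ := by
      rw [map_mul, map_mul, Matrix.SpecialLinearGroup.coe_mul, Matrix.SpecialLinearGroup.coe_mul,
        coe_φ_B a t ht, coe_φ_w 1 one_ne_zero, φ_x, coe_X]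
      simp [Matrix.mul_apply, Fin.sum_univ_two]
    rw [hz] at h1
    simp at h1
    exact ht h1

lemma φ_injective (hm : (PD K).HMul) : Function.Injective (φ K) :=
  (injective_iff_map_eq_one (φ K)).mpr (φ_ker hm)

lemma φ_surj_aux (M : Matrix.SpecialLinearGroup (Fin 2) K) (hc : M.1 1 0 ≠ 0) :
    ∃ z, φ K z = M := by
  refine ⟨(PD K).x ((M.1 0 0 - 1) / M.1 1 0) * (PD K).y (M.1 1 0) * (PD K).x ((M.1 1 1 - 1) / M.1 1 0), ?_⟩
  rw [map_mul, map_mul, φ_x, φ_y, φ_x]
  apply Subtype.ext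
  simp only [Matrix.SpecialLinearGroup.coe_mul, coe_X, coe_Y]
  have hdet : M.1 0 0 * M.1 1 1 - M.1 0 1 * M.1 1 0 = 1 := by
    have := M.2
    rw [Matrix.det_fin_two] at this
    exact this
  ext i j; fin_cases i <;> fin_cases j <;> simp [Matrix.mul_apply, Fin.sum_univ_two] <;> field_simp <;>
    first | ring1 | linear_combination hdet | linear_combination -hdet

lemma φ_surjective : Function.Surjective (φ K) := by
  intro M
  by_cases hc : M.1 1 0 = 0
  · have hdet : M.1 0 0 * M.1 1 1 - M.1 0 1 * M.1 1 0 = 1 := by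
      have := M.2
      rw [Matrix.det_fin_two] at this
      exact this
    have hd : M.1 1 1 ≠ 0 := by
      intro h
      rw [hc, h] at hdet
      simp at hdet
    have h2 : (M * Y 1).1 1 0 ≠ 0 := by
      rw [Matrix.SpecialLinearGroup.coe_mul, coe_Y]
      simp [Matrix.mul_apply, Fin.sum_univ_two, hc, hd]
    obtain ⟨z, hz⟩ := φ_surj_aux (M * Y 1) h2
    refine ⟨z * ((PD K).y 1)⁻¹, ?_⟩
    rw [map_mul, map_inv, φ_y, hz, mul_inv_cancel_right]
  · exact φ_surj_aux M hc

theorem main (K : Type*) [Field K] [Finite K] :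
    ∃ e : PresentedGroup (rels K) ≃* Matrix.SpecialLinearGroup (Fin 2) K,
      (∀ t : K, ((e (PresentedGroup.of (true, t)) : Matrix (Fin 2) (Fin 2) K)) = !![1, t; 0, 1]) ∧
      (∀ t : K, ((e (PresentedGroup.of (false, t)) : Matrix (Fin 2) (Fin 2) K)) = !![1, 0; t, 1]) := by
  have hm : (PD K).HMul := fun t u ht hu =>
    (PD K).h_mul PD_gen (cyc_of_finite K) (exists_nonsq_add K) t u ht hu
  refine ⟨MulEquiv.ofBijective (φ K) ⟨φ_injective hm, φ_surjective⟩, ?_, ?_⟩
  · intro t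
    change ((φ K (PresentedGroup.of (true, t)) : Matrix.SpecialLinearGroup (Fin 2) K) :
      Matrix (Fin 2) (Fin 2) K) = _
    rw [φ_of]
    rfl
  · intro t
    change ((φ K (PresentedGroup.of (false, t)) : Matrix.SpecialLinearGroup (Fin 2) K) :
      Matrix (Fin 2) (Fin 2) K) = _
    rw [φ_of]
    rfl

end Cfsg.Agent.Helper15.StSL2
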