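import Mathlib
import Cfsg.Agent.Lib.Helper15.StSL2g

set_option autoImplicit false

/-!
# Homomorphisms out of `SL₂(K)` from rank one Steinberg data (helper15)
-/

namespace Cfsg.Agent.Helper15.StSL2

variable {K : Type*} [Field K] {G : Type*} [Group G]

namespace Data

lemma lift_rels' (D : Data K G) :
    ∀ r ∈ rels K, FreeGroup.lift (fun p : Bool × K => D.g p.1 p.2) r = 1 := by
  rintro r (⟨b, t, u, rfl⟩ | ⟨b, t, u, ht, rfl⟩)
  · simp only [map_mul, map_inv, FreeGroup.lift_apply_of]
    rw [mul_inv_eq_one]
    exact D.add b t u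
  · simp only [map_mul, map_inv, FreeGroup.lift_apply_of]
    rw [mul_inv_eq_one]
    exact D.conj b t u ht

/-- the homomorphism from the presented group attached to the data. -/
def hom (D : Data K G) : PresentedGroup (rels K) →* G := PresentedGroup.toGroup D.lift_rels'

@[simp] lemma hom_of (D : Data K G) (b : Bool) (t : K) :
    D.hom (PresentedGroup.of (b, t)) = D.g b t := by
  unfold hom
  rw [PresentedGroup.toGroup.of]

/-- over a finite field, rank one Steinberg data in `G` give a homomorphism `SL₂(K) → G`. -/
theorem exists_hom [Finite K] (D : Data K G) :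
    ∃ φ : Matrix.SpecialLinearGroup (Fin 2) K →* G,
      (∀ t, φ (X t) = D.g true t) ∧ (∀ t, φ (Y t) = D.g false t) := by
  obtain ⟨e, he1, he2⟩ := main K
  refine ⟨D.hom.comp e.symm.toMonoidHom, ?_, ?_⟩
  · intro t
    have h : e (PresentedGroup.of (true, t)) = X t := Subtype.ext (he1 t)
    have h2 : e.symm (X t) = PresentedGroup.of (true, t) := by
      rw [← h, MulEquiv.symm_apply_apply]
    change D.hom (e.symm (X t)) = _
    rw [h2, hom_of]
  · intro t
    have h : e (PresentedGroup.of (false, t)) = Y t := Subtype.ext (he2 t)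
    have h2 : e.symm (Y t) = PresentedGroup.of (false, t) := by
      rw [← h, MulEquiv.symm_apply_apply]
    change D.hom (e.symm (Y t)) = _
    rw [h2, hom_of]

end Data

end Cfsg.Agent.Helper15.StSL2
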