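import Mathlib
import Cfsg.Prelude.Def_Classical
import Cfsg.Agent.Lib.Helper11.Unitary2
import Cfsg.Agent.Lib.Helper11.HermCount
import Cfsg.Agent.Lib.Helper15.Psl27a
import Cfsg.Agent.Lib.Helper15.StSL2h

set_option autoImplicit false

/-!
# An explicit copy of `PSL₂(7)` inside `SU₃(3)`: transfer to a field of 9 elements (helper15)
-/

namespace Cfsg.Agent.Helper15.Psl27

open Matrix

variable {F : Type*} [Field F] [Fintype F]

/-- a ring hom from the model `𝔽₃[i]` into any field with nine elements. -/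
lemma exists_ringHom (hF : Fintype.card F = 9) : ∃ ρ : R9 →+* F, True := by
  have : Fact (Nat.Prime 3) := ⟨Nat.prime_three⟩
  have hchar : CharP F 3 := charP_of_card_eq_prime_pow (f := 2) (by rw [hF]; norm_num)
  letI : Algebra (ZMod 3) F := ZMod.algebra F 3
  obtain ⟨i, hi⟩ : IsSquare (-1 : F) := by
    rw [FiniteField.isSquare_neg_one_iff, hF]; norm_num
  have h : i * i = (-1 : ZMod 3) • (1 : F) + (0 : ZMod 3) • i := by
    rw [← hi]; simp
  exact ⟨(QuadraticAlgebra.lift ⟨i, h⟩ : R9 →ₐ[ZMod 3] F).toRingHom, trivial⟩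

section

variable (ρ : R9 →+* F)

/-- the images of the model matrices. -/
def XF : Matrix (Fin 3) (Fin 3) F := ρ.mapMatrix XR

def YF : Matrix (Fin 3) (Fin 3) F := ρ.mapMatrix YR

lemma XF_det : (XF ρ).det = 1 := by
  unfold XF
  rw [← RingHom.map_det, XR_det, map_one]

lemma YF_det : (YF ρ).det = 1 := by
  unfold YF
  rw [← RingHom.map_det, YR_det, map_one]

lemma map_unitary (M : Matrix (Fin 3) (Fin 3) R9) (h : M.transpose * M.map (fun x => x ^ 3) = 1)
    (φ : F →+* F) (hφ : ∀ x, φ x = x ^ 3) :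
    Cfsg.Agent.Helper11.Herm.IsU φ (ρ.mapMatrix M) := by
  unfold Cfsg.Agent.Helper11.Herm.IsU
  have h2 := congrArg ρ.mapMatrix h
  rw [map_mul, map_one] at h2
  rw [← h2]
  congr 1
  ext a b
  simp [hφ]

end

end Cfsg.Agent.Helper15.Psl27
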