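import Mathlib
import Cfsg.Prelude.Def_Classical
import Cfsg.Agent.Lib.Helper15.Psl27b

set_option autoImplicit false

/-!
# An explicit copy of `PSL₂(7)` inside `SU₃(3)`: Steinberg data in `SU₃(F, 3)` (helper15)
-/

namespace Cfsg.Agent.Helper15.Psl27

open Matrix

lemma XY_entry : (XR * YR) 0 0 - (YR * XR) 0 0 = 1 := by decide

variable {F : Type*} [Field F] [Fintype F]

/-- the matrix of an element of `SU`. -/
def toM : Cfsg.SU 3 F 3 →* Matrix (Fin 3) (Fin 3) F where
  toFun g := (g.1 : Matrix (Fin 3) (Fin 3) F)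
  map_one' := rfl
  map_mul' _ _ := rfl

lemma toM_injective : Function.Injective (toM (F := F)) := by
  intro a b h
  exact Subtype.ext (Subtype.ext h)

variable (hF : Fintype.card F = 9) (ρ : R9 →+* F)

/-- an element of `SU₃(F,3)` from a unitary model matrix of determinant one. -/
def mkSL (M : Matrix (Fin 3) (Fin 3) R9) (hd : M.det = 1) :
    Matrix.SpecialLinearGroup (Fin 3) F :=
  ⟨ρ.mapMatrix M, by rw [← RingHom.map_det, hd, map_one]⟩

def mkSU (M : Matrix (Fin 3) (Fin 3) R9) (hd : M.det = 1)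
    (hu : M.transpose * M.map (fun x => x ^ 3) = 1) : Cfsg.SU 3 F 3 :=
  ⟨mkSL ρ M hd, by
    obtain ⟨φ, hφ⟩ := Cfsg.Agent.Helper11.Herm.exists_frob (F := F) (q := 3) (by rw [hF]; norm_num)
    rw [Cfsg.Agent.Helper11.Herm.mem_SU_iff_isU φ hφ]
    exact map_unitary ρ M hu φ hφ⟩

lemma toM_mkSU (M : Matrix (Fin 3) (Fin 3) R9) (hd : M.det = 1)
    (hu : M.transpose * M.map (fun x => x ^ 3) = 1) :
    toM (mkSU hF ρ M hd hu) = ρ.mapMatrix M := rfl

def Xs : Cfsg.SU 3 F 3 := mkSU hF ρ XR XR_det XR_unitary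

def Ys : Cfsg.SU 3 F 3 := mkSU hF ρ YR YR_det YR_unitary

lemma Xs_pow : Xs hF ρ ^ 7 = 1 := by
  apply toM_injective
  rw [map_pow, map_one]
  unfold Xs
  rw [toM_mkSU, ← map_pow, XR_pow, map_one]

lemma Ys_pow : Ys hF ρ ^ 7 = 1 := by
  apply toM_injective
  rw [map_pow, map_one]
  unfold Ys
  rw [toM_mkSU, ← map_pow, YR_pow, map_one]

/-- the two families. -/
def gs (b : Bool) (t : ZMod 7) : Cfsg.SU 3 F 3 := (if b then Xs hF ρ else Ys hF ρ) ^ t.val

lemma toM_gs_true (t : ZMod 7) : toM (gs hF ρ true t) = ρ.mapMatrix (xs t) := by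
  unfold gs xs Xs
  rw [if_pos rfl, map_pow, toM_mkSU, map_pow]

lemma toM_gs_false (t : ZMod 7) : toM (gs hF ρ false t) = ρ.mapMatrix (ys t) := by
  unfold gs ys Ys
  rw [if_neg (by simp), map_pow, toM_mkSU, map_pow]

lemma gs_add (b : Bool) (t u : ZMod 7) : gs hF ρ b t * gs hF ρ b u = gs hF ρ b (t + u) := by
  unfold gs
  have h7 : (if b then Xs hF ρ else Ys hF ρ) ^ 7 = 1 := by
    cases b
    · simpa using Ys_pow hF ρ
    · simpa using Xs_pow hF ρ
  rw [← pow_add, ZMod.val_add, pow_eq_pow_mod _ h7]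

lemma gs_conj (b : Bool) (t t' u : ZMod 7) (h : t * t' = 1) :
    (gs hF ρ b t * gs hF ρ (!b) (-t') * gs hF ρ b t) * gs hF ρ b u
      * (gs hF ρ b t * gs hF ρ (!b) (-t') * gs hF ρ b t)⁻¹ = gs hF ρ (!b) (-(t' ^ 2 * u)) := by
  rw [mul_inv_eq_iff_eq_mul]
  apply toM_injective
  cases b
  · simp only [map_mul, Bool.not_false, toM_gs_true, toM_gs_false]
    rw [← map_mul, ← map_mul, ← map_mul, ← map_mul, relY t t' u h]
  · simp only [map_mul, Bool.not_true, toM_gs_true, toM_gs_false]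
    rw [← map_mul, ← map_mul, ← map_mul, ← map_mul, relX t t' u h]

lemma gs_W_sq : (gs hF ρ true 1 * gs hF ρ false (-1) * gs hF ρ true 1)
    * (gs hF ρ true 1 * gs hF ρ false (-1) * gs hF ρ true 1) = 1 := by
  apply toM_injective
  simp only [map_mul, toM_gs_true, toM_gs_false, map_one]
  rw [← map_mul, ← map_mul, ← map_mul, W_sq, map_one]

lemma gs_not_comm : gs hF ρ true 1 * gs hF ρ false 1 ≠ gs hF ρ false 1 * gs hF ρ true 1 := by
  intro h
  have h2 := congrArg toM h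
  simp only [map_mul, toM_gs_true, toM_gs_false] at h2
  rw [← map_mul, ← map_mul] at h2
  have hx : xs 1 = XR := by unfold xs; exact pow_one _
  have hy : ys 1 = YR := by unfold ys; exact pow_one _
  rw [hx, hy] at h2
  have h3 := congrFun (congrFun h2 0) 0
  simp only [RingHom.mapMatrix_apply, Matrix.map_apply] at h3
  have h4 : ρ ((XR * YR) 0 0 - (YR * XR) 0 0) = 0 := by rw [map_sub, h3, sub_self]
  rw [XY_entry, map_one] at h4
  exact one_ne_zero h4

/-- Steinberg data in `SU₃(F,3)` over any field with seven elements. -/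
def SUD {K : Type*} [Field K] (σ : K ≃+* ZMod 7) : StSL2.Data K (Cfsg.SU 3 F 3) where
  g b t := gs hF ρ b (σ t)
  add b t u := by rw [gs_add, map_add]
  conj b t u ht := by
    have h : σ t * σ t⁻¹ = 1 := by rw [← map_mul, mul_inv_cancel₀ ht, map_one]
    have h2 := gs_conj hF ρ b (σ t) (σ t⁻¹) (σ u) h
    simp only [map_neg, map_mul, map_pow]
    exact h2

end Cfsg.Agent.Helper15.Psl27
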