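import Mathlib
import Cfsg.Prelude.Def_Classical
import Cfsg.Agent.Lib.Helper15.G2U3a
import Cfsg.Agent.Lib.Helper15.Psl27c
import Cfsg.Agent.Lib.Helper11.Unitary
import Cfsg.Agent.Lib.Helper11.Unitary2
import Cfsg.Agent.Lib.Helper11.Unitary3

set_option autoImplicit false

/-!
# `G₂(2)′ ≅ PSU₃(3)`: the unitary side (helper15)

`SU₃(3)` permutes its sixty-three involutions by conjugation.
Data produced by an external search; everything is re-checked by the kernel.
-/

namespace Cfsg.Agent.Helper15.G2U3

open Matrix SylGen Psl27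

/-- decode a matrix over `R9` from its code: entry `(i, j)` is the base-9 digit `3 i + j`,
a digit `d` standing for `d % 3 + (d / 3) i`. -/
def mat9 (c : ℕ) : Matrix (Fin 3) (Fin 3) R9 := fun i j =>
  ⟨((c / 9 ^ (3 * i.val + j.val) % 9 % 3 : ℕ) : ZMod 3), ((c / 9 ^ (3 * i.val + j.val) % 9 / 3 : ℕ) : ZMod 3)⟩

def yC (b : Bool) : ℕ := if b then 93265135 else 1771488

def PC : List ℕ := [74589075, 63660124, 37977715, 1076166, 40692628, 28650133, 50027508, 63127180, 22214035, 86097843, 544644, 28874963, 27053128, 69032485, 55398888, 56995128, 82672480, 54866628, 41225653, 9684038, 56462868, 70627987, 42290371, 82142380, 28114948, 4842020, 86106565, 64192627, 59886531, 86094918, 37445428, 3202011, 79956307, 74059713, 77301100, 1607931, 78363649, 35854273, 75654531, 21679588, 60420213, 36382132, 86094180, 83203507, 26522371, 50558292, 51619428, 86100005, 43059845, 42818968, 68502880, 23274433, 76183893, 67968460, 84800485, 86095683, 77829724, 14703203, 62013555, 61479873, 65783809, 23804452, 52150212]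

/-- the two generators of `SU₃(3)`. -/
def yM (b : Bool) : Matrix (Fin 3) (Fin 3) R9 := mat9 (yC b)

/-- the sixty-three involutions. -/
def PM (i : Fin 63) : Matrix (Fin 3) (Fin 3) R9 := mat9 (PC.getD i.val 0)

set_option maxRecDepth 100000 in
lemma yM_det : ∀ b : Bool, (yM b).det = 1 := by decide +kernel

lemma yM_unitary : ∀ b : Bool, (yM b)ᵀ * (yM b).map (fun x => x ^ 3) = 1 := by decide +kernel

set_option maxRecDepth 100000 in
lemma yM_PM : ∀ (b : Bool) (i : Fin 63), yM b * PM i = PM (tf b i) * yM b := by decide +kernel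

set_option maxRecDepth 100000 in
lemma PM_inj : ∀ i j : Fin 63, PM i = PM j → i = j := by decide +kernel

lemma R9_pow : ∀ a b : ZMod 3, (⟨a, b⟩ : R9) = 0 ∨ (⟨a, b⟩ : R9) ^ 8 = 1 := by decide

variable {K : Type*} [Field K] [Fintype K]

omit [Fintype K] in
lemma ringHom9_injective (ρ : R9 →+* K) : Function.Injective ρ := by
  rw [injective_iff_map_eq_zero]
  intro z hz
  rcases R9_pow z.re z.im with h0 | h1
  · exact h0
  · exfalso
    have h2 := congrArg ρ h1
    rw [map_pow, map_one] at h2
    change ρ z = 0 at hz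
    rw [hz] at h2
    simp at h2

lemma guOrder_three_three : Cfsg.Agent.Helper11.Herm.guOrder 3 3 = 24192 := by decide

lemma card_SU3 (hK : Fintype.card K = 9) : Nat.card (Cfsg.SU 3 K 3) = 6048 := by
  have hK' : Fintype.card K = 3 ^ 2 := by rw [hK]; norm_num
  have h1 := Cfsg.Agent.Helper11.Herm.card_GU_eq_SU hK' 3 (by norm_num)
  rw [Cfsg.Agent.Helper11.Herm.card_GU hK', guOrder_three_three] at h1
  omega

lemma center_SU3 (hK : Fintype.card K = 9) : Subgroup.center (Cfsg.SU 3 K 3) = ⊥ := by
  have hK' : Fintype.card K = 3 ^ 2 := by rw [hK]; norm_num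
  have h1 := Cfsg.Agent.Helper11.Herm.card_center_SU hK' 3 (by norm_num)
  have h2 : Nat.gcd 3 (3 + 1) = 1 := by decide
  rw [h2] at h1
  exact Subgroup.card_eq_one.mp h1

/-- the generators in `SU₃(K, 3)`. -/
def yG (hK : Fintype.card K = 9) (ρ : R9 →+* K) (b : Bool) : Cfsg.SU 3 K 3 :=
  mkSU hK ρ (yM b) (yM_det b) (yM_unitary b)

/-- `PSU₃(K, 3)` for any field with nine elements is the small permutation group, of order
`6048`. -/
theorem psu_equiv (hK : Fintype.card K = 9) :
    Nat.card RB = 6048 ∧ Nonempty (Cfsg.PSU 3 K 3 ≃* RB) := by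
  obtain ⟨ρ, -⟩ := exists_ringHom hK
  have hρ := ringHom9_injective ρ
  have hinj : Function.Injective (fun i => ρ.mapMatrix (PM i)) := by
    intro i j h
    apply PM_inj i j
    funext a b
    have h2 := congrFun (congrFun h a) b
    simp only [RingHom.mapMatrix_apply, Matrix.map_apply] at h2
    exact hρ h2
  have hrel : ∀ (b : Bool) (i : Fin 63), toM (yG hK ρ b) * ρ.mapMatrix (PM i)
      = ρ.mapMatrix (PM (tg b i)) * toM (yG hK ρ b) := by
    intro b i
    unfold yG
    rw [toM_mkSU, ← map_mul, ← map_mul, tg_apply, yM_PM]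
  have hc : Nat.card (Cfsg.SU 3 K 3) ≤ Nat.card (Subgroup.center (Cfsg.SU 3 K 3)) *
      Nat.card (Subgroup.closure ({tg true, tg false} : Set (Equiv.Perm (Fin 63)))) := by
    rw [card_SU3 hK, center_SU3 hK, Subgroup.card_bot]
    have h : 6048 ≤ Nat.card (Subgroup.closure ({tg true, tg false} : Set (Equiv.Perm (Fin 63)))) :=
      card_RB_ge
    omega
  have hZ : ∀ z ∈ Subgroup.center (Cfsg.SU 3 K 3), ∀ i,
      toM z * ρ.mapMatrix (PM i) = ρ.mapMatrix (PM i) * toM z := by
    intro z hz i
    rw [center_SU3 hK, Subgroup.mem_bot] at hz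
    rw [hz, map_one, one_mul, mul_one]
  constructor
  · -- the order: from the counting criterion
    have h1 := quot_equiv_closure toM (fun i => ρ.mapMatrix (PM i)) hinj (yG hK ρ true)
      (yG hK ρ false) (tg true) (tg false) (hrel true) (hrel false)
      (Subgroup.center (Cfsg.SU 3 K 3)) hZ hc
    obtain ⟨e⟩ := h1
    have h2 : Nat.card (Cfsg.PSU 3 K 3) = 6048 := by
      have h3 := Subgroup.card_eq_card_quotient_mul_card_subgroup
        (Subgroup.center (Cfsg.SU 3 K 3))
      have hc1 : Nat.card (Subgroup.center (Cfsg.SU 3 K 3)) = 1 := by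
        rw [center_SU3 hK, Subgroup.card_bot]
      rw [card_SU3 hK, hc1, mul_one] at h3
      exact h3.symm
    rw [← h2]
    exact (Nat.card_congr e.toEquiv).symm
  · exact quot_equiv_closure toM (fun i => ρ.mapMatrix (PM i)) hinj (yG hK ρ true)
      (yG hK ρ false) (tg true) (tg false) (hrel true) (hrel false)
      (Subgroup.center (Cfsg.SU 3 K 3)) hZ hc

end Cfsg.Agent.Helper15.G2U3
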