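import Mathlib
import Cfsg.Prelude.Def_ChevG2
import Cfsg.Prelude.Def_Classical
import Cfsg.Agent.Lib.Helper15.G2U3b
import Cfsg.Agent.Lib.Helper15.G2U3c
import Cfsg.Agent.Lib.Helper6.FieldMap

set_option autoImplicit false

/-!
# `G₂(2)′ ≅ PSU₃(3)`: assembly (helper15)
-/

namespace Cfsg.Agent.Helper15.G2U3

open Matrix SylGen Cfsg.Lie

/-- the derived subgroup of the big permutation group is the small one. -/
theorem comm_RA_eq (hA : Nat.card RA = 12096) (hB : Nat.card RB = 6048) : ⁅RA, RA⁆ = RB := by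
  have h1 : ⁅RA, RA⁆ ≤ RA := by
    rw [Subgroup.commutator_le]
    intro a ha b hb
    exact RA.mul_mem (RA.mul_mem (RA.mul_mem ha hb) (RA.inv_mem ha)) (RA.inv_mem hb)
  apply le_antisymm _ RB_le
  have : Finite RA := Nat.finite_of_card_ne_zero (by rw [hA]; norm_num)
  exact commutator_le_of_card_eq_two_mul RA RB (RB_le.trans h1) (by rw [hA, hB])

/-- the model statement. -/
theorem model_equiv {K : Type*} [Field K] [Fintype K] (hK : Fintype.card K = 9) :
    Nonempty (commutator Γ2 ≃* Cfsg.PSU 3 K 3) := by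
  obtain ⟨hA, ⟨eA⟩⟩ := g2_equiv_model
  obtain ⟨hB, ⟨eB⟩⟩ := psu_equiv hK
  obtain ⟨e1⟩ := commutator_equiv eA
  have e2 : commutator RA ≃* (commutator RA).map RA.subtype :=
    Subgroup.equivMapOfInjective _ _ RA.subtype_injective
  have h3 : (commutator RA).map RA.subtype = RB := by
    rw [Subgroup.map_subtype_commutator]
    exact comm_RA_eq hA hB
  exact ⟨(e1.trans (e2.trans (MulEquiv.subgroupCongr h3))).trans eB.symm⟩

/-- transport of the Chevalley group along an isomorphism of fields. -/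
theorem group_equiv {F : Type*} [Field F] [Fintype F] (hF : Fintype.card F = 2) :
    Nonempty (Γ2 ≃* chevG2.group F) := by
  have : Fact (Nat.Prime 2) := ⟨Nat.prime_two⟩
  let e : ZMod 2 ≃+* F := ZMod.ringEquivOfPrime F Nat.prime_two hF
  have hXF : Cfsg.Agent.Lead.Chev.XAdd chevG2 F :=
    (Cfsg.Agent.Lead.Chev.chevFacts_of_mem chevG2 chevG2_mem).xadd
  let f := Cfsg.Agent.Helper6.FieldMap.mapGL chevG2 (e : ZMod 2 →+* F)
  have hf : Function.Injective f := Cfsg.Agent.Helper6.FieldMap.mapGL_injective chevG2 _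
  have hmap : (chevG2.group (ZMod 2)).map f = chevG2.group F := by
    apply le_antisymm (Cfsg.Agent.Helper6.FieldMap.map_group_le chevG2 _ hX2 hXF)
    apply Cfsg.Agent.Lead.Chev.group_le_of chevG2 hXF
    intro r _ t
    refine ⟨Cfsg.Agent.Lead.Chev.xGL chevG2 hX2 r (e.symm t),
      Cfsg.Agent.Lead.Chev.xGL_mem_group chevG2 hX2 r _, ?_⟩
    rw [Cfsg.Agent.Helper6.FieldMap.mapGL_xGL chevG2 _ hX2 hXF]
    congr 1
    exact e.apply_symm_apply t
  exact ⟨(Subgroup.equivMapOfInjective _ f hf).trans (MulEquiv.subgroupCongr hmap)⟩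

theorem main {F K : Type*} [Field F] [Fintype F] [Field K] [Fintype K]
    (hF : Fintype.card F = 2) (hK : Fintype.card K = 9) :
    Nonempty (↥(commutator ↥(chevG2.group F)) ≃* Cfsg.PSU 3 K 3) := by
  obtain ⟨e0⟩ := group_equiv hF
  obtain ⟨e1⟩ := commutator_equiv e0.symm
  obtain ⟨e2⟩ := model_equiv hK
  exact ⟨e1.trans e2⟩

end Cfsg.Agent.Helper15.G2U3
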