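import Mathlib
import Cfsg.Prelude.Def_Solvable
import Cfsg.Agent.Lib.Helper21.GAG39Defs

/-!
# S4839 piece G39-FIX (helper15): a `p`-element fixes a nontrivial element of the normal `p`-group `N`.
-/

set_option autoImplicit false
set_option linter.unusedSectionVars false
set_option linter.unusedVariables false

namespace Cfsg.Agent.Helper21.GAG39

open Cfsg
open scoped Pointwise

variable {G : Type*} [Group G] [Finite G] {p : ℕ} [Fact p.Prime] (N : Subgroup G) [N.Normal]

/-- PIECE G39-FIX [L0]. -/
theorem exists_fixed (hNp : IsPGroup p N) (hne : N ≠ ⊥) (u : G) (hu : ∃ k : ℕ, orderOf u = p ^ k) :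
    ∃ n ∈ N, n ≠ 1 ∧ u * n * u⁻¹ = n := by
  classical
  obtain ⟨k, hk⟩ := hu
  -- the cyclic `p`-group generated by `u`
  have hZ : IsPGroup p (Subgroup.zpowers u) := by
    apply IsPGroup.of_card (n := k)
    rw [Nat.card_zpowers, hk]
  -- it acts on `N` by conjugation
  let act : MulAction (Subgroup.zpowers u) N :=
    MulAction.compHom N ((MulAut.conjNormal (H := N)).comp (Subgroup.zpowers u).subtype)
  have hsmul : ∀ (g : Subgroup.zpowers u) (n : N), ((g • n : N) : G) = (g : G) * n * (g : G)⁻¹ := by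
    intro g n
    rfl
  have hpN : p ∣ Nat.card N := by
    have hnt : Nontrivial N := (Subgroup.nontrivial_iff_ne_bot N).2 hne
    obtain ⟨m, hm0, hm⟩ := hNp.nontrivial_iff_card.1 hnt
    rw [hm]
    exact dvd_pow_self p (by omega)
  have hfix1 : (1 : N) ∈ MulAction.fixedPoints (Subgroup.zpowers u) N := by
    intro g
    apply Subtype.ext
    rw [hsmul]
    simp
  obtain ⟨b, hb, hb1⟩ := hZ.exists_fixed_point_of_prime_dvd_card_of_fixed_point N hpN hfix1
  refine ⟨(b : G), b.2, ?_, ?_⟩
  · intro h
    apply hb1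
    apply Subtype.ext
    rw [h]
    rfl
  · have := hb ⟨u, Subgroup.mem_zpowers u⟩
    have h2 := congrArg Subtype.val this
    rw [hsmul] at h2
    exact h2

end Cfsg.Agent.Helper21.GAG39
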