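import Mathlib
import Cfsg.Prelude.Def_Solvable
import Cfsg.Agent.Lib.Helper21.GAG39Defs

/-!
# S4839 piece G39-FPF (helper15): a complement of the normal Hall subgroup `N` acts without fixed points.
-/

set_option autoImplicit false
set_option linter.unusedSectionVars false
set_option linter.unusedVariables false

namespace Cfsg.Agent.Helper21.GAG39

open Cfsg
open scoped Pointwise

variable {G : Type*} [Group G] [Finite G] {p : ℕ} [Fact p.Prime] (N : Subgroup G) [N.Normal]

/-- PIECE G39-FPF [L0]. -/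
theorem fpf_of_complement (hcent : ∀ x ∈ N, x ≠ 1 → IsPGroup p (Subgroup.centralizer ({x} : Set G)))
    (hidx : ¬ p ∣ N.index) (H : Subgroup G) (hH : Subgroup.IsComplement' N H) :
    ∀ h ∈ H, h ≠ 1 → ∀ v ∈ N, h * v * h⁻¹ = v → v = 1 := by
  intro h hh h1 v hv hfix
  by_contra hv1
  have hp : p.Prime := Fact.out
  have hmem : h ∈ Subgroup.centralizer ({v} : Set G) := by
    rw [Subgroup.mem_centralizer_iff]
    intro z hz
    rw [Set.mem_singleton_iff] at hz
    rw [hz]
    calc v * h = (h * v * h⁻¹) * h := by rw [hfix]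
      _ = h * v := by group
  obtain ⟨k, hk⟩ := (hcent v hv hv1) ⟨h, hmem⟩
  have hk' : h ^ (p ^ k) = 1 := by
    have := congrArg Subtype.val hk
    simpa using this
  obtain ⟨j, _, hj⟩ := (Nat.dvd_prime_pow hp).1 (orderOf_dvd_of_pow_eq_one hk')
  have hj0 : j ≠ 0 := by
    rintro rfl
    rw [pow_zero, orderOf_eq_one_iff] at hj
    exact h1 hj
  have h2 : p ∣ orderOf h := by
    rw [hj]
    exact dvd_pow_self p hj0
  have h3 : orderOf h ∣ Nat.card H := by
    have := orderOf_dvd_natCard (⟨h, hh⟩ : H)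
    rwa [Subgroup.orderOf_mk] at this
  have h4 : N.index = Nat.card H := hH.symm.index_eq_card
  apply hidx
  rw [h4]
  exact h2.trans h3

end Cfsg.Agent.Helper21.GAG39
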