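import Mathlib
import Cfsg.Prelude.Def_Solvable
import Cfsg.Agent.Lib.Helper21.GAG39Defs

/-!
# S4839 piece G39-KILLB (helper15): `|C_N(u)| |C_C(u)| ≤ |C_G(u)|` when `N ∩ C = 1`.
-/

set_option autoImplicit false
set_option linter.unusedSectionVars false
set_option linter.unusedVariables false

namespace Cfsg.Agent.Helper21.GAG39

open Cfsg
open scoped Pointwise

variable {G : Type*} [Group G] [Finite G] {p : ℕ} [Fact p.Prime] (N : Subgroup G) [N.Normal]

/-- PIECE G39-KILLB [L0]. -/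
theorem card_mul_le (C : Subgroup G) (hint : N ⊓ C = ⊥) (u : G) :
    Nat.card ↥(fixN N u) * Nat.card ↥(C ⊓ Subgroup.centralizer ({u} : Set G)) ≤
      Nat.card (Subgroup.centralizer ({u} : Set G)) := by
  rw [← Nat.card_prod]
  let f : ↥(fixN N u) × ↥(C ⊓ Subgroup.centralizer ({u} : Set G)) →
      ↥(Subgroup.centralizer ({u} : Set G)) := fun x =>
    ⟨(x.1 : G) * (x.2 : G), Subgroup.mul_mem _ (x.1.2).2 (x.2.2).2⟩
  apply Nat.card_le_card_of_injective f
  rintro ⟨⟨a, ha⟩, ⟨b, hb⟩⟩ ⟨⟨a', ha'⟩, ⟨b', hb'⟩⟩ hab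
  have h1 : a * b = a' * b' := congrArg Subtype.val hab
  have h2 : a'⁻¹ * a = b' * b⁻¹ := by
    calc a'⁻¹ * a = a'⁻¹ * (a * b) * b⁻¹ := by group
      _ = a'⁻¹ * (a' * b') * b⁻¹ := by rw [h1]
      _ = b' * b⁻¹ := by group
  have h3 : a'⁻¹ * a ∈ N ⊓ C := by
    refine ⟨N.mul_mem (N.inv_mem ha'.1) ha.1, ?_⟩
    rw [h2]
    exact C.mul_mem hb'.1 (C.inv_mem hb.1)
  rw [hint, Subgroup.mem_bot] at h3
  have h4 : a = a' := by
    calc a = a' * (a'⁻¹ * a) := by group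
      _ = a' := by rw [h3, mul_one]
  have h5 : b = b' := by
    rw [h4] at h1
    exact mul_left_cancel h1
  subst h4
  subst h5
  rfl

end Cfsg.Agent.Helper21.GAG39
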