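import Mathlib

/-!
# S0197 (helper15): arithmetic definitions for the `C(t) ≅ GL(2,3)` lattice.  See plans/S0197_proof.md.
Everything here is over an arbitrary finite index type `ι` (the irreducible characters of `G`).
-/

set_option autoImplicit false

namespace Cfsg.Agent.Helper15.GL23A

variable {ι : Type*} [Fintype ι]

/-- Column orthogonality for the five value functions `T F U M N` (values at `t`, `f = a²`, `w = tu`,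
and `X(a) = M + N·i√2`) and the degree function `D`. -/
structure Ortho (T F U M N D : ι → ℤ) : Prop where
  tt : ∑ X, T X * T X = 48
  ff : ∑ X, F X * F X = 8
  uu : ∑ X, U X * U X = 6
  mm : ∑ X, M X * M X = 4
  nn : ∑ X, N X * N X = 2
  tf : ∑ X, T X * F X = 0
  tu : ∑ X, T X * U X = 0
  tm : ∑ X, T X * M X = 0
  tn : ∑ X, T X * N X = 0
  fu : ∑ X, F X * U X = 0
  fm : ∑ X, F X * M X = 0
  fn : ∑ X, F X * N X = 0
  um : ∑ X, U X * M X = 0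
  un : ∑ X, U X * N X = 0
  mn : ∑ X, M X * N X = 0
  dt : ∑ X, D X * T X = 0
  df : ∑ X, D X * F X = 0
  du : ∑ X, D X * U X = 0
  dm : ∑ X, D X * M X = 0
  dn : ∑ X, D X * N X = 0

/-- The congruences between the values. -/
structure Cong (T F U M N : ι → ℤ) : Prop where
  fm : ∀ X, (2 : ℤ) ∣ F X - M X
  tf : ∀ X, (2 : ℤ) ∣ T X - F X
  four : ∀ X, (4 : ℤ) ∣ T X + 3 * F X + 2 * N X
  three : ∀ X, (3 : ℤ) ∣ T X - U X

/-- The class-constant equations `∑ T² · (value) / D = N(z) · 48² / g`. -/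
structure CCEq (T F U M N D : ι → ℤ) (g : ℕ) : Prop where
  t : ∑ X, ((T X : ℚ) ^ 2 * T X / D X) = 12 * 2304 / g
  f : ∑ X, ((T X : ℚ) ^ 2 * F X / D X) = 4 * 2304 / g
  u : ∑ X, ((T X : ℚ) ^ 2 * U X / D X) = 6 * 2304 / g
  m : ∑ X, ((T X : ℚ) ^ 2 * M X / D X) = 0
  n : ∑ X, ((T X : ℚ) ^ 2 * N X / D X) = 0

/-- The lattice coordinates `p q r r' d` (multiplicities of the five induced generalized
characters): Gram matrix, degree equations, the principal character `o`. -/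
structure Lat (o : ι) (p q r r' d D : ι → ℤ) : Prop where
  pp : ∑ X, p X * p X = 3
  qq : ∑ X, q X * q X = 3
  rr : ∑ X, r X * r X = 2
  ss : ∑ X, r' X * r' X = 2
  dd : ∑ X, d X * d X = 4
  pq : ∑ X, p X * q X = 1
  pr : ∑ X, p X * r X = -1
  ps : ∑ X, p X * r' X = -1
  pd : ∑ X, p X * d X = -2
  qr : ∑ X, q X * r X = -1
  qs : ∑ X, q X * r' X = -1
  qd : ∑ X, q X * d X = -2
  rs : ∑ X, r X * r' X = 1
  rd : ∑ X, r X * d X = 1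
  sd : ∑ X, r' X * d X = 1
  Dp : ∑ X, D X * p X = 0
  Dq : ∑ X, D X * q X = 0
  Dr : ∑ X, D X * r X = 0
  Ds : ∑ X, D X * r' X = 0
  Dd : ∑ X, D X * d X = 0
  op : p o = 1
  oq : q o = 0
  or' : r o = 0
  os : r' o = 0
  od : d o = -1

/-- The unique realization: seven more indices `y 0 .. y 6` with signs `e i`, all other vectors zero.
`y 0 ↦ e(1,1,-1,-1,-1)`, `y 1 ↦ e(1,0,0,0,0)`, `y 2 ↦ e(0,1,0,0,0)`, `y 3 ↦ e(0,1,0,0,-1)`,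
`y 4 ↦ e(0,0,0,0,1)`, `y 5 ↦ e(0,0,1,0,0)`, `y 6 ↦ e(0,0,0,1,0)`. -/
structure Realization (o : ι) (p q r r' d : ι → ℤ) (y : Fin 7 → ι) (e : Fin 7 → ℤ) : Prop where
  inj : Function.Injective y
  ne : ∀ i, y i ≠ o
  sign : ∀ i, e i = 1 ∨ e i = -1
  zero : ∀ X, X ≠ o → (∀ i, X ≠ y i) → p X = 0 ∧ q X = 0 ∧ r X = 0 ∧ r' X = 0 ∧ d X = 0
  v0 : p (y 0) = e 0 ∧ q (y 0) = e 0 ∧ r (y 0) = -e 0 ∧ r' (y 0) = -e 0 ∧ d (y 0) = -e 0
  v1 : p (y 1) = e 1 ∧ q (y 1) = 0 ∧ r (y 1) = 0 ∧ r' (y 1) = 0 ∧ d (y 1) = 0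
  v2 : p (y 2) = 0 ∧ q (y 2) = e 2 ∧ r (y 2) = 0 ∧ r' (y 2) = 0 ∧ d (y 2) = 0
  v3 : p (y 3) = 0 ∧ q (y 3) = e 3 ∧ r (y 3) = 0 ∧ r' (y 3) = 0 ∧ d (y 3) = -e 3
  v4 : p (y 4) = 0 ∧ q (y 4) = 0 ∧ r (y 4) = 0 ∧ r' (y 4) = 0 ∧ d (y 4) = e 4
  v5 : p (y 5) = 0 ∧ q (y 5) = 0 ∧ r (y 5) = e 5 ∧ r' (y 5) = 0 ∧ d (y 5) = 0
  v6 : p (y 6) = 0 ∧ q (y 6) = 0 ∧ r (y 6) = 0 ∧ r' (y 6) = e 6 ∧ d (y 6) = 0

end Cfsg.Agent.Helper15.GL23A
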