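import Mathlib
import Cfsg.Agent.Lib.Helper15.GL23ArithDefs

/-!
# S0197 piece LIN (helper15's skeleton; proof by helper25)

Change of variables `p = (F+M)/2`, `q = (F-M)/2`, `d = -(T+3F+2U)/6`, `r = (U+d+N)/2`,
`r' = (U+d-N)/2`; integrality from `Cong`, Gram matrix by expanding the sums.
-/

set_option autoImplicit false

namespace Cfsg.Agent.Helper15.GL23A

variable {ι : Type*} [Fintype ι]

namespace LIN

/-- the bilinear form of two integer combinations of `T F U M N` -/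
theorem bil {T F U M N D : ι → ℤ} (ho : Ortho T F U M N D) (a1 a2 a3 a4 a5 b1 b2 b3 b4 b5 : ℤ) :
    ∑ X, (a1 * T X + a2 * F X + a3 * U X + a4 * M X + a5 * N X) *
        (b1 * T X + b2 * F X + b3 * U X + b4 * M X + b5 * N X) =
      48 * (a1 * b1) + 8 * (a2 * b2) + 6 * (a3 * b3) + 4 * (a4 * b4) + 2 * (a5 * b5) := by
  have hpt : ∀ X, (a1 * T X + a2 * F X + a3 * U X + a4 * M X + a5 * N X) *
        (b1 * T X + b2 * F X + b3 * U X + b4 * M X + b5 * N X) =
      (a1 * b1) * (T X * T X) + (a2 * b2) * (F X * F X) + (a3 * b3) * (U X * U X) +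
      (a4 * b4) * (M X * M X) + (a5 * b5) * (N X * N X) +
      (a1 * b2 + a2 * b1) * (T X * F X) + (a1 * b3 + a3 * b1) * (T X * U X) +
      (a1 * b4 + a4 * b1) * (T X * M X) + (a1 * b5 + a5 * b1) * (T X * N X) +
      (a2 * b3 + a3 * b2) * (F X * U X) + (a2 * b4 + a4 * b2) * (F X * M X) +
      (a2 * b5 + a5 * b2) * (F X * N X) + (a3 * b4 + a4 * b3) * (U X * M X) +
      (a3 * b5 + a5 * b3) * (U X * N X) + (a4 * b5 + a5 * b4) * (M X * N X) := by
    intro X; ring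
  rw [Finset.sum_congr rfl (fun X _ => hpt X)]
  simp only [Finset.sum_add_distrib, ← Finset.mul_sum, ho.tt, ho.ff, ho.uu, ho.mm, ho.nn, ho.tf,
    ho.tu, ho.tm, ho.tn, ho.fu, ho.fm, ho.fn, ho.um, ho.un, ho.mn]
  ring

/-- the degree function against an integer combination of `T F U M N` -/
theorem deg {T F U M N D : ι → ℤ} (ho : Ortho T F U M N D) (b1 b2 b3 b4 b5 : ℤ) :
    ∑ X, D X * (b1 * T X + b2 * F X + b3 * U X + b4 * M X + b5 * N X) = 0 := by
  have hpt : ∀ X, D X * (b1 * T X + b2 * F X + b3 * U X + b4 * M X + b5 * N X) =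
      b1 * (D X * T X) + b2 * (D X * F X) + b3 * (D X * U X) + b4 * (D X * M X) +
        b5 * (D X * N X) := by
    intro X; ring
  rw [Finset.sum_congr rfl (fun X _ => hpt X)]
  simp only [Finset.sum_add_distrib, ← Finset.mul_sum, ho.dt, ho.df, ho.du, ho.dm, ho.dn]
  ring

/-- a Gram entry from scaled representations -/
theorem gram {T F U M N D : ι → ℤ} (ho : Ortho T F U M N D) (x y : ι → ℤ) (k l : ℤ)
    (a1 a2 a3 a4 a5 b1 b2 b3 b4 b5 : ℤ)
    (hx : ∀ X, k * x X = a1 * T X + a2 * F X + a3 * U X + a4 * M X + a5 * N X)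
    (hy : ∀ X, l * y X = b1 * T X + b2 * F X + b3 * U X + b4 * M X + b5 * N X) :
    (k * l) * ∑ X, x X * y X =
      48 * (a1 * b1) + 8 * (a2 * b2) + 6 * (a3 * b3) + 4 * (a4 * b4) + 2 * (a5 * b5) := by
  rw [← bil ho, Finset.mul_sum]
  refine Finset.sum_congr rfl fun X _ => ?_
  rw [← hx X, ← hy X]; ring

/-- a degree equation from a scaled representation -/
theorem gdeg {T F U M N D : ι → ℤ} (ho : Ortho T F U M N D) (y : ι → ℤ) (l : ℤ) (hl : l ≠ 0)
    (b1 b2 b3 b4 b5 : ℤ)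
    (hy : ∀ X, l * y X = b1 * T X + b2 * F X + b3 * U X + b4 * M X + b5 * N X) :
    ∑ X, D X * y X = 0 := by
  have h : l * ∑ X, D X * y X = 0 := by
    rw [← deg ho b1 b2 b3 b4 b5, Finset.mul_sum]
    refine Finset.sum_congr rfl fun X _ => ?_
    rw [← hy X]; ring
  rcases mul_eq_zero.mp h with h | h
  · exact absurd h hl
  · exact h

end LIN

/-- PIECE LIN: change of variables `p = (F+M)/2`, `q = (F-M)/2`, `d = -(T+3F+2U)/6`,
`r = (U+d+N)/2`, `r' = (U+d-N)/2` (integrality from `Cong`), Gram matrix by expanding the sums. -/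
theorem exists_lattice (o : ι) (T F U M N D : ι → ℤ) (ho : Ortho T F U M N D) (hc : Cong T F U M N)
    (hoT : T o = 1) (hoF : F o = 1) (hoU : U o = 1) (hoM : M o = 1) (hoN : N o = 0) :
    ∃ p q r r' d : ι → ℤ, Lat o p q r r' d D ∧
      (∀ X, T X = -3 * (p X + q X) - 2 * (r X + r' X) - 4 * d X) ∧
      (∀ X, F X = p X + q X) ∧ (∀ X, U X = r X + r' X - d X) ∧
      (∀ X, M X = p X - q X) ∧ (∀ X, N X = r X - r' X) := by
  -- witnesses of the congruences
  choose a ha using hc.fm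
  choose b hb using hc.tf
  choose e he using hc.four
  choose c hcc using hc.three
  -- the new coordinates
  obtain ⟨q, hq⟩ : ∃ q : ι → ℤ, ∀ X, q X = a X := ⟨_, fun _ => rfl⟩
  obtain ⟨p, hp⟩ : ∃ p : ι → ℤ, ∀ X, p X = F X - a X := ⟨_, fun _ => rfl⟩
  obtain ⟨d, hd⟩ : ∃ d : ι → ℤ, ∀ X, d X = b X + c X - T X := ⟨_, fun _ => rfl⟩
  obtain ⟨r, hr⟩ : ∃ r : ι → ℤ, ∀ X, r X = e X - T X + 2 * b X - c X := ⟨_, fun _ => rfl⟩
  obtain ⟨r', hr'⟩ : ∃ r' : ι → ℤ, ∀ X, r' X = e X - T X + 2 * b X - c X - N X :=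
    ⟨_, fun _ => rfl⟩
  -- scaled representations in terms of T F U M N
  have h2p : ∀ X, 2 * p X = 0 * T X + 1 * F X + 0 * U X + 1 * M X + 0 * N X := by
    intro X; rw [hp]; linarith [ha X]
  have h2q : ∀ X, 2 * q X = 0 * T X + 1 * F X + 0 * U X + (-1) * M X + 0 * N X := by
    intro X; rw [hq]; linarith [ha X]
  have h6d : ∀ X, 6 * d X = (-1) * T X + (-3) * F X + (-2) * U X + 0 * M X + 0 * N X := by
    intro X; rw [hd]; linarith [hb X, hcc X]
  have h12r : ∀ X, 12 * r X = (-1) * T X + (-3) * F X + 4 * U X + 0 * M X + 6 * N X := by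
    intro X; rw [hr]; linarith [hb X, hcc X, he X]
  have h12s : ∀ X, 12 * r' X = (-1) * T X + (-3) * F X + 4 * U X + 0 * M X + (-6) * N X := by
    intro X; rw [hr']; linarith [hb X, hcc X, he X]
  refine ⟨p, q, r, r', d, ?_, ?_, ?_, ?_, ?_, ?_⟩
  · refine ⟨?_, ?_, ?_, ?_, ?_, ?_, ?_, ?_, ?_, ?_, ?_, ?_, ?_, ?_, ?_, ?_, ?_, ?_, ?_, ?_,
      ?_, ?_, ?_, ?_, ?_⟩
    · have := LIN.gram ho p p 2 2 _ _ _ _ _ _ _ _ _ _ h2p h2p; linarith
    · have := LIN.gram ho q q 2 2 _ _ _ _ _ _ _ _ _ _ h2q h2q; linarith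
    · have := LIN.gram ho r r 12 12 _ _ _ _ _ _ _ _ _ _ h12r h12r; linarith
    · have := LIN.gram ho r' r' 12 12 _ _ _ _ _ _ _ _ _ _ h12s h12s; linarith
    · have := LIN.gram ho d d 6 6 _ _ _ _ _ _ _ _ _ _ h6d h6d; linarith
    · have := LIN.gram ho p q 2 2 _ _ _ _ _ _ _ _ _ _ h2p h2q; linarith
    · have := LIN.gram ho p r 2 12 _ _ _ _ _ _ _ _ _ _ h2p h12r; linarith
    · have := LIN.gram ho p r' 2 12 _ _ _ _ _ _ _ _ _ _ h2p h12s; linarith
    · have := LIN.gram ho p d 2 6 _ _ _ _ _ _ _ _ _ _ h2p h6d; linarith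
    · have := LIN.gram ho q r 2 12 _ _ _ _ _ _ _ _ _ _ h2q h12r; linarith
    · have := LIN.gram ho q r' 2 12 _ _ _ _ _ _ _ _ _ _ h2q h12s; linarith
    · have := LIN.gram ho q d 2 6 _ _ _ _ _ _ _ _ _ _ h2q h6d; linarith
    · have := LIN.gram ho r r' 12 12 _ _ _ _ _ _ _ _ _ _ h12r h12s; linarith
    · have := LIN.gram ho r d 12 6 _ _ _ _ _ _ _ _ _ _ h12r h6d; linarith
    · have := LIN.gram ho r' d 12 6 _ _ _ _ _ _ _ _ _ _ h12s h6d; linarith
    · exact LIN.gdeg ho p 2 (by norm_num) _ _ _ _ _ h2p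
    · exact LIN.gdeg ho q 2 (by norm_num) _ _ _ _ _ h2q
    · exact LIN.gdeg ho r 12 (by norm_num) _ _ _ _ _ h12r
    · exact LIN.gdeg ho r' 12 (by norm_num) _ _ _ _ _ h12s
    · exact LIN.gdeg ho d 6 (by norm_num) _ _ _ _ _ h6d
    · have := h2p o; rw [hoT, hoF, hoU, hoM, hoN] at this; linarith
    · have := h2q o; rw [hoT, hoF, hoU, hoM, hoN] at this; linarith
    · have := h12r o; rw [hoT, hoF, hoU, hoM, hoN] at this; linarith
    · have := h12s o; rw [hoT, hoF, hoU, hoM, hoN] at this; linarith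
    · have := h6d o; rw [hoT, hoF, hoU, hoM, hoN] at this; linarith
  · intro X; linarith [h2p X, h2q X, h6d X, h12r X, h12s X]
  · intro X; linarith [h2p X, h2q X]
  · intro X; linarith [h6d X, h12r X, h12s X]
  · intro X; linarith [h2p X, h2q X]
  · intro X; linarith [h12r X, h12s X]

end Cfsg.Agent.Helper15.GL23A
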