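import Mathlib
import Cfsg.Agent.Lib.Helper15.GL23ArithDefs

/-!
# S0197 piece REAL (helper15): uniqueness of the realization of the rank-5 lattice.
Hand proof: plans/S0197_proof.md, section 3.
-/

set_option autoImplicit false
set_option linter.unusedSectionVars false
set_option linter.unusedVariables false
set_option linter.unusedSimpArgs false

namespace Cfsg.Agent.Helper15.GL23A

variable {ι : Type*} [Fintype ι]

namespace REAL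

variable [DecidableEq ι]

theorem sq_pm {x : ℤ} (h : x = 1 ∨ x = -1) : x * x = 1 := by
  rcases h with h | h <;> rw [h] <;> norm_num

/-- entries of a vector of norm at most 3 -/
theorem small (s : Finset ι) (v : ι → ℤ) (n : ℤ) (hn : n ≤ 3) (h : ∑ i ∈ s, v i * v i = n) (j : ι)
    (hj : j ∈ s) : v j = 0 ∨ v j = 1 ∨ v j = -1 := by
  have h1 : v j * v j ≤ ∑ i ∈ s, v i * v i :=
    Finset.single_le_sum (f := fun i => v i * v i) (fun i _ => mul_self_nonneg (v i)) hj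
  have h2 : v j * v j ≤ 3 := by linarith
  have hb1 : v j ≤ 1 := by
    by_contra hc
    push Not at hc
    nlinarith
  have hb2 : -1 ≤ v j := by
    by_contra hc
    push Not at hc
    nlinarith
  omega

theorem rest0 (s : Finset ι) (v : ι → ℤ) (h : ∑ i ∈ s, v i * v i = 0) : ∀ i ∈ s, v i = 0 := by
  intro i hi
  have := (Finset.sum_eq_zero_iff_of_nonneg (fun j _ => mul_self_nonneg (v j))).mp h i hi
  exact mul_self_eq_zero.mp this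

/-- extract one entry `±1` -/
theorem pick (s : Finset ι) (v : ι → ℤ) (n : ℤ) (h1 : 1 ≤ n) (h3 : n ≤ 3)
    (h : ∑ i ∈ s, v i * v i = n) :
    ∃ A ∈ s, (v A = 1 ∨ v A = -1) ∧ ∑ i ∈ s.erase A, v i * v i = n - 1 := by
  have hex : ∃ A ∈ s, v A ≠ 0 := by
    by_contra hno
    push Not at hno
    have : ∑ i ∈ s, v i * v i = 0 := by
      apply Finset.sum_eq_zero
      intro i hi
      rw [hno i hi]
      norm_num
    omega
  obtain ⟨A, hA, hvA⟩ := hex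
  have hcases : v A = 1 ∨ v A = -1 := by
    rcases small s v n h3 h A hA with h0 | h0 | h0
    · exact absurd h0 hvA
    · exact Or.inl h0
    · exact Or.inr h0
  refine ⟨A, hA, hcases, ?_⟩
  have hsplit : v A * v A + ∑ i ∈ s.erase A, v i * v i = ∑ i ∈ s, v i * v i :=
    Finset.add_sum_erase s (fun i => v i * v i) hA
  have := sq_pm hcases
  linarith

/-- the norm outside a list of known entries `±1` -/
theorem known (v : ι → ℤ) (L : List ι) (hnd : L.Nodup) (hL : ∀ i ∈ L, v i = 1 ∨ v i = -1) :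
    ∑ i ∈ Finset.univ.filter (fun i => i ∉ L), v i * v i = (∑ i, v i * v i) - (L.length : ℤ) := by
  have h1 : ∑ i ∈ Finset.univ.filter (fun i => i ∈ L), v i * v i = (L.length : ℤ) := by
    have hone : ∀ i ∈ Finset.univ.filter (fun i => i ∈ L), v i * v i = 1 := by
      intro i hi
      exact sq_pm (hL i (Finset.mem_filter.mp hi).2)
    rw [Finset.sum_congr rfl hone]
    have hS : Finset.univ.filter (fun i => i ∈ L) = L.toFinset := by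
      ext i
      simp
    rw [hS, Finset.sum_const, List.toFinset_card_of_nodup hnd]
    simp
  have h2 := Finset.sum_filter_add_sum_filter_not Finset.univ (fun i => i ∈ L) (fun i => v i * v i)
  linarith

theorem more0 (v : ι → ℤ) (L : List ι) (hnd : L.Nodup) (hL : ∀ i ∈ L, v i = 1 ∨ v i = -1)
    (h : ∑ i, v i * v i = (L.length : ℤ)) : ∀ i, i ∉ L → v i = 0 := by
  intro i hi
  have hk := known v L hnd hL
  rw [h, sub_self] at hk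
  exact rest0 _ v hk i (Finset.mem_filter.mpr ⟨Finset.mem_univ i, hi⟩)

theorem more1 (v : ι → ℤ) (L : List ι) (hnd : L.Nodup) (hL : ∀ i ∈ L, v i = 1 ∨ v i = -1)
    (h : ∑ i, v i * v i = (L.length : ℤ) + 1) :
    ∃ E, E ∉ L ∧ (v E = 1 ∨ v E = -1) ∧ ∀ i, i ∉ L → i ≠ E → v i = 0 := by
  have hk := known v L hnd hL
  rw [h] at hk
  have hk' : ∑ i ∈ Finset.univ.filter (fun i => i ∉ L), v i * v i = 1 := by rw [hk]; ring
  obtain ⟨E, hE, hvE, hrest⟩ := pick _ v 1 le_rfl (by norm_num) hk'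
  refine ⟨E, (Finset.mem_filter.mp hE).2, hvE, ?_⟩
  intro i hi hiE
  have h0 : ∑ i ∈ (Finset.univ.filter (fun i => i ∉ L)).erase E, v i * v i = 0 := by
    rw [hrest]; norm_num
  exact rest0 _ v h0 i
    (Finset.mem_erase.mpr ⟨hiE, Finset.mem_filter.mpr ⟨Finset.mem_univ i, hi⟩⟩)

theorem more2 (v : ι → ℤ) (L : List ι) (hnd : L.Nodup) (hL : ∀ i ∈ L, v i = 1 ∨ v i = -1)
    (h : ∑ i, v i * v i = (L.length : ℤ) + 2) :
    ∃ E F, E ∉ L ∧ F ∉ L ∧ E ≠ F ∧ (v E = 1 ∨ v E = -1) ∧ (v F = 1 ∨ v F = -1) ∧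
      ∀ i, i ∉ L → i ≠ E → i ≠ F → v i = 0 := by
  have hk := known v L hnd hL
  rw [h] at hk
  have hk' : ∑ i ∈ Finset.univ.filter (fun i => i ∉ L), v i * v i = 2 := by rw [hk]; ring
  obtain ⟨E, hE, hvE, hrest⟩ := pick _ v 2 (by norm_num) (by norm_num) hk'
  obtain ⟨F, hF, hvF, hrest2⟩ := pick _ v (2 - 1) (by norm_num) (by norm_num) hrest
  have hFE : F ≠ E := (Finset.mem_erase.mp hF).1
  have hFL : F ∉ L := (Finset.mem_filter.mp (Finset.mem_erase.mp hF).2).2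
  refine ⟨E, F, (Finset.mem_filter.mp hE).2, hFL, hFE.symm, hvE, hvF, ?_⟩
  intro i hi hiE hiF
  have h0 : ∑ i ∈ ((Finset.univ.filter (fun i => i ∉ L)).erase E).erase F, v i * v i = 0 := by
    rw [hrest2]; norm_num
  exact rest0 _ v h0 i
    (Finset.mem_erase.mpr ⟨hiF, Finset.mem_erase.mpr ⟨hiE,
      Finset.mem_filter.mpr ⟨Finset.mem_univ i, hi⟩⟩⟩)

/-- a sum of products over the support of the first factor -/
theorem sumL (v w : ι → ℤ) (L : List ι) (hnd : L.Nodup) (hz : ∀ i, i ∉ L → v i = 0) :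
    ∑ i, v i * w i = (L.map (fun i => v i * w i)).sum := by
  rw [← List.sum_toFinset _ hnd]
  symm
  apply Finset.sum_subset (Finset.subset_univ _)
  intro i _ hi
  rw [hz i (by simpa using hi), zero_mul]

theorem two_terms (x y a b c : ℤ) (hx : x = 1 ∨ x = -1) (hy : y = 1 ∨ y = -1)
    (ha : a = 0 ∨ a = 1 ∨ a = -1) (hb : b = 0 ∨ b = 1 ∨ b = -1) (hc : c = 1 ∨ c = -1)
    (h : x * a + y * b = c) : (a = c * x ∧ b = 0) ∨ (a = 0 ∧ b = c * y) := by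
  rcases hx with rfl | rfl <;> rcases hy with rfl | rfl <;> rcases ha with rfl | rfl | rfl <;>
    rcases hb with rfl | rfl | rfl <;> rcases hc with rfl | rfl <;> simp at h ⊢

theorem alt_int (a b b' ρ ρ5 ρ6 c : ℤ) (hρ : ρ = 1 ∨ ρ = -1) (hρ5 : ρ5 = 1 ∨ ρ5 = -1)
    (hρ6 : ρ6 = 1 ∨ ρ6 = -1) (hc : c = 1 ∨ c = -1) (ha : a = 0 ∨ a = 1 ∨ a = -1)
    (hb : b = 0 ∨ b = 1 ∨ b = -1) (hb' : b' = 0 ∨ b' = 1 ∨ b' = -1)
    (h1 : ρ * a + ρ5 * b = c) (h2 : ρ * a + ρ6 * b' = c) :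
    (a = c * ρ ∧ b = 0 ∧ b' = 0) ∨ (a = 0 ∧ b = c * ρ5 ∧ b' = c * ρ6) := by
  rcases two_terms ρ ρ5 a b c hρ hρ5 ha hb hc h1 with ⟨h3, h4⟩ | ⟨h3, h4⟩
  · rcases two_terms ρ ρ6 a b' c hρ hρ6 ha hb' hc h2 with ⟨h5, h6⟩ | ⟨h5, h6⟩
    · exact Or.inl ⟨h3, h4, h6⟩
    · exfalso
      rw [h5] at h3
      rcases hc with rfl | rfl <;> rcases hρ with rfl | rfl <;> simp at h3
  · rcases two_terms ρ ρ6 a b' c hρ hρ6 ha hb' hc h2 with ⟨h5, h6⟩ | ⟨h5, h6⟩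
    · exfalso
      rw [h3] at h5
      rcases hc with rfl | rfl <;> rcases hρ with rfl | rfl <;> simp at h5
    · exact Or.inr ⟨h3, h4, h6⟩

theorem sum2 (v w : ι → ℤ) (A B : ι) (hAB : A ≠ B) (hz : ∀ i, i ≠ A → i ≠ B → v i = 0) :
    ∑ i, v i * w i = v A * w A + v B * w B := by
  rw [sumL v w [A, B] (by simp [hAB]) (fun i hi => by
    simp only [List.mem_cons, List.not_mem_nil, or_false, not_or] at hi
    exact hz i hi.1 hi.2)]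
  simp

theorem sum3 (v w : ι → ℤ) (A B C : ι) (hAB : A ≠ B) (hAC : A ≠ C) (hBC : B ≠ C)
    (hz : ∀ i, i ≠ A → i ≠ B → i ≠ C → v i = 0) :
    ∑ i, v i * w i = v A * w A + v B * w B + v C * w C := by
  rw [sumL v w [A, B, C] (by simp [hAB, hAC, hBC]) (fun i hi => by
    simp only [List.mem_cons, List.not_mem_nil, or_false, not_or] at hi
    exact hz i hi.1 hi.2.1 hi.2.2)]
  simp [add_assoc]

theorem pm_neg {x : ℤ} (h : x = 1 ∨ x = -1) : -1 * x = 1 ∨ -1 * x = -1 := by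
  rcases h with rfl | rfl <;> simp

theorem pm_one_mul {x : ℤ} (h : x = 1 ∨ x = -1) : 1 * x = 1 ∨ 1 * x = -1 := by
  rcases h with rfl | rfl <;> simp

theorem ne_of_val {f : ι → ℤ} {A B : ι} (hA : f A = 1 ∨ f A = -1) (hB : f B = 0) : A ≠ B := by
  intro hc
  rw [hc, hB] at hA
  rcases hA with h | h <;> omega

theorem kill_P2 (po d0 bp bp' ad bd bd' ρ ρ5 ρ6 : ℤ) (hpo : po = 1) (hdo : d0 = -1)
    (h5 : ρ5 = 1 ∨ ρ5 = -1) (h6 : ρ6 = 1 ∨ ρ6 = -1) (hbp : bp = -1 * ρ5) (hbp' : bp' = -1 * ρ6)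
    (altd : (ad = 1 * ρ ∧ bd = 0 ∧ bd' = 0) ∨ (ad = 0 ∧ bd = 1 * ρ5 ∧ bd' = 1 * ρ6))
    (pd : po * d0 + bp * bd + bp' * bd' = -2) : False := by
  subst hpo hdo hbp hbp'
  rcases h5 with rfl | rfl <;> rcases h6 with rfl | rfl <;>
    rcases altd with ⟨-, rfl, rfl⟩ | ⟨-, rfl, rfl⟩ <;> omega

/-- from `Σ p q = 1` in case Q2 -/
theorem q2_x (po qo ap aq e1 x : ℤ) (hpo : po = 1) (hqo : qo = 0) (haq : aq = 0)
    (he1 : e1 = 1 ∨ e1 = -1) (hx : x = 0 ∨ x = 1 ∨ x = -1)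
    (epq : po * qo + ap * aq + e1 * x = 1) : x = e1 := by
  subst hpo hqo haq
  rcases he1 with rfl | rfl <;> rcases hx with rfl | rfl | rfl <;> omega

theorem kill_Q2 (po d0 ap ad bq bq' bd bd' e1 x z ρ ρ5 ρ6 : ℤ) (hpo : po = 1) (hdo : d0 = -1)
    (hρ : ρ = 1 ∨ ρ = -1) (h5 : ρ5 = 1 ∨ ρ5 = -1) (h6 : ρ6 = 1 ∨ ρ6 = -1)
    (he1 : e1 = 1 ∨ e1 = -1) (hz : z = 0 ∨ z = 1 ∨ z = -1) (hx : x = e1)
    (hap : ap = -1 * ρ) (hbq : bq = -1 * ρ5) (hbq' : bq' = -1 * ρ6)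
    (altd : (ad = 1 * ρ ∧ bd = 0 ∧ bd' = 0) ∨ (ad = 0 ∧ bd = 1 * ρ5 ∧ bd' = 1 * ρ6))
    (epd : po * d0 + ap * ad + e1 * z = -2)
    (qd : bq * bd + bq' * bd' + x * z = -2) : False := by
  subst hpo hdo hap hbq hbq' hx
  rcases hρ with rfl | rfl <;> rcases h5 with rfl | rfl <;> rcases h6 with rfl | rfl <;>
    rcases he1 with rfl | rfl <;> rcases hz with rfl | rfl | rfl <;>
    rcases altd with ⟨rfl, rfl, rfl⟩ | ⟨rfl, rfl, rfl⟩ <;> omega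

/-- from `Σ p q = 1` in case Q1 -/
theorem q1_x (po qo ap aq e1 x ρ : ℤ) (hpo : po = 1) (hqo : qo = 0) (hρ : ρ = 1 ∨ ρ = -1)
    (hap : ap = -1 * ρ) (haq : aq = -1 * ρ)
    (he1 : e1 = 1 ∨ e1 = -1) (hx : x = 0 ∨ x = 1 ∨ x = -1)
    (epq : po * qo + ap * aq + e1 * x = 1) : x = 0 := by
  subst hpo hqo hap haq
  rcases hρ with rfl | rfl <;> rcases he1 with rfl | rfl <;> rcases hx with rfl | rfl | rfl <;>
    omega

/-- from `Σ p d = -2` in case D2 -/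
theorem d2_z (po d0 ap ad e1 z : ℤ) (hpo : po = 1) (hdo : d0 = -1) (had : ad = 0)
    (he1 : e1 = 1 ∨ e1 = -1) (hz : z = 0 ∨ z = 1 ∨ z = -1)
    (epd : po * d0 + ap * ad + e1 * z = -2) : z = 1 ∨ z = -1 := by
  subst hpo hdo had
  rcases he1 with rfl | rfl <;> rcases hz with rfl | rfl | rfl <;> omega

/-- from `Σ p d = -2` in case D1 -/
theorem d1_z (po d0 ap ad e1 z ρ : ℤ) (hpo : po = 1) (hdo : d0 = -1) (hρ : ρ = 1 ∨ ρ = -1)
    (hap : ap = -1 * ρ) (had : ad = 1 * ρ)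
    (he1 : e1 = 1 ∨ e1 = -1) (hz : z = 0 ∨ z = 1 ∨ z = -1)
    (epd : po * d0 + ap * ad + e1 * z = -2) : z = 0 := by
  subst hpo hdo hap had
  rcases hρ with rfl | rfl <;> rcases he1 with rfl | rfl <;> rcases hz with rfl | rfl | rfl <;>
    omega

/-- from `Σ q d = -2` in case Q1, D1 -/
theorem qd_rest (aq ad q2 d2 q3 d3 ρ : ℤ) (hρ : ρ = 1 ∨ ρ = -1) (haq : aq = -1 * ρ)
    (had : ad = 1 * ρ) (qd : aq * ad + q2 * d2 + q3 * d3 = -2) : q2 * d2 + q3 * d3 = -1 := by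
  subst haq had
  rcases hρ with rfl | rfl <;> linarith

end REAL

/-- PIECE REAL: the realization of the lattice is unique up to signs -/
theorem realization [DecidableEq ι] (o : ι) (p q r r' d D : ι → ℤ) (h : Lat o p q r r' d D) :
    ∃ (y : Fin 7 → ι) (e : Fin 7 → ℤ), Realization o p q r r' d y e := by
  classical
  -- smallness of the entries
  have sp : ∀ j, p j = 0 ∨ p j = 1 ∨ p j = -1 := fun j =>
    REAL.small Finset.univ p 3 le_rfl h.pp j (Finset.mem_univ j)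
  have sq : ∀ j, q j = 0 ∨ q j = 1 ∨ q j = -1 := fun j =>
    REAL.small Finset.univ q 3 le_rfl h.qq j (Finset.mem_univ j)
  have ss : ∀ j, r' j = 0 ∨ r' j = 1 ∨ r' j = -1 := fun j =>
    REAL.small Finset.univ r' 2 (by norm_num) h.ss j (Finset.mem_univ j)
  have hdo : d o = 1 ∨ d o = -1 := Or.inr h.od
  have hpo : p o = 1 ∨ p o = -1 := Or.inl h.op
  have sd : ∀ j, d j = 0 ∨ d j = 1 ∨ d j = -1 := by
    intro j
    by_cases hj : j = o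
    · rw [hj, h.od]; right; right; rfl
    · have hk := REAL.known d [o] (List.nodup_singleton o) (by simpa using hdo)
      rw [h.dd] at hk
      have hk' : ∑ i ∈ Finset.univ.filter (fun i => i ∉ [o]), d i * d i = 3 := by
        rw [hk]; norm_num
      exact REAL.small _ d 3 le_rfl hk' j
        (Finset.mem_filter.mpr ⟨Finset.mem_univ j, by simpa using hj⟩)
  -- step (a): the supports of `r` and `r'`
  obtain ⟨Y0, Th, hY0Th, hrY0, hrTh, hrz, hsY0, hsTh⟩ : ∃ Y0 Th : ι, Y0 ≠ Th ∧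
      (r Y0 = 1 ∨ r Y0 = -1) ∧ (r Th = 1 ∨ r Th = -1) ∧ (∀ i, i ≠ Y0 → i ≠ Th → r i = 0) ∧
      r' Y0 = r Y0 ∧ r' Th = 0 := by
    obtain ⟨R1, R2, -, -, h12, h1, h2, hz⟩ :=
      REAL.more2 r [] List.nodup_nil (by simp) (by rw [h.rr]; simp)
    have hz' : ∀ i, i ≠ R1 → i ≠ R2 → r i = 0 := fun i h1 h2 => hz i (by simp) h1 h2
    have hrs := h.rs
    rw [REAL.sum2 r r' R1 R2 h12 hz'] at hrs
    rcases REAL.two_terms (r R1) (r R2) (r' R1) (r' R2) 1 h1 h2 (ss R1) (ss R2) (Or.inl rfl) hrs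
      with ⟨ha, hb⟩ | ⟨ha, hb⟩
    · exact ⟨R1, R2, h12, h1, h2, hz', by rw [ha]; ring, hb⟩
    · exact ⟨R2, R1, h12.symm, h2, h1, fun i hi2 hi1 => hz' i hi1 hi2, by rw [hb]; ring, ha⟩
  have hsY0' : r' Y0 = 1 ∨ r' Y0 = -1 := by rw [hsY0]; exact hrY0
  obtain ⟨Th', hTh'Y0, hsTh', hsz⟩ : ∃ Th' : ι, Th' ≠ Y0 ∧ (r' Th' = 1 ∨ r' Th' = -1) ∧
      ∀ i, i ≠ Y0 → i ≠ Th' → r' i = 0 := by
    obtain ⟨E, hE, hvE, hz⟩ := REAL.more1 r' [Y0] (List.nodup_singleton _) (by simpa using hsY0')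
      (by rw [h.ss]; norm_num)
    exact ⟨E, by simpa using hE, hvE, fun i hi hiE => hz i (by simpa using hi) hiE⟩
  have hTh'Th : Th' ≠ Th := REAL.ne_of_val hsTh' hsTh
  have hrTh' : r Th' = 0 := hrz Th' hTh'Y0 hTh'Th
  have hY0o : Y0 ≠ o := REAL.ne_of_val hrY0 h.or'
  have hTho : Th ≠ o := REAL.ne_of_val hrTh h.or'
  have hTh'o : Th' ≠ o := REAL.ne_of_val hsTh' h.os
  have sumr : ∀ w : ι → ℤ, ∑ i, w i * r i = r Y0 * w Y0 + r Th * w Th := by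
    intro w
    rw [← REAL.sum2 r w Y0 Th hY0Th hrz]
    exact Finset.sum_congr rfl (fun i _ => mul_comm _ _)
  have sumr' : ∀ w : ι → ℤ, ∑ i, w i * r' i = r Y0 * w Y0 + r' Th' * w Th' := by
    intro w
    rw [← hsY0, ← REAL.sum2 r' w Y0 Th' hTh'Y0.symm hsz]
    exact Finset.sum_congr rfl (fun i _ => mul_comm _ _)
  -- step (b): the alternatives for `p`, `q`, `d`
  have altp := REAL.alt_int (p Y0) (p Th) (p Th') (r Y0) (r Th) (r' Th') (-1) hrY0 hrTh hsTh'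
    (Or.inr rfl) (sp _) (sp _) (sp _) (by rw [← sumr p]; exact h.pr) (by rw [← sumr' p]; exact h.ps)
  have altq := REAL.alt_int (q Y0) (q Th) (q Th') (r Y0) (r Th) (r' Th') (-1) hrY0 hrTh hsTh'
    (Or.inr rfl) (sq _) (sq _) (sq _) (by rw [← sumr q]; exact h.qr) (by rw [← sumr' q]; exact h.qs)
  have altd := REAL.alt_int (d Y0) (d Th) (d Th') (r Y0) (r Th) (r' Th') 1 hrY0 hrTh hsTh'
    (Or.inl rfl) (sd _) (sd _) (sd _)
    (by rw [← sumr d]; rw [← h.rd]; exact Finset.sum_congr rfl (fun i _ => mul_comm _ _))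
    (by rw [← sumr' d]; rw [← h.sd]; exact Finset.sum_congr rfl (fun i _ => mul_comm _ _))
  -- step (d): `Y0 ∈ supp p`
  have hP1 : p Y0 = -1 * r Y0 ∧ p Th = 0 ∧ p Th' = 0 := by
    rcases altp with h1 | ⟨hp1, hp2, hp3⟩
    · exact h1
    · exfalso
      have hL : ∀ i ∈ [o, Th, Th'], p i = 1 ∨ p i = -1 := by
        intro i hi
        simp only [List.mem_cons, List.not_mem_nil, or_false] at hi
        rcases hi with rfl | rfl | rfl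
        · exact hpo
        · rw [hp2]; exact REAL.pm_neg hrTh
        · rw [hp3]; exact REAL.pm_neg hsTh'
      have pz := REAL.more0 p [o, Th, Th'] (by simp [hTho.symm, hTh'o.symm, hTh'Th.symm]) hL
        (by rw [h.pp]; norm_num)
      have pd := h.pd
      rw [REAL.sum3 p d o Th Th' hTho.symm hTh'o.symm hTh'Th.symm
        (fun i h1 h2 h3 => pz i (by simp [h1, h2, h3]))] at pd
      exact REAL.kill_P2 _ _ _ _ _ _ _ _ _ _ h.op h.od hrTh hsTh' hp2 hp3 altd pd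
  obtain ⟨hpY0, hpTh, hpTh'⟩ := hP1
  have hpY0' : p Y0 = 1 ∨ p Y0 = -1 := by rw [hpY0]; exact REAL.pm_neg hrY0
  obtain ⟨Y1, hY1o, hY1Y0, hpY1, pz⟩ : ∃ Y1 : ι, Y1 ≠ o ∧ Y1 ≠ Y0 ∧ (p Y1 = 1 ∨ p Y1 = -1) ∧
      ∀ i, i ≠ o → i ≠ Y0 → i ≠ Y1 → p i = 0 := by
    have hL : ∀ i ∈ [o, Y0], p i = 1 ∨ p i = -1 := by
      intro i hi
      simp only [List.mem_cons, List.not_mem_nil, or_false] at hi
      rcases hi with rfl | rfl
      · exact hpo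
      · exact hpY0'
    obtain ⟨E, hE, hvE, hz⟩ := REAL.more1 p [o, Y0] (by simp [hY0o.symm]) hL
      (by rw [h.pp]; norm_num)
    simp only [List.mem_cons, List.not_mem_nil, or_false, not_or] at hE
    exact ⟨E, hE.1, hE.2, hvE, fun i h1 h2 h3 => hz i (by simp [h1, h2]) h3⟩
  have hY1Th : Y1 ≠ Th := REAL.ne_of_val hpY1 hpTh
  have hY1Th' : Y1 ≠ Th' := REAL.ne_of_val hpY1 hpTh'
  have sump : ∀ w : ι → ℤ, ∑ i, p i * w i = p o * w o + p Y0 * w Y0 + p Y1 * w Y1 :=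
    fun w => REAL.sum3 p w o Y0 Y1 hY0o.symm hY1o.symm hY1Y0.symm pz
  have epq := h.pq
  rw [sump q] at epq
  have epd := h.pd
  rw [sump d] at epd
  -- step (e): `Y0 ∈ supp q`
  have hQ1 : q Y0 = -1 * r Y0 ∧ q Th = 0 ∧ q Th' = 0 := by
    rcases altq with h1 | ⟨hq1, hq2, hq3⟩
    · exact h1
    · exfalso
      have hx := REAL.q2_x _ _ _ _ _ _ h.op h.oq hq1 hpY1 (sq Y1) epq
      have hL : ∀ i ∈ [Th, Th', Y1], q i = 1 ∨ q i = -1 := by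
        intro i hi
        simp only [List.mem_cons, List.not_mem_nil, or_false] at hi
        rcases hi with rfl | rfl | rfl
        · rw [hq2]; exact REAL.pm_neg hrTh
        · rw [hq3]; exact REAL.pm_neg hsTh'
        · rw [hx]; exact hpY1
      have qz := REAL.more0 q [Th, Th', Y1] (by simp [hTh'Th.symm, hY1Th.symm, hY1Th'.symm]) hL
        (by rw [h.qq]; norm_num)
      have qd := h.qd
      rw [REAL.sum3 q d Th Th' Y1 hTh'Th.symm hY1Th.symm hY1Th'.symm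
        (fun i h1 h2 h3 => qz i (by simp [h1, h2, h3]))] at qd
      exact REAL.kill_Q2 _ _ _ _ _ _ _ _ _ _ _ _ _ _ h.op h.od hrY0 hrTh hsTh' hpY1 (sd Y1) hx hpY0
        hq2 hq3 altd epd qd
  obtain ⟨hqY0, hqTh, hqTh'⟩ := hQ1
  have hqY0' : q Y0 = 1 ∨ q Y0 = -1 := by rw [hqY0]; exact REAL.pm_neg hrY0
  have hqY1 : q Y1 = 0 := REAL.q1_x _ _ _ _ _ _ _ h.op h.oq hrY0 hpY0 hqY0 hpY1 (sq Y1) epq
  -- step (f): `Y0 ∈ supp d`
  obtain ⟨A2, A3, hA2Y0, hA3Y0, hA23, hqA2, hqA3, qz⟩ : ∃ A2 A3 : ι, A2 ≠ Y0 ∧ A3 ≠ Y0 ∧ A2 ≠ A3 ∧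
      (q A2 = 1 ∨ q A2 = -1) ∧ (q A3 = 1 ∨ q A3 = -1) ∧
      ∀ i, i ≠ Y0 → i ≠ A2 → i ≠ A3 → q i = 0 := by
    obtain ⟨E, F, hE, hF, hEF, hvE, hvF, hz⟩ := REAL.more2 q [Y0] (List.nodup_singleton _)
      (by simpa using hqY0') (by rw [h.qq]; norm_num)
    exact ⟨E, F, by simpa using hE, by simpa using hF, hEF, hvE, hvF,
      fun i h1 h2 h3 => hz i (by simpa using h1) h2 h3⟩
  have sumq : ∀ w : ι → ℤ, ∑ i, q i * w i = q Y0 * w Y0 + q A2 * w A2 + q A3 * w A3 :=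
    fun w => REAL.sum3 q w Y0 A2 A3 hA2Y0.symm hA3Y0.symm hA23 qz
  have eqd := h.qd
  rw [sumq d] at eqd
  have hA2o : A2 ≠ o := REAL.ne_of_val hqA2 h.oq
  have hA3o : A3 ≠ o := REAL.ne_of_val hqA3 h.oq
  have hA2Y1 : A2 ≠ Y1 := REAL.ne_of_val hqA2 hqY1
  have hA3Y1 : A3 ≠ Y1 := REAL.ne_of_val hqA3 hqY1
  have hA2Th : A2 ≠ Th := REAL.ne_of_val hqA2 hqTh
  have hA3Th : A3 ≠ Th := REAL.ne_of_val hqA3 hqTh
  have hA2Th' : A2 ≠ Th' := REAL.ne_of_val hqA2 hqTh'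
  have hA3Th' : A3 ≠ Th' := REAL.ne_of_val hqA3 hqTh'
  have hD1 : d Y0 = 1 * r Y0 ∧ d Th = 0 ∧ d Th' = 0 := by
    rcases altd with h1 | ⟨hd1, hd2, hd3⟩
    · exact h1
    · exfalso
      have hz := REAL.d2_z _ _ _ _ _ _ h.op h.od hd1 hpY1 (sd Y1) epd
      have hL : ∀ i ∈ [o, Th, Th', Y1], d i = 1 ∨ d i = -1 := by
        intro i hi
        simp only [List.mem_cons, List.not_mem_nil, or_false] at hi
        rcases hi with rfl | rfl | rfl | rfl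
        · exact hdo
        · rw [hd2]; exact REAL.pm_one_mul hrTh
        · rw [hd3]; exact REAL.pm_one_mul hsTh'
        · exact hz
      have dz := REAL.more0 d [o, Th, Th', Y1]
        (by simp [hTho.symm, hTh'o.symm, hY1o.symm, hTh'Th.symm, hY1Th.symm, hY1Th'.symm]) hL
        (by rw [h.dd]; norm_num)
      have h2 : d A2 = 0 := dz A2 (by simp [hA2o, hA2Th, hA2Th', hA2Y1])
      have h3 : d A3 = 0 := dz A3 (by simp [hA3o, hA3Th, hA3Th', hA3Y1])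
      rw [h2, h3, hd1] at eqd
      simp at eqd
  obtain ⟨hdY0, hdTh, hdTh'⟩ := hD1
  have hdY0' : d Y0 = 1 ∨ d Y0 = -1 := by rw [hdY0]; exact REAL.pm_one_mul hrY0
  have hdY1 : d Y1 = 0 := REAL.d1_z _ _ _ _ _ _ _ h.op h.od hrY0 hpY0 hdY0 hpY1 (sd Y1) epd
  have eqd' := REAL.qd_rest _ _ _ _ _ _ _ hrY0 hqY0 hdY0 eqd
  obtain ⟨Y2, Y3, hY2Y0, hY3Y0, hY23, hqY2, hqY3, qz', hY2o, hY3o, hY2Y1, hY3Y1, hY2Th, hY3Th,
      hY2Th', hY3Th', hdY2, hdY3⟩ : ∃ Y2 Y3 : ι, Y2 ≠ Y0 ∧ Y3 ≠ Y0 ∧ Y2 ≠ Y3 ∧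
      (q Y2 = 1 ∨ q Y2 = -1) ∧ (q Y3 = 1 ∨ q Y3 = -1) ∧
      (∀ i, i ≠ Y0 → i ≠ Y2 → i ≠ Y3 → q i = 0) ∧ Y2 ≠ o ∧ Y3 ≠ o ∧ Y2 ≠ Y1 ∧ Y3 ≠ Y1 ∧
      Y2 ≠ Th ∧ Y3 ≠ Th ∧ Y2 ≠ Th' ∧ Y3 ≠ Th' ∧ d Y2 = 0 ∧ d Y3 = -1 * q Y3 := by
    rcases REAL.two_terms (q A2) (q A3) (d A2) (d A3) (-1) hqA2 hqA3 (sd A2) (sd A3) (Or.inr rfl) eqd'
      with ⟨ha, hb⟩ | ⟨ha, hb⟩
    · exact ⟨A3, A2, hA3Y0, hA2Y0, hA23.symm, hqA3, hqA2, fun i h1 h2 h3 => qz i h1 h3 h2,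
        hA3o, hA2o, hA3Y1, hA2Y1, hA3Th, hA2Th, hA3Th', hA2Th', hb, ha⟩
    · exact ⟨A2, A3, hA2Y0, hA3Y0, hA23, hqA2, hqA3, qz, hA2o, hA3o, hA2Y1, hA3Y1, hA2Th, hA3Th,
        hA2Th', hA3Th', ha, hb⟩
  have hdY3' : d Y3 = 1 ∨ d Y3 = -1 := by rw [hdY3]; exact REAL.pm_neg hqY3
  obtain ⟨Y4, hY4o, hY4Y0, hY4Y3, hdY4, dz⟩ : ∃ Y4 : ι, Y4 ≠ o ∧ Y4 ≠ Y0 ∧ Y4 ≠ Y3 ∧
      (d Y4 = 1 ∨ d Y4 = -1) ∧ ∀ i, i ≠ o → i ≠ Y0 → i ≠ Y3 → i ≠ Y4 → d i = 0 := by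
    have hL : ∀ i ∈ [o, Y0, Y3], d i = 1 ∨ d i = -1 := by
      intro i hi
      simp only [List.mem_cons, List.not_mem_nil, or_false] at hi
      rcases hi with rfl | rfl | rfl
      · exact hdo
      · exact hdY0'
      · exact hdY3'
    obtain ⟨E, hE, hvE, hz⟩ := REAL.more1 d [o, Y0, Y3] (by simp [hY0o.symm, hY3o.symm, hY3Y0.symm])
      hL (by rw [h.dd]; norm_num)
    simp only [List.mem_cons, List.not_mem_nil, or_false, not_or] at hE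
    exact ⟨E, hE.1, hE.2.1, hE.2.2, hvE, fun i h1 h2 h3 h4 => hz i (by simp [h1, h2, h3]) h4⟩
  have hY4Y1 : Y4 ≠ Y1 := REAL.ne_of_val hdY4 hdY1
  have hY4Y2 : Y4 ≠ Y2 := REAL.ne_of_val hdY4 hdY2
  have hY4Th : Y4 ≠ Th := REAL.ne_of_val hdY4 hdTh
  have hY4Th' : Y4 ≠ Th' := REAL.ne_of_val hdY4 hdTh'
  refine ⟨![Y0, Y1, Y2, Y3, Y4, Th, Th'], ![p Y0, p Y1, q Y2, q Y3, d Y4, r Th, r' Th'], ?_⟩
  refine
    { inj := ?_
      ne := ?_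
      sign := ?_
      zero := ?_
      v0 := ?_
      v1 := ?_
      v2 := ?_
      v3 := ?_
      v4 := ?_
      v5 := ?_
      v6 := ?_ }
  · have hnd : (List.ofFn ![Y0, Y1, Y2, Y3, Y4, Th, Th']).Nodup := by
      simp [List.ofFn_succ, hY1Y0.symm, hY2Y0.symm, hY3Y0.symm, hY4Y0.symm, hY0Th, hTh'Y0.symm,
        hY2Y1.symm, hY3Y1.symm, hY4Y1.symm, hY1Th, hY1Th', hY23, hY4Y2.symm, hY2Th, hY2Th',
        hY4Y3.symm, hY3Th, hY3Th', hY4Th, hY4Th', hTh'Th.symm]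
    exact List.nodup_ofFn.mp hnd
  · intro i
    fin_cases i
    exacts [hY0o, hY1o, hY2o, hY3o, hY4o, hTho, hTh'o]
  · intro i
    fin_cases i
    exacts [hpY0', hpY1, hqY2, hqY3, hdY4, hrTh, hsTh']
  · intro X hXo hX
    have h0 : X ≠ Y0 := hX 0
    have h1 : X ≠ Y1 := hX 1
    have h2 : X ≠ Y2 := hX 2
    have h3 : X ≠ Y3 := hX 3
    have h4 : X ≠ Y4 := hX 4
    have h5 : X ≠ Th := hX 5
    have h6 : X ≠ Th' := hX 6
    exact ⟨pz X hXo h0 h1, qz' X h0 h2 h3, hrz X h0 h5, hsz X h0 h6, dz X hXo h0 h3 h4⟩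
  · show p Y0 = p Y0 ∧ q Y0 = p Y0 ∧ r Y0 = -(p Y0) ∧ r' Y0 = -(p Y0) ∧ d Y0 = -(p Y0)
    exact ⟨rfl, by rw [hqY0, hpY0], by rw [hpY0]; ring, by rw [hsY0, hpY0]; ring,
      by rw [hdY0, hpY0]; ring⟩
  · show p Y1 = p Y1 ∧ q Y1 = 0 ∧ r Y1 = 0 ∧ r' Y1 = 0 ∧ d Y1 = 0
    exact ⟨rfl, hqY1, hrz Y1 hY1Y0 hY1Th, hsz Y1 hY1Y0 hY1Th', hdY1⟩
  · show p Y2 = 0 ∧ q Y2 = q Y2 ∧ r Y2 = 0 ∧ r' Y2 = 0 ∧ d Y2 = 0
    exact ⟨pz Y2 hY2o hY2Y0 hY2Y1, rfl, hrz Y2 hY2Y0 hY2Th, hsz Y2 hY2Y0 hY2Th', hdY2⟩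
  · show p Y3 = 0 ∧ q Y3 = q Y3 ∧ r Y3 = 0 ∧ r' Y3 = 0 ∧ d Y3 = -(q Y3)
    exact ⟨pz Y3 hY3o hY3Y0 hY3Y1, rfl, hrz Y3 hY3Y0 hY3Th, hsz Y3 hY3Y0 hY3Th',
      by rw [hdY3]; ring⟩
  · show p Y4 = 0 ∧ q Y4 = 0 ∧ r Y4 = 0 ∧ r' Y4 = 0 ∧ d Y4 = d Y4
    exact ⟨pz Y4 hY4o hY4Y0 hY4Y1, qz' Y4 hY4Y0 hY4Y2 hY4Y3, hrz Y4 hY4Y0 hY4Th,
      hsz Y4 hY4Y0 hY4Th', rfl⟩
  · show p Th = 0 ∧ q Th = 0 ∧ r Th = r Th ∧ r' Th = 0 ∧ d Th = 0
    exact ⟨hpTh, hqTh, rfl, hsTh, hdTh⟩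
  · show p Th' = 0 ∧ q Th' = 0 ∧ r Th' = 0 ∧ r' Th' = r' Th' ∧ d Th' = 0
    exact ⟨hpTh', hqTh', hrTh', rfl, hdTh'⟩

end Cfsg.Agent.Helper15.GL23A
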