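import Mathlib

/-!
# S0197 piece SOLVE (helper25 for helper15): the Diophantine system.

From `d1`, `Y1 = -1 - Y0`; with `y = Y0 - 2` the first equation becomes
`g * y^2 = 4608 (y+2)(y+3)`, so `y ∣ 27648 = 2^10 * 3^3`; enumerating the divisors with
`16 ∣ g`, `¬ 32 ∣ g` leaves `(y, g) ∈ {(8,7920), (-8,2160), (24,5616), (-24,3696)}`; the two
negative cases are killed by the second and third equations.
-/

set_option autoImplicit false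

namespace Cfsg.Agent.Helper15.GL23A

namespace SOLVE


/-- divisors of `2^10 * 3^3` -/
theorem dvd_form {n : ℕ} (h : n ∣ 27648) : ∃ a ≤ 10, ∃ b ≤ 3, n = 2 ^ a * 3 ^ b := by
  have h' : n ∣ 2 ^ 10 * 3 ^ 3 := by norm_num; exact h
  obtain ⟨k₁, k₂, h1, h2, rfl⟩ := (Nat.dvd_mul).mp h'
  obtain ⟨a, ha, rfl⟩ := (Nat.dvd_prime_pow Nat.prime_two).mp h1
  obtain ⟨b, hb, rfl⟩ := (Nat.dvd_prime_pow Nat.prime_three).mp h2
  exact ⟨a, ha, b, hb, rfl⟩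

/-- the first equation alone -/
theorem cases_y (g : ℕ) (hg : 16 ∣ g) (hg' : ¬ 32 ∣ g) (y : ℤ)
    (E : (g : ℤ) * y ^ 2 = 4608 * ((y + 2) * (y + 3))) :
    (y = 8 ∧ g = 7920) ∨ (y = -8 ∧ g = 2160) ∨ (y = 24 ∧ g = 5616) ∨ (y = -24 ∧ g = 3696) := by
  have hdvd : y ∣ 27648 := by
    refine ⟨(g : ℤ) * y - 4608 * y - 23040, ?_⟩
    linear_combination (-1 : ℤ) * E
  have hn : y.natAbs ∣ 27648 := by
    have := Int.natAbs_dvd_natAbs.mpr hdvd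
    simpa using this
  obtain ⟨a, ha, b, hb, hab⟩ := dvd_form hn
  have hy : y = ((2 ^ a * 3 ^ b : ℕ) : ℤ) ∨ y = -((2 ^ a * 3 ^ b : ℕ) : ℤ) := by
    rw [← hab]; exact Int.natAbs_eq y
  interval_cases a <;> interval_cases b <;> rcases hy with hy | hy <;> subst hy <;>
    norm_num at E <;> omega

/-- the integer form of `1 + 4/A + 9/(-(A+1)) = 4608/g` -/
theorem e1_int (g : ℕ) (hg0 : g ≠ 0) (Y0 : ℤ) (h0 : Y0 ≠ 0) (h01 : Y0 + 1 ≠ 0)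
    (e1 : (1 : ℚ) + 4 / Y0 + 9 / ((-1 - Y0 : ℤ) : ℚ) = 4608 / g) :
    (g : ℤ) * (Y0 - 2) ^ 2 = 4608 * ((Y0 - 2 + 2) * (Y0 - 2 + 3)) := by
  have h0' : (Y0 : ℚ) ≠ 0 := by exact_mod_cast h0
  have h1' : ((Y0 : ℚ) + 1) ≠ 0 := by exact_mod_cast h01
  have hgq : (g : ℚ) ≠ 0 := by exact_mod_cast hg0
  have hneg : ((-1 - Y0 : ℤ) : ℚ) = -((Y0 : ℚ) + 1) := by push_cast; ring
  rw [hneg] at e1
  have key : ((g : ℤ) : ℚ) * ((Y0 : ℚ) - 2) ^ 2 = 4608 * (((Y0 : ℚ) - 2 + 2) * ((Y0 : ℚ) - 2 + 3)) := by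
    field_simp at e1
    push_cast
    linarith
  exact_mod_cast key


/-- the case `Y0 = -6`, `g = 2160` is impossible -/
theorem kill6 (Y2 Y3 Y4 : ℤ) (h2 : Y2 ≠ 0) (h3 : Y3 ≠ 0) (h4 : Y4 ≠ 0)
    (d2 : (-6 : ℤ) + Y2 + Y3 = 0) (d3 : -1 - (-6 : ℤ) - Y3 + Y4 = 0)
    (e2 : (4 : ℚ) / ((-6 : ℤ) : ℚ) + 9 / Y2 + 1 / Y3 = 4608 / ((2160 : ℕ) : ℚ))
    (e3 : (-1 : ℚ) - 4 / ((-6 : ℤ) : ℚ) - 1 / Y3 + 16 / Y4 = -13824 / ((2160 : ℕ) : ℚ)) : False := by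
  have hY3 : Y3 = 6 - Y2 := by linarith
  have hY4 : Y4 = -5 + Y3 := by linarith
  have h2' : (Y2 : ℚ) ≠ 0 := by exact_mod_cast h2
  have h3' : (Y3 : ℚ) ≠ 0 := by exact_mod_cast h3
  have h4' : (Y4 : ℚ) ≠ 0 := by exact_mod_cast h4
  have hq3 : (Y3 : ℚ) = 6 - Y2 := by rw [hY3]; push_cast; ring
  have key : ((Y2 : ℚ) - 5) * (7 * Y2 - 27) = 0 := by
    rw [hq3] at e2 h3'
    field_simp at e2
    push_cast at e2
    linarith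
  have key' : (Y2 - 5) * (7 * Y2 - 27) = 0 := by exact_mod_cast key
  have hY2 : Y2 = 5 := by
    rcases mul_eq_zero.mp key' with h | h
    · linarith
    · omega
  subst hY2
  have : Y3 = 1 := by linarith
  subst this
  have : Y4 = -4 := by linarith
  subst this
  norm_num at e3

/-- the case `Y0 = -22`, `g = 3696` is impossible -/
theorem kill22 (Y2 Y3 Y4 : ℤ) (h2 : Y2 ≠ 0) (h3 : Y3 ≠ 0) (h4 : Y4 ≠ 0)
    (d2 : (-22 : ℤ) + Y2 + Y3 = 0) (d3 : -1 - (-22 : ℤ) - Y3 + Y4 = 0)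
    (e2 : (4 : ℚ) / ((-22 : ℤ) : ℚ) + 9 / Y2 + 1 / Y3 = 4608 / ((3696 : ℕ) : ℚ))
    (e3 : (-1 : ℚ) - 4 / ((-22 : ℤ) : ℚ) - 1 / Y3 + 16 / Y4 = -13824 / ((3696 : ℕ) : ℚ)) : False := by
  have hY3 : Y3 = 22 - Y2 := by linarith
  have hY4 : Y4 = -21 + Y3 := by linarith
  have h2' : (Y2 : ℚ) ≠ 0 := by exact_mod_cast h2
  have h3' : (Y3 : ℚ) ≠ 0 := by exact_mod_cast h3
  have h4' : (Y4 : ℚ) ≠ 0 := by exact_mod_cast h4
  have hq3 : (Y3 : ℚ) = 22 - Y2 := by rw [hY3]; push_cast; ring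
  have key : ((Y2 : ℚ) - 21) * (5 * Y2 - 33) = 0 := by
    rw [hq3] at e2 h3'
    field_simp at e2
    push_cast at e2
    linarith
  have key' : (Y2 - 21) * (5 * Y2 - 33) = 0 := by exact_mod_cast key
  have hY2 : Y2 = 21 := by
    rcases mul_eq_zero.mp key' with h | h
    · linarith
    · omega
  subst hY2
  have : Y3 = 1 := by linarith
  subst this
  have : Y4 = -20 := by linarith
  subst this
  norm_num at e3

end SOLVE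

/-- PIECE SOLVE: the Diophantine system. -/
theorem solve (g : ℕ) (hg : 16 ∣ g) (hg' : ¬ 32 ∣ g) (Y0 Y1 Y2 Y3 Y4 : ℤ)
    (h0 : Y0 ≠ 0) (h1 : Y1 ≠ 0) (h2 : Y2 ≠ 0) (h3 : Y3 ≠ 0) (h4 : Y4 ≠ 0)
    (d1 : 1 + Y0 + Y1 = 0) (d2 : Y0 + Y2 + Y3 = 0) (d3 : -1 - Y0 - Y3 + Y4 = 0)
    (e1 : (1 : ℚ) + 4 / Y0 + 9 / Y1 = 4608 / g)
    (e2 : (4 : ℚ) / Y0 + 9 / Y2 + 1 / Y3 = 4608 / g)
    (e3 : (-1 : ℚ) - 4 / Y0 - 1 / Y3 + 16 / Y4 = -13824 / g) :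
    g = 7920 ∨ g = 5616 := by
  have hg0 : g ≠ 0 := by
    rintro rfl
    exact hg' (dvd_zero _)
  have hY1 : Y1 = -1 - Y0 := by linarith
  have h01 : Y0 + 1 ≠ 0 := by
    intro h
    apply h1
    rw [hY1]; linarith
  subst hY1
  have E := SOLVE.e1_int g hg0 Y0 h0 h01 e1
  rcases SOLVE.cases_y g hg hg' (Y0 - 2) E with ⟨_, hgv⟩ | ⟨hy, hgv⟩ | ⟨_, hgv⟩ | ⟨hy, hgv⟩
  · exact Or.inl hgv
  · exfalso
    have hY0 : Y0 = -6 := by linarith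
    subst hY0
    subst hgv
    exact SOLVE.kill6 Y2 Y3 Y4 h2 h3 h4 d2 d3 e2 e3
  · exact Or.inr hgv
  · exfalso
    have hY0 : Y0 = -22 := by linarith
    subst hY0
    subst hgv
    exact SOLVE.kill22 Y2 Y3 Y4 h2 h3 h4 d2 d3 e2 e3

end Cfsg.Agent.Helper15.GL23A
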