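import Mathlib
import Cfsg.Agent.Lib.Helper15.GL23ArithDefs
import Cfsg.Agent.Lib.Helper15.GL23LIN
import Cfsg.Agent.Lib.Helper15.GL23REAL
import Cfsg.Agent.Lib.Helper15.GL23SOLVE

/-!
# S0197 (helper15): the arithmetic assembly `arith`: orthogonality + congruences + class constants ⟹ `g = 7920 ∨ 5616`.
-/

set_option autoImplicit false

namespace Cfsg.Agent.Helper15.GL23A

variable {ι : Type*} [Fintype ι]

namespace Arith

/-- a sum over `ι` of a function vanishing off `o, y 0, …, y 6` -/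
theorem sum_eq {R : Type*} [AddCommMonoid R] [DecidableEq ι] (o : ι) (y : Fin 7 → ι)
    (hinj : Function.Injective y) (hne : ∀ i, y i ≠ o) (f : ι → R)
    (hf : ∀ X, X ≠ o → (∀ i, X ≠ y i) → f X = 0) :
    ∑ X, f X = f o + ∑ i : Fin 7, f (y i) := by
  classical
  have h1 : ∑ X, f X = ∑ X ∈ insert o (Finset.univ.image y), f X := by
    symm
    apply Finset.sum_subset (Finset.subset_univ _)
    intro X _ hX
    apply hf X
    · intro h
      exact hX (h ▸ Finset.mem_insert_self _ _)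
    · intro i h
      exact hX (Finset.mem_insert_of_mem (Finset.mem_image.mpr ⟨i, Finset.mem_univ _, h.symm⟩))
  rw [h1, Finset.sum_insert, Finset.sum_image]
  · intro a _ b _ h
    exact hinj h
  · intro h
    obtain ⟨i, _, hi⟩ := Finset.mem_image.mp h
    exact hne i hi

theorem inv_sign (e : ℤ) (he : e = 1 ∨ e = -1) (D : ℤ) : (e : ℚ) / (D : ℚ) = 1 / ((e * D : ℤ) : ℚ) := by
  rcases he with rfl | rfl
  · simp
  · push_cast
    rw [neg_one_mul, neg_div, one_div, one_div, inv_neg]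

end Arith

open Arith in
/-- The arithmetic core of S0197. -/
theorem arith [DecidableEq ι] (o : ι) (T F U M N D : ι → ℤ) (g : ℕ)
    (hD : ∀ X, 0 < D X) (hDo : D o = 1) (ho : Ortho T F U M N D) (hc : Cong T F U M N)
    (hcc : CCEq T F U M N D g)
    (hoT : T o = 1) (hoF : F o = 1) (hoU : U o = 1) (hoM : M o = 1) (hoN : N o = 0)
    (hg : 16 ∣ g) (hg' : ¬ 32 ∣ g) : g = 7920 ∨ g = 5616 := by
  obtain ⟨p, q, r, r', d, hL, hT, hF, hU, hM, hN⟩ :=
    exists_lattice o T F U M N D ho hc hoT hoF hoU hoM hoN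
  obtain ⟨y, e, hR⟩ := realization o p q r r' d D hL
  -- abbreviations
  have hz := hR.zero
  have se : ∀ (f : ι → ℤ), (∀ X, X ≠ o → (∀ i, X ≠ y i) → f X = 0) →
      ∑ X, f X = f o + ∑ i : Fin 7, f (y i) := fun f hf => sum_eq o y hR.inj hR.ne f hf
  have seq : ∀ (f : ι → ℚ), (∀ X, X ≠ o → (∀ i, X ≠ y i) → f X = 0) →
      ∑ X, f X = f o + ∑ i : Fin 7, f (y i) := fun f hf => sum_eq o y hR.inj hR.ne f hf
  obtain ⟨p0, q0, r0, s0, d0⟩ := hR.v0
  obtain ⟨p1, q1, r1, s1, d1⟩ := hR.v1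
  obtain ⟨p2, q2, r2, s2, d2⟩ := hR.v2
  obtain ⟨p3, q3, r3, s3, d3⟩ := hR.v3
  obtain ⟨p4, q4, r4, s4, d4⟩ := hR.v4
  obtain ⟨p5, q5, r5, s5, d5⟩ := hR.v5
  obtain ⟨p6, q6, r6, s6, d6⟩ := hR.v6
  -- the signed degrees
  set Y : Fin 7 → ℤ := fun i => e i * D (y i) with hY
  have hYne : ∀ i, Y i ≠ 0 := by
    intro i
    have h1 := hD (y i)
    rcases hR.sign i with h | h <;> simp only [hY, h] <;> omega
  -- degree equations
  have E1 : 1 + Y 0 + Y 1 = 0 := by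
    have h := hL.Dp
    rw [se (fun X => D X * p X) (fun X h1 h2 => by simp [(hz X h1 h2).1]), Fin.sum_univ_seven] at h
    simp only [hL.op, hDo, p0, p1, p2, p3, p4, p5, p6] at h
    simp only [hY]
    linarith
  have E2 : Y 0 + Y 2 + Y 3 = 0 := by
    have h := hL.Dq
    rw [se (fun X => D X * q X) (fun X h1 h2 => by simp [(hz X h1 h2).2.1]), Fin.sum_univ_seven] at h
    simp only [hL.oq, hDo, q0, q1, q2, q3, q4, q5, q6] at h
    simp only [hY]
    linarith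
  have E3 : -1 - Y 0 - Y 3 + Y 4 = 0 := by
    have h := hL.Dd
    rw [se (fun X => D X * d X) (fun X h1 h2 => by simp [(hz X h1 h2).2.2.2.2]), Fin.sum_univ_seven] at h
    simp only [hL.od, hDo, d0, d1, d2, d3, d4, d5, d6] at h
    simp only [hY]
    linarith
  -- the values of `T` at the eight characters
  have T0 : T (y 0) = 2 * e 0 := by rw [hT, p0, q0, r0, s0, d0]; ring
  have T1 : T (y 1) = -3 * e 1 := by rw [hT, p1, q1, r1, s1, d1]; ring
  have T2 : T (y 2) = -3 * e 2 := by rw [hT, p2, q2, r2, s2, d2]; ring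
  have T3 : T (y 3) = e 3 := by rw [hT, p3, q3, r3, s3, d3]; ring
  have T4 : T (y 4) = -4 * e 4 := by rw [hT, p4, q4, r4, s4, d4]; ring
  have esq : ∀ i, ((e i : ℤ) : ℚ) ^ 2 = 1 := by
    intro i
    rcases hR.sign i with h | h <;> rw [h] <;> norm_num
  -- class constant sums against p, q, d
  have Sp : ∑ X, ((T X : ℚ) ^ 2 * p X / D X) = 4608 / g := by
    have h1 : ∀ X, ((T X : ℚ) ^ 2 * p X / D X) =
        (((T X : ℚ) ^ 2 * F X / D X) + ((T X : ℚ) ^ 2 * M X / D X)) / 2 := by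
      intro X
      rw [hF X, hM X]; push_cast; ring
    rw [Finset.sum_congr rfl (fun X _ => h1 X), ← Finset.sum_div, Finset.sum_add_distrib,
      hcc.f, hcc.m]
    ring
  have Sq : ∑ X, ((T X : ℚ) ^ 2 * q X / D X) = 4608 / g := by
    have h1 : ∀ X, ((T X : ℚ) ^ 2 * q X / D X) =
        (((T X : ℚ) ^ 2 * F X / D X) - ((T X : ℚ) ^ 2 * M X / D X)) / 2 := by
      intro X
      rw [hF X, hM X]; push_cast; ring
    rw [Finset.sum_congr rfl (fun X _ => h1 X), ← Finset.sum_div, Finset.sum_sub_distrib,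
      hcc.f, hcc.m]
    ring
  have Sd : ∑ X, ((T X : ℚ) ^ 2 * d X / D X) = -13824 / g := by
    have h1 : ∀ X, ((T X : ℚ) ^ 2 * d X / D X) =
        -(((T X : ℚ) ^ 2 * T X / D X) + 3 * ((T X : ℚ) ^ 2 * F X / D X) +
          2 * ((T X : ℚ) ^ 2 * U X / D X)) / 6 := by
      intro X
      have hd : (d X : ℚ) = -((T X : ℚ) + 3 * F X + 2 * U X) / 6 := by
        rw [hT X, hF X, hU X]; push_cast; ring
      rw [hd]; ring
    rw [Finset.sum_congr rfl (fun X _ => h1 X), ← Finset.sum_div, Finset.sum_neg_distrib,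
      Finset.sum_add_distrib, Finset.sum_add_distrib, ← Finset.mul_sum, ← Finset.mul_sum,
      hcc.t, hcc.f, hcc.u]
    ring
  -- evaluate the three sums with the realization
  have hDq : ∀ X, ((D X : ℤ) : ℚ) ≠ 0 := fun X => by exact_mod_cast (hD X).ne'
  have Q1 : (1 : ℚ) + 4 / (Y 0 : ℚ) + 9 / (Y 1 : ℚ) = 4608 / g := by
    rw [← Sp, seq (fun X => ((T X : ℚ) ^ 2 * p X / D X))
      (fun X h1 h2 => by simp [(hz X h1 h2).1]), Fin.sum_univ_seven]
    simp only [hL.op, hDo, hoT, p0, p1, p2, p3, p4, p5, p6, T0, T1]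
    simp only [hY]
    push_cast
    have a0 := inv_sign (e 0) (hR.sign 0) (D (y 0))
    have a1 := inv_sign (e 1) (hR.sign 1) (D (y 1))
    push_cast at a0 a1
    have b0 := esq 0
    have b1 := esq 1
    have c0 : (2 * (e 0 : ℚ)) ^ 2 * (e 0 : ℚ) / (D (y 0) : ℚ) = 4 * ((e 0 : ℚ) / (D (y 0) : ℚ)) := by
      rw [mul_pow, b0]; ring
    have c1 : (-3 * (e 1 : ℚ)) ^ 2 * (e 1 : ℚ) / (D (y 1) : ℚ) = 9 * ((e 1 : ℚ) / (D (y 1) : ℚ)) := by
      rw [mul_pow, b1]; ring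
    rw [c0, c1, a0, a1]
    ring
  have Q2 : (4 : ℚ) / (Y 0 : ℚ) + 9 / (Y 2 : ℚ) + 1 / (Y 3 : ℚ) = 4608 / g := by
    rw [← Sq, seq (fun X => ((T X : ℚ) ^ 2 * q X / D X))
      (fun X h1 h2 => by simp [(hz X h1 h2).2.1]), Fin.sum_univ_seven]
    simp only [hL.oq, q0, q1, q2, q3, q4, q5, q6, T0, T2, T3]
    simp only [hY]
    push_cast
    have a0 := inv_sign (e 0) (hR.sign 0) (D (y 0))
    have a2 := inv_sign (e 2) (hR.sign 2) (D (y 2))
    have a3 := inv_sign (e 3) (hR.sign 3) (D (y 3))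
    push_cast at a0 a2 a3
    have b0 := esq 0
    have b2 := esq 2
    have b3 := esq 3
    have c0 : (2 * (e 0 : ℚ)) ^ 2 * (e 0 : ℚ) / (D (y 0) : ℚ) = 4 * ((e 0 : ℚ) / (D (y 0) : ℚ)) := by
      rw [mul_pow, b0]; ring
    have c2 : (-3 * (e 2 : ℚ)) ^ 2 * (e 2 : ℚ) / (D (y 2) : ℚ) = 9 * ((e 2 : ℚ) / (D (y 2) : ℚ)) := by
      rw [mul_pow, b2]; ring
    have c3 : ((e 3 : ℚ)) ^ 2 * (e 3 : ℚ) / (D (y 3) : ℚ) = ((e 3 : ℚ) / (D (y 3) : ℚ)) := by
      rw [b3]; ring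
    rw [c0, c2, c3, a0, a2, a3]
    ring
  have Q3 : (-1 : ℚ) - 4 / (Y 0 : ℚ) - 1 / (Y 3 : ℚ) + 16 / (Y 4 : ℚ) = -13824 / g := by
    rw [← Sd, seq (fun X => ((T X : ℚ) ^ 2 * d X / D X))
      (fun X h1 h2 => by simp [(hz X h1 h2).2.2.2.2]), Fin.sum_univ_seven]
    simp only [hL.od, hDo, hoT, d0, d1, d2, d3, d4, d5, d6, T0, T3, T4]
    simp only [hY]
    push_cast
    have a0 := inv_sign (e 0) (hR.sign 0) (D (y 0))
    have a3 := inv_sign (e 3) (hR.sign 3) (D (y 3))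
    have a4 := inv_sign (e 4) (hR.sign 4) (D (y 4))
    push_cast at a0 a3 a4
    have b0 := esq 0
    have b3 := esq 3
    have b4 := esq 4
    have c0 : (2 * (e 0 : ℚ)) ^ 2 * (-(e 0 : ℚ)) / (D (y 0) : ℚ) = -4 * ((e 0 : ℚ) / (D (y 0) : ℚ)) := by
      rw [mul_pow, b0]; ring
    have c3 : ((e 3 : ℚ)) ^ 2 * (-(e 3 : ℚ)) / (D (y 3) : ℚ) = -((e 3 : ℚ) / (D (y 3) : ℚ)) := by
      rw [b3]; ring
    have c4 : (-4 * (e 4 : ℚ)) ^ 2 * (e 4 : ℚ) / (D (y 4) : ℚ) = 16 * ((e 4 : ℚ) / (D (y 4) : ℚ)) := by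
      rw [mul_pow, b4]; ring
    rw [c0, c3, c4, a0, a3, a4]
    ring
  exact solve g hg hg' (Y 0) (Y 1) (Y 2) (Y 3) (Y 4) (hYne 0) (hYne 1) (hYne 2) (hYne 3) (hYne 4)
    E1 E2 E3 Q1 Q2 Q3

end Cfsg.Agent.Helper15.GL23A
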