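import Mathlib
import Cfsg.Prelude.Def_Characters
import Cfsg.Prelude.Def_Blocks
import Cfsg.Agent.Lib.Helper15.GL23ArithDefs

/-!
# S0197 (helper15): definitions for the `C(t) ≅ GL(2,3)` configuration.  See plans/S0197_proof.md and
plans/S0197_Skel.lean.txt.
-/

set_option autoImplicit false
set_option linter.unusedSectionVars false
set_option linter.unusedVariables false

namespace Cfsg.Agent.Helper15.GL23

open Cfsg

universe u

/-- `i√2` -/
noncomputable def sq2 : ℂ := Complex.I * ((Real.sqrt 2 : ℝ) : ℂ)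

section Defs

variable {G : Type u} [Group G]

/-- the number of ways to write `z` as a product of two involutions -/
noncomputable def nInv (z : G) : ℕ :=
  Nat.card {p : G × G // orderOf p.1 = 2 ∧ orderOf p.2 = 2 ∧ p.1 * p.2 = z}

/-- `t` as an element of its own centralizer -/
def tC (t : G) : Subgroup.centralizer ({t} : Set G) :=
  ⟨t, Subgroup.mem_centralizer_singleton_iff.mpr rfl⟩

/-- the abstract properties of `H = GL(2,3)` with its central involution `z` that are used -/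
structure Like (H : Type u) [Group H] (z : H) : Prop where
  card : Nat.card H = 48
  oz : orderOf z = 2
  central : ∀ x : H, x * z = z * x
  central_unique : ∀ x : H, orderOf x = 2 → (∀ y : H, y * x = x * y) → x = z
  invol : ∀ x y : H, orderOf x = 2 → orderOf y = 2 → x ≠ z → y ≠ z → IsConj x y
  ex_invol : ∃ s : H, orderOf s = 2 ∧ s ≠ z
  ex : ∃ a u : H, orderOf a = 8 ∧ a ^ 4 = z ∧ orderOf u = 3 ∧
    IsConj a (a ^ 3) ∧ ¬ IsConj a a⁻¹ ∧ IsConj (z * u) (z * u)⁻¹ ∧
    Nat.card (Subgroup.centralizer ({a} : Set H)) = 8 ∧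
    Nat.card (Subgroup.centralizer ({a ^ 2} : Set H)) = 8 ∧
    Nat.card (Subgroup.centralizer ({z * u} : Set H)) = 6 ∧
    nInv z = 12 ∧ nInv (a ^ 2) = 4 ∧ nInv (z * u) = 6 ∧ nInv a = 0 ∧ nInv a⁻¹ = 0

/-- the configuration in `G`: `a` of order 8 with `a⁴ = t`, `u` of order 3 commuting with `t`;
`f = a²`, `w = t u`; centralizer orders, fusion, the class constants `nInv`, one class of
involutions, `16 ‖ |G|`. -/
structure Cfg (t : G) where
  a : G
  u : G
  oa : orderOf a = 8
  a4 : a ^ 4 = t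
  ou : orderOf u = 3
  tu : t * u = u * t
  conj_a3 : IsConj a (a ^ 3)
  nconj_a : ¬ IsConj a a⁻¹
  conj_w : IsConj (t * u) (t * u)⁻¹
  cardt : Nat.card (Subgroup.centralizer ({t} : Set G)) = 48
  carda : Nat.card (Subgroup.centralizer ({a} : Set G)) = 8
  cardf : Nat.card (Subgroup.centralizer ({a ^ 2} : Set G)) = 8
  cardw : Nat.card (Subgroup.centralizer ({t * u} : Set G)) = 6
  cnt_t : nInv t = 12
  cnt_f : nInv (a ^ 2) = 4
  cnt_w : nInv (t * u) = 6
  cnt_a : nInv a = 0
  cnt_a' : nInv a⁻¹ = 0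
  one_class : ∀ x : G, orderOf x = 2 → IsConj t x
  dvd16 : 16 ∣ Nat.card G
  ndvd32 : ¬ 32 ∣ Nat.card G

/-- the integer data of the five columns of the character table -/
structure ValData {t : G} (c : Cfg t) (T F U M N : IrrCharacter G → ℤ) : Prop where
  hT : ∀ X : IrrCharacter G, (X : G → ℂ) t = (T X : ℂ)
  hF : ∀ X : IrrCharacter G, (X : G → ℂ) (c.a ^ 2) = (F X : ℂ)
  hU : ∀ X : IrrCharacter G, (X : G → ℂ) (t * c.u) = (U X : ℂ)
  hA : ∀ X : IrrCharacter G, (X : G → ℂ) c.a = (M X : ℂ) + (N X : ℂ) * sq2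
  hA' : ∀ X : IrrCharacter G, (X : G → ℂ) c.a⁻¹ = (M X : ℂ) - (N X : ℂ) * sq2
  cong : GL23A.Cong T F U M N

end Defs

end Cfsg.Agent.Helper15.GL23
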