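import Mathlib
import Cfsg.Agent.Lib.Lead.M11T5
import Cfsg.Agent.Lib.Helper15.GL23Defs

/-!
# S0197, piece COUNT (helper18): the pairs `(c₁,c₂)` with `t^{c₁} t^{c₂} = z` are counted by `nInv z`
-/

set_option autoImplicit false
set_option linter.unusedSectionVars false
set_option linter.unusedVariables false

namespace Cfsg.Agent.Helper15.GL23

open Cfsg

universe u

namespace COUNT

variable {G : Type u} [Group G]

theorem sq_eq_one {t : G} (ht : orderOf t = 2) : t ^ 2 = 1 := by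
  rw [← ht]; exact pow_orderOf_eq_one t

theorem ne_one {t : G} (ht : orderOf t = 2) : t ≠ 1 := by
  intro h
  rw [h, orderOf_one] at ht
  norm_num at ht

theorem orderOf_conj {t : G} (ht : orderOf t = 2) (c : G) : orderOf (c * t * c⁻¹) = 2 := by
  have : Fact (Nat.Prime 2) := ⟨Nat.prime_two⟩
  apply orderOf_eq_prime
  · rw [conj_pow, sq_eq_one ht]; group
  · intro hh
    apply ne_one ht
    have e : t = c⁻¹ * (c * t * c⁻¹) * c := by group
    rw [e, hh]; group

/-- the pairs of conjugating elements, sorted by the pair of conjugates -/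
def pairEquiv (t z : G) (ht : orderOf t = 2) :
    {c : G × G // (c.1 * t * c.1⁻¹) * (c.2 * t * c.2⁻¹) = z} ≃
      Σ p : {p : G × G // orderOf p.1 = 2 ∧ orderOf p.2 = 2 ∧ p.1 * p.2 = z},
        {c : G // c * t * c⁻¹ = p.1.1} × {c : G // c * t * c⁻¹ = p.1.2} where
  toFun c := ⟨⟨(c.1.1 * t * c.1.1⁻¹, c.1.2 * t * c.1.2⁻¹),
    orderOf_conj ht c.1.1, orderOf_conj ht c.1.2, c.2⟩, ⟨c.1.1, rfl⟩, ⟨c.1.2, rfl⟩⟩
  invFun x := ⟨(x.2.1.1, x.2.2.1), by
    have h1 := x.2.1.2
    have h2 := x.2.2.2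
    simp only
    rw [h1, h2]
    exact x.1.2.2.2⟩
  left_inv c := by
    apply Subtype.ext
    rfl
  right_inv x := by
    obtain ⟨⟨⟨s1, s2⟩, hs⟩, ⟨c1, h1⟩, ⟨c2, h2⟩⟩ := x
    simp only at h1 h2
    subst h1
    subst h2
    rfl

end COUNT

section Chr

variable {G : Type u} [Group G] [Finite G]

/-- PIECE COUNT: every involution is conjugate to `t`: the pairs `(c₁,c₂)` with `t^{c₁} t^{c₂} = z`
are counted by `nInv z` (fibres of `c ↦ c t c⁻¹` have `|C(t)|` elements) -/
theorem count_pairs (t : G) (ht : orderOf t = 2) (h1 : ∀ x : G, orderOf x = 2 → IsConj t x) (z : G) :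
    Nat.card {c : G × G // (c.1 * t * c.1⁻¹) * (c.2 * t * c.2⁻¹) = z} =
      nInv z * (Nat.card (Subgroup.centralizer ({t} : Set G)) *
        Nat.card (Subgroup.centralizer ({t} : Set G))) := by
  classical
  have : Fintype G := Fintype.ofFinite G
  rw [Nat.card_congr (COUNT.pairEquiv t z ht), Nat.card_sigma]
  have key : ∀ p : {p : G × G // orderOf p.1 = 2 ∧ orderOf p.2 = 2 ∧ p.1 * p.2 = z},
      Nat.card ({c : G // c * t * c⁻¹ = p.1.1} × {c : G // c * t * c⁻¹ = p.1.2}) =
        Nat.card (Subgroup.centralizer ({t} : Set G)) *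
          Nat.card (Subgroup.centralizer ({t} : Set G)) := by
    intro p
    rw [Nat.card_prod,
      Cfsg.Agent.Helper17.M11.T5.card_fib t p.1.1 (isConj_iff.mp (h1 _ p.2.1)),
      Cfsg.Agent.Helper17.M11.T5.card_fib t p.1.2 (isConj_iff.mp (h1 _ p.2.2.1))]
  rw [Finset.sum_congr rfl (fun p _ => key p), Finset.sum_const, Finset.card_univ, smul_eq_mul]
  unfold nInv
  simp only [Nat.card_eq_fintype_card]

end Chr

end Cfsg.Agent.Helper15.GL23
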