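import Mathlib
import Cfsg.Agent.Lib.Helper15.GL23Defs

/-!
# S0197 piece IRR2 (helper15's skeleton; proof by helper25): `sq2 = i√2`
-/

set_option autoImplicit false
set_option linter.unusedSectionVars false
set_option linter.unusedVariables false

namespace Cfsg.Agent.Helper15.GL23

open Cfsg
open scoped ComplexConjugate

namespace IRR2

theorem sq2_re : sq2.re = 0 := by
  simp [sq2]

theorem sq2_im : sq2.im = Real.sqrt 2 := by
  simp [sq2]

end IRR2

/-- PIECE IRR2: `1` and `i√2` are linearly independent over the integers -/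
theorem sq2_indep (A B : ℤ) (h : (A : ℂ) + (B : ℂ) * sq2 = 0) : A = 0 ∧ B = 0 := by
  have hre := congrArg Complex.re h
  have him := congrArg Complex.im h
  simp only [Complex.add_re, Complex.mul_re, Complex.intCast_re, Complex.intCast_im, IRR2.sq2_re,
    IRR2.sq2_im, Complex.zero_re, mul_zero, zero_mul, sub_zero, add_zero] at hre
  simp only [Complex.add_im, Complex.mul_im, Complex.intCast_re, Complex.intCast_im, IRR2.sq2_re,
    IRR2.sq2_im, Complex.zero_im, mul_zero, add_zero, zero_add] at him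
  have hs : Real.sqrt 2 ≠ 0 := by
    have : (0 : ℝ) < Real.sqrt 2 := Real.sqrt_pos.mpr (by norm_num)
    exact this.ne'
  constructor
  · exact_mod_cast hre
  · rcases mul_eq_zero.mp him with h1 | h1
    · exact_mod_cast h1
    · exact absurd h1 hs

/-- `sq2 * sq2 = -2`, `conj sq2 = -sq2` (part of PIECE IRR2) -/
theorem sq2_mul_self : sq2 * sq2 = -2 := by
  have h2 : ((Real.sqrt 2 : ℝ) : ℂ) * ((Real.sqrt 2 : ℝ) : ℂ) = 2 := by
    rw [← Complex.ofReal_mul, Real.mul_self_sqrt (by norm_num : (0 : ℝ) ≤ 2)]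
    norm_num
  unfold sq2
  calc Complex.I * ((Real.sqrt 2 : ℝ) : ℂ) * (Complex.I * ((Real.sqrt 2 : ℝ) : ℂ))
      = (Complex.I * Complex.I) * (((Real.sqrt 2 : ℝ) : ℂ) * ((Real.sqrt 2 : ℝ) : ℂ)) := by ring
    _ = -2 := by rw [h2, Complex.I_mul_I]; ring

theorem conj_sq2 : conj sq2 = -sq2 := by
  unfold sq2
  rw [map_mul, Complex.conj_I, Complex.conj_ofReal]
  ring

end Cfsg.Agent.Helper15.GL23
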