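import Mathlib
import Cfsg.Agent.Lib.Helper13.BR996CC
import Cfsg.Agent.Lib.Helper24.CharComplete
import Cfsg.Agent.Lib.Helper15.GL23Defs
import Cfsg.Agent.Lib.Helper15.GL23COUNT
import Cfsg.Agent.Lib.Helper15.GL23IRR2

/-!
# S0197 piece CCEQ (helper15's skeleton; proof by helper25)

The five class-constant equations: `Cfsg.Agent.Helper10.BR996.class_const t t z` and `count_pairs`
for `z = t, a², tu, a, a⁻¹`.
-/

set_option autoImplicit false
set_option linter.unusedSectionVars false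
set_option linter.unusedVariables false

namespace Cfsg.Agent.Helper15.GL23

open Cfsg Cfsg.Agent.Helper24
open scoped ComplexConjugate

universe u v

namespace CCEQ

variable {G : Type u} [Group G] [Fintype G] [Fintype (IrrCharacter G)]

/-- the class constant `a(t,t;z)` in terms of `nInv z` -/
theorem sum_eq {t : G} (ht : orderOf t = 2) (c : Cfg t) (z : G) :
    ∑ X : IrrCharacter G, (X : G → ℂ) t * (X : G → ℂ) t * conj ((X : G → ℂ) z) / (X : G → ℂ) 1 =
      (nInv z : ℂ) * 2304 / (Nat.card G : ℂ) := by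
  have hG : (Nat.card G : ℂ) ≠ 0 := by
    have : Nat.card G ≠ 0 := Nat.card_pos.ne'
    exact_mod_cast this
  have h1 := Cfsg.Agent.Helper10.BR996.class_const t t z
  rw [count_pairs t ht c.one_class z, c.cardt] at h1
  rw [eq_div_iff hG, mul_comm, ← h1]
  push_cast
  ring

end CCEQ

section Tab

variable {G : Type u} [Group G] [Fintype G] [Fintype (IrrCharacter G)]

/-- PIECE CCEQ: the class-constant equations (`Cfsg.Agent.Helper10.BR996.class_const t t z` and `count_pairs`
for `z = t, a², tu, a, a⁻¹`; the last two give `∑ T²(M ∓ N·sq2)/D = 0`, add and subtract) -/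
theorem cceq {t : G} (ht : orderOf t = 2) (c : Cfg t) {T F U M N : IrrCharacter G → ℤ}
    (h : ValData c T F U M N) :
    GL23A.CCEq T F U M N (fun X : IrrCharacter G => (charDegree (X : G → ℂ) : ℤ)) (Nat.card G) := by
  have hD : ∀ X : IrrCharacter G, (X : G → ℂ) 1 = ((charDegree (X : G → ℂ) : ℤ) : ℂ) := by
    intro X
    rw [irr_one_eq_charDegree X.2]
    push_cast
    rfl
  have hsq : sq2 ≠ 0 := by
    intro h0
    have := sq2_mul_self
    rw [h0] at this
    norm_num at this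
  -- the five complex equations
  have et := CCEQ.sum_eq ht c t
  have ef := CCEQ.sum_eq ht c (c.a ^ 2)
  have eu := CCEQ.sum_eq ht c (t * c.u)
  have ea := CCEQ.sum_eq ht c c.a
  have ea' := CCEQ.sum_eq ht c c.a⁻¹
  rw [c.cnt_t] at et
  rw [c.cnt_f] at ef
  rw [c.cnt_w] at eu
  rw [c.cnt_a] at ea
  rw [c.cnt_a'] at ea'
  simp only [h.hT, h.hF, h.hU, h.hA, h.hA', hD, map_intCast, map_add, map_sub, map_mul,
    conj_sq2] at et ef eu ea ea'
  simp only [Nat.cast_zero, zero_mul, zero_div] at ea ea'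
  push_cast at et ef eu ea ea'
  -- sums of the last two
  have eM : ∑ X : IrrCharacter G, (T X : ℂ) * (T X : ℂ) * (M X : ℂ) /
      (charDegree (X : G → ℂ) : ℂ) = 0 := by
    have h2 : (2 : ℂ) * ∑ X : IrrCharacter G, (T X : ℂ) * (T X : ℂ) * (M X : ℂ) /
        (charDegree (X : G → ℂ) : ℂ) =
        (∑ X : IrrCharacter G, (T X : ℂ) * (T X : ℂ) * ((M X : ℂ) + (N X : ℂ) * -sq2) /
          (charDegree (X : G → ℂ) : ℂ)) +
        (∑ X : IrrCharacter G, (T X : ℂ) * (T X : ℂ) * ((M X : ℂ) - (N X : ℂ) * -sq2) /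
          (charDegree (X : G → ℂ) : ℂ)) := by
      rw [Finset.mul_sum, ← Finset.sum_add_distrib]
      refine Finset.sum_congr rfl fun X _ => ?_
      ring
    rw [ea, ea', add_zero] at h2
    rcases mul_eq_zero.mp h2 with h3 | h3
    · norm_num at h3
    · exact h3
  have eN : ∑ X : IrrCharacter G, (T X : ℂ) * (T X : ℂ) * (N X : ℂ) /
      (charDegree (X : G → ℂ) : ℂ) = 0 := by
    have h2 : (2 * sq2) * ∑ X : IrrCharacter G, (T X : ℂ) * (T X : ℂ) * (N X : ℂ) /
        (charDegree (X : G → ℂ) : ℂ) =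
        (∑ X : IrrCharacter G, (T X : ℂ) * (T X : ℂ) * ((M X : ℂ) - (N X : ℂ) * -sq2) /
          (charDegree (X : G → ℂ) : ℂ)) -
        (∑ X : IrrCharacter G, (T X : ℂ) * (T X : ℂ) * ((M X : ℂ) + (N X : ℂ) * -sq2) /
          (charDegree (X : G → ℂ) : ℂ)) := by
      rw [Finset.mul_sum, ← Finset.sum_sub_distrib]
      refine Finset.sum_congr rfl fun X _ => ?_
      ring
    rw [ea, ea', sub_zero] at h2
    rcases mul_eq_zero.mp h2 with h3 | h3
    · exfalso
      rcases mul_eq_zero.mp h3 with h4 | h4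
      · norm_num at h4
      · exact hsq h4
    · exact h3
  refine ⟨?_, ?_, ?_, ?_, ?_⟩
  · have : ((∑ X : IrrCharacter G, ((T X : ℚ) ^ 2 * T X /
        ((charDegree (X : G → ℂ) : ℤ) : ℚ)) : ℚ) : ℂ) = ((12 * 2304 / (Nat.card G : ℚ) : ℚ) : ℂ) := by
      push_cast
      rw [← et]
      refine Finset.sum_congr rfl fun X _ => ?_
      ring
    exact_mod_cast this
  · have : ((∑ X : IrrCharacter G, ((T X : ℚ) ^ 2 * F X /
        ((charDegree (X : G → ℂ) : ℤ) : ℚ)) : ℚ) : ℂ) = ((4 * 2304 / (Nat.card G : ℚ) : ℚ) : ℂ) := by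
      push_cast
      rw [← ef]
      refine Finset.sum_congr rfl fun X _ => ?_
      ring
    exact_mod_cast this
  · have : ((∑ X : IrrCharacter G, ((T X : ℚ) ^ 2 * U X /
        ((charDegree (X : G → ℂ) : ℤ) : ℚ)) : ℚ) : ℂ) = ((6 * 2304 / (Nat.card G : ℚ) : ℚ) : ℂ) := by
      push_cast
      rw [← eu]
      refine Finset.sum_congr rfl fun X _ => ?_
      ring
    exact_mod_cast this
  · have : ((∑ X : IrrCharacter G, ((T X : ℚ) ^ 2 * M X /
        ((charDegree (X : G → ℂ) : ℤ) : ℚ)) : ℚ) : ℂ) = ((0 : ℚ) : ℂ) := by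
      push_cast
      rw [← eM]
      refine Finset.sum_congr rfl fun X _ => ?_
      ring
    exact_mod_cast this
  · have : ((∑ X : IrrCharacter G, ((T X : ℚ) ^ 2 * N X /
        ((charDegree (X : G → ℂ) : ℤ) : ℚ)) : ℚ) : ℂ) = ((0 : ℚ) : ℂ) := by
      push_cast
      rw [← eN]
      refine Finset.sum_congr rfl fun X _ => ?_
      ring
    exact_mod_cast this

end Tab

end Cfsg.Agent.Helper15.GL23
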