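import Mathlib
import Cfsg.Agent.Lib.Helper7.ZStar3
import Cfsg.Agent.Lib.Helper15.GL23Defs

/-!
# S0197, piece FUS (helper18): one class of involutions
-/

set_option autoImplicit false
set_option linter.unusedSectionVars false
set_option linter.unusedVariables false

namespace Cfsg.Agent.Helper15.GL23

open Cfsg

universe u

namespace FUS

variable {G : Type u} [Group G]

theorem sq_one {t : G} (ht : orderOf t = 2) : t * t = 1 := by
  have h := pow_orderOf_eq_one t
  rw [ht, pow_two] at h
  exact h

theorem inv_self {t : G} (ht : orderOf t = 2) : t⁻¹ = t :=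
  inv_eq_of_mul_eq_one_left (sq_one ht)

theorem ne_one' {t : G} (ht : orderOf t = 2) : t ≠ 1 := by
  intro h
  rw [h, orderOf_one] at ht
  norm_num at ht

theorem orderOf_conj' {t : G} (ht : orderOf t = 2) (c : G) : orderOf (c * t * c⁻¹) = 2 := by
  have : Fact (Nat.Prime 2) := ⟨Nat.prime_two⟩
  apply orderOf_eq_prime
  · rw [conj_pow, pow_two, sq_one ht]; group
  · intro hh
    apply ne_one' ht
    have e : t = c⁻¹ * (c * t * c⁻¹) * c := by group
    rw [e, hh]; group

/-- `t` inverts `d = t x` -/
theorem conj_d {t x : G} (ht : orderOf t = 2) (hx : orderOf x = 2) :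
    t * (t * x) * t⁻¹ = (t * x)⁻¹ := by
  rw [inv_self ht, mul_inv_rev, inv_self ht, inv_self hx]
  calc t * (t * x) * t = (t * t) * x * t := by group
    _ = x * t := by rw [sq_one ht, one_mul]

theorem conj_d' {t x : G} (ht : orderOf t = 2) (hx : orderOf x = 2) :
    x * (t * x) * x⁻¹ = (t * x)⁻¹ := by
  rw [inv_self hx, mul_inv_rev, inv_self ht, inv_self hx]
  calc x * (t * x) * x = x * t * (x * x) := by group
    _ = x * t := by rw [sq_one hx, mul_one]

theorem conj_d_pow {t x : G} (ht : orderOf t = 2) (hx : orderOf x = 2) (k : ℕ) :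
    t * (t * x) ^ k * t⁻¹ = ((t * x) ^ k)⁻¹ := by
  rw [← conj_pow, conj_d ht hx, inv_pow]

theorem conj_d_pow' {t x : G} (ht : orderOf t = 2) (hx : orderOf x = 2) (k : ℕ) :
    x * (t * x) ^ k * x⁻¹ = ((t * x) ^ k)⁻¹ := by
  rw [← conj_pow, conj_d' ht hx, inv_pow]

/-- the odd case of the dihedral argument -/
theorem conj_of_odd {t x : G} (ht : orderOf t = 2) (hx : orderOf x = 2) (j : ℕ)
    (hd : (t * x) ^ (2 * j + 1) = 1) : IsConj t x := by
  rw [isConj_iff]
  refine ⟨(t * x) ^ j, ?_⟩
  set w := (t * x) ^ j with hw
  have h1 : t * w * t⁻¹ = w⁻¹ := conj_d_pow ht hx j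
  -- `t w⁻¹ = w t`
  have h2 : t * w⁻¹ = w * t := by
    have : t * w⁻¹ * t⁻¹ = w := by
      have e : t * w⁻¹ * t⁻¹ = (t * w * t⁻¹)⁻¹ := by group
      rw [e, h1, inv_inv]
    calc t * w⁻¹ = (t * w⁻¹ * t⁻¹) * t := by group
      _ = w * t := by rw [this]
  have h3 : w * w = (t * x)⁻¹ := by
    rw [hw, ← pow_add]
    have : (t * x) ^ (j + j) * (t * x) = 1 := by
      rw [← pow_succ]
      have e : j + j + 1 = 2 * j + 1 := by ring
      rw [e, hd]
    exact eq_inv_of_mul_eq_one_left this
  calc w * t * w⁻¹ = w * (t * w⁻¹) := by group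
    _ = w * (w * t) := by rw [h2]
    _ = (w * w) * t := by group
    _ = (t * x)⁻¹ * t := by rw [h3]
    _ = x⁻¹ * (t⁻¹ * t) := by group
    _ = x := by rw [inv_mul_cancel, mul_one, inv_self hx]

end FUS

section Grp

variable {G : Type u} [Group G]

/-- PIECE FUS: one class of involutions -/
theorem one_class [Finite G] [IsSimpleGroup G] (t : G) (ht : orderOf t = 2)
    (hL : Like (Subgroup.centralizer ({t} : Set G)) (tC t)) :
    ∀ x : G, orderOf x = 2 → IsConj t x := by
  -- Step 1: `t` is not isolated
  have hnotiso : ¬ IsIsolated t := by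
    intro hiso
    obtain ⟨N, hN, hodd, hcomm⟩ := Cfsg.Agent.Helper7.ZStar.zstar_exists t ht hiso
    rcases hN.eq_bot_or_eq_top with h | h
    · -- `t` is central
      have hcen : ∀ g : G, g * t = t * g := by
        intro g
        have h1 := hcomm g
        rw [h, Subgroup.mem_bot] at h1
        have : t * g = g * t := by
          calc t * g = (t * g * t⁻¹ * g⁻¹) * (g * t) := by group
            _ = g * t := by rw [h1, one_mul]
        exact this.symm
      have hnorm : (Subgroup.zpowers t).Normal := by
        constructor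
        intro n hn g
        have hle : Subgroup.zpowers t ≤ Subgroup.center G := by
          rw [Subgroup.zpowers_le]
          rw [Subgroup.mem_center_iff]
          exact hcen
        have hc := Subgroup.mem_center_iff.mp (hle hn) g
        have e : g * n * g⁻¹ = n := by
          rw [hc]; group
        rw [e]; exact hn
      have hcard : Nat.card G = 48 := by
        have htop : Subgroup.centralizer ({t} : Set G) = ⊤ := by
          rw [eq_top_iff]
          intro g _
          rw [Subgroup.mem_centralizer_singleton_iff]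
          exact hcen g
        have := hL.card
        rw [htop] at this
        rw [← this]
        exact (Subgroup.card_top (G := G)).symm
      rcases hnorm.eq_bot_or_eq_top with h2 | h2
      · apply FUS.ne_one' ht
        have : t ∈ Subgroup.zpowers t := Subgroup.mem_zpowers t
        rw [h2, Subgroup.mem_bot] at this
        exact this
      · have h3 : Nat.card (Subgroup.zpowers t) = 2 := by rw [Nat.card_zpowers, ht]
        rw [h2, Subgroup.card_top, hcard] at h3
        norm_num at h3
    · -- `|G|` odd
      rw [h, Subgroup.card_top] at hodd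
      have h2 : 2 ∣ Nat.card G := by rw [← ht]; exact orderOf_dvd_natCard t
      rcases hodd with ⟨k, hk⟩
      omega
  unfold IsIsolated at hnotiso
  push Not at hnotiso
  obtain ⟨g, hgc, hgne⟩ := hnotiso
  set s := g * t * g⁻¹ with hs
  have hso : orderOf s = 2 := FUS.orderOf_conj' ht g
  have hts : IsConj t s := isConj_iff.mpr ⟨g, rfl⟩
  have hsmem : s ∈ Subgroup.centralizer ({t} : Set G) := by
    rw [Subgroup.mem_centralizer_singleton_iff]
    exact hgc.eq.symm
  -- Step 2: involutions commuting with `t` are conjugate to `t`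
  have star : ∀ y : G, orderOf y = 2 → Commute t y → IsConj t y := by
    intro y hy hc
    by_cases hyt : y = t
    · rw [hyt]
    · have hymem : y ∈ Subgroup.centralizer ({t} : Set G) := by
        rw [Subgroup.mem_centralizer_singleton_iff]
        exact hc.eq.symm
      have h1 : orderOf (⟨s, hsmem⟩ : Subgroup.centralizer ({t} : Set G)) = 2 := by
        rw [Subgroup.orderOf_mk]; exact hso
      have h2 : orderOf (⟨y, hymem⟩ : Subgroup.centralizer ({t} : Set G)) = 2 := by
        rw [Subgroup.orderOf_mk]; exact hy
      have h3 : (⟨s, hsmem⟩ : Subgroup.centralizer ({t} : Set G)) ≠ tC t := by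
        intro h
        apply hgne
        exact congrArg Subtype.val h
      have h4 : (⟨y, hymem⟩ : Subgroup.centralizer ({t} : Set G)) ≠ tC t := by
        intro h
        apply hyt
        exact congrArg Subtype.val h
      obtain ⟨c, hc'⟩ := isConj_iff.mp (hL.invol _ _ h1 h2 h3 h4)
      have hsy : IsConj s y := by
        rw [isConj_iff]
        refine ⟨(c : G), ?_⟩
        have := congrArg Subtype.val hc'
        simpa using this
      exact hts.trans hsy
  -- Step 3: the same for conjugates of `t`
  have star' : ∀ h y : G, orderOf y = 2 → Commute (h * t * h⁻¹) y → IsConj t y := by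
    intro h y hy hc
    have hy' : orderOf (h⁻¹ * y * h) = 2 := by
      have := FUS.orderOf_conj' hy h⁻¹
      rwa [inv_inv] at this
    have hc' : Commute t (h⁻¹ * y * h) := by
      have e := hc.eq
      show t * (h⁻¹ * y * h) = (h⁻¹ * y * h) * t
      calc t * (h⁻¹ * y * h) = h⁻¹ * ((h * t * h⁻¹) * y) * h := by group
        _ = h⁻¹ * (y * (h * t * h⁻¹)) * h := by rw [e]
        _ = (h⁻¹ * y * h) * t := by group
    have h1 := star _ hy' hc'
    have h2 : IsConj (h⁻¹ * y * h) y := by
      rw [isConj_iff]
      exact ⟨h, by group⟩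
    exact h1.trans h2
  -- Step 4: the dihedral argument
  intro x hx
  set d := t * x with hd
  have hm : 0 < orderOf d := orderOf_pos d
  rcases Nat.even_or_odd' (orderOf d) with ⟨k, hk | hk⟩
  · -- even order `2k`
    have hk0 : 0 < k := by omega
    set z1 := d ^ k with hz1
    have hz1ne : z1 ≠ 1 := pow_ne_one_of_lt_orderOf (by omega) (by omega)
    have hz1sq : z1 * z1 = 1 := by
      rw [hz1, ← pow_add]
      have e : k + k = orderOf d := by omega
      rw [e, pow_orderOf_eq_one]
    have hz1o : orderOf z1 = 2 := by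
      have : Fact (Nat.Prime 2) := ⟨Nat.prime_two⟩
      apply orderOf_eq_prime
      · rw [pow_two]; exact hz1sq
      · exact hz1ne
    have hz1inv : z1⁻¹ = z1 := inv_eq_of_mul_eq_one_left hz1sq
    have hct : Commute t z1 := by
      have h1 : t * z1 * t⁻¹ = z1⁻¹ := FUS.conj_d_pow ht hx k
      rw [hz1inv] at h1
      show t * z1 = z1 * t
      calc t * z1 = (t * z1 * t⁻¹) * t := by group
        _ = z1 * t := by rw [h1]
    have hcx : Commute x z1 := by
      have h1 : x * z1 * x⁻¹ = z1⁻¹ := FUS.conj_d_pow' ht hx k
      rw [hz1inv] at h1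
      show x * z1 = z1 * x
      calc x * z1 = (x * z1 * x⁻¹) * x := by group
        _ = z1 * x := by rw [h1]
    obtain ⟨h, hh⟩ := isConj_iff.mp (star z1 hz1o hct)
    apply star' h x hx
    rw [hh]
    exact hcx.symm
  · -- odd order
    apply FUS.conj_of_odd ht hx k
    rw [← hk]
    exact pow_orderOf_eq_one d

end Grp

end Cfsg.Agent.Helper15.GL23
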