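import Mathlib
import Cfsg.Agent.Lib.Helper15.GL23Defs

/-!
# S0197 piece GLA (helper12 for helper15): the basic facts about `GL(2,3)`, and the bridge
`GL (Fin 2) (ZMod 3)` ↔ matrices with non-zero determinant used for the `decide` computations.
-/

set_option autoImplicit false
set_option linter.unusedSectionVars false
set_option linter.unusedVariables false

namespace Cfsg.Agent.Helper15.GL23

open Cfsg

namespace GLA

/-- 2×2 matrices over `ZMod 3` -/
abbrev M3 := Matrix (Fin 2) (Fin 2) (ZMod 3)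

/-- `GL(2,3)` -/
abbrev G3 := Matrix.GeneralLinearGroup (Fin 2) (ZMod 3)

/-- the determinant, as an explicit expression -/
def dt (A : M3) : ZMod 3 := A 0 0 * A 1 1 - A 0 1 * A 1 0

theorem det_eq (A : M3) : A.det = dt A := Matrix.det_fin_two A

theorem dt_coe (x : G3) : dt (x : M3) ≠ 0 := by
  rw [← det_eq]
  have h : IsUnit (x : M3) := ⟨x, rfl⟩
  exact ((Matrix.isUnit_iff_isUnit_det _).mp h).ne_zero

/-- the element of `GL(2,3)` with a given matrix -/
noncomputable def mk (A : M3) (h : dt A ≠ 0) : G3 :=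
  Matrix.GeneralLinearGroup.mkOfDetNeZero A (by rw [det_eq]; exact h)

@[simp] theorem coe_mk (A : M3) (h : dt A ≠ 0) : ((mk A h : G3) : M3) = A := rfl

theorem mk_coe (x : G3) : mk (x : M3) (dt_coe x) = x := Units.ext rfl

theorem forall_iff (P : G3 → Prop) : (∀ x : G3, P x) ↔ ∀ (A : M3) (h : dt A ≠ 0), P (mk A h) := by
  constructor
  · intro h A hA
    exact h _
  · intro h x
    have := h (x : M3) (dt_coe x)
    rwa [mk_coe] at this

theorem eq_iff (x y : G3) : x = y ↔ (x : M3) = (y : M3) := Units.ext_iff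

theorem coe_neg_one : ((-1 : G3) : M3) = -1 := by
  rw [Units.val_neg, Units.val_one]

theorem orderOf_two_iff (x : G3) : orderOf x = 2 ↔ (x : M3) * (x : M3) = 1 ∧ (x : M3) ≠ 1 := by
  haveI : Fact (Nat.Prime 2) := ⟨Nat.prime_two⟩
  rw [orderOf_eq_prime_iff, pow_two, eq_iff, Ne, eq_iff, Units.val_mul, Units.val_one]

theorem isConj_iff' (x y : G3) : IsConj x y ↔ ∃ C : M3, dt C ≠ 0 ∧ C * (x : M3) = (y : M3) * C := by
  rw [isConj_iff]
  constructor
  · rintro ⟨c, hc⟩
    refine ⟨(c : M3), dt_coe c, ?_⟩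
    have h2 : c * x = y * c := by rw [← hc]; group
    have := congrArg (fun g : G3 => (g : M3)) h2
    simpa using this
  · rintro ⟨C, hC, h⟩
    refine ⟨mk C hC, ?_⟩
    have h2 : mk C hC * x = y * mk C hC := by
      rw [eq_iff, Units.val_mul, Units.val_mul, coe_mk]
      exact h
    rw [h2]
    group

set_option maxRecDepth 100000 in
theorem central_dec : ∀ A : M3, dt A ≠ 0 → A * A = 1 → A ≠ 1 →
    !![1, 1; 0, 1] * A = A * !![1, 1; 0, 1] → !![1, 0; 1, 1] * A = A * !![1, 0; 1, 1] → A = -1 := by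
  decide +kernel

set_option maxRecDepth 100000 in
theorem invol_dec : ∀ A : M3, dt A ≠ 0 → A * A = 1 → A ≠ 1 → A ≠ -1 →
    ∃ C : M3, dt C ≠ 0 ∧ C * A = !![1, 0; 0, 2] * C := by
  decide +kernel

theorem dt_s : dt !![1, 0; 0, 2] ≠ 0 := by decide

theorem dt_e1 : dt !![1, 1; 0, 1] ≠ 0 := by decide

theorem dt_e2 : dt !![1, 0; 1, 1] ≠ 0 := by decide

/-- every non-central involution is conjugate to `diag(1,-1)` -/
theorem isConj_s (x : G3) (hx : orderOf x = 2) (hx1 : x ≠ -1) : IsConj x (mk !![1, 0; 0, 2] dt_s) := by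
  rw [isConj_iff']
  rw [orderOf_two_iff] at hx
  have h1 : (x : M3) ≠ -1 := by
    intro h
    apply hx1
    rw [eq_iff, coe_neg_one]
    exact h
  exact invol_dec (x : M3) (dt_coe x) hx.1 hx.2 h1

end GLA

open GLA

/-- PIECE GLA: the basic facts about `GL(2,3)` -/
theorem like_gl_basic :
    Nat.card (Matrix.GeneralLinearGroup (Fin 2) (ZMod 3)) = 48 ∧
    orderOf (-1 : Matrix.GeneralLinearGroup (Fin 2) (ZMod 3)) = 2 ∧
    (∀ x : Matrix.GeneralLinearGroup (Fin 2) (ZMod 3), x * (-1) = (-1) * x) ∧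
    (∀ x : Matrix.GeneralLinearGroup (Fin 2) (ZMod 3), orderOf x = 2 →
      (∀ y : Matrix.GeneralLinearGroup (Fin 2) (ZMod 3), y * x = x * y) → x = -1) ∧
    (∀ x y : Matrix.GeneralLinearGroup (Fin 2) (ZMod 3), orderOf x = 2 → orderOf y = 2 → x ≠ -1 → y ≠ -1 →
      IsConj x y) ∧
    (∃ s : Matrix.GeneralLinearGroup (Fin 2) (ZMod 3), orderOf s = 2 ∧ s ≠ -1) := by
  refine ⟨?_, ?_, ?_, ?_, ?_, ?_⟩
  · rw [Matrix.card_GL_field]
    simp [Fin.prod_univ_two]
  · rw [orderOf_two_iff, coe_neg_one]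
    constructor
    · simp
    · decide
  · intro x
    rw [mul_neg, neg_mul, mul_one, one_mul]
  · intro x hx hc
    rw [orderOf_two_iff] at hx
    rw [eq_iff, coe_neg_one]
    apply central_dec (x : M3) (dt_coe x) hx.1 hx.2
    · have := hc (mk !![1, 1; 0, 1] dt_e1)
      rw [eq_iff, Units.val_mul, Units.val_mul, coe_mk] at this
      exact this
    · have := hc (mk !![1, 0; 1, 1] dt_e2)
      rw [eq_iff, Units.val_mul, Units.val_mul, coe_mk] at this
      exact this
  · intro x y hx hy hx1 hy1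
    exact (isConj_s x hx hx1).trans (isConj_s y hy hy1).symm
  · refine ⟨mk !![1, 0; 0, 2] dt_s, ?_, ?_⟩
    · rw [orderOf_two_iff, coe_mk]
      constructor <;> decide
    · rw [Ne, eq_iff, coe_mk, coe_neg_one]
      decide

end Cfsg.Agent.Helper15.GL23
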