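import Mathlib
import Cfsg.Agent.Lib.Helper15.GL23Defs
import Cfsg.Agent.Lib.Helper15.GL23GLA

/-!
# S0197 piece GLB (helper12 for helper15): the elements `a` (order 8) and `u` (order 3) of `GL(2,3)`:
fusion, centralizer orders, and the numbers of factorizations into two involutions.
-/

set_option autoImplicit false
set_option linter.unusedSectionVars false
set_option linter.unusedVariables false

namespace Cfsg.Agent.Helper15.GL23

open Cfsg

namespace GLB

open GLA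

/-- the order of the centralizer of an explicit matrix, as a count of matrices -/
theorem card_centralizer (A0 : M3) (h0 : dt A0 ≠ 0) :
    Nat.card (Subgroup.centralizer ({mk A0 h0} : Set G3)) =
      Fintype.card {A : M3 // dt A ≠ 0 ∧ A * A0 = A0 * A} := by
  rw [← Nat.card_eq_fintype_card]
  apply Nat.card_congr
  refine
    { toFun := fun x => ⟨((x : G3) : M3), dt_coe _, ?_⟩
      invFun := fun A => ⟨mk A.1 A.2.1, ?_⟩
      left_inv := fun x => Subtype.ext (mk_coe _)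
      right_inv := fun A => Subtype.ext rfl }
  · have h := Subgroup.mem_centralizer_singleton_iff.mp x.2
    rw [eq_iff, Units.val_mul, Units.val_mul, coe_mk] at h
    exact h
  · rw [Subgroup.mem_centralizer_singleton_iff, eq_iff, Units.val_mul, Units.val_mul, coe_mk, coe_mk]
    exact A.2.2

/-- the number of factorizations of an explicit matrix into two involutions, as a count of matrices -/
theorem nInv_eq (Z : M3) (hZ : dt Z ≠ 0) :
    nInv (mk Z hZ) = Fintype.card {X : M3 // dt X ≠ 0 ∧ X * X = 1 ∧ X ≠ 1 ∧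
      (X * Z) * (X * Z) = 1 ∧ X * Z ≠ 1} := by
  unfold nInv
  rw [← Nat.card_eq_fintype_card]
  apply Nat.card_congr
  have key : ∀ p : G3 × G3, orderOf p.1 = 2 → p.1 * p.2 = mk Z hZ → p.2 = p.1 * mk Z hZ := by
    intro p h1 h2
    have h11 : p.1 * p.1 = 1 := ((orderOf_two_iff p.1).mp h1).1 |> fun h => by
      rw [eq_iff, Units.val_mul, Units.val_one]; exact h
    rw [← h2, ← mul_assoc, h11, one_mul]
  refine
    { toFun := fun p => ⟨((p.1.1 : G3) : M3), dt_coe _, ?_, ?_, ?_, ?_⟩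
      invFun := fun X => ⟨(mk X.1 X.2.1, mk X.1 X.2.1 * mk Z hZ), ?_, ?_, ?_⟩
      left_inv := ?_
      right_inv := fun X => Subtype.ext rfl }
  · exact ((orderOf_two_iff _).mp p.2.1).1
  · exact ((orderOf_two_iff _).mp p.2.1).2
  · have h2 := (orderOf_two_iff _).mp p.2.2.1
    rw [key p.1 p.2.1 p.2.2.2, Units.val_mul, coe_mk] at h2
    exact h2.1
  · have h2 := (orderOf_two_iff _).mp p.2.2.1
    rw [key p.1 p.2.1 p.2.2.2, Units.val_mul, coe_mk] at h2
    exact h2.2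
  · rw [orderOf_two_iff, coe_mk]
    exact ⟨X.2.2.1, X.2.2.2.1⟩
  · show orderOf (mk X.1 X.2.1 * mk Z hZ) = 2
    rw [orderOf_two_iff, Units.val_mul, coe_mk, coe_mk]
    exact ⟨X.2.2.2.2.1, X.2.2.2.2.2⟩
  · show mk X.1 X.2.1 * (mk X.1 X.2.1 * mk Z hZ) = mk Z hZ
    have h11 : mk X.1 X.2.1 * mk X.1 X.2.1 = 1 := by
      rw [eq_iff, Units.val_mul, coe_mk, Units.val_one]
      exact X.2.2.1
    rw [← mul_assoc, h11, one_mul]
  · intro p
    apply Subtype.ext
    apply Prod.ext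
    · exact mk_coe _
    · show mk ((p.1.1 : G3) : M3) _ * mk Z hZ = p.1.2
      rw [mk_coe, ← key p.1 p.2.1 p.2.2.2]

/-- the Singer cycle -/
abbrev A0 : M3 := !![0, 1; 1, 1]
abbrev A2 : M3 := !![1, 1; 1, 2]
abbrev A3 : M3 := !![1, 2; 2, 0]
abbrev A7 : M3 := !![2, 1; 1, 0]
abbrev U0 : M3 := !![1, 1; 0, 1]
abbrev W0 : M3 := !![2, 2; 0, 2]
abbrev W5 : M3 := !![2, 1; 0, 2]
abbrev N1 : M3 := !![2, 0; 0, 2]

theorem dA0 : dt A0 ≠ 0 := by decide
theorem dA2 : dt A2 ≠ 0 := by decide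
theorem dA3 : dt A3 ≠ 0 := by decide
theorem dA7 : dt A7 ≠ 0 := by decide
theorem dU0 : dt U0 ≠ 0 := by decide
theorem dW0 : dt W0 ≠ 0 := by decide
theorem dW5 : dt W5 ≠ 0 := by decide
theorem dN1 : dt N1 ≠ 0 := by decide

theorem neg_one_eq : (-1 : G3) = mk N1 dN1 := by
  rw [eq_iff, coe_neg_one, coe_mk]
  decide +kernel

theorem a_sq : (mk A0 dA0) ^ 2 = mk A2 dA2 := by
  rw [eq_iff, Units.val_pow_eq_pow_val, coe_mk, coe_mk]
  decide +kernel

theorem a_cube : (mk A0 dA0) ^ 3 = mk A3 dA3 := by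
  rw [eq_iff, Units.val_pow_eq_pow_val, coe_mk, coe_mk]
  decide +kernel

theorem a_four : (mk A0 dA0) ^ 4 = -1 := by
  rw [eq_iff, Units.val_pow_eq_pow_val, coe_mk, coe_neg_one]
  decide +kernel

theorem a_inv : (mk A0 dA0)⁻¹ = mk A7 dA7 := by
  apply inv_eq_of_mul_eq_one_right
  rw [eq_iff, Units.val_mul, coe_mk, coe_mk, Units.val_one]
  decide +kernel

theorem w_eq : (-1 : G3) * mk U0 dU0 = mk W0 dW0 := by
  rw [eq_iff, Units.val_mul, coe_neg_one, coe_mk, coe_mk]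
  decide +kernel

theorem w_inv : (mk W0 dW0)⁻¹ = mk W5 dW5 := by
  apply inv_eq_of_mul_eq_one_right
  rw [eq_iff, Units.val_mul, coe_mk, coe_mk, Units.val_one]
  decide +kernel

theorem order_a : orderOf (mk A0 dA0) = 8 := by
  haveI : Fact (Nat.Prime 2) := ⟨Nat.prime_two⟩
  have h := orderOf_eq_prime_pow (x := mk A0 dA0) (p := 2) (n := 2) ?_ ?_
  · exact h
  · rw [eq_iff, Units.val_pow_eq_pow_val, coe_mk, Units.val_one]
    decide +kernel
  · rw [eq_iff, Units.val_pow_eq_pow_val, coe_mk, Units.val_one]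
    decide +kernel

theorem order_u : orderOf (mk U0 dU0) = 3 := by
  haveI : Fact (Nat.Prime 3) := ⟨Nat.prime_three⟩
  apply orderOf_eq_prime
  · rw [eq_iff, Units.val_pow_eq_pow_val, coe_mk, Units.val_one]
    decide +kernel
  · rw [Ne, eq_iff, coe_mk, Units.val_one]
    decide +kernel

set_option maxRecDepth 100000 in
theorem conj_a3_dec : ∃ C : M3, dt C ≠ 0 ∧ C * A0 = A3 * C := by decide +kernel

set_option maxRecDepth 100000 in
theorem nconj_a_dec : ¬ ∃ C : M3, dt C ≠ 0 ∧ C * A0 = A7 * C := by decide +kernel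

set_option maxRecDepth 100000 in
theorem conj_w_dec : ∃ C : M3, dt C ≠ 0 ∧ C * W0 = W5 * C := by decide +kernel

set_option maxRecDepth 100000 in
theorem cent_a_dec : Fintype.card {A : M3 // dt A ≠ 0 ∧ A * A0 = A0 * A} = 8 := by decide +kernel

set_option maxRecDepth 100000 in
theorem cent_f_dec : Fintype.card {A : M3 // dt A ≠ 0 ∧ A * A2 = A2 * A} = 8 := by decide +kernel

set_option maxRecDepth 100000 in
theorem cent_w_dec : Fintype.card {A : M3 // dt A ≠ 0 ∧ A * W0 = W0 * A} = 6 := by decide +kernel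

set_option maxRecDepth 100000 in
theorem ninv_t_dec : Fintype.card {X : M3 // dt X ≠ 0 ∧ X * X = 1 ∧ X ≠ 1 ∧
    (X * N1) * (X * N1) = 1 ∧ X * N1 ≠ 1} = 12 := by decide +kernel

set_option maxRecDepth 100000 in
theorem ninv_f_dec : Fintype.card {X : M3 // dt X ≠ 0 ∧ X * X = 1 ∧ X ≠ 1 ∧
    (X * A2) * (X * A2) = 1 ∧ X * A2 ≠ 1} = 4 := by decide +kernel

set_option maxRecDepth 100000 in
theorem ninv_w_dec : Fintype.card {X : M3 // dt X ≠ 0 ∧ X * X = 1 ∧ X ≠ 1 ∧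
    (X * W0) * (X * W0) = 1 ∧ X * W0 ≠ 1} = 6 := by decide +kernel

set_option maxRecDepth 100000 in
theorem ninv_a_dec : Fintype.card {X : M3 // dt X ≠ 0 ∧ X * X = 1 ∧ X ≠ 1 ∧
    (X * A0) * (X * A0) = 1 ∧ X * A0 ≠ 1} = 0 := by decide +kernel

set_option maxRecDepth 100000 in
theorem ninv_a'_dec : Fintype.card {X : M3 // dt X ≠ 0 ∧ X * X = 1 ∧ X ≠ 1 ∧
    (X * A7) * (X * A7) = 1 ∧ X * A7 ≠ 1} = 0 := by decide +kernel

end GLB

open GLA GLB

/-- PIECE GLB: the elements `a` (order 8) and `u` (order 3) of `GL(2,3)` -/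
theorem like_gl_ex :
    ∃ a u : Matrix.GeneralLinearGroup (Fin 2) (ZMod 3), orderOf a = 8 ∧ a ^ 4 = -1 ∧ orderOf u = 3 ∧
    IsConj a (a ^ 3) ∧ ¬ IsConj a a⁻¹ ∧ IsConj ((-1) * u) ((-1) * u)⁻¹ ∧
    Nat.card (Subgroup.centralizer ({a} : Set (Matrix.GeneralLinearGroup (Fin 2) (ZMod 3)))) = 8 ∧
    Nat.card (Subgroup.centralizer ({a ^ 2} : Set (Matrix.GeneralLinearGroup (Fin 2) (ZMod 3)))) = 8 ∧
    Nat.card (Subgroup.centralizer ({(-1) * u} : Set (Matrix.GeneralLinearGroup (Fin 2) (ZMod 3)))) = 6 ∧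
    nInv (-1 : Matrix.GeneralLinearGroup (Fin 2) (ZMod 3)) = 12 ∧ nInv (a ^ 2) = 4 ∧ nInv ((-1) * u) = 6 ∧
    nInv a = 0 ∧ nInv a⁻¹ = 0 := by
  refine ⟨mk A0 dA0, mk U0 dU0, order_a, a_four, order_u, ?_, ?_, ?_, ?_, ?_, ?_, ?_, ?_, ?_, ?_, ?_⟩
  · rw [a_cube, isConj_iff', coe_mk, coe_mk]
    exact conj_a3_dec
  · rw [a_inv, isConj_iff', coe_mk, coe_mk]
    exact nconj_a_dec
  · rw [w_eq, w_inv, isConj_iff', coe_mk, coe_mk]
    exact conj_w_dec
  · rw [card_centralizer]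
    exact cent_a_dec
  · rw [a_sq, card_centralizer]
    exact cent_f_dec
  · rw [w_eq, card_centralizer]
    exact cent_w_dec
  · rw [neg_one_eq, nInv_eq]
    exact ninv_t_dec
  · rw [a_sq, nInv_eq]
    exact ninv_f_dec
  · rw [w_eq, nInv_eq]
    exact ninv_w_dec
  · rw [nInv_eq]
    exact ninv_a_dec
  · rw [a_inv, nInv_eq]
    exact ninv_a'_dec

end Cfsg.Agent.Helper15.GL23
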