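import Mathlib
import Cfsg.Agent.Lib.Helper15.GL23Defs

/-!
# S0197 piece LIFTCENT (helper19 for helper15): if `t` is a power of `x` then `|C_G(x)| = |C_C(x)|`, `C = C_G(t)`.
-/

set_option autoImplicit false
set_option linter.unusedSectionVars false
set_option linter.unusedVariables false

namespace Cfsg.Agent.Helper15.GL23

universe u v

section Grp

variable {G : Type u} [Group G]

namespace LIFTCENT

/-- an element commuting with `x` commutes with every power of `x` -/
theorem mem_centralizer_pow {g x : G} (k : ℕ) (h : g ∈ Subgroup.centralizer ({x} : Set G)) :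
    g ∈ Subgroup.centralizer ({x ^ k} : Set G) := by
  rw [Subgroup.mem_centralizer_singleton_iff] at h ⊢
  have hc : Commute g x := h
  exact (hc.pow_right k).eq

end LIFTCENT

/-- PIECE LIFTCENT: if `t` is a power of `x` then `C_G(x) = C_C(x)`, `C = C_G(t)` -/
theorem card_centralizer_lift (t : G) (x : Subgroup.centralizer ({t} : Set G)) (k : ℕ)
    (hx : (x : G) ^ k = t) :
    Nat.card (Subgroup.centralizer ({(x : G)} : Set G)) =
      Nat.card (Subgroup.centralizer ({x} : Set (Subgroup.centralizer ({t} : Set G)))) := by
  refine Nat.card_congr ?_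
  refine
    { toFun := fun g => ⟨⟨g.1, ?_⟩, ?_⟩
      invFun := fun h => ⟨h.1.1, ?_⟩
      left_inv := fun g => rfl
      right_inv := fun h => rfl }
  · have := LIFTCENT.mem_centralizer_pow k g.2
    rwa [hx] at this
  · rw [Subgroup.mem_centralizer_singleton_iff]
    have h := g.2
    rw [Subgroup.mem_centralizer_singleton_iff] at h
    exact Subtype.ext h
  · have h := h.2
    rw [Subgroup.mem_centralizer_singleton_iff] at h ⊢
    exact congrArg Subtype.val h

end Grp

end Cfsg.Agent.Helper15.GL23
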