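import Mathlib
import Cfsg.Agent.Lib.Helper15.GL23Defs

/-!
# S0197 piece LIFTNC (helper19 for helper15): `x^k = y^k = t` and `x ~ y` in `G` imply `x ~ y` in `C_G(t)`.
-/

set_option autoImplicit false
set_option linter.unusedSectionVars false
set_option linter.unusedVariables false

namespace Cfsg.Agent.Helper15.GL23

universe u v

section Grp

variable {G : Type u} [Group G]

/-- PIECE LIFTNC: `x^k = y^k = t` and `x ~ y` in `G` ⟹ `x ~ y` in `C_G(t)` (the TI property) -/
theorem isConj_lift (t : G) (x y : Subgroup.centralizer ({t} : Set G)) (k : ℕ)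
    (hx : (x : G) ^ k = t) (hy : (y : G) ^ k = t) (h : IsConj (x : G) (y : G)) : IsConj x y := by
  obtain ⟨c, hc⟩ := isConj_iff.mp h
  have hct : c * t * c⁻¹ = t := by
    calc c * t * c⁻¹ = c * (x : G) ^ k * c⁻¹ := by rw [hx]
      _ = (c * (x : G) * c⁻¹) ^ k := (conj_pow).symm
      _ = t := by rw [hc, hy]
  have hcC : c ∈ Subgroup.centralizer ({t} : Set G) := by
    rw [Subgroup.mem_centralizer_singleton_iff]
    calc c * t = c * t * c⁻¹ * c := by group
      _ = t * c := by rw [hct]
  refine isConj_iff.mpr ⟨⟨c, hcC⟩, ?_⟩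
  exact Subtype.ext hc

end Grp

end Cfsg.Agent.Helper15.GL23
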