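import Mathlib
import Cfsg.Agent.Lib.Helper15.GL23Defs

/-!
# S0197 piece LIFTNINV (written by lead for helper15): if the involution `t` is a power of `z`, two
involutions with product `z` invert `z`, hence centralize `t`: the count `nInv z` is the same in
`C_G(t)` as in `G`.
-/

set_option autoImplicit false

namespace Cfsg.Agent.Helper15.GL23

universe u

namespace LIFTNINV

variable {G : Type u} [Group G]

theorem mul_self_of_orderOf_two {x : G} (hx : orderOf x = 2) : x * x = 1 := by
  have := pow_orderOf_eq_one x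
  rw [hx, pow_two] at this
  exact this

/-- an involution `x` with `x y` of "power `t`" (`t` an involution, `y` an involution) commutes with `t` -/
theorem comm_of_invol_mul {x y t : G} (hx : x * x = 1) (hy : y * y = 1) (k : ℕ)
    (hk : (x * y) ^ k = t) (ht : t * t = 1) : x * t = t * x := by
  have hxi : x⁻¹ = x := inv_eq_of_mul_eq_one_right hx
  have hyi : y⁻¹ = y := inv_eq_of_mul_eq_one_right hy
  have hti : t⁻¹ = t := inv_eq_of_mul_eq_one_right ht
  have h1 : x * (x * y) * x⁻¹ = (x * y)⁻¹ := by
    rw [mul_inv_rev, hxi, hyi, ← mul_assoc, hx, one_mul]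
  have h2 : x * (x * y) ^ k * x⁻¹ = ((x * y) ^ k)⁻¹ := by
    rw [← conj_pow, h1, inv_pow]
  rw [hk, hti] at h2
  calc x * t = x * t * x⁻¹ * x := by group
    _ = t * x := by rw [h2]

end LIFTNINV

section Grp

variable {G : Type u} [Group G]

/-- PIECE LIFTNINV: if the involution `t` is a power of `z`, two involutions with product `z` invert `z`,
hence centralize `t`: the count is the same in `C = C_G(t)` -/
theorem nInv_lift (t : G) (ht : orderOf t = 2) (z : Subgroup.centralizer ({t} : Set G)) (k : ℕ)
    (hz : (z : G) ^ k = t) : nInv (z : G) = nInv z := by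
  unfold nInv
  symm
  have htt : t * t = 1 := LIFTNINV.mul_self_of_orderOf_two ht
  let f : {p : Subgroup.centralizer ({t} : Set G) × Subgroup.centralizer ({t} : Set G) //
        orderOf p.1 = 2 ∧ orderOf p.2 = 2 ∧ p.1 * p.2 = z} →
      {p : G × G // orderOf p.1 = 2 ∧ orderOf p.2 = 2 ∧ p.1 * p.2 = (z : G)} :=
    fun p => ⟨((p.1.1 : G), (p.1.2 : G)), by
      refine ⟨?_, ?_, ?_⟩
      · rw [Subgroup.orderOf_coe]; exact p.2.1
      · rw [Subgroup.orderOf_coe]; exact p.2.2.1
      · have := congrArg Subtype.val p.2.2.2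
        simpa using this⟩
  refine Nat.card_congr (Equiv.ofBijective f ⟨?_, ?_⟩)
  · intro p q hpq
    have h1 : ((p.1.1 : G)) = (q.1.1 : G) := congrArg (fun r => r.1.1) hpq
    have h2 : ((p.1.2 : G)) = (q.1.2 : G) := congrArg (fun r => r.1.2) hpq
    apply Subtype.ext
    apply Prod.ext
    · exact Subtype.ext h1
    · exact Subtype.ext h2
  · rintro ⟨⟨x, y⟩, hx, hy, hxy⟩
    have hxx : x * x = 1 := LIFTNINV.mul_self_of_orderOf_two hx
    have hyy : y * y = 1 := LIFTNINV.mul_self_of_orderOf_two hy
    have hxy' : x * y = (z : G) := hxy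
    have hxC : x ∈ Subgroup.centralizer ({t} : Set G) := by
      rw [Subgroup.mem_centralizer_singleton_iff]
      exact LIFTNINV.comm_of_invol_mul hxx hyy k (by rw [hxy']; exact hz) htt
    have hyC : y ∈ Subgroup.centralizer ({t} : Set G) := by
      have : y = x⁻¹ * (z : G) := by rw [← hxy', inv_mul_cancel_left]
      rw [this]
      exact Subgroup.mul_mem _ (Subgroup.inv_mem _ hxC) z.2
    refine ⟨⟨(⟨x, hxC⟩, ⟨y, hyC⟩), ?_, ?_, ?_⟩, rfl⟩
    · rw [← Subgroup.orderOf_coe]; exact hx
    · rw [← Subgroup.orderOf_coe]; exact hy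
    · exact Subtype.ext hxy'

end Grp

end Cfsg.Agent.Helper15.GL23
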