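import Mathlib
import Cfsg.Agent.Lib.Helper24.CharComplete
import Cfsg.Agent.Lib.Helper15.GL23Defs
import Cfsg.Agent.Lib.Helper15.GL23IRR2

/-!
# S0197 piece ORTHO (helper15's skeleton; proof by helper25)

The column orthogonality relations for the columns `1, t, a², tu, a, a⁻¹`.
-/

set_option autoImplicit false
set_option linter.unusedSectionVars false
set_option linter.unusedVariables false

namespace Cfsg.Agent.Helper15.GL23

open Cfsg Cfsg.Agent.Helper24
open scoped ComplexConjugate

universe u v

namespace ORTHO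

/-- splitting a vanishing sum along `1, sq2` -/
theorem split {ι : Type*} [Fintype ι] (A B : ι → ℤ)
    (h : ∑ X, ((A X : ℂ) + (B X : ℂ) * sq2) = 0) : ∑ X, A X = 0 ∧ ∑ X, B X = 0 := by
  have h2 : ((∑ X, A X : ℤ) : ℂ) + ((∑ X, B X : ℤ) : ℂ) * sq2 = 0 := by
    push_cast
    rw [Finset.sum_mul, ← Finset.sum_add_distrib]
    exact h
  exact sq2_indep _ _ h2

/-- conjugate elements have the same order -/
theorem not_isConj_of_orderOf_ne {G : Type*} [Group G] {x y : G} (h : orderOf x ≠ orderOf y) :
    ¬ IsConj x y := by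
  intro hc
  obtain ⟨g, hg⟩ := isConj_iff.mp hc
  apply h
  rw [← hg]
  have := orderOf_injective (MulAut.conj g).toMonoidHom (MulAut.conj g).injective x
  simpa [MulAut.conj_apply] using this.symm

end ORTHO

section Tab

variable {G : Type u} [Group G] [Fintype G] [Fintype (IrrCharacter G)]

/-- PIECE ORTHO: the column orthogonality relations (`second_orthogonality'` for the pairs among
`t, a², tu, a, a⁻¹` and with `1`; the five elements are pairwise non-conjugate [orders 2, 4, 6, 8, 8 and `c.nconj_a`],
centralizer orders `c.cardt` ... ; `conj sq2 = -sq2`, `sq2² = -2`, `sq2_indep`) -/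
theorem ortho {t : G} (ht : orderOf t = 2) (c : Cfg t) {T F U M N : IrrCharacter G → ℤ}
    (h : ValData c T F U M N) :
    GL23A.Ortho T F U M N (fun X : IrrCharacter G => (charDegree (X : G → ℂ) : ℤ)) := by
  classical
  have hD : ∀ X : IrrCharacter G, (X : G → ℂ) 1 = ((charDegree (X : G → ℂ) : ℤ) : ℂ) := by
    intro X
    rw [irr_one_eq_charDegree X.2]
    push_cast
    rfl
  -- orders
  have o1 : orderOf (1 : G) = 1 := orderOf_one
  have of : orderOf (c.a ^ 2) = 4 := by
    rw [orderOf_pow' _ (by norm_num : (2 : ℕ) ≠ 0), c.oa]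
    norm_num
  have ow : orderOf (t * c.u) = 6 := by
    have hcomm : Commute t c.u := c.tu
    rw [hcomm.orderOf_mul_eq_mul_orderOf_of_coprime (by rw [ht, c.ou]; norm_num), ht, c.ou]
  have oa := c.oa
  -- non-conjugacy
  have n_t1 : ¬ IsConj t 1 := ORTHO.not_isConj_of_orderOf_ne (by rw [ht, o1]; norm_num)
  have n_f1 : ¬ IsConj (c.a ^ 2) 1 := ORTHO.not_isConj_of_orderOf_ne (by rw [of, o1]; norm_num)
  have n_w1 : ¬ IsConj (t * c.u) 1 := ORTHO.not_isConj_of_orderOf_ne (by rw [ow, o1]; norm_num)
  have n_a1 : ¬ IsConj c.a 1 := ORTHO.not_isConj_of_orderOf_ne (by rw [oa, o1]; norm_num)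
  have n_ft : ¬ IsConj (c.a ^ 2) t := ORTHO.not_isConj_of_orderOf_ne (by rw [of, ht]; norm_num)
  have n_wt : ¬ IsConj (t * c.u) t := ORTHO.not_isConj_of_orderOf_ne (by rw [ow, ht]; norm_num)
  have n_at : ¬ IsConj c.a t := ORTHO.not_isConj_of_orderOf_ne (by rw [oa, ht]; norm_num)
  have n_wf : ¬ IsConj (t * c.u) (c.a ^ 2) :=
    ORTHO.not_isConj_of_orderOf_ne (by rw [ow, of]; norm_num)
  have n_af : ¬ IsConj c.a (c.a ^ 2) := ORTHO.not_isConj_of_orderOf_ne (by rw [oa, of]; norm_num)
  have n_aw : ¬ IsConj c.a (t * c.u) := ORTHO.not_isConj_of_orderOf_ne (by rw [oa, ow]; norm_num)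
  have n_aa : ¬ IsConj c.a⁻¹ c.a := fun hc => c.nconj_a hc.symm
  -- the relations with real columns
  have e_tt := second_orthogonality' (G := G) t t
  have e_ff := second_orthogonality' (G := G) (c.a ^ 2) (c.a ^ 2)
  have e_uu := second_orthogonality' (G := G) (t * c.u) (t * c.u)
  have e_tf := second_orthogonality' (G := G) t (c.a ^ 2)
  have e_tu := second_orthogonality' (G := G) t (t * c.u)
  have e_fu := second_orthogonality' (G := G) (c.a ^ 2) (t * c.u)
  have e_dt := second_orthogonality' (G := G) 1 t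
  have e_df := second_orthogonality' (G := G) 1 (c.a ^ 2)
  have e_du := second_orthogonality' (G := G) 1 (t * c.u)
  -- the relations with the column of `a`
  have e_aa := second_orthogonality' (G := G) c.a c.a
  have e_aa' := second_orthogonality' (G := G) c.a c.a⁻¹
  have e_ta := second_orthogonality' (G := G) t c.a
  have e_fa := second_orthogonality' (G := G) (c.a ^ 2) c.a
  have e_ua := second_orthogonality' (G := G) (t * c.u) c.a
  have e_da := second_orthogonality' (G := G) 1 c.a
  rw [if_pos (IsConj.refl _), c.cardt] at e_tt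
  rw [if_pos (IsConj.refl _), c.cardf] at e_ff
  rw [if_pos (IsConj.refl _), c.cardw] at e_uu
  rw [if_pos (IsConj.refl _), c.carda] at e_aa
  rw [if_neg n_ft] at e_tf
  rw [if_neg n_wt] at e_tu
  rw [if_neg n_wf] at e_fu
  rw [if_neg n_t1] at e_dt
  rw [if_neg n_f1] at e_df
  rw [if_neg n_w1] at e_du
  rw [if_neg n_aa] at e_aa'
  rw [if_neg n_at] at e_ta
  rw [if_neg n_af] at e_fa
  rw [if_neg n_aw] at e_ua
  rw [if_neg n_a1] at e_da
  simp only [h.hT, h.hF, h.hU, h.hA, h.hA', hD, map_intCast, map_add, map_sub, map_mul,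
    conj_sq2] at e_tt e_ff e_uu e_tf e_tu e_fu e_dt e_df e_du e_aa e_aa' e_ta e_fa e_ua e_da
  -- split the `a`-relations
  have s_aa : ∑ X : IrrCharacter G, (M X * M X + 2 * (N X * N X)) = 8 := by
    have : ((∑ X : IrrCharacter G, (M X * M X + 2 * (N X * N X)) : ℤ) : ℂ) = ((8 : ℕ) : ℂ) := by
      rw [← e_aa]
      push_cast
      refine Finset.sum_congr rfl fun X _ => ?_
      linear_combination ((N X : ℂ) * (N X : ℂ)) * sq2_mul_self
    exact_mod_cast this
  have s_aa' := ORTHO.split (fun X : IrrCharacter G => M X * M X - 2 * (N X * N X))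
    (fun X : IrrCharacter G => 2 * (M X * N X)) (by
      rw [← e_aa']
      refine Finset.sum_congr rfl fun X _ => ?_
      push_cast
      linear_combination (-((N X : ℂ) * (N X : ℂ))) * sq2_mul_self)
  have s_ta := ORTHO.split (fun X : IrrCharacter G => T X * M X)
    (fun X : IrrCharacter G => -(T X * N X)) (by
      rw [← e_ta]
      refine Finset.sum_congr rfl fun X _ => ?_
      push_cast
      ring)
  have s_fa := ORTHO.split (fun X : IrrCharacter G => F X * M X)
    (fun X : IrrCharacter G => -(F X * N X)) (by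
      rw [← e_fa]
      refine Finset.sum_congr rfl fun X _ => ?_
      push_cast
      ring)
  have s_ua := ORTHO.split (fun X : IrrCharacter G => U X * M X)
    (fun X : IrrCharacter G => -(U X * N X)) (by
      rw [← e_ua]
      refine Finset.sum_congr rfl fun X _ => ?_
      push_cast
      ring)
  have s_da := ORTHO.split (fun X : IrrCharacter G => (charDegree (X : G → ℂ) : ℤ) * M X)
    (fun X : IrrCharacter G => -((charDegree (X : G → ℂ) : ℤ) * N X)) (by
      rw [← e_da]
      refine Finset.sum_congr rfl fun X _ => ?_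
      push_cast
      ring)
  simp only [Finset.sum_add_distrib, Finset.sum_sub_distrib, ← Finset.mul_sum,
    Finset.sum_neg_distrib, neg_eq_zero] at s_aa s_aa' s_ta s_fa s_ua s_da
  exact
    { tt := by exact_mod_cast e_tt
      ff := by exact_mod_cast e_ff
      uu := by exact_mod_cast e_uu
      mm := by linarith [s_aa'.1]
      nn := by linarith [s_aa'.1]
      tf := by exact_mod_cast e_tf
      tu := by exact_mod_cast e_tu
      tm := s_ta.1
      tn := s_ta.2
      fu := by exact_mod_cast e_fu
      fm := s_fa.1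
      fn := s_fa.2
      um := s_ua.1
      un := s_ua.2
      mn := by linarith [s_aa'.2]
      dt := by exact_mod_cast e_dt
      df := by exact_mod_cast e_df
      du := by exact_mod_cast e_du
      dm := s_da.1
      dn := s_da.2 }

end Tab

end Cfsg.Agent.Helper15.GL23
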