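import Mathlib
import Cfsg.Agent.Lib.Helper15.GL23Defs

/-!
# S0197 piece TRANSPORT (written by lead for helper15): `Like` is invariant under isomorphism.
-/

set_option autoImplicit false

namespace Cfsg.Agent.Helper15.GL23

universe u v

namespace TRANSPORT

variable {H : Type u} {H' : Type v} [Group H] [Group H']

theorem card_centralizer_equiv (e : H ≃* H') (x : H) :
    Nat.card (Subgroup.centralizer ({e x} : Set H')) =
      Nat.card (Subgroup.centralizer ({x} : Set H)) := by
  symm
  refine Nat.card_congr (Equiv.subtypeEquiv e.toEquiv ?_)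
  intro y
  rw [Subgroup.mem_centralizer_singleton_iff, Subgroup.mem_centralizer_singleton_iff]
  constructor
  · intro h
    show e y * e x = e x * e y
    rw [← map_mul, ← map_mul, h]
  · intro h
    apply e.injective
    rw [map_mul, map_mul]
    exact h

theorem nInv_equiv (e : H ≃* H') (x : H) : nInv (e x) = nInv x := by
  unfold nInv
  symm
  refine Nat.card_congr (Equiv.subtypeEquiv (Equiv.prodCongr e.toEquiv e.toEquiv) ?_)
  rintro ⟨p, q⟩
  show (orderOf p = 2 ∧ orderOf q = 2 ∧ p * q = x) ↔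
    (orderOf (e p) = 2 ∧ orderOf (e q) = 2 ∧ e p * e q = e x)
  rw [MulEquiv.orderOf_eq, MulEquiv.orderOf_eq, ← map_mul, e.injective.eq_iff]

theorem isConj_equiv_iff (e : H ≃* H') (a b : H) : IsConj (e a) (e b) ↔ IsConj a b := by
  constructor
  · intro h
    have := (e.symm.toMonoidHom).map_isConj h
    simpa using this
  · intro h
    exact (e.toMonoidHom).map_isConj h

end TRANSPORT

/-- PIECE TRANSPORT: `Like` is invariant under isomorphism -/
theorem Like.of_equiv {H : Type u} {H' : Type v} [Group H] [Group H'] (e : H ≃* H') {z : H}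
    (h : Like H z) : Like H' (e z) := by
  obtain ⟨a, u, oa, a4, ou, c3, nc, cw, ca, cf, cwc, n1, n2, n3, n4, n5⟩ := h.ex
  refine ⟨?_, ?_, ?_, ?_, ?_, ?_, ?_⟩
  · rw [← h.card]
    exact Nat.card_congr e.symm.toEquiv
  · rw [MulEquiv.orderOf_eq]
    exact h.oz
  · intro x
    obtain ⟨y, rfl⟩ := e.surjective x
    rw [← map_mul, ← map_mul, h.central]
  · intro x hx hc
    obtain ⟨y, rfl⟩ := e.surjective x
    rw [MulEquiv.orderOf_eq] at hx
    apply congrArg e
    apply h.central_unique y hx
    intro w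
    apply e.injective
    rw [map_mul, map_mul]
    exact hc (e w)
  · intro x y hx hy hxz hyz
    obtain ⟨x', rfl⟩ := e.surjective x
    obtain ⟨y', rfl⟩ := e.surjective y
    rw [MulEquiv.orderOf_eq] at hx hy
    rw [TRANSPORT.isConj_equiv_iff]
    exact h.invol x' y' hx hy (fun hh => hxz (by rw [hh])) (fun hh => hyz (by rw [hh]))
  · obtain ⟨s, hs, hsz⟩ := h.ex_invol
    exact ⟨e s, by rw [MulEquiv.orderOf_eq]; exact hs, fun hh => hsz (e.injective hh)⟩
  · refine ⟨e a, e u, ?_, ?_, ?_, ?_, ?_, ?_, ?_, ?_, ?_, ?_, ?_, ?_, ?_, ?_⟩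
    · rw [MulEquiv.orderOf_eq]; exact oa
    · rw [← map_pow, a4]
    · rw [MulEquiv.orderOf_eq]; exact ou
    · rw [← map_pow, TRANSPORT.isConj_equiv_iff]; exact c3
    · rw [← map_inv, TRANSPORT.isConj_equiv_iff]; exact nc
    · rw [← map_mul, ← map_inv, TRANSPORT.isConj_equiv_iff]; exact cw
    · rw [TRANSPORT.card_centralizer_equiv]; exact ca
    · rw [← map_pow, TRANSPORT.card_centralizer_equiv]; exact cf
    · rw [← map_mul, TRANSPORT.card_centralizer_equiv]; exact cwc
    · rw [TRANSPORT.nInv_equiv]; exact n1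
    · rw [← map_pow, TRANSPORT.nInv_equiv]; exact n2
    · rw [← map_mul, TRANSPORT.nInv_equiv]; exact n3
    · rw [TRANSPORT.nInv_equiv]; exact n4
    · rw [← map_inv, TRANSPORT.nInv_equiv]; exact n5

end Cfsg.Agent.Helper15.GL23
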