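import Mathlib
import Cfsg.Agent.Lib.Helper24.KF9CharCore
import Cfsg.Agent.Lib.Helper15.GL23Defs

/-!
# S0197 piece VALS6 (helper15): values of a character at a real element `w` of order 6 and at `w³`.
-/

set_option autoImplicit false
set_option linter.unusedSectionVars false
set_option linter.unusedVariables false
set_option linter.unusedSimpArgs false

namespace Cfsg.Agent.Helper15.GL23

open Cfsg Cfsg.Agent.Helper24 Cfsg.Agent.Helper16.KF9
open scoped ComplexConjugate

universe u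

namespace VALS6

/-- integer data of a sixth root of unity: `μ + μ⁵ = p`, `μ³ = q`, `p - 2 q = 3 r` -/
theorem root_coords {μ : ℂ} (h : μ ^ 6 = 1) :
    ∃ p q r : ℤ, μ + μ ^ 5 = (p : ℂ) ∧ μ ^ 3 = (q : ℂ) ∧ p - 2 * q = 3 * r := by
  rcases charcore_sixth h with h0 | h0 | h0 | h0
  · subst h0
    exact ⟨2, 1, 0, by norm_num, by norm_num, by norm_num⟩
  · subst h0
    exact ⟨-2, -1, 0, by norm_num, by norm_num, by norm_num⟩
  · refine ⟨-1, 1, -1, ?_, ?_, by norm_num⟩
    · push_cast; linear_combination (μ ^ 3 - μ ^ 2 + 1) * h0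
    · push_cast; linear_combination (μ - 1) * h0
  · refine ⟨1, -1, 1, ?_, ?_, by norm_num⟩
    · push_cast; linear_combination (μ ^ 3 + μ ^ 2 - 1) * h0
    · push_cast; linear_combination (μ + 1) * h0

end VALS6

section Chr

variable {G : Type u} [Group G] [Finite G]

/-- PIECE VALS6: values of a character at a real element `w` of order 6 and at `w³` -/
theorem vals_six {χ : G → ℂ} (hχ : IsCharacter G χ) {w : G} (ow : orderOf w = 6)
    (hc : IsConj w w⁻¹) :
    ∃ U T : ℤ, χ w = (U : ℂ) ∧ χ (w ^ 3) = (T : ℂ) ∧ (3 : ℤ) ∣ T - U := by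
  have hcf := isClassFunction_of_isCharacter hχ
  obtain ⟨n, ρ, rfl⟩ := hχ
  have hw6 : w ^ 6 = 1 := by rw [← ow]; exact pow_orderOf_eq_one w
  obtain ⟨μ, hμ, hk⟩ := charcore_roots ρ w (by norm_num : 0 < 6) hw6
  have hroot := fun i => VALS6.root_coords (hμ i)
  choose p q r h1 h3 hr using hroot
  have s1 : ρ.character w = ∑ i, μ i := by simpa using hk 1
  have s5 : ρ.character (w ^ 5) = ∑ i, μ i ^ 5 := hk 5
  have s3 : ρ.character (w ^ 3) = ((∑ i, q i : ℤ) : ℂ) := by
    rw [hk 3, Finset.sum_congr rfl (fun i _ => h3 i)]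
    push_cast
    rfl
  have hw5 : w ^ 5 = w⁻¹ := by
    rw [eq_inv_iff_mul_eq_one, ← pow_succ]; exact hw6
  have e15 : ρ.character (w ^ 5) = ρ.character w := by
    rw [hw5]
    obtain ⟨c, hc'⟩ := isConj_iff.mp hc
    rw [← hc']; exact hcf w c
  have h2 : (2 : ℂ) * ρ.character w = ((∑ i, p i : ℤ) : ℂ) := by
    have : (2 : ℂ) * ρ.character w = ∑ i, (μ i + μ i ^ 5) := by
      rw [Finset.sum_add_distrib, ← s1, ← s5, e15]; ring
    rw [this, Finset.sum_congr rfl (fun i _ => h1 i)]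
    push_cast
    rfl
  have hsum : (∑ i, p i) - 2 * (∑ i, q i) = 3 * ∑ i, r i := by
    rw [Finset.mul_sum, Finset.mul_sum, ← Finset.sum_sub_distrib]
    exact Finset.sum_congr rfl (fun i _ => hr i)
  -- `∑ p` is even
  obtain ⟨U, hU⟩ := charcore_int_of_two_mul _ (isIntegral_char ρ w) _ h2
  have hpU : (∑ i, p i) = 2 * U := by
    rw [hU] at h2
    exact_mod_cast h2.symm
  refine ⟨U, ∑ i, q i, hU, s3, ?_⟩
  omega

end Chr

end Cfsg.Agent.Helper15.GL23
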