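import Mathlib
import Cfsg.Agent.Lib.Helper24.KF9CharCore
import Cfsg.Agent.Lib.Helper15.GL23Defs
import Cfsg.Agent.Lib.Helper15.GL23IRR2

/-!
# S0197 piece VALS8 (helper15): values of a character on `⟨a⟩`, `a` of order 8 conjugate to `a³`.
-/

set_option autoImplicit false
set_option linter.unusedSectionVars false
set_option linter.unusedVariables false
set_option linter.unusedSimpArgs false

namespace Cfsg.Agent.Helper15.GL23

open Cfsg Cfsg.Agent.Helper24 Cfsg.Agent.Helper16.KF9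
open scoped ComplexConjugate

universe u

namespace VALS8

/-- the real `√2` as a complex number -/
noncomputable def rt : ℂ := ((Real.sqrt 2 : ℝ) : ℂ)

theorem rt_mul_self : rt * rt = 2 := by
  unfold rt
  rw [← Complex.ofReal_mul, Real.mul_self_sqrt (by norm_num : (0 : ℝ) ≤ 2)]
  norm_num

theorem sq2_eq : sq2 = Complex.I * rt := rfl

/-- a primitive eighth root of unity -/
noncomputable def zeta : ℂ := (rt + sq2) / 2

theorem I_sq' : Complex.I * Complex.I = -1 := Complex.I_mul_I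

theorem zeta_sq : zeta * zeta = Complex.I := by
  unfold zeta
  rw [sq2_eq]
  linear_combination ((1 + 2 * Complex.I + Complex.I * Complex.I) / 4) * rt_mul_self
    + (1 / 2 : ℂ) * I_sq'

theorem zeta_add : zeta + Complex.I * zeta = sq2 := by
  unfold zeta
  rw [sq2_eq]
  linear_combination (rt / 2) * I_sq'

theorem zeta_sub : zeta - Complex.I * zeta = rt := by
  unfold zeta
  rw [sq2_eq]
  linear_combination (-rt / 2) * I_sq'

/-- the eight eighth roots of unity -/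
theorem eight_cases {μ : ℂ} (h : μ ^ 8 = 1) :
    μ = 1 ∨ μ = -1 ∨ μ = Complex.I ∨ μ = -Complex.I ∨ μ = zeta ∨ μ = -zeta ∨
      μ = Complex.I * zeta ∨ μ = -(Complex.I * zeta) := by
  have hfac : (μ - 1) * ((μ + 1) * ((μ - Complex.I) * ((μ + Complex.I) * ((μ - zeta) *
      ((μ + zeta) * ((μ - Complex.I * zeta) * (μ + Complex.I * zeta))))))) = 0 := by
    have h1 : (μ - zeta) * (μ + zeta) = μ ^ 2 - Complex.I := by
      linear_combination (-1 : ℂ) * zeta_sq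
    have h2 : (μ - Complex.I * zeta) * (μ + Complex.I * zeta) = μ ^ 2 + Complex.I := by
      linear_combination (-(Complex.I * Complex.I)) * zeta_sq + (-Complex.I) * I_sq'
    have h3 : (μ - Complex.I) * (μ + Complex.I) = μ ^ 2 + 1 := by
      linear_combination (-1 : ℂ) * I_sq'
    have h4 : (μ ^ 2 - Complex.I) * (μ ^ 2 + Complex.I) = μ ^ 4 + 1 := by
      linear_combination (-1 : ℂ) * I_sq'
    calc (μ - 1) * ((μ + 1) * ((μ - Complex.I) * ((μ + Complex.I) * ((μ - zeta) *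
        ((μ + zeta) * ((μ - Complex.I * zeta) * (μ + Complex.I * zeta)))))))
        = (μ - 1) * (μ + 1) * ((μ - Complex.I) * (μ + Complex.I)) *
          (((μ - zeta) * (μ + zeta)) * ((μ - Complex.I * zeta) * (μ + Complex.I * zeta))) := by
          ring
      _ = (μ - 1) * (μ + 1) * (μ ^ 2 + 1) * (μ ^ 4 + 1) := by rw [h1, h2, h3, h4]
      _ = μ ^ 8 - 1 := by ring
      _ = 0 := by rw [h, sub_self]
  rcases mul_eq_zero.mp hfac with h0 | h0
  · left; exact sub_eq_zero.mp h0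
  rcases mul_eq_zero.mp h0 with h0 | h0
  · right; left; exact eq_neg_of_add_eq_zero_left h0
  rcases mul_eq_zero.mp h0 with h0 | h0
  · right; right; left; exact sub_eq_zero.mp h0
  rcases mul_eq_zero.mp h0 with h0 | h0
  · right; right; right; left; exact eq_neg_of_add_eq_zero_left h0
  rcases mul_eq_zero.mp h0 with h0 | h0
  · right; right; right; right; left; exact sub_eq_zero.mp h0
  rcases mul_eq_zero.mp h0 with h0 | h0
  · right; right; right; right; right; left; exact eq_neg_of_add_eq_zero_left h0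
  rcases mul_eq_zero.mp h0 with h0 | h0
  · right; right; right; right; right; right; left; exact sub_eq_zero.mp h0
  · right; right; right; right; right; right; right; exact eq_neg_of_add_eq_zero_left h0

theorem Ipow2 : Complex.I ^ 2 = -1 := Complex.I_sq

theorem Ipow3 : Complex.I ^ 3 = -Complex.I := by
  rw [pow_succ, Ipow2]; ring

theorem Ipow4 : Complex.I ^ 4 = 1 := by
  rw [show (4 : ℕ) = 2 * 2 from rfl, pow_mul, Ipow2]; norm_num

theorem Ipow6 : Complex.I ^ 6 = -1 := by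
  rw [show (6 : ℕ) = 2 * 3 from rfl, pow_mul, Ipow2]; norm_num

theorem zpow2 : zeta ^ 2 = Complex.I := by
  rw [pow_two]; exact zeta_sq

theorem zpow3 : zeta ^ 3 = Complex.I * zeta := by
  rw [pow_succ, zpow2]

theorem zpow4 : zeta ^ 4 = -1 := by
  rw [show (4 : ℕ) = 2 * 2 from rfl, pow_mul, zpow2, Ipow2]

theorem zpow6 : zeta ^ 6 = -Complex.I := by
  rw [show (6 : ℕ) = 2 * 3 from rfl, pow_mul, zpow2, Ipow3]

theorem wpow2 : (Complex.I * zeta) ^ 2 = -Complex.I := by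
  rw [mul_pow, Ipow2, zpow2]; ring

theorem wpow3 : (Complex.I * zeta) ^ 3 = zeta := by
  rw [mul_pow, Ipow3, zpow3]
  linear_combination (-zeta) * I_sq'

theorem wpow4 : (Complex.I * zeta) ^ 4 = -1 := by
  rw [mul_pow, Ipow4, zpow4]; ring

theorem wpow6 : (Complex.I * zeta) ^ 6 = Complex.I := by
  rw [mul_pow, Ipow6, zpow6]; ring

/-- integer coordinates of the powers of an eighth root of unity -/
theorem root_coords {μ : ℂ} (h : μ ^ 8 = 1) :
    ∃ e0 e1 e2 e3 e4 e5 e6 e7 : ℤ,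
      μ = ((e0 - e4 : ℤ) : ℂ) + ((e2 - e6 : ℤ) : ℂ) * Complex.I + ((e1 - e5 : ℤ) : ℂ) * zeta +
        ((e3 - e7 : ℤ) : ℂ) * (Complex.I * zeta) ∧
      μ ^ 2 = ((e0 + e4 - e2 - e6 : ℤ) : ℂ) + ((e1 + e5 - e3 - e7 : ℤ) : ℂ) * Complex.I ∧
      μ ^ 3 = ((e0 - e4 : ℤ) : ℂ) - ((e2 - e6 : ℤ) : ℂ) * Complex.I + ((e3 - e7 : ℤ) : ℂ) * zeta +
        ((e1 - e5 : ℤ) : ℂ) * (Complex.I * zeta) ∧
      μ ^ 4 = ((e0 + e2 + e4 + e6 - e1 - e3 - e5 - e7 : ℤ) : ℂ) ∧
      μ ^ 6 = ((e0 + e4 - e2 - e6 : ℤ) : ℂ) - ((e1 + e5 - e3 - e7 : ℤ) : ℂ) * Complex.I := by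
  rcases eight_cases h with h0 | h0 | h0 | h0 | h0 | h0 | h0 | h0
  · subst h0
    exact ⟨1, 0, 0, 0, 0, 0, 0, 0, by norm_num, by norm_num, by norm_num, by norm_num, by norm_num⟩
  · subst h0
    exact ⟨0, 0, 0, 0, 1, 0, 0, 0, by norm_num, by norm_num, by norm_num, by norm_num, by norm_num⟩
  · subst h0
    refine ⟨0, 0, 1, 0, 0, 0, 0, 0, by norm_num, ?_, ?_, ?_, ?_⟩
    · rw [Ipow2]; push_cast; ring
    · rw [Ipow3]; push_cast; ring
    · rw [Ipow4]; push_cast; ring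
    · rw [Ipow6]; push_cast; ring
  · subst h0
    refine ⟨0, 0, 0, 0, 0, 0, 1, 0, by norm_num, ?_, ?_, ?_, ?_⟩
    · rw [neg_pow, Ipow2]; push_cast; ring
    · rw [neg_pow, Ipow3]; push_cast; ring
    · rw [neg_pow, Ipow4]; push_cast; ring
    · rw [neg_pow, Ipow6]; push_cast; ring
  · subst h0
    refine ⟨0, 1, 0, 0, 0, 0, 0, 0, by norm_num, ?_, ?_, ?_, ?_⟩
    · rw [zpow2]; push_cast; ring
    · rw [zpow3]; push_cast; ring
    · rw [zpow4]; push_cast; ring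
    · rw [zpow6]; push_cast; ring
  · subst h0
    refine ⟨0, 0, 0, 0, 0, 1, 0, 0, by norm_num, ?_, ?_, ?_, ?_⟩
    · rw [neg_pow, zpow2]; push_cast; ring
    · rw [neg_pow, zpow3]; push_cast; ring
    · rw [neg_pow, zpow4]; push_cast; ring
    · rw [neg_pow, zpow6]; push_cast; ring
  · subst h0
    refine ⟨0, 0, 0, 1, 0, 0, 0, 0, by norm_num, ?_, ?_, ?_, ?_⟩
    · rw [wpow2]; push_cast; ring
    · rw [wpow3]; push_cast; ring
    · rw [wpow4]; push_cast; ring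
    · rw [wpow6]; push_cast; ring
  · subst h0
    refine ⟨0, 0, 0, 0, 0, 0, 0, 1, by norm_num, ?_, ?_, ?_, ?_⟩
    · rw [neg_pow, wpow2]; push_cast; ring
    · rw [neg_pow, wpow3]; push_cast; ring
    · rw [neg_pow, wpow4]; push_cast; ring
    · rw [neg_pow, wpow6]; push_cast; ring

end VALS8

section Chr

variable {G : Type u} [Group G] [Finite G]

/-- PIECE VALS8: values of a character on `⟨a⟩`, `a` of order 8 conjugate to `a³` -/
theorem vals_eight {χ : G → ℂ} (hχ : IsCharacter G χ) {a : G} (oa : orderOf a = 8)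
    (hc : IsConj a (a ^ 3)) :
    ∃ M N F T : ℤ, χ a = (M : ℂ) + (N : ℂ) * sq2 ∧ χ a⁻¹ = (M : ℂ) - (N : ℂ) * sq2 ∧
      χ (a ^ 2) = (F : ℂ) ∧ χ (a ^ 4) = (T : ℂ) ∧
      (2 : ℤ) ∣ F - M ∧ (2 : ℤ) ∣ T - F ∧ (4 : ℤ) ∣ T + 3 * F + 2 * N := by
  have hcf := isClassFunction_of_isCharacter hχ
  obtain ⟨n, ρ, rfl⟩ := hχ
  have ha8 : a ^ 8 = 1 := by rw [← oa]; exact pow_orderOf_eq_one a
  obtain ⟨μ, hμ, hk⟩ := charcore_roots ρ a (by norm_num : 0 < 8) ha8
  have hroot := fun i => VALS8.root_coords (hμ i)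
  choose e0 e1 e2 e3 e4 e5 e6 e7 h1 h2 h3 h4 h6 using hroot
  obtain ⟨c0, hc0⟩ : ∃ c : ℤ, c = ∑ i, e0 i := ⟨_, rfl⟩
  obtain ⟨c1, hc1⟩ : ∃ c : ℤ, c = ∑ i, e1 i := ⟨_, rfl⟩
  obtain ⟨c2, hc2⟩ : ∃ c : ℤ, c = ∑ i, e2 i := ⟨_, rfl⟩
  obtain ⟨c3, hc3⟩ : ∃ c : ℤ, c = ∑ i, e3 i := ⟨_, rfl⟩
  obtain ⟨c4, hc4⟩ : ∃ c : ℤ, c = ∑ i, e4 i := ⟨_, rfl⟩
  obtain ⟨c5, hc5⟩ : ∃ c : ℤ, c = ∑ i, e5 i := ⟨_, rfl⟩
  obtain ⟨c6, hc6⟩ : ∃ c : ℤ, c = ∑ i, e6 i := ⟨_, rfl⟩
  obtain ⟨c7, hc7⟩ : ∃ c : ℤ, c = ∑ i, e7 i := ⟨_, rfl⟩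
  have s1 : ρ.character a = ((c0 - c4 : ℤ) : ℂ) + ((c2 - c6 : ℤ) : ℂ) * Complex.I +
      ((c1 - c5 : ℤ) : ℂ) * VALS8.zeta + ((c3 - c7 : ℤ) : ℂ) * (Complex.I * VALS8.zeta) := by
    have h := hk 1
    simp only [pow_one] at h
    rw [h, Finset.sum_congr rfl (fun i _ => h1 i), hc0, hc1, hc2, hc3, hc4, hc5, hc6, hc7]
    push_cast
    try simp only [Finset.sum_add_distrib, Finset.sum_sub_distrib, ← Finset.sum_mul]
    try ring
  have s2 : ρ.character (a ^ 2) = ((c0 + c4 - c2 - c6 : ℤ) : ℂ) +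
      ((c1 + c5 - c3 - c7 : ℤ) : ℂ) * Complex.I := by
    rw [hk 2, Finset.sum_congr rfl (fun i _ => h2 i), hc0, hc1, hc2, hc3, hc4, hc5, hc6, hc7]
    push_cast
    try simp only [Finset.sum_add_distrib, Finset.sum_sub_distrib, ← Finset.sum_mul]
    try ring
  have s3 : ρ.character (a ^ 3) = ((c0 - c4 : ℤ) : ℂ) - ((c2 - c6 : ℤ) : ℂ) * Complex.I +
      ((c3 - c7 : ℤ) : ℂ) * VALS8.zeta + ((c1 - c5 : ℤ) : ℂ) * (Complex.I * VALS8.zeta) := by
    rw [hk 3, Finset.sum_congr rfl (fun i _ => h3 i), hc0, hc1, hc2, hc3, hc4, hc5, hc6, hc7]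
    push_cast
    try simp only [Finset.sum_add_distrib, Finset.sum_sub_distrib, ← Finset.sum_mul]
    try ring
  have s4 : ρ.character (a ^ 4) = ((c0 + c2 + c4 + c6 - c1 - c3 - c5 - c7 : ℤ) : ℂ) := by
    rw [hk 4, Finset.sum_congr rfl (fun i _ => h4 i), hc0, hc1, hc2, hc3, hc4, hc5, hc6, hc7]
    push_cast
    try simp only [Finset.sum_add_distrib, Finset.sum_sub_distrib, ← Finset.sum_mul]
    try ring
  have s6 : ρ.character (a ^ 6) = ((c0 + c4 - c2 - c6 : ℤ) : ℂ) -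
      ((c1 + c5 - c3 - c7 : ℤ) : ℂ) * Complex.I := by
    rw [hk 6, Finset.sum_congr rfl (fun i _ => h6 i), hc0, hc1, hc2, hc3, hc4, hc5, hc6, hc7]
    push_cast
    try simp only [Finset.sum_add_distrib, Finset.sum_sub_distrib, ← Finset.sum_mul]
    try ring
  obtain ⟨g, hg⟩ := isConj_iff.mp hc
  have e13 : ρ.character (a ^ 3) = ρ.character a := by
    rw [← hg]; exact hcf a g
  have e26 : ρ.character (a ^ 6) = ρ.character (a ^ 2) := by
    have : a ^ 6 = g * a ^ 2 * g⁻¹ := by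
      rw [← conj_pow, hg, ← pow_mul]
    rw [this]; exact hcf (a ^ 2) g
  -- consequences
  have E1 : ((2 * ((c1 - c5) - (c3 - c7)) : ℤ) : ℂ) + ((2 * (c2 - c6) : ℤ) : ℂ) * sq2 = 0 := by
    rw [s1, s3] at e13
    rw [VALS8.sq2_eq]
    push_cast at e13 ⊢
    linear_combination (-VALS8.rt) * e13 -
      (((c1 : ℂ) - c5) - ((c3 : ℂ) - c7)) * VALS8.rt_mul_self -
      (((c1 : ℂ) - c5) - ((c3 : ℂ) - c7)) * VALS8.rt * VALS8.zeta_sub
  obtain ⟨k1, k2⟩ := sq2_indep _ _ E1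
  have E2 : ((2 * (c1 + c5 - c3 - c7) : ℤ) : ℂ) * Complex.I = 0 := by
    rw [s2, s6] at e26
    push_cast at e26 ⊢
    linear_combination (-1 : ℂ) * e26
  have k3 : 2 * (c1 + c5 - c3 - c7) = 0 := by
    rcases mul_eq_zero.mp E2 with h0 | h0
    · exact_mod_cast h0
    · exact absurd h0 Complex.I_ne_zero
  have hX2 : c2 - c6 = 0 := by omega
  have hX3 : c3 - c7 = c1 - c5 := by omega
  have hQ : c1 + c5 - c3 - c7 = 0 := by omega
  have hA : ρ.character a = ((c0 - c4 : ℤ) : ℂ) + ((c1 - c5 : ℤ) : ℂ) * sq2 := by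
    rw [s1, hX2, hX3]
    push_cast
    linear_combination (((c1 : ℂ) - c5)) * VALS8.zeta_add
  refine ⟨c0 - c4, c1 - c5, c0 + c4 - c2 - c6, c0 + c2 + c4 + c6 - c1 - c3 - c5 - c7, hA, ?_, ?_, s4,
    ?_, ?_, ?_⟩
  · rw [char_inv, hA, map_add, map_mul, conj_sq2, map_intCast, map_intCast]
    ring
  · rw [s2, hQ]
    push_cast
    ring
  · omega
  · omega
  · omega

end Chr

end Cfsg.Agent.Helper15.GL23
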