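import Mathlib
import Cfsg.Agent.Lib.Helper24.CharComplete
import Cfsg.Agent.Lib.Helper24.CharLinear
import Cfsg.Agent.Lib.Helper15.GL23Defs
import Cfsg.Agent.Lib.Helper15.GL23Arith
import Cfsg.Agent.Lib.Helper15.GL23GLA
import Cfsg.Agent.Lib.Helper15.GL23GLB
import Cfsg.Agent.Lib.Helper15.GL23TRANSPORT
import Cfsg.Agent.Lib.Helper15.GL23LIFTCENT
import Cfsg.Agent.Lib.Helper15.GL23LIFTNINV
import Cfsg.Agent.Lib.Helper15.GL23LIFTNC
import Cfsg.Agent.Lib.Helper15.GL23FUS
import Cfsg.Agent.Lib.Helper15.GL23SYL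
import Cfsg.Agent.Lib.Helper15.GL23VALS8
import Cfsg.Agent.Lib.Helper15.GL23VALS6
import Cfsg.Agent.Lib.Helper15.GL23IRR2
import Cfsg.Agent.Lib.Helper15.GL23ORTHO
import Cfsg.Agent.Lib.Helper15.GL23CCEQ

/-!
# S0197 (helper15): assembly.  `G` simple, `C_G(t) ≅ GL(2,3)` ⟹ `|G| = 5616 ∨ 7920`.
-/

set_option autoImplicit false
set_option linter.unusedSectionVars false
set_option linter.unusedVariables false
set_option linter.style.haveILetI false

namespace Cfsg.Agent.Helper15.GL23

open Cfsg Cfsg.Agent.Helper24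
open scoped ComplexConjugate

universe u

theorem like_gl : Like (Matrix.GeneralLinearGroup (Fin 2) (ZMod 3)) (-1) := by
  obtain ⟨h1, h2, h3, h4, h5, h6⟩ := like_gl_basic
  exact ⟨h1, h2, h3, h4, h5, h6, like_gl_ex⟩

namespace Main

section Grp

variable {G : Type u} [Group G]

theorem t_sq {t : G} (ht : orderOf t = 2) : t * t = 1 := by
  rw [← pow_two, ← ht, pow_orderOf_eq_one]

theorem t_ne_one {t : G} (ht : orderOf t = 2) : t ≠ 1 := by
  intro h
  rw [h, orderOf_one] at ht
  omega

/-- `t u` has order 6 -/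
theorem order_w {t u : G} (ht : orderOf t = 2) (hu : orderOf u = 3) (h : t * u = u * t) :
    orderOf (t * u) = 6 := by
  have hc : Commute t u := h
  rw [hc.orderOf_mul_eq_mul_orderOf_of_coprime (by rw [ht, hu]; norm_num), ht, hu]

theorem w_cube {t u : G} (ht : orderOf t = 2) (hu : orderOf u = 3) (h : t * u = u * t) :
    (t * u) ^ 3 = t := by
  have hc : Commute t u := h
  rw [hc.mul_pow]
  have h1 : u ^ 3 = 1 := by rw [← hu, pow_orderOf_eq_one]
  have h2 : t ^ 3 = t := by
    rw [pow_succ, pow_two, t_sq ht, one_mul]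
  rw [h1, h2, mul_one]

end Grp

section Cfg'

variable {G : Type u} [Group G] [Finite G]

/-- the configuration exists -/
theorem exists_cfg [IsSimpleGroup G] (t : G) (ht : orderOf t = 2)
    (e : Subgroup.centralizer ({t} : Set G) ≃* Matrix.GeneralLinearGroup (Fin 2) (ZMod 3)) :
    Nonempty (Cfg t) := by
  classical
  -- `Like` for the centralizer
  have hL0 : Like (Subgroup.centralizer ({t} : Set G)) (e.symm (-1)) := Like.of_equiv e.symm like_gl
  have htC : orderOf (tC t) = 2 := by
    rw [← Subgroup.orderOf_coe]; exact ht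
  have hcent : ∀ y : Subgroup.centralizer ({t} : Set G), y * tC t = tC t * y := by
    intro y
    apply Subtype.ext
    show (y : G) * t = t * (y : G)
    exact (Subgroup.mem_centralizer_singleton_iff (g := t) (k := (y : G))).mp y.2
  have hz : tC t = e.symm (-1) := hL0.central_unique (tC t) htC hcent
  have hL : Like (Subgroup.centralizer ({t} : Set G)) (tC t) := by rw [hz]; exact hL0
  obtain ⟨a, u, oa, a4, ou, ca3, nca, cw, ka, kf, kw, nt, nf, nw, na, na'⟩ := hL.ex
  have h1 := one_class t ht hL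
  have hsyl := sylow_two t ht hL.card h1
  have a4' : (a : G) ^ 4 = t := by
    have := congrArg Subtype.val a4
    simpa [tC] using this
  have oa' : orderOf (a : G) = 8 := by rw [Subgroup.orderOf_coe]; exact oa
  have ou' : orderOf (u : G) = 3 := by rw [Subgroup.orderOf_coe]; exact ou
  have tu' : t * (u : G) = (u : G) * t :=
    ((Subgroup.mem_centralizer_singleton_iff (g := t) (k := (u : G))).mp u.2).symm
  have coe_w : ((tC t * u : Subgroup.centralizer ({t} : Set G)) : G) = t * (u : G) := rfl
  have w3 : ((tC t * u : Subgroup.centralizer ({t} : Set G)) : G) ^ 3 = t := by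
    rw [coe_w]; exact w_cube ht ou' tu'
  have f2 : ((a ^ 2 : Subgroup.centralizer ({t} : Set G)) : G) ^ 2 = t := by
    rw [Subgroup.coe_pow, ← pow_mul]; exact a4'
  have ai4 : ((a⁻¹ : Subgroup.centralizer ({t} : Set G)) : G) ^ 4 = t := by
    rw [Subgroup.coe_inv, inv_pow, a4', inv_eq_iff_mul_eq_one, t_sq ht]
  have t1 : ((tC t : Subgroup.centralizer ({t} : Set G)) : G) ^ 1 = t := by
    rw [pow_one]; rfl
  have lift_conj : ∀ x y : Subgroup.centralizer ({t} : Set G), IsConj x y → IsConj (x : G) (y : G) := by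
    intro x y h
    obtain ⟨g, hg⟩ := isConj_iff.mp h
    exact isConj_iff.mpr ⟨(g : G), by rw [← hg]; rfl⟩
  refine ⟨{
    a := (a : G)
    u := (u : G)
    oa := oa'
    a4 := a4'
    ou := ou'
    tu := tu'
    conj_a3 := by
      have := lift_conj _ _ ca3
      simpa using this
    nconj_a := by
      intro h
      apply nca
      apply isConj_lift t a a⁻¹ 4 a4' ai4
      simpa using h
    conj_w := by
      have := lift_conj _ _ cw
      simpa [tC] using this
    cardt := hL.card
    carda := by rw [card_centralizer_lift t a 4 a4', ka]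
    cardf := by
      have := card_centralizer_lift t (a ^ 2) 2 f2
      rw [Subgroup.coe_pow] at this
      rw [this, kf]
    cardw := by
      have := card_centralizer_lift t (tC t * u) 3 w3
      rw [coe_w] at this
      rw [this, kw]
    cnt_t := by
      have := nInv_lift t ht (tC t) 1 t1
      rw [show ((tC t : Subgroup.centralizer ({t} : Set G)) : G) = t from rfl] at this
      rw [this, nt]
    cnt_f := by
      have := nInv_lift t ht (a ^ 2) 2 f2
      rw [Subgroup.coe_pow] at this
      rw [this, nf]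
    cnt_w := by
      have := nInv_lift t ht (tC t * u) 3 w3
      rw [coe_w] at this
      rw [this, nw]
    cnt_a := by rw [nInv_lift t ht a 4 a4', na]
    cnt_a' := by
      have := nInv_lift t ht a⁻¹ 4 ai4
      rw [Subgroup.coe_inv] at this
      rw [this, na']
    one_class := h1
    dvd16 := hsyl.1
    ndvd32 := hsyl.2 }⟩

end Cfg'

section Chr

variable {G : Type u} [Group G] [Fintype G]

/-- the value data exists -/
theorem exists_valdata {t : G} (ht : orderOf t = 2) (c : Cfg t) :
    ∃ T F U M N : IrrCharacter G → ℤ, ValData c T F U M N := by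
  have h8 : ∀ X : IrrCharacter G, ∃ M N F T : ℤ,
      (X : G → ℂ) c.a = (M : ℂ) + (N : ℂ) * sq2 ∧ (X : G → ℂ) c.a⁻¹ = (M : ℂ) - (N : ℂ) * sq2 ∧
      (X : G → ℂ) (c.a ^ 2) = (F : ℂ) ∧ (X : G → ℂ) (c.a ^ 4) = (T : ℂ) ∧
      (2 : ℤ) ∣ F - M ∧ (2 : ℤ) ∣ T - F ∧ (4 : ℤ) ∣ T + 3 * F + 2 * N :=
    fun X => vals_eight (isCharacter_of_isIrrCharacter X.2) c.oa c.conj_a3
  have h6 : ∀ X : IrrCharacter G, ∃ U T : ℤ, (X : G → ℂ) (t * c.u) = (U : ℂ) ∧
      (X : G → ℂ) ((t * c.u) ^ 3) = (T : ℂ) ∧ (3 : ℤ) ∣ T - U :=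
    fun X => vals_six (isCharacter_of_isIrrCharacter X.2) (order_w ht c.ou c.tu) c.conj_w
  choose M N F T hA hA' hF hT c1 c2 c3 using h8
  choose U T' hU hT' c4 using h6
  have hTT : ∀ X, T' X = T X := by
    intro X
    have h1 := hT' X
    rw [w_cube ht c.ou c.tu] at h1
    have h2 := hT X
    rw [c.a4] at h2
    rw [h1] at h2
    exact_mod_cast h2
  refine ⟨T, F, U, M, N, ?_⟩
  refine ⟨fun X => ?_, hF, hU, hA, hA', ⟨c1, c2, c3, fun X => ?_⟩⟩
  · have h2 := hT X
    rwa [c.a4] at h2
  · rw [← hTT X]; exact c4 X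

/-- the character-theoretic part -/
theorem card_of_cfg {t : G} (ht : orderOf t = 2) (c : Cfg t) :
    Nat.card G = 7920 ∨ Nat.card G = 5616 := by
  classical
  letI : Fintype (IrrCharacter G) := irrFintype
  obtain ⟨T, F, U, M, N, hV⟩ := exists_valdata ht c
  have ho := ortho ht c hV
  have hcc := cceq ht c hV
  have hp : ∀ x : G, ((principalChar G : IrrCharacter G) : G → ℂ) x = 1 := fun x => rfl
  have hoT : T (principalChar G) = 1 := by
    have := hV.hT (principalChar G)
    rw [hp] at this
    exact_mod_cast this.symm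
  have hoF : F (principalChar G) = 1 := by
    have := hV.hF (principalChar G)
    rw [hp] at this
    exact_mod_cast this.symm
  have hoU : U (principalChar G) = 1 := by
    have := hV.hU (principalChar G)
    rw [hp] at this
    exact_mod_cast this.symm
  have hoMN : M (principalChar G) = 1 ∧ N (principalChar G) = 0 := by
    have := hV.hA (principalChar G)
    rw [hp] at this
    have h2 : (((M (principalChar G) - 1 : ℤ) : ℂ)) + ((N (principalChar G) : ℤ) : ℂ) * sq2 = 0 := by
      push_cast
      rw [sub_add_eq_add_sub, ← this, sub_self]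
    obtain ⟨h3, h4⟩ := sq2_indep _ _ h2
    exact ⟨by omega, h4⟩
  have hDo : (fun X : IrrCharacter G => (charDegree (X : G → ℂ) : ℤ)) (principalChar G) = 1 := by
    have h1 : ((principalChar G : IrrCharacter G) : G → ℂ) 1 = ((1 : ℕ) : ℂ) := by
      rw [hp]; norm_num
    show ((charDegree ((principalChar G : IrrCharacter G) : G → ℂ) : ℕ) : ℤ) = 1
    rw [charDegree_natCast 1 h1]
    rfl
  exact GL23A.arith (principalChar G) T F U M N
    (fun X : IrrCharacter G => (charDegree (X : G → ℂ) : ℤ)) (Nat.card G)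
    (fun X => by exact_mod_cast charDegree_pos X.2) hDo ho hV.cong hcc hoT hoF hoU hoMN.1 hoMN.2
    c.dvd16 c.ndvd32

end Chr

end Main

/-- **S0197**: a finite simple group with an involution whose centralizer is `GL(2,3)` has order
5616 or 7920. -/
theorem main {G : Type u} [Group G] [Finite G] [IsSimpleGroup G] (t : G) (ht : orderOf t = 2)
    (e : Subgroup.centralizer ({t} : Set G) ≃* Matrix.GeneralLinearGroup (Fin 2) (ZMod 3)) :
    Nat.card G = 5616 ∨ Nat.card G = 7920 := by
  classical
  letI : Fintype G := Fintype.ofFinite G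
  obtain ⟨c⟩ := Main.exists_cfg t ht e
  exact (Main.card_of_cfg ht c).symm

end Cfsg.Agent.Helper15.GL23
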