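import Mathlib
import Cfsg.Agent.Lib.Helper15.GL23Defs

/-!
# S0197 piece SYL (written by lead for helper15): `|C(t)| = 48` and one class of involutions give
`16 ∣ |G|` and `¬ 32 ∣ |G|`.
-/

set_option autoImplicit false
set_option linter.unusedVariables false

namespace Cfsg.Agent.Helper15.GL23

universe u

namespace SYL

variable {G : Type u} [Group G]

theorem card_centralizer_conj (c t : G) :
    Nat.card (Subgroup.centralizer ({c * t * c⁻¹} : Set G)) =
      Nat.card (Subgroup.centralizer ({t} : Set G)) := by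
  refine Nat.card_congr ⟨fun x => ⟨c⁻¹ * x.1 * c, ?_⟩, fun x => ⟨c * x.1 * c⁻¹, ?_⟩, ?_, ?_⟩
  · have h := Subgroup.mem_centralizer_singleton_iff.mp x.2
    rw [Subgroup.mem_centralizer_singleton_iff]
    calc c⁻¹ * x.1 * c * t = c⁻¹ * (x.1 * (c * t * c⁻¹)) * c := by group
      _ = c⁻¹ * (c * t * c⁻¹ * x.1) * c := by rw [h]
      _ = t * (c⁻¹ * x.1 * c) := by group
  · have h := Subgroup.mem_centralizer_singleton_iff.mp x.2
    rw [Subgroup.mem_centralizer_singleton_iff]
    calc c * x.1 * c⁻¹ * (c * t * c⁻¹) = c * (x.1 * t) * c⁻¹ := by group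
      _ = c * (t * x.1) * c⁻¹ := by rw [h]
      _ = c * t * c⁻¹ * (c * x.1 * c⁻¹) := by group
  · intro x
    apply Subtype.ext
    show c * (c⁻¹ * x.1 * c) * c⁻¹ = x.1
    group
  · intro x
    apply Subtype.ext
    show c⁻¹ * (c * x.1 * c⁻¹) * c = x.1
    group

end SYL

section Grp

variable {G : Type u} [Group G]

/-- PIECE SYL: `|G|₂ = 16` (a Sylow 2-subgroup `P` has a central involution `z = g t g⁻¹`, `P ≤ C(z)` of order 48;
and `48 ∣ |G|`) -/
theorem sylow_two [Finite G] (t : G) (ht : orderOf t = 2)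
    (hc : Nat.card (Subgroup.centralizer ({t} : Set G)) = 48)
    (h1 : ∀ x : G, orderOf x = 2 → IsConj t x) : 16 ∣ Nat.card G ∧ ¬ 32 ∣ Nat.card G := by
  have h48 : 48 ∣ Nat.card G := hc ▸ Subgroup.card_subgroup_dvd_card _
  refine ⟨Dvd.dvd.trans (by norm_num) h48, ?_⟩
  intro h32
  have : Fact (Nat.Prime 2) := ⟨Nat.prime_two⟩
  obtain ⟨K, hK⟩ := Sylow.exists_subgroup_card_pow_prime 2 (n := 5) (by norm_num; exact h32)
  have hKp : IsPGroup 2 K := IsPGroup.of_card (n := 5) hK
  have : Nontrivial K := by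
    apply (Finite.one_lt_card_iff_nontrivial).mp
    rw [hK]; norm_num
  have : Nontrivial (Subgroup.center K) := hKp.center_nontrivial
  have hZp : IsPGroup 2 (Subgroup.center K) := hKp.to_subgroup _
  obtain ⟨n, hn⟩ := IsPGroup.iff_card.mp hZp
  have hn0 : n ≠ 0 := by
    rintro rfl
    have h1' : Nat.card (Subgroup.center K) = 1 := by simpa using hn
    have h2' := Finite.one_lt_card (α := Subgroup.center K)
    omega
  have h2 : 2 ∣ Nat.card (Subgroup.center K) := by rw [hn]; exact dvd_pow_self 2 hn0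
  obtain ⟨z, oz⟩ := exists_prime_orderOf_dvd_card' 2 h2
  have ozG : orderOf ((z : K) : G) = 2 := by
    rw [Subgroup.orderOf_coe, Subgroup.orderOf_coe]; exact oz
  obtain ⟨c, hcz⟩ := isConj_iff.mp (h1 _ ozG)
  have hle : K ≤ Subgroup.centralizer ({((z : K) : G)} : Set G) := by
    intro k hk
    rw [Subgroup.mem_centralizer_singleton_iff]
    have := Subgroup.mem_center_iff.mp z.2 ⟨k, hk⟩
    exact congrArg Subtype.val this
  have hcard : Nat.card (Subgroup.centralizer ({((z : K) : G)} : Set G)) = 48 := by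
    rw [← hcz, SYL.card_centralizer_conj, hc]
  have hdvd := Subgroup.card_dvd_of_le hle
  rw [hK, hcard] at hdvd
  norm_num at hdvd

end Grp

end Cfsg.Agent.Helper15.GL23
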