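import Mathlib
import Cfsg.Agent.Lib.Helper8.GRDefs
import Cfsg.Agent.Lib.Helper4.XSDUAL

/-!
# S3085 pieces GR-RHO, GR-RHOSQ (helper15 for helper8): the lifted transvection `ρ_w x = x * tw w x` of an
extraspecial 2-group (`w * w = z`) exists, and its square is conjugation by `w`.
-/

set_option autoImplicit false
set_option linter.unusedVariables false

namespace Cfsg.Agent.Helper8.GR

open Cfsg.Agent.Helper8.XS

/-- an element not commuting with `w` anticommutes with it -/
theorem rho_anti {Q : Type*} [Group Q] {z : Q} (h : XQ z) (w x : Q) (hx : x * w ≠ w * x) :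
    x * w = z * (w * x) := by
  rcases h.hcomm x w with h1 | h1
  · exact absurd h1 hx
  · exact h1

/-- the other form of anticommutation -/
theorem rho_anti' {Q : Type*} [Group Q] {z : Q} (h : XQ z) (w x : Q) (hx : x * w ≠ w * x) :
    w * x = z * (x * w) := by
  rw [rho_anti h w x hx, ← mul_assoc, h.hzz, one_mul]

/-- a product of a commuting and an anticommuting element anticommutes -/
theorem rho_ne_of_eq_z {Q : Type*} [Group Q] {z : Q} (h : XQ z) (a b : Q) (hab : a = z * b) : a ≠ b := by
  intro hc
  rw [hc] at hab
  have : z = 1 := by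
    have h1 : 1 * b = z * b := by rw [one_mul]; exact hab
    exact (mul_right_cancel h1).symm
  exact h.hz1 this

/-- the lifted transvection is multiplicative -/
theorem rho_mul {Q : Type*} [Group Q] {z : Q} (h : XQ z) (w : Q) (hw : w * w = z) (x y : Q) :
    (x * y) * tw w (x * y) = (x * tw w x) * (y * tw w y) := by
  by_cases hx : x * w = w * x
  · by_cases hy : y * w = w * y
    · have hxy : (x * y) * w = w * (x * y) := by
        rw [mul_assoc, hy, ← mul_assoc, hx, mul_assoc]
      rw [tw_comm hx, tw_comm hy, tw_comm hxy, mul_one, mul_one, mul_one]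
    · have hy' := rho_anti h w y hy
      have hxy : (x * y) * w ≠ w * (x * y) := by
        apply rho_ne_of_eq_z h
        calc x * y * w = x * (y * w) := mul_assoc _ _ _
          _ = x * (z * (w * y)) := by rw [hy']
          _ = (x * z) * (w * y) := (mul_assoc _ _ _).symm
          _ = (z * x) * (w * y) := by rw [h.hcen x]
          _ = z * ((x * w) * y) := by simp only [mul_assoc]
          _ = z * ((w * x) * y) := by rw [hx]
          _ = z * (w * (x * y)) := by simp only [mul_assoc]
      rw [tw_comm hx, tw_anti hy, tw_anti hxy, mul_one, mul_assoc]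
  · have hx' := rho_anti h w x hx
    by_cases hy : y * w = w * y
    · have hxy : (x * y) * w ≠ w * (x * y) := by
        apply rho_ne_of_eq_z h
        calc x * y * w = x * (y * w) := mul_assoc _ _ _
          _ = x * (w * y) := by rw [hy]
          _ = (x * w) * y := (mul_assoc _ _ _).symm
          _ = (z * (w * x)) * y := by rw [hx']
          _ = z * (w * (x * y)) := by simp only [mul_assoc]
      rw [tw_anti hx, tw_comm hy, tw_anti hxy, mul_one, mul_assoc, hy, mul_assoc]
    · have hy' := rho_anti h w y hy
      have hxy : (x * y) * w = w * (x * y) := by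
        calc x * y * w = x * (y * w) := mul_assoc _ _ _
          _ = x * (z * (w * y)) := by rw [hy']
          _ = (x * z) * (w * y) := (mul_assoc _ _ _).symm
          _ = (z * x) * (w * y) := by rw [h.hcen x]
          _ = z * ((x * w) * y) := by simp only [mul_assoc]
          _ = z * ((z * (w * x)) * y) := by rw [hx']
          _ = (z * z) * (w * (x * y)) := by simp only [mul_assoc]
          _ = w * (x * y) := by rw [h.hzz, one_mul]
      rw [tw_anti hx, tw_anti hy, tw_comm hxy, mul_one]
      have h1 : w * y = z * (y * w) := rho_anti' h w y hy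
      symm
      calc x * w * (y * w) = x * ((w * y) * w) := by simp only [mul_assoc]
        _ = x * ((z * (y * w)) * w) := by rw [h1]
        _ = x * (z * (y * (w * w))) := by simp only [mul_assoc]
        _ = x * (z * (y * z)) := by rw [hw]
        _ = x * (z * (z * y)) := by rw [h.hcen y]
        _ = x * ((z * z) * y) := by rw [mul_assoc z z y]
        _ = x * y := by rw [h.hzz, one_mul]

/-- `tw w 1 = 1` -/
theorem rho_tw_one {Q : Type*} [Group Q] (w : Q) : tw w (1 : Q) = 1 :=
  tw_comm (by rw [one_mul, mul_one])

/-- the lifted transvection as an endomorphism -/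
noncomputable def rhoHom {Q : Type*} [Group Q] {z : Q} (h : XQ z) (w : Q) (hw : w * w = z) : Q →* Q where
  toFun x := x * tw w x
  map_one' := by rw [rho_tw_one, mul_one]
  map_mul' x y := rho_mul h w hw x y

/-- applying the lifted transvection twice is conjugation by `w` -/
theorem rho_twice {Q : Type*} [Group Q] {z : Q} (h : XQ z) (w : Q) (hw : w * w = z) (x : Q) :
    (x * tw w x) * tw w (x * tw w x) = w * x * w⁻¹ := by
  by_cases hx : x * w = w * x
  · rw [tw_comm hx, mul_one, tw_comm hx, mul_one, ← hx, mul_assoc, mul_inv_cancel, mul_one]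
  · have hx' := rho_anti h w x hx
    have hxw : (x * w) * w ≠ w * (x * w) := by
      apply rho_ne_of_eq_z h
      calc x * w * w = (z * (w * x)) * w := by rw [hx']
        _ = z * (w * (x * w)) := by simp only [mul_assoc]
    rw [tw_anti hx, tw_anti hxw]
    have h1 : w * x = z * (x * w) := rho_anti' h w x hx
    calc x * w * w = x * (w * w) := mul_assoc _ _ _
      _ = x * z := by rw [hw]
      _ = z * x := h.hcen x
      _ = z * (x * (w * w⁻¹)) := by rw [mul_inv_cancel, mul_one]
      _ = (z * (x * w)) * w⁻¹ := by simp only [mul_assoc]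
      _ = w * x * w⁻¹ := by rw [← h1]

/-- PIECE GR-RHO -/
theorem rho {Q : Type*} [Group Q] {z : Q} (h : XQ z) (w : Q) (hw : w * w = z) :
    ∃ ρ : MulAut Q, IsRho w ρ := by
  have hcomp : ∀ x, rhoHom h w hw (rhoHom h w hw x) = MulAut.conj w x := by
    intro x
    rw [MulAut.conj_apply]
    exact rho_twice h w hw x
  have hbij : Function.Bijective (rhoHom h w hw) := by
    constructor
    · intro x y hxy
      have := congrArg (rhoHom h w hw) hxy
      rw [hcomp, hcomp] at this
      exact (MulAut.conj w).injective this
    · intro y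
      obtain ⟨x, hx⟩ := (MulAut.conj w).surjective y
      exact ⟨rhoHom h w hw x, by rw [hcomp, hx]⟩
  exact ⟨MulEquiv.ofBijective (rhoHom h w hw) hbij, fun x => rfl⟩

/-- PIECE GR-RHOSQ -/
theorem rhosq {Q : Type*} [Group Q] {z : Q} (h : XQ z) (w : Q) (hw : w * w = z)
    (ρ : MulAut Q) (hρ : IsRho w ρ) : ρ * ρ = MulAut.conj w := by
  ext x
  rw [MulAut.mul_apply, hρ x, hρ (x * tw w x), MulAut.conj_apply]
  exact rho_twice h w hw x

end Cfsg.Agent.Helper8.GR
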