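import Mathlib

/-!
# Generalized Thompson transfer (helper15; for S0518)

`S` a Sylow `2`-subgroup of the finite group `G`, `φ : S →* A` a homomorphism to a commutative group,
`t` an involution all of whose `G`-conjugates in `S` have the same `φ`-value `a` (`a * a = 1`).
Then the transfer `G →* A` of `φ` maps `t` to `a`.  Consequently, if `a ≠ 1`, `t` is not in the
subgroup generated by the elements of odd order.  `D`-form: `D ⊴ S` with `S / D` abelian, `t ∉ D`
and every conjugate of `t` in `S` lies in `t D`.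
-/

set_option autoImplicit false
set_option linter.style.haveILetI false

namespace Cfsg.Agent.Helper15.GTT

open scoped Pointwise

variable {G : Type*} [Group G] [Finite G]

/-- value of the transfer at an involution with constant `φ`-value on its conjugates in `S` -/
theorem transfer_invol (S : Sylow 2 G) {A : Type*} [CommGroup A] (φ : ↥(S : Subgroup G) →* A) (t : G)
    (ht : t * t = 1) (a : A) (ha : a * a = 1)
    (hfus : ∀ (g : G) (hg : g⁻¹ * t * g ∈ (S : Subgroup G)), φ ⟨g⁻¹ * t * g, hg⟩ = a) :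
    MonoidHom.transfer φ t = a := by
  classical
  have : Fact (Nat.Prime 2) := ⟨Nat.prime_two⟩
  let _ : Fintype (Quotient (MulAction.orbitRel (Subgroup.zpowers t) (G ⧸ (S : Subgroup G)))) :=
    Fintype.ofFinite _
  have hformula := MonoidHom.transfer_eq_prod_quotient_orbitRel_zpowers_quot φ t
  have hsum := Subgroup.index_eq_sum_minimalPeriod (S : Subgroup G) t
  have ht2 : t ^ 2 = 1 := by rw [pow_two]; exact ht
  have ha2 : a ^ 2 = 1 := by rw [pow_two]; exact ha
  have key : ∀ (x : G) (n : ℕ) (hmem : x⁻¹ * t ^ n * x ∈ (S : Subgroup G)), (n = 1 ∨ n = 2) →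
      φ ⟨x⁻¹ * t ^ n * x, hmem⟩ = a ^ n := by
    intro x n hmem hn
    rcases hn with rfl | rfl
    · have hmem' : x⁻¹ * t * x ∈ (S : Subgroup G) := by simpa using hmem
      have e1 : (⟨x⁻¹ * t ^ 1 * x, hmem⟩ : (S : Subgroup G)) = ⟨x⁻¹ * t * x, hmem'⟩ :=
        Subtype.ext (by simp)
      rw [e1, hfus _ hmem', pow_one]
    · have e1 : (⟨x⁻¹ * t ^ 2 * x, hmem⟩ : (S : Subgroup G)) = 1 := by
        apply Subtype.ext
        show x⁻¹ * t ^ 2 * x = 1
        rw [ht2, mul_one, inv_mul_cancel]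
      rw [e1, map_one, ha2]
  have hterm : ∀ q : Quotient (MulAction.orbitRel (Subgroup.zpowers t) (G ⧸ (S : Subgroup G))),
      φ ⟨q.out.out⁻¹ * t ^ Function.minimalPeriod (t • ·) q.out * q.out.out,
            QuotientGroup.out_conj_pow_minimalPeriod_mem (S : Subgroup G) t q.out⟩ =
        a ^ Function.minimalPeriod (t • ·) q.out := by
    intro q
    have hdvd : Function.minimalPeriod (t • ·) q.out ∣ 2 := by
      apply Function.IsPeriodicPt.minimalPeriod_dvd
      show (t • ·)^[2] q.out = q.out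
      rw [smul_iterate, ht2]
      exact one_smul _ _
    have h12 : Function.minimalPeriod (t • ·) q.out = 1 ∨ Function.minimalPeriod (t • ·) q.out = 2 := by
      have hle := Nat.le_of_dvd two_pos hdvd
      have hpos : Function.minimalPeriod (t • ·) q.out ≠ 0 := by
        intro h0
        rw [h0] at hdvd
        simp at hdvd
      omega
    exact key _ _ _ h12
  have hodd : Odd (S : Subgroup G).index := by
    rw [← Nat.not_even_iff_odd, even_iff_two_dvd]
    exact S.not_dvd_index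
  rw [hformula, Finset.prod_congr rfl (fun q _ => hterm q), Finset.prod_pow_eq_pow_sum, ← hsum]
  obtain ⟨m, hm⟩ := hodd
  rw [hm, pow_succ, pow_mul, ha2, one_pow, one_mul]

/-- the transfer of a homomorphism from a Sylow `2`-subgroup kills the elements of odd order -/
theorem transfer_odd_eq_one (S : Sylow 2 G) {A : Type*} [CommGroup A] (φ : ↥(S : Subgroup G) →* A)
    {g : G} (hg : Odd (orderOf g)) : MonoidHom.transfer φ g = 1 := by
  classical
  have : Fact (Nat.Prime 2) := ⟨Nat.prime_two⟩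
  let _ : Fintype (Quotient (MulAction.orbitRel (Subgroup.zpowers g) (G ⧸ (S : Subgroup G)))) :=
    Fintype.ofFinite _
  have hformula := MonoidHom.transfer_eq_prod_quotient_orbitRel_zpowers_quot φ g
  have hmem : MonoidHom.transfer φ g ∈ φ.range := by
    rw [hformula]
    exact Subgroup.prod_mem _ (fun q _ => ⟨_, rfl⟩)
  have hp : IsPGroup 2 φ.range := by
    have hS : IsPGroup 2 (S : Subgroup G) := S.isPGroup'
    rintro ⟨_, ⟨s, rfl⟩⟩
    obtain ⟨k, hk⟩ := hS s
    exact ⟨k, Subtype.ext (by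
      show (φ s) ^ 2 ^ k = 1
      rw [← map_pow, hk, map_one])⟩
  obtain ⟨k, hk⟩ := hp ⟨_, hmem⟩
  have hk' : (MonoidHom.transfer φ g) ^ 2 ^ k = 1 := by
    have := congrArg Subtype.val hk
    simpa using this
  have h1 : orderOf (MonoidHom.transfer φ g) ∣ 2 ^ k := orderOf_dvd_of_pow_eq_one hk'
  have h2 : orderOf (MonoidHom.transfer φ g) ∣ orderOf g := orderOf_map_dvd _ g
  have hcop : Nat.Coprime (2 ^ k) (orderOf g) :=
    Nat.Coprime.pow_left k (Nat.coprime_two_left.mpr hg)
  have h3 : orderOf (MonoidHom.transfer φ g) = 1 :=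
    Nat.eq_one_of_dvd_coprimes hcop h1 h2
  exact orderOf_eq_one_iff.mp h3

/-- **Generalized Thompson transfer**, homomorphism form. -/
theorem not_mem_closure_odd_of_hom (S : Sylow 2 G) {A : Type*} [CommGroup A]
    (φ : ↥(S : Subgroup G) →* A) (t : G) (htS : t ∈ (S : Subgroup G)) (ht : t * t = 1)
    (hφ : φ ⟨t, htS⟩ ≠ 1)
    (hfus : ∀ (g : G) (hg : g⁻¹ * t * g ∈ (S : Subgroup G)), φ ⟨g⁻¹ * t * g, hg⟩ = φ ⟨t, htS⟩) :
    t ∉ Subgroup.closure {g : G | Odd (orderOf g)} := by
  intro hmem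
  have ha : φ ⟨t, htS⟩ * φ ⟨t, htS⟩ = 1 := by
    rw [← map_mul]
    have : (⟨t, htS⟩ : (S : Subgroup G)) * ⟨t, htS⟩ = 1 := Subtype.ext ht
    rw [this, map_one]
  have hV : MonoidHom.transfer φ t = φ ⟨t, htS⟩ := transfer_invol S φ t ht _ ha hfus
  have hle : Subgroup.closure {g : G | Odd (orderOf g)} ≤ (MonoidHom.transfer φ).ker := by
    rw [Subgroup.closure_le]
    intro g hg
    exact MonoidHom.mem_ker.mpr (transfer_odd_eq_one S φ hg)
  have h1 : MonoidHom.transfer φ t = 1 := MonoidHom.mem_ker.mp (hle hmem)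
  exact hφ (hV ▸ h1)

/-- **Generalized Thompson transfer**, `D`-form: `D ⊴ S`, `S / D` abelian, `t ∈ S ∖ D` an involution
all of whose `G`-conjugates in `S` lie in `t D`.  Then `t ∉ O^2(G)`. -/
theorem not_mem_closure_odd (S : Sylow 2 G) (D : Subgroup G)
    (hDn : ∀ x ∈ (S : Subgroup G), ∀ d ∈ D, x * d * x⁻¹ ∈ D)
    (hab : ∀ x ∈ (S : Subgroup G), ∀ y ∈ (S : Subgroup G), x * y * x⁻¹ * y⁻¹ ∈ D)
    (t : G) (htS : t ∈ (S : Subgroup G)) (ht : t * t = 1) (htD : t ∉ D)
    (hfus : ∀ g : G, g * t * g⁻¹ ∈ (S : Subgroup G) → g * t * g⁻¹ * t⁻¹ ∈ D) :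
    t ∉ Subgroup.closure {g : G | Odd (orderOf g)} := by
  classical
  set N : Subgroup ↥(S : Subgroup G) := D.subgroupOf (S : Subgroup G) with hN
  have hNn : N.Normal := by
    constructor
    intro n hn x
    rw [hN, Subgroup.mem_subgroupOf] at hn ⊢
    exact hDn x.1 x.2 n.1 hn
  letI : CommGroup (↥(S : Subgroup G) ⧸ N) :=
    { (inferInstance : Group (↥(S : Subgroup G) ⧸ N)) with
      mul_comm := by
        intro x y
        induction x using QuotientGroup.induction_on with
        | _ x =>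
          induction y using QuotientGroup.induction_on with
          | _ y =>
            rw [← QuotientGroup.mk_mul, ← QuotientGroup.mk_mul, QuotientGroup.eq]
            rw [hN, Subgroup.mem_subgroupOf]
            have h := hab (y⁻¹ : ↥(S : Subgroup G)).1 (y⁻¹).2 (x⁻¹ : ↥(S : Subgroup G)).1 (x⁻¹).2
            have e : (((x * y)⁻¹ * (y * x) : ↥(S : Subgroup G)) : G) =
                (y⁻¹ : ↥(S : Subgroup G)).1 * (x⁻¹ : ↥(S : Subgroup G)).1 *
                  ((y⁻¹ : ↥(S : Subgroup G)).1)⁻¹ * ((x⁻¹ : ↥(S : Subgroup G)).1)⁻¹ := by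
              simp only [Subgroup.coe_mul, Subgroup.coe_inv, mul_inv_rev, inv_inv]
              group
            rw [e]
            exact h }
  let φ : ↥(S : Subgroup G) →* (↥(S : Subgroup G) ⧸ N) := QuotientGroup.mk' N
  refine not_mem_closure_odd_of_hom S φ t htS ht ?_ ?_
  · intro h1
    have : (⟨t, htS⟩ : (S : Subgroup G)) ∈ N := (QuotientGroup.eq_one_iff _).mp h1
    rw [hN, Subgroup.mem_subgroupOf] at this
    exact htD this
  · intro g hg
    show (QuotientGroup.mk (⟨g⁻¹ * t * g, hg⟩ : (S : Subgroup G)) : ↥(S : Subgroup G) ⧸ N) =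
      QuotientGroup.mk ⟨t, htS⟩
    rw [QuotientGroup.eq, hN, Subgroup.mem_subgroupOf]
    show (g⁻¹ * t * g)⁻¹ * t ∈ D
    have h1 : g⁻¹ * t * g⁻¹⁻¹ * t⁻¹ ∈ D := hfus g⁻¹ (by rwa [inv_inv])
    rw [inv_inv] at h1
    have h2 : (g⁻¹ * t * g * t⁻¹)⁻¹ ∈ D := inv_mem h1
    have h3 := hDn t⁻¹ (inv_mem htS) _ h2
    have e : t⁻¹ * (g⁻¹ * t * g * t⁻¹)⁻¹ * t⁻¹⁻¹ = (g⁻¹ * t * g)⁻¹ * t := by group
    rwa [e] at h3

end Cfsg.Agent.Helper15.GTT
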