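import Mathlib
import Cfsg.Agent.Lib.Helper7.HSExAux

/-!
# HD-X3: a subgroup of `Alt(n)`, `n ≥ 5`, without common fixed point and with small prime divisors
-/

set_option autoImplicit false

namespace Cfsg.Agent.Helper15.HDX3

open Equiv Cfsg.Agent.Helper7.HSEx

universe u

variable {Ω : Type u} [Fintype Ω] [DecidableEq Ω]

theorem swap_mem_setStab_of_mem {S : Finset Ω} {a b : Ω} (ha : a ∈ S) (hb : b ∈ S) :
    swap a b ∈ setStab S := by
  rw [mem_setStab]
  intro x
  by_cases hxa : x = a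
  · rw [hxa, swap_apply_left]
    exact ⟨fun _ => ha, fun _ => hb⟩
  by_cases hxb : x = b
  · rw [hxb, swap_apply_right]
    exact ⟨fun _ => hb, fun _ => ha⟩
  rw [swap_apply_of_ne_of_ne hxa hxb]

theorem swap_mem_setStab_of_not_mem {S : Finset Ω} {c d : Ω} (hc : c ∉ S) (hd : d ∉ S) :
    swap c d ∈ setStab S := by
  rw [mem_setStab]
  intro x
  by_cases hxc : x = c
  · rw [hxc, swap_apply_left]
    exact ⟨fun h => absurd h hd, fun h => absurd h hc⟩
  by_cases hxd : x = d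
  · rw [hxd, swap_apply_right]
    exact ⟨fun h => absurd h hc, fun h => absurd h hd⟩
  rw [swap_apply_of_ne_of_ne hxc hxd]

theorem mul_swap_mem {S : Finset Ω} {a b c d : Ω} (ha : a ∈ S) (hb : b ∈ S) (hab : a ≠ b)
    (hc : c ∉ S) (hd : d ∉ S) (hcd : c ≠ d) :
    swap a b * swap c d ∈ setStab S ⊓ alternatingGroup Ω := by
  refine Subgroup.mem_inf.mpr ⟨mul_mem (swap_mem_setStab_of_mem ha hb)
    (swap_mem_setStab_of_not_mem hc hd), ?_⟩
  rw [Perm.mem_alternatingGroup, map_mul, Perm.sign_swap hab, Perm.sign_swap hcd]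
  decide

theorem exists_X3 (n : ℕ) (hn : 5 ≤ n) :
    ∃ X : Subgroup (Perm (Fin n)), X ≤ alternatingGroup (Fin n) ∧
      (∀ p : ℕ, p.Prime → p ∣ Nat.card X → p + 2 ≤ n) ∧ ∀ ω : Fin n, ∃ σ ∈ X, σ ω ≠ ω := by
  set a0 : Fin n := ⟨0, by omega⟩ with ha0
  set a1 : Fin n := ⟨1, by omega⟩ with ha1
  set a2 : Fin n := ⟨2, by omega⟩ with ha2
  set a3 : Fin n := ⟨3, by omega⟩ with ha3
  have h01 : a0 ≠ a1 := Fin.ne_of_val_ne (by simp [ha0, ha1])
  have h02 : a0 ≠ a2 := Fin.ne_of_val_ne (by simp [ha0, ha2])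
  have h03 : a0 ≠ a3 := Fin.ne_of_val_ne (by simp [ha0, ha3])
  have h12 : a1 ≠ a2 := Fin.ne_of_val_ne (by simp [ha1, ha2])
  have h13 : a1 ≠ a3 := Fin.ne_of_val_ne (by simp [ha1, ha3])
  have h23 : a2 ≠ a3 := Fin.ne_of_val_ne (by simp [ha2, ha3])
  set S : Finset (Fin n) := {a0, a1} with hS
  have hmem : ∀ x : Fin n, x ∈ S ↔ x = a0 ∨ x = a1 := by
    intro x
    rw [hS, Finset.mem_insert, Finset.mem_singleton]
  have hm0 : a0 ∈ S := (hmem a0).mpr (Or.inl rfl)
  have hm1 : a1 ∈ S := (hmem a1).mpr (Or.inr rfl)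
  have hm2 : a2 ∉ S := fun h => by
    rcases (hmem a2).mp h with h | h
    · exact h02 h.symm
    · exact h12 h.symm
  have hm3 : a3 ∉ S := fun h => by
    rcases (hmem a3).mp h with h | h
    · exact h03 h.symm
    · exact h13 h.symm
  refine ⟨setStab S ⊓ alternatingGroup (Fin n), inf_le_right, ?_, ?_⟩
  · intro p hp hdvd
    have h1 : Nat.card ↥(setStab S ⊓ alternatingGroup (Fin n)) ∣ Nat.card (setStab S) :=
      Subgroup.card_dvd_of_le inf_le_left
    have hScard : S.card = 2 := Finset.card_pair h01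
    rw [card_setStab, hScard, Fintype.card_fin] at h1
    have h2 := hdvd.trans h1
    rcases (Nat.Prime.dvd_mul hp).mp h2 with h | h
    · have := (Nat.Prime.dvd_factorial hp).mp h
      omega
    · have := (Nat.Prime.dvd_factorial hp).mp h
      omega
  · intro ω
    by_cases hω : ω ∈ S
    · refine ⟨swap a0 a1 * swap a2 a3, mul_swap_mem hm0 hm1 h01 hm2 hm3 h23, ?_⟩
      have hω2 : ω ≠ a2 := fun h => hm2 (h ▸ hω)
      have hω3 : ω ≠ a3 := fun h => hm3 (h ▸ hω)
      rw [Perm.mul_apply, swap_apply_of_ne_of_ne hω2 hω3]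
      rcases (hmem ω).mp hω with h | h
      · rw [h, swap_apply_left]
        exact h01.symm
      · rw [h, swap_apply_right]
        exact h01
    · have hω0 : ω ≠ a0 := fun h => hω (h ▸ hm0)
      have hω1 : ω ≠ a1 := fun h => hω (h ▸ hm1)
      by_cases hω2 : ω = a2
      · refine ⟨swap a0 a1 * swap ω a3, mul_swap_mem hm0 hm1 h01 hω hm3 (hω2 ▸ h23), ?_⟩
        rw [Perm.mul_apply, swap_apply_left, swap_apply_of_ne_of_ne h03.symm h13.symm]
        rw [hω2]
        exact h23.symm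
      · refine ⟨swap a0 a1 * swap ω a2, mul_swap_mem hm0 hm1 h01 hω hm2 hω2, ?_⟩
        rw [Perm.mul_apply, swap_apply_left, swap_apply_of_ne_of_ne h02.symm h12.symm]
        exact fun h => hω2 h.symm

end Cfsg.Agent.Helper15.HDX3
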