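import Mathlib
import Cfsg.Agent.Lib.Helper15.SylGen4

set_option autoImplicit false

/-!
# A vector stabiliser in the Higman–Sims group is `PSU₃(5)`: the permutation group of degree 252
(helper15)

Data produced by an external search; everything is re-checked by the kernel.
-/

namespace Cfsg.Agent.Helper15.HSU3

open SylGen

def t1L : List ℕ := [2, 93, 160, 84, 171, 132, 121, 166, 157, 120, 250, 243, 55, 62, 36, 46, 27, 47, 76, 12, 18, 66, 39, 33, 50, 77, 64, 59, 57, 29, 48, 30, 20, 38, 26, 53, 42, 43, 52, 71, 74, 16, 68, 17, 202, 186, 232, 188, 227, 230, 220, 219, 193, 217, 210, 236, 238, 178, 228, 197, 184, 207, 206, 214, 216, 195, 190, 176, 181, 223, 237, 211, 182, 179, 229, 226, 200, 191, 0, 10, 5, 4, 3, 7, 9, 6, 11, 161, 126, 141, 104, 135, 95, 112, 111, 145, 124, 101, 154, 129, 134, 152, 143, 128, 144, 109, 100, 118, 113, 115, 102, 86, 172, 89, 88, 155, 78, 92, 87, 81, 82, 168, 153, 114, 146, 103, 148, 105, 137, 98, 83, 169, 170, 164, 159, 173, 96, 163, 162, 79, 165, 149, 136, 138, 133, 151, 142, 107, 123, 108, 99, 117, 122, 97, 150, 127, 106, 140, 139, 156, 116, 147, 110, 125, 90, 240, 245, 242, 244, 248, 247, 246, 241, 251, 60, 51, 25, 22, 72, 69, 40, 14, 28, 70, 75, 61, 56, 35, 37, 45, 44, 67, 54, 23, 73, 13, 15, 41, 34, 58, 32, 31, 21, 24, 63, 19, 65, 49, 234, 183, 235, 177, 180, 199, 208, 209, 198, 225, 213, 231, 221, 203, 222, 194, 192, 187, 174, 201, 218, 212, 185, 233, 239, 175, 204, 224, 205, 215, 189, 196, 8, 1, 131, 94, 85, 130, 119, 80, 167, 91, 158, 249]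

def t2L : List ℕ := [97, 189, 182, 188, 186, 179, 183, 175, 180, 177, 240, 241, 121, 20, 119, 15, 115, 113, 102, 105, 13, 148, 137, 23, 131, 96, 93, 92, 217, 216, 214, 98, 94, 213, 223, 222, 87, 221, 218, 210, 91, 212, 89, 88, 197, 194, 81, 82, 195, 80, 192, 79, 78, 86, 207, 84, 203, 206, 83, 201, 85, 187, 250, 248, 190, 247, 178, 181, 245, 249, 184, 243, 246, 185, 242, 174, 244, 176, 52, 51, 49, 46, 47, 58, 55, 60, 53, 36, 43, 42, 156, 40, 27, 26, 32, 161, 25, 0, 31, 123, 125, 124, 18, 230, 107, 19, 106, 104, 108, 110, 109, 122, 117, 17, 229, 16, 116, 112, 118, 14, 227, 12, 111, 99, 101, 100, 151, 150, 152, 140, 239, 24, 237, 133, 139, 135, 235, 22, 234, 134, 129, 142, 141, 143, 147, 145, 232, 144, 21, 233, 127, 126, 128, 220, 251, 226, 90, 219, 225, 224, 211, 95, 209, 208, 215, 198, 191, 196, 193, 204, 205, 202, 200, 199, 75, 7, 77, 9, 66, 5, 8, 67, 2, 6, 70, 73, 4, 61, 3, 1, 64, 166, 50, 168, 45, 48, 167, 44, 165, 173, 172, 59, 171, 56, 169, 170, 57, 54, 163, 162, 39, 160, 41, 33, 30, 164, 29, 28, 38, 157, 153, 37, 35, 34, 159, 158, 155, 120, 228, 114, 103, 238, 146, 149, 138, 136, 236, 132, 231, 130, 10, 11, 74, 71, 76, 68, 72, 65, 63, 69, 62, 154]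

def t1iL : List ℕ := [78, 241, 0, 82, 81, 80, 85, 83, 240, 84, 79, 86, 19, 195, 181, 196, 41, 43, 20, 205, 32, 202, 177, 193, 203, 176, 34, 16, 182, 29, 31, 201, 200, 23, 198, 187, 14, 188, 33, 22, 180, 197, 36, 37, 190, 189, 15, 17, 30, 207, 24, 175, 38, 35, 192, 12, 186, 28, 199, 27, 174, 185, 13, 204, 26, 206, 21, 191, 42, 179, 183, 39, 178, 194, 40, 184, 18, 25, 116, 139, 247, 119, 120, 130, 3, 244, 111, 118, 114, 113, 164, 249, 117, 1, 243, 92, 136, 153, 129, 150, 106, 97, 110, 125, 90, 127, 156, 147, 149, 105, 162, 94, 93, 108, 123, 109, 160, 151, 107, 246, 9, 6, 152, 148, 96, 163, 88, 155, 103, 99, 245, 242, 5, 144, 100, 91, 142, 128, 143, 158, 157, 89, 146, 102, 104, 95, 124, 161, 126, 141, 154, 145, 101, 122, 98, 115, 159, 8, 250, 134, 2, 87, 138, 137, 133, 140, 7, 248, 121, 131, 132, 4, 112, 135, 226, 233, 67, 211, 57, 73, 212, 68, 72, 209, 60, 230, 45, 225, 47, 238, 66, 77, 224, 52, 223, 65, 239, 59, 216, 213, 76, 227, 44, 221, 234, 236, 62, 61, 214, 215, 54, 71, 229, 218, 63, 237, 64, 53, 228, 51, 50, 220, 222, 69, 235, 217, 75, 48, 58, 74, 49, 219, 46, 231, 208, 210, 55, 70, 56, 232, 165, 172, 167, 11, 168, 166, 171, 170, 169, 251, 10, 173]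

def t2iL : List ℕ := [97, 189, 182, 188, 186, 179, 183, 175, 180, 177, 240, 241, 121, 20, 119, 15, 115, 113, 102, 105, 13, 148, 137, 23, 131, 96, 93, 92, 217, 216, 214, 98, 94, 213, 223, 222, 87, 221, 218, 210, 91, 212, 89, 88, 197, 194, 81, 82, 195, 80, 192, 79, 78, 86, 207, 84, 203, 206, 83, 201, 85, 187, 250, 248, 190, 247, 178, 181, 245, 249, 184, 243, 246, 185, 242, 174, 244, 176, 52, 51, 49, 46, 47, 58, 55, 60, 53, 36, 43, 42, 156, 40, 27, 26, 32, 161, 25, 0, 31, 123, 125, 124, 18, 230, 107, 19, 106, 104, 108, 110, 109, 122, 117, 17, 229, 16, 116, 112, 118, 14, 227, 12, 111, 99, 101, 100, 151, 150, 152, 140, 239, 24, 237, 133, 139, 135, 235, 22, 234, 134, 129, 142, 141, 143, 147, 145, 232, 144, 21, 233, 127, 126, 128, 220, 251, 226, 90, 219, 225, 224, 211, 95, 209, 208, 215, 198, 191, 196, 193, 204, 205, 202, 200, 199, 75, 7, 77, 9, 66, 5, 8, 67, 2, 6, 70, 73, 4, 61, 3, 1, 64, 166, 50, 168, 45, 48, 167, 44, 165, 173, 172, 59, 171, 56, 169, 170, 57, 54, 163, 162, 39, 160, 41, 33, 30, 164, 29, 28, 38, 157, 153, 37, 35, 34, 159, 158, 155, 120, 228, 114, 103, 238, 146, 149, 138, 136, 236, 132, 231, 130, 10, 11, 74, 71, 76, 68, 72, 65, 63, 69, 62, 154]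

/-- the two generating permutations as raw functions (`true` is the first). -/
def tf (b : Bool) (x : Fin 252) : Fin 252 := Fin.ofNat 252 ((if b then t1L else t2L).getD x.val 0)

def tfi (b : Bool) (x : Fin 252) : Fin 252 := Fin.ofNat 252 ((if b then t1iL else t2iL).getD x.val 0)

set_option maxRecDepth 100000 in
lemma tfi_tf : ∀ (b : Bool) (x : Fin 252), tfi b (tf b x) = x := by decide +kernel

set_option maxRecDepth 100000 in
lemma tf_tfi : ∀ (b : Bool) (x : Fin 252), tf b (tfi b x) = x := by decide +kernel

def tg (b : Bool) : Equiv.Perm (Fin 252) where
  toFun := tf b
  invFun := tfi b
  left_inv := tfi_tf b
  right_inv := tf_tfi b

lemma tg_apply (b : Bool) (x : Fin 252) : tg b x = tf b x := rfl

/-- the permutation group of degree 252. -/
abbrev RV : Subgroup (Equiv.Perm (Fin 252)) :=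
  Subgroup.closure ({tg true, tg false} : Set (Equiv.Perm (Fin 252)))

def cW0 : List (List Bool) := [[],
  [true, false, true, true, false, true, true, true, false],
  [true],
  [true, true, true, false, true, false, true, true],
  [true, true, true, false, true, true, true, true, false, true],
  [true, true, false, true, false, true, true, false, true],
  [true, true, true, false, true, false, true, true, true, true],
  [true, true, false, true, false, true, false, true, false],
  [true, false, true, true, true, false, true, false, true, false, true],
  [false, true, false, true, true],
  [true, true, true, false, true, false, true, false, true],
  [true, true, false, true, true, true, false],
  [false, true, true, true, true, false, true, false, true, true, true, true],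
  [true, true, true, false, true, true, false, true],
  [false, true, false, true, true, true, true, false, true],
  [true, true, true, false, true, false, true, false],
  [true, true, false, true, true, false, true, true, true, false, true],
  [true, true, false, true, false, true, true, true, true, false],
  [true, false, true, true, true, false, true, true, false, true],
  [true, true, true, false, true, true, true, true, false, true, false, true, true],
  [false, true, true, true, false, true, true, false, true],
  [true, true, true, true, false, true, true, true, false, true],
  [true, true, false, true, true],
  [true, true, false, true, true, true, true],
  [true, true, true, false, true, true, true, true, false],
  [false, true, true, true, true, false, true, false],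
  [false, true, true, false, true, true, false, true, true, true, false],
  [true, true, true, false, true, true, false, true, true, true, false, true],
  [true, false, true],
  [false, true, false, true, false, true, true, true, false, true],
  [true, true, true, false, true, false, true, false, true, true],
  [true, true, false, true, false, true, false, true, true],
  [false, true, false, true, true, true, true, false, true, true],
  [true, true, true, false, true, true, true, true],
  [true, true, true, false, true, false, true, true, true, false, true],
  [true, true, true, false, true, false, true],
  [true, false, true, false, true, true, true, true, false, true],
  [false, true, false, true, true, true, true, false],
  [true, true, true, true, false, true, true, true, true],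
  [true, true, true, false, true, true],
  [true, true, false, true, false, true, true, false, true, true, true, false, true],
  [true, false, true, true, false, true, true, true, false, true],
  [true, true, false, true, false, true, true, true, true, false, true],
  [true, false, true, false, true, true, true, true, false],
  [true, true, false, true, true, true, false, true],
  [true, false, true, false, true, true, false, true, true, true, false],
  [true, true, true, true, false, true, false, true, false],
  [false, true, true, false, true, false, true, true],
  [false, true, true, false, true, true, false, true],
  [false, true, false, true, false, true, true, false, true],
  [true, true, true, true, false, true, true, true, true, false],
  [false, true, true, false, true, false, true, false, true],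
  [false, true, true, true, true],
  [false, true, false, true, true, true, false],
  [false, true, false, true, true, false, true, false, true],
  [false, true, true, true, true, false, true, false, true, true],
  [false, true, true, false, true, true, true, true, false],
  [true, true, false, true],
  [false, true, false, true, false, true, false, true, false],
  [false, true, false, true, false, true, false, true, true],
  [false, true, true, false, true, false, true, true, true, true],
  [false, true, true, false, true, false, true],
  [true, true, true, true, false, true, true, false, true],
  [true, true, true, false, true, true, false, true, true, false],
  [false, true, false, true, true, true, false, true],
  [true, false, true, true, false, true],
  [false, true, true, true, false, true],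
  [true, true, true, false, true, true, true, true, false, true, false],
  [true, true, true, false, true, false, true, true, true, true, false, true],
  [true, false, true, true, false, true, false, true, true, false, true],
  [true, false, true, true, true, false, true, false, true, true, true, true],
  [true, true, true, true, false, true, true],
  [true, true, true, true, false, true],
  [false, true, false, true, true, true, true, false, true, true, false],
  [false, true, false, true, true, false, true, false, true, false],
  [true, true, false, true, true, false, true, false, true, true, true, true],
  [false, true, false, true, false, true, true, true, true],
  [true, false, true, true, true, true, false, true, false],
  [true, true, true, true],
  [true, true, false, true, false, true, false, true],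
  [true, false, true, false, true, true, false, true],
  [true, true, false, true, true, true, true, false, true],
  [true, true, false, true, false, true, true],
  [true, false, true, false, true, false, true, false],
  [true, true, true, true, false, true, false, true, true],
  [true, true, false, true, false, true, true, true, true],
  [true, false, true, true, true, false],
  [false, true, false, true, false, true, true, true, true, false, true],
  [false, true, false, true, false, true, true, true, true, false],
  [true, true, true, true, false, true, true, false, true, false],
  [false, true, true, false, true, false, true, false, true, false, true],
  [true, false, true, false, true, true, false, true, false, true, true, false, true],
  [false, true, true, true, false, true, true, false, true, true, true, false, true],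
  [true, true, false, true, true, false, true, true, true, false],
  [true, false, true, true, true, true, false, true, true],
  [false, true, false, true, false, true, false, true, true, true, true, false, true],
  [true, true, true, true, false, true, false],
  [false],
  [false, true, true, false, true, false, true, false, true, true],
  [true, true, true, false, true, true, false, true, false, true, false, true, true],
  [false, true, true, true, false, true, true, false],
  [true, false],
  [false, true, false, true, true, true, false, true, true, false, true],
  [true, true, true, true, false, true, true, false],
  [true, false, true, true, false, true, false, true, false, true, false, true],
  [false, true, true, true, false, true, true, true, true, false, true, false, true, true],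
  [true, true, true, false, true, false, true, false, true, false, true],
  [false, true, false, true, true, false, true, false, true, false, true, false, true],
  [true, true, false, true, true, false, true, false],
  [false, true, true, false, true, false, true, true, false, true, true, false],
  [true, true, false, true, false, true, true, false, true, true, false],
  [false, true, true, true, false],
  [true, true, true, false, true, true, false, true, true, true, false],
  [true, true, true, false, true, true, false, true, false],
  [false, true, false, true, false, true, true, false, true, false, true, false],
  [false, true, true, false, true, true, false, true, true, true, false, true],
  [true, true, true],
  [false, true, true, true, false, true, true, false, true, true, true, false],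
  [true, false, true, false, true, true, false, true, false, true, false, true, false, true],
  [true, false, true, true, true, true, false, true],
  [true, false, true, false, true, true],
  [true, true, true, true, false, true, false, true, true, true, true],
  [true, true, true, false],
  [true, false, true, true, true, true, false, true, true, true, false, true],
  [false, true, false],
  [true, true, true, false, true, true, false],
  [true, false, true, false, true, false, true, true, true, true, false],
  [false, true, true, false, true, true, false, true, false, true, false, true, true],
  [false, true, true, false],
  [false, true, false, true, false, true, true, false, true, false, true, false, true],
  [false, true, false, true, false, true, false],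
  [false, true, true, true, false, true, true, true, true, false],
  [true, true, true, false, true, false, true, true, false, true],
  [true, true, true, false, true, true, false, true, false, true, false, true, false, true],
  [false, true, false, true, false, true, false, true],
  [true, true, false, true, false, true, true, false, true, false, true, true, false, true],
  [true, true, true, false, true, false],
  [true, false, true, true, false],
  [false, true, false, true, true, false, true, true, false],
  [true, false, true, false, true, false, true],
  [true, false, true, false, true, true, false, true, false, true, false, true],
  [false, true, true, false, true, false],
  [true, true, false, true, false],
  [true, false, true, false, true, true, true, false, true, true, false, true],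
  [true, true, false, true, true, false, true, false, true, false, true, false, true],
  [true, false, true, false, true, false, true, false, true, true, true, true, false, true],
  [true, false, true, false],
  [true, true, false, true, false, true, false, true, true, true, true, false, true],
  [false, true, true, true, true, false, true, true, true, false, true],
  [true, false, true, true, false, true, false],
  [true, true, false, true, true, false, true, false, true, false, true, true],
  [false, true, false, true, false, true, false, true, true, true, true, false],
  [true, true, false],
  [true, true, true, true, false],
  [true, false, true, true, false, true, false, true, false, true, true],
  [true, false, true, true, false, true, true, false, true, true, true, false, true],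
  [true, true, false, true, false, true, false, true, false, true],
  [false, true, false, true, true, false, true, false, true, false, true],
  [false, true, false, true, false, true],
  [true, false, true, false, true, false, true, false, true],
  [true, true],
  [true, false, true, false, true, false, true, true, true, true, false, true],
  [true, false, true, false, true, true, false, true, true, false],
  [true, true, false, true, true, false],
  [false, true, false, true, true, true, false, true, false, true, true, false, true],
  [false, true, true, false, true, false, true, true, true, false, true],
  [true, true, true, false, true, false, true, false, true, false],
  [false, true, true, false, true, false, true, false],
  [false, true, false, true, true, true, true],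
  [false, true, true, false, true, true, false, true, true, false],
  [true, true, true, true, false, true, false, true, true, false, true],
  [false, true, true, true, false, true, true, true, false, true],
  [false, true, false, true, false, true, false, true, true, true, true],
  [false, true, false, true, true, true, false, true, true, true, true],
  [false, true, true, false, true, true, false, true, false, true, true, true, true],
  [true, false, true, false, true, true, false, true, false],
  [false, true, false, true, true, true, true, false, true, false],
  [true, false, true, true],
  [true, true, true, false, true],
  [false, true, true, false, true, false, true, true, false, true],
  [true, false, true, false, true, true, false, true, true, true, false, true],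
  [false, true, true, true, false, true, true, true, true, false, true, false],
  [false, true],
  [false, true, true, true, false, true, false, true, true, true, true],
  [true, false, true, true, false, true, false, true, true, true, true],
  [true, false, true, true, true, true, false, true, true, false],
  [false, true, true, true, false, true, true, true, true, false, true],
  [true, true, false, true, false, true],
  [false, true, true, true, false, true, false, true, true],
  [false, true, false, true, true, false, true, true, true, false],
  [true, false, true, true, true, false, true],
  [true, true, false, true, true, true, true, false, true, false],
  [true, true, false, true, true, true, false, true, false],
  [true, false, true, true, true, true],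
  [false, true, false, true, false, true, true, false, true, true, true, false],
  [true, true, false, true, true, false, true],
  [true, true, false, true, false, true, false],
  [false, true, true, false, true, true, true, false, true],
  [true, true, false, true, false, true, true, true, false, true],
  [true, false, true, true, true, false, true, true, true, true],
  [true, false, true, false, true, false, true, true, true, true],
  [true, false, true, false, true, false, true, true],
  [true, true, true, false, true, true, true, false, true],
  [true, true, false, true, true, true, true, false],
  [true, true, false, true, true, false, true, true, false],
  [true, true, false, true, true, true, true, false, true, false, true, true],
  [false, true, true, false, true],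
  [true, false, true, true, false, true, false, true],
  [false, true, true, false, true, true, false],
  [false, true, false, true, false, true, true, false, true, true, false],
  [false, true, true, true, false, true, true],
  [false, true, true],
  [false, true, false, true, true, false, true, true, true, false, true],
  [false, true, true, true, false, true, true, true, true],
  [false, true, true, true, false, true, false, true, false, true, true],
  [true, false, true, true, true, false, true, false, true, true, false, true],
  [true, false, true, false, true, true, true, false, true],
  [false, true, false, true],
  [false, true, true, true, true, false, true, true, true, true],
  [true, false, true, true, false, true, false, true, false, true],
  [false, true, true, true, true, false],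
  [true, false, true, true, true, true, false],
  [false, true, true, true, false, true, false, true],
  [false, true, true, true, false, true, false, true, true, true, false, true],
  [true, false, true, true, true, false, true, false],
  [true, false, true, false, true],
  [true, true, true, false, true, true, false, true, false, true, true, true, true],
  [false, true, false, true, false, true, true],
  [true, false, true, false, true, false, true, false, true, false],
  [true, false, true, false, true, true, false, true, false, true, false],
  [false, true, true, true, true, false, true, true, false],
  [true, true, false, true, true, false, true, false, true, false, true],
  [false, true, false, true, false],
  [false, true, false, true, true, false, true, false],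
  [true, false, true, true, false, true, true, false],
  [false, true, true, true, false, true, false],
  [true, false, true, true, true, true, false, true, false, true, true],
  [false, true, true, true, false, true, false, true, true, false, true],
  [true, false, true, true, false, true, true, true, true, false],
  [true, false, true, false, true, false],
  [false, true, true, true, false, true, false, true, false, true],
  [false, true, true, false, true, true, true, false],
  [true, false, true, true, false, true, false, true, false],
  [false, true, true, true, true, false, true, true],
  [true, false, true, false, true, true, true, true],
  [true, true, true, true, false, true, false, true, false, true, false],
  [false, true, true, true, true, false, true],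
  [false, true, false, true, true, false, true],
  [false, true, true, true, false, true, true, false, true, true, false],
  [false, true, false, true, true, false, true, false, true, true, false, true],
  [false, true, true, true, true, false, true, true, false, true],
  [true, false, true, false, true, true, true, false, true, true, true, true]]

set_option maxRecDepth 100000 in
lemma cfix0 : ∀ w ∈ cW0, ∀ b ∈ ([] : List (Fin 252)), evf tf w b = b := by decide +kernel

set_option maxRecDepth 100000 in
lemma cnd0 : (cW0.map (fun w => evf tf w (0 : Fin 252))).Nodup := by decide +kernel

lemma clen0 : cW0.length = 252 := by decide +kernel

def cW1 : List (List Bool) := [[],
  [true, true, true, false, true, true, false, true, false, true, false, true, true, false, true, false, true],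
  [true, true, false, true, true, true, false, true, true, false, true, true, false, true, true, true, true, false, true, true],
  [false, true, false, true, false, true, true, true, false, true, false, true, false, true, true, false, true, true, false, true, true, true],
  [false, true, false, true, true, true, false, true, true, false, true, false, true, true, true, false, true, false, true, true, true, false, true],
  [true, false, true, true, false, true, true, false, true, true, true, true, false, true, true, false, true, true, false, true, true, true, true],
  [false, true, true, false, true, false, true, true, false, true, false, true, false, true, false, true, true, true],
  [true, false, true, true, true, false, true, true, true, false, true, true, false, true, false, true, false, true, false, true, false],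
  [true, true, true, false, true, false, true, true, false, true, true, false, true, true, true, false, true, false, true, false, true, true, false, true],
  [true, false, true, false, true, true, false, true, false, true, false, true, false, true, false],
  [false, true, false, true, true, true, false, true, false, true, true, true, false, true, true, true, true, false, true],
  [true, false, true, true, false, true, false, true, true, true, true, false, true, true, false, true, true, true, false, true, false, true, true, false],
  [true, true, false, true, true, true, false, true, false, true, false, true, true, false, true, true, true, false, true, false],
  [true, false, true, true, false, true, false, true, false, true, false, true, true, false, true, true, false, true, true, true, true],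
  [true, false, true, false, true, true, false, true, true, true, false, true, true, false, true, true, true, true, false, true, false],
  [false, true, true, true, false, true, false, true, true, true, false, true, true, true, false, true, false, true, true, true, false],
  [false, true, false, true, true, false, true, false, true, true, true, false, true, false, true, true, false, true, true, true, false, true],
  [true, true, true, false, true, true, false, true, true, false, true, true, true, false, true, true, false, true, true, false, true, false, true, true],
  [true, true, false, true, true, true],
  [true, true, true, false, true, true, true, false, true, false, true, false, true, true, false, true, false, true, true, true, false, true, true],
  [true, true, true, false, true, false, true, true, false, true, false, true, true, true, true, false, true, true, true, false, true, false, true],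
  [true, true, false, true, false, true, true, false, true, false, true, false, true, true, false, true, false, true],
  [true, true, false, true, false, true, false, true, true, false, true, false, true, false, true, true, true, true, false, true, false, true, true, true, false],
  [false, true, true, true, false, true, false, true, true, true, false, true, true, false, true, false, true],
  [false, true, false, true, false, true, true, false, true, true, true, false, true, false, true, true, false, true, true, true],
  [true, true, true, true, false, true, true, true, true, false, true, true, false, true, false, true, true, true, false, true, false, true],
  [true, true, false, true, false, true, true, true, false, true, false, true, true, false, true, true, false, true, true, true],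
  [true, true, false, true, false, true, true, true, false, true, false, true, true, false],
  [false, true, false, true, false, true, false, true, true, false, true, false, true, false, true, true, true, false, true, false, true, false, true, true],
  [false, true, true, false, true, true, false, true, true, true, true, false, true, true],
  [true, true, true, true, false, true, false, true, true, false, true, true, true, false, true, true, false, true, true, false, true, false, true, false, true],
  [true, true, false, true, true, true, true, false, true, true, true, false, true, true, false, true, true, true, true],
  [true, true, true, false, true, true, true, false, true, false, true, true, false],
  [true, false, true, false, true, true, false, true, true, true, false, true, true, false, true, false, true, false, true, true, true, false, true, true],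
  [false, true, true, false, true, false, true, false, true, true, true, true, false, true, true, false, true, true, true, false],
  [true, true, true, false, true, false, true, true, true, false, true, false, true, true, true, true, false, true, true, false, true, true],
  [false, true, true, true, false, true, true, false, true, true, true, false, true, true, false, true, false, true, false, true, true, false],
  [true, false, true, false, true, true, true, true, false, true, true, true, false, true, true, true, true],
  [true, true, false, true, true, false, true, true, true, true, false, true, true, false, true, false, true, true, true, false, true, false, true],
  [false, true, false, true, true, false, true, false, true, false, true, false, true, false, true, true, false, true, false, true, true, false, true],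
  [false, true, false, true, false, true, true, true, false, true, false, true, false, true, true, false],
  [true, false, true, true, false, true, false, true, false, true, false, true, true, false, true, true, false, true, false, true, true, true],
  [true, true, true, false, true, true, false, true, true, false, true, false, true, true, false, true, true, false, true, false, true, false],
  [true, true, false, true, true, false, true, true, true, false, true, false, true, true, true, true, false, true, false, true, false, true],
  [false, true, true, true, false, true, false, true, false, true, false, true, false, true, true, false, true],
  [true, false, true, false, true, true, false, true, true, false, true, false, true, true, false, true, true, false, true, true, false, true, false],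
  [true, true, true, false, true, false, true, true, false, true, false, true, true, true, false, true, true, true, false, true, false, true],
  [true, false, true, true, true, false, true, false, true, true, false, true, false, true, false, true, false, true, false, true, true, false, true, true],
  [true, true, false, true, false, true, false, true, true, true, false, true, true, true, false],
  [false, true, true, true, true, false, true, true, false, true, false, true, false, true, false, true, true, false],
  [false, true, true, false, true, false, true, true, false, true, false, true, false, true, true, true, true],
  [false, true, false, true, true, true, true, false, true, false, true, true, true, false, true, false, true, true],
  [true, false, true, true, false, true, false, true, false, true, true, true, false, true, false, true, false, true, false, true, false],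
  [false, true, true, true, false, true, true, true, true, false, true, true, false, true, true],
  [true, false, true, true, false, true, false, true, false, true, false, true, true, true, true, false, true, true, true, true],
  [true, true, false, true, false, true, false, true, true, false, true, false, true, false, true, true, true, false, true, false, true],
  [false, true, true, true, true, false, true, true, false, true, true, false, true, false, true, true, false, true, false, true],
  [false, true, false, true, false, true, false, true, true, false, true, true, true, false, true, true, false, true, true, false, true, true, true],
  [true, false, true, false, true, true, false, true, false, true, false, true, false, true, false, true, true, false, true, true, true],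
  [true, false, true, false, true, true, false, true, false, true, true, false, true, true, false, true, true, true, true, false, true],
  [false, true, false, true, true, true, false, true, true, true, false, true, false, true, false, true, true, true, true, false, true, false, true],
  [true, true, false, true, false, true, true, false, true, false, true, false, true, true, false, true, false, true, true, true, false, true, true, true],
  [true, true, true, false, true, true, true, false, true, false, true, true, false, true, true, false, true, true, true],
  [true, false, true, false, true, true, true, true, false, true, false, true, true, false, true, true, true, true],
  [false, true, false, true, false, true, true, false, true, true, true, false, true, false],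
  [false, true, true, true, false, true, false, true, true, true, false, true, true, false, true, false, true, true, true, false, true, true, true],
  [true, false, true, true, true, false, true, true, false, true, true, true, true],
  [true, true, false, true, false, true, true, false, true, true, false, true, true, true, false, true, false, true, true, true, false, true, false, true, true],
  [true, true, false, true, true, true, false, true, false, true, false, true, true, true, false, true, true, true, false, true, true],
  [false, true, true, true, false, true, true, false, true, false, true, true, true, true, false, true, true, true, false, true, true, false],
  [false, true, false, true, true, true, false, true, true, true, false, true, false, true, true, false, true, true, true, false],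
  [true, true, true, false, true, true, true, false, true, true, false, true, false, true, false, true, false, true, true, false, true],
  [true, true, false, true, true, false, true, false, true, false, true, true, true, false, true, true, true, false, true],
  [true, true, false, true, true, true, true, false, true, false, true, true, false, true, false, true, false, true, false, true, false],
  [false, true, false, true, false, true, true, true, false, true, true, true, false, true, true],
  [false, true, true, false, true, true, false, true, false, true, false, true, false, true, true, false, true, false, true],
  [true, false, true, true, false, true, false, true, true, false, true, true, false, true, false, true, true, true],
  [true, true, false, true, true, true, false, true, true, false, true, false, true, true, false, true, false, true, false, true, true, true, true],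
  [true, true, false, true, false, true, false, true, true, false, true, false, true, true, true, false, true, true, true, false, true, false, true],
  [false, true, false, true, false, true, false, true, true, false, true, true, false, true, true, false, true, true],
  [true, false, true, false, true, true, true, true, false, true, true, true, false, true, false, true, true, true],
  [false, true, false, true, true, true, true, false, true, true, false, true, true, false, true, false, true, true],
  [true, false, true, true, false, true, true, false, true, true, true, false, true, true, true, false, true, true, true, true],
  [true, true, false, true, true, true, true, false, true, true, false, true, false, true, true, true, true, false, true, true, true, true],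
  [false, true, true, false, true, false, true, true, true, true, false, true, true, true, false, true, true, false, true],
  [true, true, true, false, true, false, true, true, true, false, true, true, true, false],
  [true, true, true, false, true, false, true, true, false, true, false, true, true, false, true, true, true, false, true, false, true],
  [true, true, true, false, true, true, false, true, true, true, true, false, true, true, true, false, true, false],
  [false, true, true, true, true, false, true, true, false, true, false, true, true, true, false, true, true],
  [false, true, false, true, true, false, true, true, false, true, true, false, true, false, true, false],
  [false, true, true, true, false, true, false, true, true, false, true, true, false, true, true, false, true, true, true, false, true, true, false],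
  [false, true, true, true, true, false, true, true, true, false, true, false, true, true, false, true, false, true, true, true, true, false, true],
  [true, true, false, true, false, true, true, false, true, true, false, true, false, true, true, false, true, true, false, true, false, true, false],
  [true, false, true, true, true, false, true, true, false, true, false, true, false, true, true, true, false, true, false, true, true, false],
  [true, true, true, false, true, true, false, true, false, true, true, true, false, true, true, true, false, true, true, false, true, true],
  [false, true, false, true, true, true, true, false, true, false, true, false, true, true, true, false, true, false, true, true, true, true, false],
  [true, true, true, true, false, true, true, true, true, false, true, false, true, false, true, true, true, false],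
  [true, true, true, false, true, false, true, true, true, false, true, true, true, false, true, true, false, true, true, true],
  [false, true, false, true, false, true, false, true, false, true, true, false, true, true, true, true, false, true, true, false, true],
  [false, true, true, false, true, true, true, true, false, true, false, true, false, true, true, true, false, true, false, true],
  [false, true, true, false, true, true, false, true, true, false, true, false, true, true, false, true, true, false, true, true, true],
  [true, true, true, true, false, true, true, false, true, true, false, true, true, false, true, true, true, true, false, true, false, true, false],
  [true, true, false, true, true, false, true, true, true, true, false, true, false, true, false, true, true, true, false],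
  [false, true, false, true, false, true, false, true, true, false, true, true, true, false, true, true, false],
  [false, true, false, true, true, false, true, true, true, true, false, true, true, false, true, true, false, true, true, false],
  [true, false, true, false, true, false, true, true, true, false, true, false, true, true, false, true, false, true, true, true],
  [true, true, false, true, false, true, false, true, true, false, true, false, true, true, false, true, true, true, false, true, false, true],
  [true, false, true, false, true, true, false, true, true, false, true, true, true, false, true, false, true, true, true, true, false, true],
  [true, false, true, false, true, true, true, true, false, true, false, true, true, false, true, false, true, true, true],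
  [true, true, false, true, false, true, true, false, true, true, true, true, false, true, true, true, false, true, false],
  [true, true, true, false, true, true, false, true, true, true, false, true, true, false, true, true, false, true, true, false, true, true],
  [true, false, true, true, false, true, false, true, true, false, true, true, false, true, true, true, true],
  [false, true, true, true, false, true, false, true, true, false, true, true, false, true, false, true, false, true, false, true, false, true],
  [true, true, false, true, true, true, false, true, false, true, true, true, true, false, true, true, false, true, true, false, true, false, true, true],
  [false, true, true, true, false, true, true, false, true, false, true, true, false, true, true, false, true, true, true, false, true, true],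
  [true, false, true, true, false, true, false, true, true, true, true, false, true, true, true, true],
  [true, false, true, true, false, true, false, true, true, true, true, false, true, false, true, true, true],
  [true, true, true, false, true, false, true, true, false, true, false, true, false, true, true, true, false, true, false, true],
  [false, true, true, false, true, true, false, true, true, false, true, true, false, true, true, true, false, true, true, false, true, false, true],
  [true, true, true, true, false, true, true, false, true, false, true, true, false, true, false, true, false, true, true, true, true, false],
  [true, false, true, true, true, false, true, false, true, true, false, true, false, true, false, true, false, true, true, false, true, true, false],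
  [true, true, true, false, true, false, true, true, true, false, true, true, false, true, true, false, true, false, true, false, true, false, true, true, false],
  [false, true, false, true, true, false, true, true, false, true, true, false, true, false, true, false, true, true, false, true, true, true],
  [true, false, true, true, true, false, true, true, false, true, false, true, true, true],
  [true, true, true, true, false, true, false, true, false, true, true, true, false, true, true, true, false, true]]

set_option maxRecDepth 100000 in
lemma cfix1 : ∀ w ∈ cW1, ∀ b ∈ ([0] : List (Fin 252)), evf tf w b = b := by decide +kernel

set_option maxRecDepth 100000 in
lemma cnd1 : (cW1.map (fun w => evf tf w (1 : Fin 252))).Nodup := by decide +kernel

lemma clen1 : cW1.length = 125 := by decide +kernel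

def cW2 : List (List Bool) := [[],
  [true, true, false, true, false, true, true, false, true, false, true, false, true, true, true, true, false, true, false, true, true, true, false, true, false, true],
  [true, false, true, false, true, true, true, false, true, false, true, true, true, true, false, true, false, true, false, true, true, false, true, false, true, true, true],
  [false, true, true, true, false, true, false, true, false, true, false, true, true, false, true, true, true, true, false, true, true, false, true, false, true, true, true, false]]

set_option maxRecDepth 100000 in
lemma cfix2 : ∀ w ∈ cW2, ∀ b ∈ ([0, 1] : List (Fin 252)), evf tf w b = b := by decide +kernel

set_option maxRecDepth 100000 in
lemma cnd2 : (cW2.map (fun w => evf tf w (2 : Fin 252))).Nodup := by decide +kernel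

lemma clen2 : cW2.length = 4 := by decide +kernel

set_option maxRecDepth 100000 in
lemma trans0 : ∀ i : Fin 252, ∃ w ∈ cW0, evf tf w 0 = i := by decide +kernel

theorem card_RV_ge : 126000 ≤ Nat.card RV := by
  have h0 := chain_step tg tf tg_apply [] 0 cW0 cfix0 cnd0
  rw [clen0] at h0
  have h1 := chain_step tg tf tg_apply [0] 1 cW1 cfix1 cnd1
  rw [clen1] at h1
  have h2 := chain_step tg tf tg_apply [0, 1] 2 cW2 cfix2 cnd2
  rw [clen2] at h2
  have hlast := one_le_card_fixList (Subgroup.closure ({tg true, tg false} : Set (Equiv.Perm (Fin 252)))) [0, 1, 2]
  change 126000 ≤ Nat.card (Subgroup.closure ({tg true, tg false} : Set (Equiv.Perm (Fin 252))))
  rw [fixList_nil] at h0
  simp only [List.nil_append, List.cons_append] at h0 h1 h2
  omega

end Cfsg.Agent.Helper15.HSU3
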