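import Mathlib
import Cfsg.Agent.Lib.Helper15.HSU3a

set_option autoImplicit false

/-!
# A vector stabiliser in the Higman–Sims group is `PSU₃(5)`: data on the unitary side (helper15)

`SU₃(5)` permutes the 252 classes of isotropic vectors modulo the non-zero squares.
Data produced by an external search; everything is re-checked by the kernel.
-/

namespace Cfsg.Agent.Helper15.HSU3

open Matrix SylGen

/-- the model of the field with 25 elements: `𝔽₅[s]`, `s² = 2`. -/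
abbrev R25 := QuadraticAlgebra (ZMod 5) 2 0

/-- a base-25 digit of a code as an element of `R25`: a digit `d` stands for `d % 5 + (d / 5) s`. -/
def d25 (c k : ℕ) : R25 := ⟨((c / 25 ^ k % 25 % 5 : ℕ) : ZMod 5), ((c / 25 ^ k % 25 / 5 : ℕ) : ZMod 5)⟩

def mat253 (c : ℕ) : Matrix (Fin 3) (Fin 3) R25 := fun i j => d25 c (3 * i.val + j.val)

def vec253 (c : ℕ) : Fin 3 → R25 := fun i => d25 c i.val

/-- codes of the 252 isotropic vectors. -/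
def PVC : List ℕ := [1275, 1900, 1251, 6426, 9551, 76, 7105, 51, 6976, 12105, 11976, 1876, 5905, 6105, 8455, 12580, 12480, 151, 4230, 4626, 3751, 9951, 14751, 14926, 15001, 7805, 8830, 5251, 13405, 11901, 14626, 7405, 4576, 11955, 7955, 14001, 6030, 1755, 14576, 1605, 4105, 3205, 3775, 226, 2776, 15480, 2155, 2380, 2976, 12030, 6955, 4751, 6501, 15025, 13605, 10055, 1530, 12405, 1655, 7030, 15355, 2901, 901, 6901, 6826, 1101, 2230, 11705, 7480, 10955, 8805, 10080, 11555, 4926, 9626, 13530, 1026, 2280, 5176, 7976, 12555, 3730, 8251, 4155, 3880, 2530, 13126, 9201, 9355, 601, 4030, 7776, 13105, 13150, 14326, 7176, 11601, 15505, 6930, 2355, 8555, 12176, 1055, 205, 10101, 6451, 15280, 10655, 10230, 5576, 955, 6801, 8905, 5626, 13926, 10530, 2005, 15130, 655, 3451, 8155, 5201, 751, 5650, 3151, 11651, 10155, 1380, 13875, 3180,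 11055, 14126, 1730, 9751, 8776, 12526, 11726, 8430, 13755, 7901, 2830, 9926, 11080, 11526, 5376, 9176, 2930, 4255, 526, 9576, 13480, 13951, 12826, 10751, 8851, 10605, 5980, 8580, 5125, 2851, 8980, 10426, 580, 7851, 15405, 5005, 6626, 10026, 10451, 11930, 976, 2626, 9280, 10930, 12951, 3280, 12326, 730, 7830, 14551, 11751, 7626, 5551, 10976, 14951, 12801, 3655, 2955, 5755, 3355, 12655, 9051, 11026, 3576, 8601, 3551, 11376, 12201, 14500, 2605, 7530, 11126, 8526, 13030, 12601, 12926, 9076, 12730, 555, 4500, 1126, 10301, 3426, 11680, 3226, 7326, 8230, 4951, 8626, 7930, 11101, 11355, 13255, 12301, 10730, 8001, 4551, 14380, 11580, 11280, 1080, 4380, 7605, 10326, 180, 8476, 3001, 14301, 7201, 7301, 9380, 13630, 8401, 6130, 255, 10901, 380, 930, 2805, 6255, 9500, 6375]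

def PV (i : Fin 252) : Fin 3 → R25 := vec253 (PVC.getD i.val 0)

def nu1L : List ℕ := [13, 14, 8, 14, 6, 6, 1, 6, 10, 12, 7, 2, 11, 9, 7, 8, 5, 13, 11, 8, 1, 1, 2, 13, 14, 13, 13, 2, 14, 13, 9, 2, 9, 10, 14, 1, 2, 14, 2, 6, 12, 13, 5, 5, 10, 12, 6, 14, 11, 11, 9, 13, 12, 5, 12, 10, 1, 13, 7, 6, 14, 1, 14, 5, 6, 2, 8, 1, 12, 8, 8, 14, 9, 10, 7, 2, 12, 7, 12, 11, 1, 6, 14, 8, 9, 11, 10, 11, 12, 9, 2, 2, 8, 7, 5, 12, 7, 11, 13, 13, 14, 5, 7, 11, 8, 10, 9, 5, 12, 14, 2, 6, 8, 2, 1, 10, 8, 7, 2, 6, 13, 8, 7, 14, 11, 5, 2, 9, 14, 7, 8, 8, 7, 5, 7, 9, 10, 5, 2, 8, 6, 2, 6, 7, 5, 9, 10, 8, 11, 6, 5, 12, 13, 8, 13, 7, 12, 5, 12, 9, 2, 5, 9, 12, 11, 10, 11, 9, 9, 14, 14, 10, 11, 12, 6, 14, 5, 12, 10, 11, 12, 9, 9, 7, 10, 8, 2, 7, 5, 14, 5, 12, 14, 7, 13, 10, 2, 7, 5, 12, 11, 11, 11, 9, 14, 6, 12, 10, 5, 2, 13, 7, 6, 2, 12, 5,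 1, 14, 2, 9, 5, 9, 13, 14, 10, 8, 13, 6, 11, 10, 5, 5, 13, 13, 11, 1, 8, 7, 11, 11, 10, 12, 12, 1, 6, 10, 7, 6, 6, 13, 14, 13]

def nu2L : List ℕ := [14, 1, 5, 9, 1, 14, 5, 7, 7, 2, 6, 5, 11, 5, 5, 9, 5, 13, 11, 1, 7, 7, 12, 9, 14, 9, 6, 13, 13, 9, 8, 6, 11, 6, 11, 11, 2, 11, 2, 13, 9, 11, 10, 5, 14, 11, 14, 8, 13, 14, 7, 8, 11, 2, 10, 13, 13, 13, 6, 2, 6, 13, 7, 11, 8, 7, 2, 7, 12, 7, 2, 5, 10, 6, 6, 12, 1, 5, 8, 11, 10, 10, 11, 2, 13, 2, 6, 6, 7, 14, 10, 9, 13, 2, 8, 14, 9, 10, 2, 11, 8, 5, 8, 5, 5, 12, 9, 7, 9, 14, 10, 8, 7, 13, 10, 7, 9, 5, 9, 7, 10, 8, 11, 8, 7, 11, 9, 7, 13, 11, 13, 10, 12, 9, 5, 9, 7, 1, 13, 7, 8, 2, 6, 9, 6, 9, 12, 2, 5, 8, 5, 9, 13, 2, 2, 8, 14, 8, 10, 8, 8, 10, 14, 6, 7, 6, 2, 13, 2, 9, 10, 10, 11, 8, 1, 5, 7, 6, 6, 10, 5, 5, 7, 7, 6, 2, 12, 13, 9, 12, 11, 6, 5, 6, 8, 13, 13, 10, 2, 11, 8,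 6, 14, 13, 9, 14, 13, 14, 2, 10, 13, 11, 8, 2, 11, 5, 9, 13, 6, 11, 6, 8, 8, 8, 11, 14, 11, 14, 9, 14, 7, 12, 1, 11, 13, 5, 9, 1, 1, 13, 2, 7, 2, 7, 12, 1, 14, 5, 8, 5, 5, 6]

def nui1L : List ℕ := [12, 8, 14, 8, 9, 9, 1, 9, 5, 13, 11, 2, 7, 6, 11, 14, 10, 12, 7, 14, 1, 1, 2, 12, 8, 12, 12, 2, 8, 12, 6, 2, 6, 5, 8, 1, 2, 8, 2, 9, 13, 12, 10, 10, 5, 13, 9, 8, 7, 7, 6, 12, 13, 10, 13, 5, 1, 12, 11, 9, 8, 1, 8, 10, 9, 2, 14, 1, 13, 14, 14, 8, 6, 5, 11, 2, 13, 11, 13, 7, 1, 9, 8, 14, 6, 7, 5, 7, 13, 6, 2, 2, 14, 11, 10, 13, 11, 7, 12, 12, 8, 10, 11, 7, 14, 5, 6, 10, 13, 8, 2, 9, 14, 2, 1, 5, 14, 11, 2, 9, 12, 14, 11, 8, 7, 10, 2, 6, 8, 11, 14, 14, 11, 10, 11, 6, 5, 10, 2, 14, 9, 2, 9, 11, 10, 6, 5, 14, 7, 9, 10, 13, 12, 14, 12, 11, 13, 10, 13, 6, 2, 10, 6, 13, 7, 5, 7, 6, 6, 8, 8, 5, 7, 13, 9, 8, 10, 13, 5, 7, 13, 6, 6,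 11, 5, 14, 2, 11, 10, 8, 10, 13, 8, 11, 12, 5, 2, 11, 10, 13, 7, 7, 7, 6, 8, 9, 13, 5, 10, 2, 12, 11, 9, 2, 13, 10, 1, 8, 2, 6, 10, 6, 12, 8, 5, 14, 12, 9, 7, 5, 10, 10, 12, 12, 7, 1, 14, 11, 7, 7, 5, 13, 13, 1, 9, 5, 11, 9, 9, 12, 8, 12]

def nui2L : List ℕ := [8, 1, 10, 6, 1, 8, 10, 11, 11, 2, 9, 10, 7, 10, 10, 6, 10, 12, 7, 1, 11, 11, 13, 6, 8, 6, 9, 12, 12, 6, 14, 9, 7, 9, 7, 7, 2, 7, 2, 12, 6, 7, 5, 10, 8, 7, 8, 14, 12, 8, 11, 14, 7, 2, 5, 12, 12, 12, 9, 2, 9, 12, 11, 7, 14, 11, 2, 11, 13, 11, 2, 10, 5, 9, 9, 13, 1, 10, 14, 7, 5, 5, 7, 2, 12, 2, 9, 9, 11, 8, 5, 6, 12, 2, 14, 8, 6, 5, 2, 7, 14, 10, 14, 10, 10, 13, 6, 11, 6, 8, 5, 14, 11, 12, 5, 11, 6, 10, 6, 11, 5, 14, 7, 14, 11, 7, 6, 11, 12, 7, 12, 5, 13, 6, 10, 6, 11, 1, 12, 11, 14, 2, 9, 6, 9, 6, 13, 2, 10, 14, 10, 6, 12, 2, 2, 14, 8, 14, 5, 14, 14, 5, 8, 9,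 11, 9, 2, 12, 2, 6, 5, 5, 7, 14, 1, 10, 11, 9, 9, 5, 10, 10, 11, 11, 9, 2, 13, 12, 6, 13, 7, 9, 10, 9, 14, 12, 12, 5, 2, 7, 14, 9, 8, 12, 6, 8, 12, 8, 2, 5, 12, 7, 14, 2, 7, 10, 6, 12, 9, 7, 9, 14, 14, 14, 7, 8, 7, 8, 6, 8, 11, 13, 1, 7, 12, 10, 6, 1, 1, 12, 2, 11, 2, 11, 13, 1, 8, 10, 14, 10, 10, 9]

/-- the square roots of the multipliers. -/
def nu (b : Bool) (i : Fin 252) : R25 := d25 ((if b then nu1L else nu2L).getD i.val 0) 0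

def nui (b : Bool) (i : Fin 252) : R25 := d25 ((if b then nui1L else nui2L).getD i.val 0) 0

def yC (b : Bool) : ℕ := if b then 2857028417651 else 1020276055031

def yiC (b : Bool) : ℕ := if b then 2133432751576 else 3214969159071

/-- the two generators of `SU₃(5)`. -/
def yM (b : Bool) : Matrix (Fin 3) (Fin 3) R25 := mat253 (yC b)

/-- their inverses. -/
def yMi (b : Bool) : Matrix (Fin 3) (Fin 3) R25 := mat253 (yiC b)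

set_option maxRecDepth 100000 in
lemma yM_det : ∀ b : Bool, (yM b).det = 1 := by decide +kernel

set_option maxRecDepth 100000 in
lemma yM_unitary : ∀ b : Bool, (yM b)ᵀ * (yM b).map (fun x => x ^ 5) = 1 := by decide +kernel

set_option maxRecDepth 100000 in
lemma yM_inv : ∀ b : Bool, yM b * yMi b = 1 := by decide +kernel

set_option maxRecDepth 100000 in
lemma nu_ne : ∀ (b : Bool) (i : Fin 252), nu b i ≠ 0 ∧ nui b i ≠ 0 := by decide +kernel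

set_option maxRecDepth 100000 in
lemma rel1 : ∀ (b : Bool) (i : Fin 252),
    yM b *ᵥ PV i = (nu b i * nu b i) • PV (tf b i) := by decide +kernel

set_option maxRecDepth 100000 in
lemma rel2 : ∀ (b : Bool) (i : Fin 252),
    yMi b *ᵥ PV (tf b i) = (nui b i * nui b i) • PV i := by decide +kernel

set_option maxRecDepth 100000 in
lemma PV_inj0 : ∀ (j : Fin 252) (a b : ZMod 5),
    PV 0 = ((⟨a, b⟩ : R25) * ⟨a, b⟩) • PV j → j = 0 := by decide +kernel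

lemma R25_pow : ∀ a b : ZMod 5, (⟨a, b⟩ : R25) = 0 ∨ (⟨a, b⟩ : R25) ^ 24 = 1 := by decide +kernel

end Cfsg.Agent.Helper15.HSU3
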