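import Mathlib
import Cfsg.Prelude.Def_Classical
import Cfsg.Agent.Lib.Helper11.Unitary
import Cfsg.Agent.Lib.Helper11.Unitary2
import Cfsg.Agent.Lib.Helper11.Unitary3
import Cfsg.Agent.Lib.Helper15.SylGen4

set_option autoImplicit false

/-!
# Generic tools for identifying `PSU_n(q)` with a permutation group (helper15)

Matrices of `SU_n(K, q)`, elements from model matrices over a model ring, sets of vectors under
matrices (column spaces, square-multiples of a vector), and injectivity of an equivariant family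
from transitivity.
-/

namespace Cfsg.Agent.Helper15.UBridge

open Matrix SylGen

/-- injectivity of an equivariant family from transitivity and one base point. -/
theorem inj_of_trans {M X : Type*} (act : M → X → X) {m : ℕ} (Ω : Fin m → X) (A : Bool → M)
    (s si : Bool → Fin m → Fin m) (hs : ∀ b x, s b (si b x) = x)
    (hrel : ∀ b i, act (A b) (Ω i) = Ω (s b i))
    (hinj : ∀ b, Function.Injective (act (A b)))
    (x0 : Fin m) (W : List (List Bool)) (hW : ∀ i : Fin m, ∃ w ∈ W, evf s w x0 = i)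
    (h0 : ∀ j, Ω x0 = Ω j → j = x0) : Function.Injective Ω := by
  have key : ∀ (w : List Bool) (j : Fin m), Ω (evf s w x0) = Ω j → evf s w x0 = j := by
    intro w
    induction w with
    | nil => intro j h; exact (h0 j h).symm
    | cons b w ih =>
      intro j h
      change Ω (s b (evf s w x0)) = Ω j at h
      change s b (evf s w x0) = j
      rw [← hs b j, ← hrel, ← hrel] at h
      rw [ih (si b j) (hinj b h), hs]
  intro i j h
  obtain ⟨w, -, rfl⟩ := hW i
  exact key w j h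

variable {K : Type*} [Field K] {n : ℕ}

section sets

/-- the image of a set of vectors under a matrix. -/
def actS (A : Matrix (Fin n) (Fin n) K) (S : Set (Fin n → K)) : Set (Fin n → K) :=
  (fun v => A *ᵥ v) '' S

lemma actS_one (S : Set (Fin n → K)) : actS 1 S = S := by
  unfold actS
  simp

lemma actS_mul (A B : Matrix (Fin n) (Fin n) K) (S : Set (Fin n → K)) :
    actS (A * B) S = actS A (actS B S) := by
  unfold actS
  rw [Set.image_image]
  simp only [Matrix.mulVec_mulVec]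

lemma actS_injective (A Ai : Matrix (Fin n) (Fin n) K) (hA : Ai * A = 1) :
    Function.Injective (actS A) := by
  apply Set.image_injective.mpr
  intro v w h
  have := congrArg (fun x => Ai *ᵥ x) h
  simpa only [Matrix.mulVec_mulVec, hA, Matrix.one_mulVec] using this

/-- the column space of an `n × k` matrix. -/
def colSp {k : ℕ} (B : Matrix (Fin n) (Fin k) K) : Set (Fin n → K) :=
  Set.range (fun c : Fin k → K => B *ᵥ c)

lemma actS_colSp {k : ℕ} (A Ai : Matrix (Fin n) (Fin n) K) (B B' : Matrix (Fin n) (Fin k) K)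
    (C D : Matrix (Fin k) (Fin k) K) (hA : A * Ai = 1) (h1 : A * B = B' * C)
    (h2 : Ai * B' = B * D) : actS A (colSp B) = colSp B' := by
  unfold actS colSp
  ext w
  constructor
  · rintro ⟨v, ⟨c, rfl⟩, rfl⟩
    refine ⟨C *ᵥ c, ?_⟩
    simp only [Matrix.mulVec_mulVec, h1]
  · rintro ⟨c, rfl⟩
    refine ⟨B *ᵥ (D *ᵥ c), ⟨D *ᵥ c, rfl⟩, ?_⟩
    simp only [Matrix.mulVec_mulVec]
    rw [← h2, ← Matrix.mul_assoc, hA, Matrix.one_mul]

lemma actS_smul_colSp {k : ℕ} (c : K) (hc : c ≠ 0) (B : Matrix (Fin n) (Fin k) K) :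
    actS (c • (1 : Matrix (Fin n) (Fin n) K)) (colSp B) = colSp B := by
  apply actS_colSp (c • (1 : Matrix (Fin n) (Fin n) K)) (c⁻¹ • (1 : Matrix (Fin n) (Fin n) K)) B B
    (c • (1 : Matrix (Fin k) (Fin k) K)) (c⁻¹ • (1 : Matrix (Fin k) (Fin k) K))
  · rw [smul_mul_smul_comm, mul_inv_cancel₀ hc, one_smul, Matrix.one_mul]
  · rw [Matrix.smul_mul, Matrix.one_mul, Matrix.mul_smul, Matrix.mul_one]
  · rw [Matrix.smul_mul, Matrix.one_mul, Matrix.mul_smul, Matrix.mul_one]

lemma colSp_eq {k : ℕ} {B B' : Matrix (Fin n) (Fin k) K} (L' : Matrix (Fin k) (Fin n) K)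
    (hL : L' * B' = 1) (h : colSp B = colSp B') : B' * (L' * B) = B := by
  ext i j
  have hmem : B *ᵥ (Pi.single j 1) ∈ colSp B' := by
    rw [← h]; exact ⟨_, rfl⟩
  obtain ⟨c, hc⟩ := hmem
  change B' *ᵥ c = B *ᵥ Pi.single j 1 at hc
  have h1 : c = L' *ᵥ (B *ᵥ Pi.single j 1) := by
    rw [← hc, Matrix.mulVec_mulVec, hL, Matrix.one_mulVec]
  have h2 : (B' * (L' * B)) *ᵥ Pi.single j 1 = B *ᵥ Pi.single j 1 := by
    rw [← Matrix.mulVec_mulVec, ← Matrix.mulVec_mulVec, ← h1]
    exact hc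
  have h3 := congrFun h2 i
  simpa only [Matrix.mulVec_single_one, Matrix.col_apply] using h3

/-- the multiples of a vector by the non-zero squares. -/
def sqSp (p : Fin n → K) : Set (Fin n → K) := {u | ∃ ν : K, ν ≠ 0 ∧ u = (ν * ν) • p}

lemma self_mem_sqSp (p : Fin n → K) : p ∈ sqSp p := ⟨1, one_ne_zero, by rw [mul_one, one_smul]⟩

lemma actS_sqSp (A Ai : Matrix (Fin n) (Fin n) K) (p p' : Fin n → K) (ν ν' : K) (hν : ν ≠ 0)
    (hν' : ν' ≠ 0) (hA : A * Ai = 1) (h1 : A *ᵥ p = (ν * ν) • p')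
    (h2 : Ai *ᵥ p' = (ν' * ν') • p) : actS A (sqSp p) = sqSp p' := by
  unfold actS sqSp
  ext w
  constructor
  · rintro ⟨v, ⟨μ, hμ, rfl⟩, rfl⟩
    refine ⟨μ * ν, mul_ne_zero hμ hν, ?_⟩
    simp only [Matrix.mulVec_smul, h1, smul_smul]
    congr 1
    ring
  · rintro ⟨μ, hμ, rfl⟩
    refine ⟨(μ * ν' * (μ * ν')) • p, ⟨μ * ν', mul_ne_zero hμ hν', rfl⟩, ?_⟩
    have h3 : A *ᵥ (Ai *ᵥ p') = p' := by
      rw [Matrix.mulVec_mulVec, hA, Matrix.one_mulVec]
    have h4 : (μ * ν' * (μ * ν')) • p = (μ * μ) • (Ai *ᵥ p') := by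
      rw [h2, smul_smul]
      congr 1
      ring
    simp only [h4, Matrix.mulVec_smul, h3]

lemma actS_smul_sqSp (c : K) (hc : c ≠ 0) (p : Fin n → K) :
    actS ((c * c) • (1 : Matrix (Fin n) (Fin n) K)) (sqSp p) = sqSp p := by
  apply actS_sqSp _ ((c⁻¹ * c⁻¹) • (1 : Matrix (Fin n) (Fin n) K)) p p c c⁻¹ hc (inv_ne_zero hc)
  · rw [smul_mul_smul_comm, Matrix.one_mul]
    have : c * c * (c⁻¹ * c⁻¹) = 1 := by field_simp
    rw [this, one_smul]
  · rw [Matrix.smul_mulVec, Matrix.one_mulVec]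
  · rw [Matrix.smul_mulVec, Matrix.one_mulVec]

end sets

section su

variable {q : ℕ}

/-- the matrix of an element of `SU_n`. -/
def toM : Cfsg.SU n K q →* Matrix (Fin n) (Fin n) K where
  toFun g := (g.1 : Matrix (Fin n) (Fin n) K)
  map_one' := rfl
  map_mul' _ _ := rfl

lemma toM_injective : Function.Injective (toM (K := K) (n := n) (q := q)) := by
  intro a b h
  exact Subtype.ext (Subtype.ext h)

lemma toM_det (s : Cfsg.SU n K q) : (toM s).det = 1 := s.1.2

variable {R : Type*} [CommRing R]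

lemma map_unitary (ρ : R →+* K) (M : Matrix (Fin n) (Fin n) R)
    (h : M.transpose * M.map (fun x => x ^ q) = 1)
    (φ : K →+* K) (hφ : ∀ x, φ x = x ^ q) :
    Cfsg.Agent.Helper11.Herm.IsU φ (M.map ρ) := by
  unfold Cfsg.Agent.Helper11.Herm.IsU
  have h2 := congrArg (fun X : Matrix (Fin n) (Fin n) R => X.map ρ) h
  simp only [Matrix.map_mul] at h2
  rw [Matrix.map_one ρ (map_zero ρ) (map_one ρ)] at h2
  rw [← h2]
  congr 1
  ext a b
  simp [hφ]

variable [Fintype K]

/-- an element of `SU_n(K, q)` from a unitary model matrix of determinant one. -/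
noncomputable def mkS (hK : Fintype.card K = q ^ 2) (ρ : R →+* K) (M : Matrix (Fin n) (Fin n) R)
    (hd : M.det = 1) (hu : M.transpose * M.map (fun x => x ^ q) = 1) : Cfsg.SU n K q :=
  Cfsg.Agent.Helper11.Herm.mkSU (q := q) hK n (M.map ρ)
    (by
      have := RingHom.map_det ρ M
      rw [hd, map_one] at this
      exact this.symm)
    (fun φ hφ => map_unitary ρ M hu φ hφ)

lemma toM_mkS (hK : Fintype.card K = q ^ 2) (ρ : R →+* K) (M : Matrix (Fin n) (Fin n) R)
    (hd : M.det = 1) (hu : M.transpose * M.map (fun x => x ^ q) = 1) :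
    toM (mkS hK ρ M hd hu) = M.map ρ := rfl

end su

end Cfsg.Agent.Helper15.UBridge
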