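import Mathlib
import Cfsg.Prelude.Def_Classical
import Cfsg.Agent.Lib.Helper15.UBridge
import Cfsg.Agent.Lib.Helper15.HSU3b

set_option autoImplicit false

/-!
# A vector stabiliser in the Higman–Sims group is `PSU₃(5)`: `PSU₃(5)` as a permutation group
of degree 252 (helper15)
-/

namespace Cfsg.Agent.Helper15.HSU3

open Matrix SylGen UBridge

lemma card_R25 : Nat.card R25 = 25 := by
  rw [Nat.card_congr (QuadraticAlgebra.equivProd (2 : ZMod 5) 0), Nat.card_prod,
    Nat.card_eq_fintype_card, ZMod.card]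

variable {K : Type*} [Field K] [Fintype K]

/-- a ring hom from the model `𝔽₅[s]` onto any field with 25 elements. -/
lemma exists_ringHom25 (hK : Fintype.card K = 25) : ∃ ρ : R25 →+* K, Function.Bijective ρ := by
  have : Fact (Nat.Prime 5) := ⟨Nat.prime_five⟩
  have hchar : CharP K 5 := charP_of_card_eq_prime_pow (f := 2) (by rw [hK]; norm_num)
  let _ : Algebra (ZMod 5) K := ZMod.algebra K 5
  have h5 : ((5 : ℕ) : K) = 0 := CharP.cast_eq_zero K 5
  have h2 : (2 : K) ≠ 0 := by
    intro h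
    have h3 : ((2 : ℕ) : K) = 0 := by exact_mod_cast h
    rw [CharP.cast_eq_zero_iff K 5] at h3
    norm_num at h3
  have hrc : ringChar K ≠ 2 := by
    rw [ringChar.eq K 5]; norm_num
  obtain ⟨i, hi⟩ : IsSquare (2 : K) := by
    rw [FiniteField.isSquare_iff hrc h2, hK]
    have h4 : (2 : K) ^ (25 / 2) = ((5 : ℕ) : K) * 819 + 1 := by norm_num
    rw [h4, h5, zero_mul, zero_add]
  have h : i * i = (2 : ZMod 5) • (1 : K) + (0 : ZMod 5) • i := by
    rw [← hi, zero_smul, add_zero, Algebra.smul_def, mul_one]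
    exact (map_ofNat (algebraMap (ZMod 5) K) 2).symm
  refine ⟨(QuadraticAlgebra.lift ⟨i, h⟩ : R25 →ₐ[ZMod 5] K).toRingHom, ?_⟩
  set ρ : R25 →+* K := (QuadraticAlgebra.lift ⟨i, h⟩ : R25 →ₐ[ZMod 5] K).toRingHom with hρ
  have hinj : Function.Injective ρ := by
    rw [injective_iff_map_eq_zero]
    intro z hz
    rcases R25_pow z.re z.im with h0 | h1
    · exact h0
    · exfalso
      have h2 := congrArg ρ h1
      rw [map_pow, map_one] at h2
      change ρ z = 0 at hz
      rw [hz] at h2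
      simp at h2
  have : Finite R25 := Nat.finite_of_card_ne_zero (by rw [card_R25]; norm_num)
  apply hinj.bijective_of_nat_card_le
  rw [card_R25, Nat.card_eq_fintype_card, hK]

section

variable (hK : Fintype.card K = 25)

omit [Field K] in
include hK in
lemma hK' : Fintype.card K = 5 ^ 2 := by rw [hK]; norm_num

include hK in
lemma card_SU : Nat.card (Cfsg.SU 3 K 5) = 378000 := by
  have h1 := Cfsg.Agent.Helper11.Herm.card_GU_eq_SU (hK' hK) 3 (by norm_num)
  have h2 : Cfsg.Agent.Helper11.Herm.guOrder 5 3 = 2268000 := by decide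
  rw [Cfsg.Agent.Helper11.Herm.card_GU (hK' hK), h2] at h1
  omega

include hK in
lemma card_center : Nat.card (Subgroup.center (Cfsg.SU 3 K 5)) = 3 := by
  have h1 := Cfsg.Agent.Helper11.Herm.card_center_SU (hK' hK) 3 (by norm_num)
  have h2 : Nat.gcd 3 (5 + 1) = 3 := by decide
  rw [h2] at h1
  exact h1

variable (ρ : R25 →+* K)

/-- the `i`-th class of isotropic vectors over `K`. -/
def ptK (i : Fin 252) : Set (Fin 3 → K) := sqSp (ρ ∘ PV i)

/-- the generators in `SU₃(K, 5)`. -/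
noncomputable def yG (b : Bool) : Cfsg.SU 3 K 5 :=
  mkS (hK' hK) ρ (yM b) (yM_det b) (yM_unitary b)

omit [Fintype K] in
lemma yMi_yM (b : Bool) : (yMi b).map ρ * (yM b).map ρ = 1 := by
  rw [← Matrix.map_mul, mul_eq_one_comm.mp (yM_inv b)]
  exact Matrix.map_one ρ (map_zero ρ) (map_one ρ)

omit [Fintype K] in
lemma yM_yMi (b : Bool) : (yM b).map ρ * (yMi b).map ρ = 1 := by
  rw [← Matrix.map_mul, yM_inv b]
  exact Matrix.map_one ρ (map_zero ρ) (map_one ρ)

omit [Fintype K] in
lemma map_mulVec' (M : Matrix (Fin 3) (Fin 3) R25) (v : Fin 3 → R25) :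
    M.map ρ *ᵥ (ρ ∘ v) = ρ ∘ (M *ᵥ v) := by
  funext i
  exact (RingHom.map_mulVec ρ M v i).symm

omit [Fintype K] in
lemma map_smul' (c : R25) (v : Fin 3 → R25) : ρ ∘ (c • v) = ρ c • (ρ ∘ v) := by
  funext i
  simp

omit [Fintype K] in
lemma rel_map (hρ : Function.Injective ρ) (b : Bool) (i : Fin 252) :
    actS ((yM b).map ρ) (ptK ρ i) = ptK ρ (tf b i) := by
  unfold ptK
  have hne := nu_ne b i
  apply actS_sqSp ((yM b).map ρ) ((yMi b).map ρ) _ _ (ρ (nu b i)) (ρ (nui b i))
    (fun h => hne.1 (hρ (by rw [h, map_zero]))) (fun h => hne.2 (hρ (by rw [h, map_zero])))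
    (yM_yMi ρ b)
  · rw [map_mulVec', rel1, map_smul', map_mul]
  · rw [map_mulVec', rel2, map_smul', map_mul]

omit [Fintype K] in
lemma ptK_injective (hρ : Function.Bijective ρ) : Function.Injective (ptK ρ) := by
  apply inj_of_trans actS (ptK ρ) (fun b => (yM b).map ρ) tf tfi tf_tfi (rel_map ρ hρ.1)
    (fun b => actS_injective _ _ (yMi_yM ρ b)) 0 cW0 trans0
  intro j h
  have h1 : ρ ∘ PV 0 ∈ ptK ρ j := by
    rw [← h]; exact self_mem_sqSp _
  obtain ⟨ν, -, hν⟩ := h1
  obtain ⟨ν', rfl⟩ := hρ.2 ν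
  apply PV_inj0 j ν'.re ν'.im
  have h2 : ρ ∘ PV 0 = ρ ∘ ((ν' * ν') • PV j) := by
    rw [map_smul', map_mul]; exact hν
  funext k
  exact hρ.1 (congrFun h2 k)

end

/-- `PSU₃(K, 5)` for any field with 25 elements is the permutation group of degree 252. -/
theorem psu_equiv (hK : Fintype.card K = 25) : Nonempty (Cfsg.PSU 3 K 5 ≃* RV) := by
  obtain ⟨ρ, hρ⟩ := exists_ringHom25 hK
  have hZ : ∀ z ∈ Subgroup.center (Cfsg.SU 3 K 5), ∀ i,
      actS (toM z) (ptK ρ i) = ptK ρ i := by
    intro z hz i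
    have h1 := Cfsg.Agent.Helper11.Herm.center_SU_scalar (hK' hK) 3 0 z hz
    change toM z = (toM z) 0 0 • (1 : Matrix (Fin 3) (Fin 3) K) at h1
    set c := (toM z) 0 0 with hc
    have hd := toM_det z
    rw [h1, Matrix.det_smul, Matrix.det_one, mul_one, Fintype.card_fin] at hd
    have hc0 : c ≠ 0 := by
      intro h0
      rw [h0] at hd
      norm_num at hd
    have h4 : c = (c * c) * (c * c) := by
      calc c = c * 1 := (mul_one c).symm
        _ = c * c ^ 3 := by rw [hd]
        _ = (c * c) * (c * c) := by ring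
    rw [h1, h4]
    exact actS_smul_sqSp (c * c) (mul_ne_zero hc0 hc0) _
  have hc : Nat.card (Cfsg.SU 3 K 5) ≤ Nat.card (Subgroup.center (Cfsg.SU 3 K 5)) *
      Nat.card (Subgroup.closure ({tg true, tg false} : Set (Equiv.Perm (Fin 252)))) := by
    rw [card_SU hK, card_center hK]
    have h : 126000 ≤ Nat.card (Subgroup.closure ({tg true, tg false} :
      Set (Equiv.Perm (Fin 252)))) := card_RV_ge
    omega
  exact (quot_equiv_closure_act (toM (K := K) (n := 3) (q := 5)) actS actS_one actS_mul (ptK ρ)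
    (ptK_injective ρ hρ) (yG hK ρ true) (yG hK ρ false) (tg true) (tg false)
    (fun i => rel_map ρ hρ.1 true i) (fun i => rel_map ρ hρ.1 false i)
    (Subgroup.center (Cfsg.SU 3 K 5)) hZ hc).2

end Cfsg.Agent.Helper15.HSU3
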