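import Mathlib
import Cfsg.Agent.Lib.Helper27.McLSimple
import Cfsg.Agent.Lib.Helper15.McLU4d

set_option autoImplicit false

/-!
# The point stabiliser of the McLaughlin group is `PSU₄(3)`: the lattice side (helper15)

The stabiliser of the model triple is the permutation group of degree 112.
-/

namespace Cfsg.Agent.Helper15.McLU4

open Cfsg Cfsg.Agent.Helper27 SylGen MulAction

/-- orbit-stabiliser inside a subgroup. -/
theorem card_sub_stab {G X : Type*} [Group G] [MulAction G X] (H : Subgroup G) (x : X) :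
    (orbit H x).ncard * Nat.card ↥(H ⊓ stabilizer G x) = Nat.card H := by
  have h1 : stabilizer H x = (stabilizer G x).subgroupOf H := by
    ext g; rfl
  have h2 := Subgroup.index_mul_card (stabilizer H x)
  rw [index_stabilizer, h1, ← Subgroup.inf_subgroupOf_left] at h2
  rw [← h2]
  congr 1
  exact (Nat.card_congr (Subgroup.subgroupOfEquivOfLe
    (inf_le_left : H ⊓ stabilizer G x ≤ H)).toEquiv).symm

/-- the model triple and the 112 points as lattice vectors. -/
def Ut : leechLattice := ⟨u0, mem_of_leechOK u0_ok⟩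

def Vt : leechLattice := ⟨v0, mem_of_leechOK v0_ok⟩

def Xt : leechLattice := ⟨x0, mem_of_leechOK x0_ok⟩

def Pt (k : Fin 112) : leechLattice := ⟨P k, mem_of_leechOK (P_ok k)⟩

lemma Pt_injective : Function.Injective Pt := by
  intro i j h
  exact P_inj i j (congrArg Subtype.val h)

lemma signChange_support₂ (c : GolayPt → ZMod 2) (x : GolayPt → ℤ) :
    signChange (support₂ c) x = fun i => if c i = 0 then x i else - x i := by
  funext i
  unfold signChange
  by_cases h : c i = 0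
  · rw [if_pos h, if_neg]
    rw [mem_support₂]; exact fun h2 => h2 h
  · rw [if_neg h, if_pos]
    rw [mem_support₂]; exact h

/-- the monomial element. -/
def hMono : Co0 := epsG cM cM_mem * permG sgP sgP_mem

/-- the involution `ξ`. -/
def hXi : Co0 := ⟨xiP, xiP_mem⟩

lemma hMono_smul (v : leechLattice) :
    ((hMono • v : leechLattice) : GolayPt → ℤ) = monoF (v : GolayPt → ℤ) := by
  unfold hMono
  rw [mul_smul, epsG_smul, signChange_support₂]
  rfl

lemma hXi_smul (v : leechLattice) :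
    ((hXi • v : leechLattice) : GolayPt → ℤ) = xi (v : GolayPt → ℤ) := rfl

/-- the stabiliser of the model triple. -/
abbrev HT : Subgroup Co0 := stabilizer Co0 Ut ⊓ stabilizer Co0 Vt ⊓ stabilizer Co0 Xt

lemma hMono_mem : hMono ∈ HT := by
  obtain ⟨h1, h2, h3⟩ := mono_triple
  refine Subgroup.mem_inf.mpr ⟨Subgroup.mem_inf.mpr ⟨?_, ?_⟩, ?_⟩ <;>
    rw [mem_stabilizer_iff] <;> apply Subtype.ext <;> rw [hMono_smul]
  · exact h1
  · exact h2
  · exact h3

lemma hXi_mem : hXi ∈ HT := by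
  obtain ⟨h1, h2, h3⟩ := xi_triple
  refine Subgroup.mem_inf.mpr ⟨Subgroup.mem_inf.mpr ⟨?_, ?_⟩, ?_⟩ <;>
    rw [mem_stabilizer_iff] <;> apply Subtype.ext <;> rw [hXi_smul]
  · exact h1
  · exact h2
  · exact h3

lemma hMono_Pt (k : Fin 112) : hMono • Pt k = Pt (tf true k) := by
  apply Subtype.ext
  rw [hMono_smul]
  exact mono_P k

lemma hXi_Pt (k : Fin 112) : hXi • Pt k = Pt (tf false k) := by
  apply Subtype.ext
  rw [hXi_smul]
  exact xi_P k

lemma Ut_norm : sqNorm (Ut : GolayPt → ℤ) = 48 := triple_valid.1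

lemma Vt_norm : sqNorm (Vt : GolayPt → ℤ) = 32 := triple_valid.2.1

lemma UVt_norm : sqNorm ((Ut - Vt : leechLattice) : GolayPt → ℤ) = 32 := triple_valid.2.2.1

lemma Xt_mem : Xt ∈ mclSet Ut Vt :=
  ⟨triple_valid.2.2.2.1, triple_valid.2.2.2.2.1, triple_valid.2.2.2.2.2⟩

lemma dot_VUt : dotInt (Vt : GolayPt → ℤ) ((Ut - Vt : leechLattice) : GolayPt → ℤ) = -8 := by
  change dotInt v0 (u0 - v0) = -8
  decide +kernel

lemma mcl0_eq : stabilizer Co0 Ut ⊓ stabilizer Co0 Vt =
    stabilizer Co0 Vt ⊓ stabilizer Co0 (Ut - Vt) := by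
  ext g
  simp only [Subgroup.mem_inf, mem_stabilizer_iff]
  constructor
  · rintro ⟨a1, a2⟩
    exact ⟨a2, by rw [smul_sub', a1, a2]⟩
  · rintro ⟨a1, a2⟩
    refine ⟨?_, a1⟩
    rw [smul_sub', a1] at a2
    exact sub_left_injective a2

lemma card_mcl0 : Nat.card ↥(stabilizer Co0 Ut ⊓ stabilizer Co0 Vt) = 898128000 := by
  rw [mcl0_eq]
  exact mcl_card Vt_norm UVt_norm dot_VUt

lemma orbit_mcl0 : orbit ↥(stabilizer Co0 Ut ⊓ stabilizer Co0 Vt) Xt = mclSet Ut Vt := by
  ext y
  rw [mem_orbit_iff]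
  constructor
  · rintro ⟨g, rfl⟩
    have hgu : g.1 • Ut = Ut := g.2.1
    have hgv : g.1 • Vt = Vt := g.2.2
    obtain ⟨b1, b2, b3⟩ := Xt_mem
    refine ⟨?_, ?_, ?_⟩
    · change sqNorm ((g.1 • Xt : leechLattice) : GolayPt → ℤ) = 32
      rw [smul_norm]; exact b1
    · change sqNorm ((Ut - g.1 • Xt : leechLattice) : GolayPt → ℤ) = 32
      have : Ut - g.1 • Xt = g.1 • (Ut - Xt) := by rw [smul_sub', hgu]
      rw [this, smul_norm]; exact b2
    · change dotInt (Vt : GolayPt → ℤ) ((g.1 • Xt : leechLattice) : GolayPt → ℤ) = 16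
      rw [dot_fix hgv]; exact b3
  · intro hy
    obtain ⟨g, a1, a2, a3⟩ := mcl_trans Ut_norm Vt_norm UVt_norm Xt_mem hy
    exact ⟨⟨g, a1, a2⟩, a3⟩

lemma card_HT : Nat.card HT = 3265920 := by
  have h := card_sub_stab (stabilizer Co0 Ut ⊓ stabilizer Co0 Vt) Xt
  rw [orbit_mcl0, ncard_mclSet Ut_norm Vt_norm UVt_norm, card_mcl0] at h
  change 275 * Nat.card HT = 898128000 at h
  omega

/-- the stabiliser of the model triple is the permutation group of degree 112. -/
theorem stab_equiv : Nonempty (HT ≃* RU) := by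
  have hfin : Finite Co0 := finite_co0
  have hc : Nat.card HT ≤ Nat.card (⊥ : Subgroup HT) *
      Nat.card (Subgroup.closure ({tg true, tg false} : Set (Equiv.Perm (Fin 112)))) := by
    rw [card_HT, Subgroup.card_bot, one_mul]
    exact card_RU_ge
  obtain ⟨-, ⟨e⟩⟩ := quot_equiv_closure_act HT.subtype (fun (g : Co0) (z : leechLattice) => g • z)
    (fun z => one_smul _ z) (fun a b z => mul_smul a b z) Pt Pt_injective
    ⟨hMono, hMono_mem⟩ ⟨hXi, hXi_mem⟩ (tg true) (tg false) hMono_Pt hXi_Pt ⊥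
    (fun z hz i => by rw [Subgroup.mem_bot.mp hz, map_one, one_smul]) hc
  exact ⟨(QuotientGroup.quotientBot (G := HT)).symm.trans e⟩

/-- all the stabilisers of triples are conjugate to the model one. -/
theorem stab_conj {u v x : leechLattice} (hu : sqNorm (u : GolayPt → ℤ) = 48)
    (hv : sqNorm (v : GolayPt → ℤ) = 32)
    (huv : sqNorm ((u - v : leechLattice) : GolayPt → ℤ) = 32) (hx : x ∈ mclSet u v) :
    Nonempty (↥(stabilizer Co0 u ⊓ stabilizer Co0 v ⊓ stabilizer Co0 x) ≃* HT) := by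
  obtain ⟨g, a1, a2, a3⟩ := mcl_nf hu hv huv hx
  obtain ⟨g', b1, b2, b3⟩ := mcl_nf Ut_norm Vt_norm UVt_norm Xt_mem
  have c1 : (g'⁻¹ * g) • u = Ut := by rw [mul_smul, a1, ← b1, inv_smul_smul]
  have c2 : (g'⁻¹ * g) • v = Vt := by rw [mul_smul, a2, ← b2, inv_smul_smul]
  have c3 : (g'⁻¹ * g) • x = Xt := by rw [mul_smul, a3, ← b3, inv_smul_smul]
  have hmap : (stabilizer Co0 u ⊓ stabilizer Co0 v ⊓ stabilizer Co0 x).map
      (MulAut.conj (g'⁻¹ * g)).toMonoidHom = HT := by
    rw [Subgroup.map_inf_eq _ _ _ (MulAut.conj (g'⁻¹ * g)).injective,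
      Subgroup.map_inf_eq _ _ _ (MulAut.conj (g'⁻¹ * g)).injective,
      ← stabilizer_smul_eq_stabilizer_map_conj, ← stabilizer_smul_eq_stabilizer_map_conj,
      ← stabilizer_smul_eq_stabilizer_map_conj, c1, c2, c3]
  exact ⟨(Subgroup.equivMapOfInjective _ _ (MulAut.conj (g'⁻¹ * g)).injective).trans
    (MulEquiv.subgroupCongr hmap)⟩

end Cfsg.Agent.Helper15.McLU4
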