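import Mathlib
import Cfsg.Agent.Lib.Helper27.Co3Rank
import Cfsg.Agent.Lib.Helper27.HSSimple
import Cfsg.Agent.Lib.Helper15.McLU4e
import Cfsg.Agent.Lib.Helper15.UBridge
import Cfsg.Agent.Lib.Helper15.HSU3d

set_option autoImplicit false

/-!
# A vector stabiliser in the Higman–Sims group is `PSU₃(5)`: the lattice side (helper15)

The 352 vectors attached to a pair `(v, w)`, transitivity, and the stabiliser of the model triple
as the permutation group of degree 252.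
-/

namespace Cfsg.Agent.Helper15.HSU3

open Cfsg Cfsg.Agent.Helper27 SylGen MulAction

/-- the set of 352 minimal vectors attached to the pair `(v, w)`. -/
def hsX (v w : leechLattice) : Set leechLattice :=
  {x : leechLattice | sqNorm (x : GolayPt → ℤ) = 32 ∧
    dotInt (v : GolayPt → ℤ) (x : GolayPt → ℤ) = 16 ∧
    dotInt (w : GolayPt → ℤ) (x : GolayPt → ℤ) = -24}

section pair

variable {v w : leechLattice}

lemma xh_mem (hv : sqNorm (v : GolayPt → ℤ) = 48) (hw : sqNorm (w : GolayPt → ℤ) = 48)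
    (hvw : dotInt (v : GolayPt → ℤ) (w : GolayPt → ℤ) = -32) : -(v + w) ∈ co3Set v := by
  constructor
  · show sqNorm (-((v : GolayPt → ℤ) + (w : GolayPt → ℤ))) = 32
    rw [sqNorm_neg', sqNorm_add, hv, hw, hvw]; norm_num
  · show dotInt (v : GolayPt → ℤ) (-((v : GolayPt → ℤ) + (w : GolayPt → ℤ))) = -16
    rw [dotInt_neg_right', dotInt_add_right', dotInt_self', hv, hvw]; norm_num

lemma mem_hsX_iff (x : leechLattice) : x ∈ hsX v w ↔ -x ∈ co3Cls v (-(v + w)) (-8) := by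
  unfold hsX co3Cls co3Set
  simp only [Set.mem_setOf_eq]
  have e1 : sqNorm ((-x : leechLattice) : GolayPt → ℤ) = sqNorm (x : GolayPt → ℤ) :=
    sqNorm_neg' _
  have e2 : dotInt (v : GolayPt → ℤ) ((-x : leechLattice) : GolayPt → ℤ) =
      - dotInt (v : GolayPt → ℤ) (x : GolayPt → ℤ) := dotInt_neg_right' _ _
  have e3 : dotInt ((-(v + w) : leechLattice) : GolayPt → ℤ) ((-x : leechLattice) : GolayPt → ℤ) =
      dotInt (v : GolayPt → ℤ) (x : GolayPt → ℤ) + dotInt (w : GolayPt → ℤ) (x : GolayPt → ℤ) := by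
    show dotInt (-((v : GolayPt → ℤ) + (w : GolayPt → ℤ))) (-(x : GolayPt → ℤ)) = _
    rw [dotInt_neg_right', dotInt_neg_left', neg_neg, dotInt_add_left']
  rw [e1, e2, e3]
  constructor
  · rintro ⟨a, b, c⟩; exact ⟨⟨a, by omega⟩, by omega⟩
  · rintro ⟨⟨a, b⟩, c⟩; exact ⟨a, by omega, by omega⟩

lemma hsX_eq : hsX v w = (fun x : leechLattice => -x) '' co3Cls v (-(v + w)) (-8) := by
  ext x
  rw [mem_hsX_iff]
  constructor
  · intro h; exact ⟨-x, h, neg_neg x⟩
  · rintro ⟨y, hy, rfl⟩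
    show - -y ∈ _
    rw [neg_neg]; exact hy

theorem ncard_hsX (hv : sqNorm (v : GolayPt → ℤ) = 48) (hw : sqNorm (w : GolayPt → ℤ) = 48)
    (hvw : dotInt (v : GolayPt → ℤ) (w : GolayPt → ℤ) = -32) : (hsX v w).ncard = 352 := by
  rw [hsX_eq, Set.ncard_image_of_injective _ neg_injective]
  unfold co3Cls
  rw [co3_ncard hv (xh_mem hv hw hvw), card_Zt.2.2.1]

theorem hsX_closed (hw : sqNorm (w : GolayPt → ℤ) = 48)
    (hvw : dotInt (v : GolayPt → ℤ) (w : GolayPt → ℤ) = -32) {x : leechLattice}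
    (hx : x ∈ hsX v w) : -w - x ∈ hsX v w := by
  obtain ⟨a, b, c⟩ := hx
  refine ⟨?_, ?_, ?_⟩
  · show sqNorm (-(w : GolayPt → ℤ) - (x : GolayPt → ℤ)) = 32
    rw [sqNorm_sub', sqNorm_neg', dotInt_neg_left', hw, a, c]; norm_num
  · show dotInt (v : GolayPt → ℤ) (-(w : GolayPt → ℤ) - (x : GolayPt → ℤ)) = 16
    rw [dotInt_sub_right', dotInt_neg_right', hvw, b]; norm_num
  · show dotInt (w : GolayPt → ℤ) (-(w : GolayPt → ℤ) - (x : GolayPt → ℤ)) = -24
    rw [dotInt_sub_right', dotInt_neg_right', dotInt_self', hw, c]; norm_num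

theorem hsX_trans (hv : sqNorm (v : GolayPt → ℤ) = 48) (hw : sqNorm (w : GolayPt → ℤ) = 48)
    (hvw : dotInt (v : GolayPt → ℤ) (w : GolayPt → ℤ) = -32) {x x' : leechLattice}
    (hx : x ∈ hsX v w) (hx' : x' ∈ hsX v w) : ∃ g : Co0, g • v = v ∧ g • w = w ∧ g • x = x' := by
  have h1 := (mem_hsX_iff x).mp hx
  have h2 := (mem_hsX_iff x').mp hx'
  obtain ⟨g, a1, a2, a3⟩ := co3_trans hv (xh_mem hv hw hvw) h1.1 h2.1 (by rw [h1.2, h2.2])
  rw [smul_neg'] at a2 a3
  have a2' : g • (v + w) = v + w := neg_injective a2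
  refine ⟨g, a1, ?_, neg_injective a3⟩
  rw [smul_add', a1] at a2'
  exact add_left_cancel a2'

lemma orbit_pair (hv : sqNorm (v : GolayPt → ℤ) = 48) (hw : sqNorm (w : GolayPt → ℤ) = 48)
    (hvw : dotInt (v : GolayPt → ℤ) (w : GolayPt → ℤ) = -32) {x : leechLattice}
    (hx : x ∈ hsX v w) : orbit ↥(stabilizer Co0 v ⊓ stabilizer Co0 w) x = hsX v w := by
  ext y
  rw [mem_orbit_iff]
  constructor
  · rintro ⟨g, rfl⟩
    have hgv : g.1 • v = v := g.2.1
    have hgw : g.1 • w = w := g.2.2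
    obtain ⟨b1, b2, b3⟩ := hx
    refine ⟨?_, ?_, ?_⟩
    · change sqNorm ((g.1 • x : leechLattice) : GolayPt → ℤ) = 32
      rw [smul_norm]; exact b1
    · change dotInt (v : GolayPt → ℤ) ((g.1 • x : leechLattice) : GolayPt → ℤ) = 16
      rw [dot_fix hgv]; exact b2
    · change dotInt (w : GolayPt → ℤ) ((g.1 • x : leechLattice) : GolayPt → ℤ) = -24
      rw [dot_fix hgw]; exact b3
  · intro hy
    obtain ⟨g, a1, a2, a3⟩ := hsX_trans hv hw hvw hx hy
    exact ⟨⟨g, a1, a2⟩, a3⟩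

theorem card_stab3 (hv : sqNorm (v : GolayPt → ℤ) = 48) (hw : sqNorm (w : GolayPt → ℤ) = 48)
    (hvw : dotInt (v : GolayPt → ℤ) (w : GolayPt → ℤ) = -32) {x : leechLattice}
    (hx : x ∈ hsX v w) :
    Nat.card ↥(stabilizer Co0 v ⊓ stabilizer Co0 w ⊓ stabilizer Co0 x) = 126000 := by
  have h := McLU4.card_sub_stab (stabilizer Co0 v ⊓ stabilizer Co0 w) x
  rw [orbit_pair hv hw hvw hx, ncard_hsX hv hw hvw, hs_card hv hw hvw] at h
  omega

end pair

/-- the model triple and the 252 points as lattice vectors. -/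
def Vt : leechLattice := ⟨v0, McLU4.mem_of_leechOK v0_ok⟩

def Wt : leechLattice := ⟨w0, McLU4.mem_of_leechOK w0_ok⟩

def Xt : leechLattice := ⟨x0, McLU4.mem_of_leechOK x0_ok⟩

def Pt (k : Fin 252) : leechLattice := ⟨P k, McLU4.mem_of_leechOK (P_ok k)⟩

/-- the monomial element. -/
def hMono : Co0 := epsG cM cM_mem * permG sgP sgP_mem

/-- the involution `ξ`. -/
def hXi : Co0 := ⟨xiP, xiP_mem⟩

lemma hMono_smul (z : leechLattice) :
    ((hMono • z : leechLattice) : GolayPt → ℤ) = monoF (z : GolayPt → ℤ) := by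
  unfold hMono
  rw [mul_smul, epsG_smul, McLU4.signChange_support₂]
  rfl

lemma hXi_smul (z : leechLattice) :
    ((hXi • z : leechLattice) : GolayPt → ℤ) = xi (z : GolayPt → ℤ) := rfl

/-- the stabiliser of the model triple. -/
abbrev HT : Subgroup Co0 := stabilizer Co0 Vt ⊓ stabilizer Co0 Wt ⊓ stabilizer Co0 Xt

lemma hMono_mem : hMono ∈ HT := by
  obtain ⟨h1, h2, h3⟩ := mono_triple
  refine Subgroup.mem_inf.mpr ⟨Subgroup.mem_inf.mpr ⟨?_, ?_⟩, ?_⟩ <;>
    rw [mem_stabilizer_iff] <;> apply Subtype.ext <;> rw [hMono_smul]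
  · exact h1
  · exact h2
  · exact h3

lemma hXi_mem : hXi ∈ HT := by
  obtain ⟨h1, h2, h3⟩ := xi_triple
  refine Subgroup.mem_inf.mpr ⟨Subgroup.mem_inf.mpr ⟨?_, ?_⟩, ?_⟩ <;>
    rw [mem_stabilizer_iff] <;> apply Subtype.ext <;> rw [hXi_smul]
  · exact h1
  · exact h2
  · exact h3

lemma hMono_Pt (k : Fin 252) : hMono • Pt k = Pt (tf true k) := by
  apply Subtype.ext
  rw [hMono_smul]
  exact mono_P k

lemma hXi_Pt (k : Fin 252) : hXi • Pt k = Pt (tf false k) := by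
  apply Subtype.ext
  rw [hXi_smul]
  exact xi_P k

set_option maxRecDepth 100000 in
lemma P_inj0 : ∀ j : Fin 252, P 0 = P j → j = 0 := by decide +kernel

lemma Pt_injective : Function.Injective Pt := by
  apply UBridge.inj_of_trans (fun (g : Co0) (z : leechLattice) => g • z) Pt
    (fun b => if b then hMono else hXi) tf tfi tf_tfi ?_ ?_ 0 cW0 trans0
  · intro j h
    exact P_inj0 j (congrArg Subtype.val h)
  · intro b i
    cases b
    · exact hXi_Pt i
    · exact hMono_Pt i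
  · intro b
    exact MulAction.injective _

lemma Vt_norm : sqNorm (Vt : GolayPt → ℤ) = 48 := triple_valid.1

lemma Wt_norm : sqNorm (Wt : GolayPt → ℤ) = 48 := triple_valid.2.1

lemma VWt_dot : dotInt (Vt : GolayPt → ℤ) (Wt : GolayPt → ℤ) = -32 := triple_valid.2.2.1

lemma Xt_mem : Xt ∈ hsX Vt Wt :=
  ⟨triple_valid.2.2.2.1, triple_valid.2.2.2.2.1, triple_valid.2.2.2.2.2⟩

lemma card_HT : Nat.card HT = 126000 := card_stab3 Vt_norm Wt_norm VWt_dot Xt_mem

/-- the stabiliser of the model triple is the permutation group of degree 252. -/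
theorem stab_equiv : Nonempty (HT ≃* RV) := by
  have hfin : Finite Co0 := finite_co0
  have hc : Nat.card HT ≤ Nat.card (⊥ : Subgroup HT) *
      Nat.card (Subgroup.closure ({tg true, tg false} : Set (Equiv.Perm (Fin 252)))) := by
    rw [card_HT, Subgroup.card_bot, one_mul]
    exact card_RV_ge
  obtain ⟨-, ⟨e⟩⟩ := quot_equiv_closure_act HT.subtype (fun (g : Co0) (z : leechLattice) => g • z)
    (fun z => one_smul _ z) (fun a b z => mul_smul a b z) Pt Pt_injective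
    ⟨hMono, hMono_mem⟩ ⟨hXi, hXi_mem⟩ (tg true) (tg false) hMono_Pt hXi_Pt ⊥
    (fun z hz i => by rw [Subgroup.mem_bot.mp hz, map_one, one_smul]) hc
  exact ⟨(QuotientGroup.quotientBot (G := HT)).symm.trans e⟩

/-- every valid triple is conjugate to the model one. -/
theorem exists_to_model {v w x : leechLattice} (hv : sqNorm (v : GolayPt → ℤ) = 48)
    (hw : sqNorm (w : GolayPt → ℤ) = 48)
    (hvw : dotInt (v : GolayPt → ℤ) (w : GolayPt → ℤ) = -32) (hx : x ∈ hsX v w) :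
    ∃ k : Co0, k • v = Vt ∧ k • w = Wt ∧ k • x = Xt := by
  obtain ⟨g, a1, a2⟩ := exists_std_pair hv hw hvw
  obtain ⟨g', b1, b2⟩ := exists_std_pair Vt_norm Wt_norm VWt_dot
  have c1 : (g'⁻¹ * g) • v = Vt := by rw [mul_smul, a1, ← b1, inv_smul_smul]
  have c2' : (g'⁻¹ * g) • (v + w) = Vt + Wt := by rw [mul_smul, a2, ← b2, inv_smul_smul]
  have c2 : (g'⁻¹ * g) • w = Wt := by
    rw [smul_add', c1] at c2'
    exact add_left_cancel c2'
  have hx' : (g'⁻¹ * g) • x ∈ hsX Vt Wt := by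
    obtain ⟨d1, d2, d3⟩ := hx
    refine ⟨?_, ?_, ?_⟩
    · rw [smul_norm]; exact d1
    · rw [← c1, smul_dot]; exact d2
    · rw [← c2, smul_dot]; exact d3
  obtain ⟨h, e1, e2, e3⟩ := hsX_trans Vt_norm Wt_norm VWt_dot hx' Xt_mem
  refine ⟨h * (g'⁻¹ * g), ?_, ?_, ?_⟩
  · rw [mul_smul, c1, e1]
  · rw [mul_smul, c2, e2]
  · rw [mul_smul, e3]

/-- all the stabilisers of triples are conjugate to the model one. -/
theorem stab_conj {v w x : leechLattice} (hv : sqNorm (v : GolayPt → ℤ) = 48)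
    (hw : sqNorm (w : GolayPt → ℤ) = 48)
    (hvw : dotInt (v : GolayPt → ℤ) (w : GolayPt → ℤ) = -32) (hx : x ∈ hsX v w) :
    Nonempty (↥(stabilizer Co0 v ⊓ stabilizer Co0 w ⊓ stabilizer Co0 x) ≃* HT) := by
  obtain ⟨k, c1, c2, c3⟩ := exists_to_model hv hw hvw hx
  have hmap : (stabilizer Co0 v ⊓ stabilizer Co0 w ⊓ stabilizer Co0 x).map
      (MulAut.conj k).toMonoidHom = HT := by
    rw [Subgroup.map_inf_eq _ _ _ (MulAut.conj k).injective,
      Subgroup.map_inf_eq _ _ _ (MulAut.conj k).injective,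
      ← stabilizer_smul_eq_stabilizer_map_conj, ← stabilizer_smul_eq_stabilizer_map_conj,
      ← stabilizer_smul_eq_stabilizer_map_conj, c1, c2, c3]
  exact ⟨(Subgroup.equivMapOfInjective _ _ (MulAut.conj k).injective).trans
    (MulEquiv.subgroupCongr hmap)⟩

/-- the statement on the lattice side. -/
theorem main {v w : leechLattice} (hv : sqNorm (v : GolayPt → ℤ) = 48)
    (hw : sqNorm (w : GolayPt → ℤ) = 48)
    (hvw : dotInt (v : GolayPt → ℤ) (w : GolayPt → ℤ) = -32) :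
    (hsX v w).ncard = 352 ∧ (∀ x ∈ hsX v w, -w - x ∈ hsX v w) ∧
    (∀ x ∈ hsX v w, ∀ x' ∈ hsX v w, ∃ g : Co0, g • v = v ∧ g • w = w ∧ g • x = x') ∧
    ∀ x ∈ hsX v w,
      Nonempty (↥(stabilizer Co0 v ⊓ stabilizer Co0 w ⊓ stabilizer Co0 x) ≃* RV) := by
  refine ⟨ncard_hsX hv hw hvw, fun x hx => hsX_closed hw hvw hx,
    fun x hx x' hx' => hsX_trans hv hw hvw hx hx', fun x hx => ?_⟩
  obtain ⟨e1⟩ := stab_conj hv hw hvw hx
  obtain ⟨e2⟩ := stab_equiv
  exact ⟨e1.trans e2⟩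

end Cfsg.Agent.Helper15.HSU3
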