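import Mathlib
import Cfsg.Agent.Lib.Helper15.HSup3
import Cfsg.Agent.S3031

set_option autoImplicit false

/-! Supersolvability from `H`-subgroups of fixed order, part 4: normal `p`-complements inside a
subgroup of the ambient group (from the `p`-nilpotency theorem), the Sylow tower, and the action of
odd order elements on a normal `2`-subgroup. -/

namespace Cfsg.Agent.Helper15.HSup

open Cfsg.Agent.Helper11.HSub

universe u

variable {G : Type u} [Group G] [Finite G]

/-- the hypothesis on a (noncyclic) Sylow subgroup -/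
def SylHyp (P : Subgroup G) : Prop :=
  ∃ D : Subgroup G, D ≤ P ∧ 1 < Nat.card D ∧ Nat.card D < Nat.card P ∧
    ∀ F : Subgroup G, F ≤ P →
      (Nat.card F = Nat.card D ∨ (Nat.card D = 2 ∧ Nat.card F = 4)) → IsH F

/-- the hypothesis of the theorem on the subgroup `X` -/
def GoodIn (X : Subgroup G) : Prop :=
  ∀ p : ℕ, p.Prime → ∀ P : Subgroup G, P ≤ X → IsPGroup p P → ¬ p ∣ P.relIndex X →
    ¬ IsCyclic ↥P → SylHyp P

/-- normal `p`-complement of a subgroup `X` of the ambient group, `p` the smallest prime divisor of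
`|X|`, from the hypothesis on a Sylow `p`-subgroup of `X` -/
theorem npc_in {p : ℕ} [hp : Fact p.Prime] (X P : Subgroup G) (hPX : IsSylowIn p P X)
    (hdiv : p ∣ Nat.card X) (hmin : ∀ r : ℕ, r.Prime → r ∣ Nat.card X → p ≤ r)
    (hP : IsCyclic P ∨ SylHyp P) :
    ∃ K : Subgroup G, K ≤ X ∧ X ≤ Subgroup.normalizer (K : Set G) ∧ (Nat.card K).Coprime p ∧
      (∃ a : ℕ, K.relIndex X = p ^ a) ∧ ∀ x ∈ X, (orderOf x).Coprime p → x ∈ K := by
  set P₀ : Sylow p X := hPX.toSylow with hP₀
  have hP₀map : (P₀ : Subgroup X).map X.subtype = P := hPX.map_toSylow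
  have hP₀coe : (P₀ : Subgroup X) = P.subgroupOf X := hPX.coe_toSylow
  have hP₀card : Nat.card (P₀ : Subgroup X) = Nat.card P := by
    rw [hP₀coe]
    exact Nat.card_congr (Subgroup.subgroupOfEquivOfLe hPX.le).toEquiv
  have hyp : IsCyclic ↥(P₀ : Subgroup X) ∨ ∃ D : Subgroup X, D ≤ (P₀ : Subgroup X) ∧
      1 < Nat.card D ∧ Nat.card D < Nat.card (P₀ : Subgroup X) ∧
      ∀ E : Subgroup X, E ≤ (P₀ : Subgroup X) →
        (Nat.card E = Nat.card D ∨ (Nat.card D = 2 ∧ Nat.card E = 4)) →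
        ∀ g : X, E.map (MulAut.conj g).toMonoidHom ⊓ Subgroup.normalizer (E : Set X) ≤ E := by
    rcases hP with hc | ⟨D, hDP, hD1, hD2, hDF⟩
    · left
      have e : ↥(P.subgroupOf X) ≃* ↥P := Subgroup.subgroupOfEquivOfLe hPX.le
      rw [hP₀coe]
      exact isCyclic_of_surjective e.symm e.symm.surjective
    · right
      have hDX : D ≤ X := hDP.trans hPX.le
      have hDcard : Nat.card (D.subgroupOf X) = Nat.card D :=
        Nat.card_congr (Subgroup.subgroupOfEquivOfLe hDX).toEquiv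
      refine ⟨D.subgroupOf X, ?_, ?_, ?_, ?_⟩
      · rw [hP₀coe]; exact Subgroup.comap_mono hDP
      · rw [hDcard]; exact hD1
      · rw [hDcard, hP₀card]; exact hD2
      · intro E hEP hEc g
        set F : Subgroup G := E.map X.subtype with hF
        have hFP : F ≤ P := by rw [← hP₀map]; exact Subgroup.map_mono hEP
        have hFc : Nat.card F = Nat.card E := Subgroup.card_map_of_injective X.subtype_injective
        have hFH : IsH F := hDF F hFP (by rwa [hFc, ← hDcard])
        have h1 : IsH (F.subgroupOf X) := isH_subgroupOf hFH (hFP.trans hPX.le)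
        have hE : F.subgroupOf X = E :=
          Subgroup.comap_map_eq_self_of_injective X.subtype_injective E
        rw [hE] at h1
        exact h1 g
  obtain ⟨P₁, K₀, hK₀n, hK₀c⟩ := Cfsg.Agent.S3031.result (G := X) (p := p) hdiv hmin P₀ hyp
  refine ⟨K₀.map X.subtype, Subgroup.map_subtype_le K₀, ?_, ?_, ?_, ?_⟩
  · intro x hx
    have hconj : ∀ z : G, z ∈ X →
        (K₀.map X.subtype).map (MulAut.conj z).toMonoidHom ≤ K₀.map X.subtype := by
      intro z hz
      rintro _ ⟨_, ⟨k, hk, rfl⟩, rfl⟩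
      refine ⟨⟨z, hz⟩ * k * ⟨z, hz⟩⁻¹, hK₀n.conj_mem k hk _, ?_⟩
      simp [MulAut.conj_apply]
    exact mem_normalizer_of_map_conj_le (hconj x hx) (hconj x⁻¹ (X.inv_mem hx))
  · have h1 : (P₁ : Subgroup X).index = Nat.card K₀ := hK₀c.index_eq_card
    have h2 := P₁.not_dvd_index
    rw [h1] at h2
    rw [Subgroup.card_map_of_injective X.subtype_injective]
    exact ((Nat.Prime.coprime_iff_not_dvd hp.out).mpr h2).symm
  · refine ⟨(Nat.card X).factorization p, ?_⟩
    have h1 : K₀.index = Nat.card (P₁ : Subgroup X) := hK₀c.symm.index_eq_card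
    rw [Subgroup.relIndex, Subgroup.subgroupOf,
      Subgroup.comap_map_eq_self_of_injective X.subtype_injective, h1,
      P₁.card_eq_multiplicity]
  · intro x hx hxp
    set y : X := ⟨x, hx⟩ with hy
    have h1 : K₀.index = Nat.card (P₁ : Subgroup X) := hK₀c.symm.index_eq_card
    have h2 : orderOf (QuotientGroup.mk y : X ⧸ K₀) ∣ p ^ (Nat.card X).factorization p := by
      rw [← P₁.card_eq_multiplicity, ← h1, Subgroup.index_eq_card]
      exact orderOf_dvd_natCard _
    have h3 : orderOf (QuotientGroup.mk y : X ⧸ K₀) ∣ orderOf x := by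
      have : orderOf y = orderOf x := Subgroup.orderOf_mk x hx
      rw [← this]
      exact orderOf_map_dvd (QuotientGroup.mk' K₀) y
    have h4 : orderOf (QuotientGroup.mk y : X ⧸ K₀) = 1 := by
      have hcop : (orderOf x).Coprime (p ^ (Nat.card X).factorization p) :=
        Nat.Coprime.pow_right _ hxp
      exact Nat.eq_one_of_dvd_coprimes hcop h3 h2
    rw [orderOf_eq_one_iff, QuotientGroup.eq_one_iff] at h4
    exact ⟨y, h4, rfl⟩

/-- a Sylow subgroup of `K` normal in `K` is normalized by everything normalizing `K` -/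
theorem le_normalizer_of_isSylowIn {p : ℕ} [Fact p.Prime] {Q K X : Subgroup G}
    (hQ : IsSylowIn p Q K) (hKQ : K ≤ Subgroup.normalizer (Q : Set G))
    (hXK : X ≤ Subgroup.normalizer (K : Set G)) : X ≤ Subgroup.normalizer (Q : Set G) := by
  intro x hx
  have h1 : IsSylowIn p (Q.map (MulAut.conj x).toMonoidHom) K :=
    hQ.map_conj_of_mem_normalizer (hXK hx)
  obtain ⟨k, hk, hkQ⟩ := hQ.exists_conj h1
  have h2 : Q.map (MulAut.conj k).toMonoidHom = Q := map_conj_eq_of_mem_normalizer (hKQ hk)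
  rw [h2] at hkQ
  exact mem_normalizer_of_map_conj_eq hkQ.symm

/-- **Sylow tower**: under the hypothesis, a Sylow subgroup of `X` for the largest prime divisor of
`|X|` is normal in `X`. -/
theorem tower_aux (n : ℕ) : ∀ X : Subgroup G, Nat.card X = n → GoodIn X →
    ∀ q : ℕ, q.Prime → (∀ r : ℕ, r.Prime → r ∣ Nat.card X → r ≤ q) →
    ∀ Q : Subgroup G, Q ≤ X → IsPGroup q Q → ¬ q ∣ Q.relIndex X →
      X ≤ Subgroup.normalizer (Q : Set G) := by
  induction n using Nat.strong_induction_on with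
  | _ n ih =>
  intro X hXc hgood q hq hqmax Q hQX hQq hQi
  have : Fact q.Prime := ⟨hq⟩
  by_cases hX1 : Nat.card X = 1
  · have : X = ⊥ := Subgroup.card_eq_one.mp hX1
    rw [this]; exact bot_le
  set p := (Nat.card X).minFac with hp
  have hpp : p.Prime := Nat.minFac_prime hX1
  have : Fact p.Prime := ⟨hpp⟩
  have hdiv : p ∣ Nat.card X := Nat.minFac_dvd _
  have hmin : ∀ r : ℕ, r.Prime → r ∣ Nat.card X → p ≤ r :=
    fun r hr hrd => Nat.minFac_le_of_dvd hr.two_le hrd
  have hQS : IsSylowIn q Q X := isSylowIn_of_not_dvd_relIndex hQq hQX hQi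
  by_cases hqp : q = p
  · -- `X` is a `q`-group
    have hXq : IsPGroup q X := by
      apply IsPGroup.of_card (n := (Nat.card X).primeFactorsList.length)
      apply Nat.eq_prime_pow_of_unique_prime_dvd Nat.card_pos.ne'
      intro r hr hrd
      exact le_antisymm (hqmax r hr hrd) (hqp ▸ hmin r hr hrd)
    have : X = Q := hQS.eq_of_le hXq hQX le_rfl
    rw [this]; exact Subgroup.le_normalizer
  obtain ⟨P, hP⟩ := exists_isSylowIn (p := p) X
  have hPh : IsCyclic P ∨ SylHyp P := by
    by_cases hc : IsCyclic P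
    · exact Or.inl hc
    · exact Or.inr (hgood p hpp P hP.le hP.isPGroup hP.not_dvd_relIndex hc)
  obtain ⟨K, hKX, hXK, hKcop, ⟨a, hKa⟩, hKall⟩ := npc_in X P hP hdiv hmin hPh
  have hqpcop : q.Coprime p := (Nat.coprime_primes hq hpp).mpr hqp
  have hQK : Q ≤ K := by
    intro x hx
    apply hKall x (hQX hx)
    obtain ⟨k, hk⟩ := hQq ⟨x, hx⟩
    have hxk : x ^ (q ^ k) = 1 := by simpa using congrArg Subtype.val hk
    exact Nat.Coprime.coprime_dvd_left (orderOf_dvd_of_pow_eq_one hxk)
      (Nat.Coprime.pow_left k hqpcop)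
  have hgoodK : GoodIn K := by
    intro r hr R hRK hRr hRi hRc
    have : Fact r.Prime := ⟨hr⟩
    by_cases hrp : r = p
    · exfalso
      apply hRc
      obtain ⟨j, hj⟩ := IsPGroup.iff_card.mp hRr
      have h1 : Nat.card R ∣ Nat.card K := Subgroup.card_dvd_of_le hRK
      have h2 : (Nat.card R).Coprime (Nat.card R) := by
        have : (Nat.card R).Coprime (p ^ j) := by
          apply Nat.Coprime.pow_right
          exact Nat.Coprime.coprime_dvd_left h1 hKcop
        rw [hrp] at hj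
        rwa [← hj] at this
      have h3 : Nat.card R = 1 := (Nat.coprime_self _).mp h2
      have : Subsingleton R := (Nat.card_eq_one_iff_unique.mp h3).1
      exact isCyclic_of_subsingleton
    · apply hgood r hr R (hRK.trans hKX) hRr ?_ hRc
      rw [← Subgroup.relIndex_mul_relIndex R K X hRK hKX, hKa]
      intro hdvd
      rcases (Nat.Prime.dvd_mul hr).mp hdvd with h | h
      · exact hRi h
      · exact hrp ((Nat.prime_dvd_prime_iff_eq hr hpp).mp (hr.dvd_of_dvd_pow h))
  have hKlt : Nat.card K < n := by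
    rw [← hXc]
    refine lt_of_le_of_ne (Subgroup.card_le_of_le hKX) ?_
    intro h
    rw [h] at hKcop
    have := Nat.Coprime.eq_one_of_dvd hKcop.symm hdiv
    exact hpp.one_lt.ne' this
  have hqmaxK : ∀ r : ℕ, r.Prime → r ∣ Nat.card K → r ≤ q :=
    fun r hr hrd => hqmax r hr (hrd.trans (Subgroup.card_dvd_of_le hKX))
  have hQiK : ¬ q ∣ Q.relIndex K := by
    intro h
    apply hQi
    rw [← Subgroup.relIndex_mul_relIndex Q K X hQK hKX]
    exact Dvd.dvd.mul_right h _
  have hKQ : K ≤ Subgroup.normalizer (Q : Set G) :=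
    ih _ hKlt K rfl hgoodK q hq hqmaxK Q hQK hQq hQiK
  exact le_normalizer_of_isSylowIn (isSylowIn_of_not_dvd_relIndex hQq hQK hQiK) hKQ hXK

/-- elements of odd order centralize a normal `2`-subgroup satisfying the hypothesis -/
theorem mem_centralizer_of_odd {Q : Subgroup G} [hQn : Q.Normal] (hQ : IsPGroup 2 Q)
    (hQne : Q ≠ ⊥) (hh : IsCyclic Q ∨ SylHyp Q) (y : G) (hy : Odd (orderOf y)) :
    y ∈ Subgroup.centralizer (Q : Set G) := by
  have : Fact (Nat.Prime 2) := ⟨Nat.prime_two⟩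
  set X : Subgroup G := Q ⊔ Subgroup.zpowers y with hX
  have hQX : Q ≤ X := le_sup_left
  have hyX : y ∈ X := (le_sup_right : Subgroup.zpowers y ≤ X) (Subgroup.mem_zpowers y)
  have hrel : ¬ 2 ∣ Q.relIndex X := by
    rw [hX, Subgroup.relIndex_sup_left]
    intro h
    have h1 : Q.relIndex (Subgroup.zpowers y) ∣ orderOf y := by
      rw [← Nat.card_zpowers]; exact Subgroup.relIndex_dvd_card _ _
    have : ¬ 2 ∣ orderOf y := by
      rw [← even_iff_two_dvd, Nat.not_even_iff_odd]; exact hy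
    exact this (h.trans h1)
  have hQS : IsSylowIn 2 Q X := isSylowIn_of_not_dvd_relIndex hQ hQX hrel
  have hdiv : 2 ∣ Nat.card X := by
    have : Nontrivial Q := (Subgroup.nontrivial_iff_ne_bot Q).mpr hQne
    obtain ⟨j, hj0, hj⟩ := hQ.nontrivial_iff_card.mp inferInstance
    have h1 : 2 ∣ Nat.card Q := by rw [hj]; exact dvd_pow_self 2 hj0.ne'
    exact h1.trans (Subgroup.card_dvd_of_le hQX)
  obtain ⟨K, hKX, hXK, hKcop, -, hKall⟩ :=
    npc_in X Q hQS hdiv (fun r hr _ => hr.two_le) hh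
  have hyK : y ∈ K := hKall y hyX (Nat.coprime_two_right.mpr hy)
  have hinf : Q ⊓ K = ⊥ := by
    apply Disjoint.eq_bot
    apply Subgroup.disjoint_of_coprime_natCard
    obtain ⟨j, hj⟩ := IsPGroup.iff_card.mp hQ
    rw [hj]
    exact Nat.Coprime.pow_left j hKcop.symm
  rw [Subgroup.mem_centralizer_iff]
  intro x hx
  have h1 : x * y * x⁻¹ ∈ K :=
    (Subgroup.mem_normalizer_iff.mp (hXK (hQX hx)) y).mp hyK
  have h2 : x * y * x⁻¹ * y⁻¹ ∈ K := K.mul_mem h1 (K.inv_mem hyK)
  have h3 : x * y * x⁻¹ * y⁻¹ ∈ Q := by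
    have : x * y * x⁻¹ * y⁻¹ = x * (y * x⁻¹ * y⁻¹) := by group
    rw [this]
    exact Q.mul_mem hx (hQn.conj_mem _ (Q.inv_mem hx) y)
  have h4 : x * y * x⁻¹ * y⁻¹ ∈ Q ⊓ K := Subgroup.mem_inf.mpr ⟨h3, h2⟩
  rw [hinf, Subgroup.mem_bot] at h4
  calc x * y = (x * y * x⁻¹ * y⁻¹) * (y * x) := by group
    _ = y * x := by rw [h4, one_mul]

end Cfsg.Agent.Helper15.HSup
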