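import Mathlib
import Cfsg.Agent.Lib.Helper15.HSup4

set_option autoImplicit false

/-! Supersolvability from `H`-subgroups of fixed order, part 5: the hypothesis passes to the
quotient by a normal Sylow subgroup of `E`, and the main induction. -/

namespace Cfsg.Agent.Helper15.HSup

open Cfsg.Agent.Helper11.HSub

universe u

section quot

variable {G : Type u} [Group G] [Finite G]

omit [Finite G] in
theorem card_map_of_inf_ker_eq_bot {G' : Type*} [Group G'] (f : G →* G') (H : Subgroup G)
    (h : H ⊓ f.ker = ⊥) : Nat.card (H.map f) = Nat.card H := by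
  apply (Nat.card_congr (Equiv.ofBijective (f.subgroupMap H)
    ⟨?_, f.subgroupMap_surjective H⟩)).symm
  rw [injective_iff_map_eq_one]
  intro x hx
  have h1 : f (x : G) = 1 := by simpa using congrArg Subtype.val hx
  have : (x : G) ∈ H ⊓ f.ker := Subgroup.mem_inf.mpr ⟨x.2, h1⟩
  rw [h, Subgroup.mem_bot] at this
  exact Subtype.ext this

/-- the hypothesis passes to the quotient by a normal Sylow subgroup of `E` -/
theorem goodIn_quot {q : ℕ} [hq : Fact q.Prime] (E Q : Subgroup G) [hQn : Q.Normal]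
    (hQE : IsSylowIn q Q E) (hgood : GoodIn E) : GoodIn (E.map (QuotientGroup.mk' Q)) := by
  intro p hp P' hP'E hP'p hP'i hP'c
  have : Fact p.Prime := ⟨hp⟩
  set π := QuotientGroup.mk' Q with hπ
  have hker : π.ker = Q := QuotientGroup.ker_mk' Q
  have hEcomap : (E.map π).comap π = E :=
    Subgroup.comap_map_eq_self (by rw [hker]; exact hQE.le)
  by_cases hpq : p = q
  · exfalso
    apply hP'c
    have h1 : Nat.card (E.map π) * Nat.card Q = Nat.card E := card_map_mk'_mul Q E hQE.le
    have h2 : Nat.card Q * Q.relIndex E = Nat.card E := card_mul_relIndex' hQE.le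
    have h3 : Nat.card (E.map π) = Q.relIndex E := by
      have hpos : 0 < Nat.card Q := Nat.card_pos
      apply Nat.eq_of_mul_eq_mul_right hpos
      rw [h1, mul_comm, h2]
    have h4 : ¬ q ∣ Nat.card (E.map π) := by rw [h3]; exact hQE.not_dvd_relIndex
    obtain ⟨j, hj⟩ := IsPGroup.iff_card.mp hP'p
    have h5 : Nat.card P' ∣ Nat.card (E.map π) := Subgroup.card_dvd_of_le hP'E
    have hj0 : j = 0 := by
      by_contra hne
      apply h4
      rw [← hpq]
      exact (dvd_pow_self p hne).trans (hj ▸ h5)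
    rw [hj0, pow_zero] at hj
    have : Subsingleton P' := (Nat.card_eq_one_iff_unique.mp hj).1
    exact isCyclic_of_subsingleton
  · set B : Subgroup G := P'.comap π with hB
    have hBE : B ≤ E := by rw [← hEcomap]; exact Subgroup.comap_mono hP'E
    have hBcard : Nat.card B = Nat.card P' * Nat.card Q :=
      Cfsg.Agent.Helper3.card_comap_mk' Q P'
    obtain ⟨P, hP⟩ := exists_isSylowIn (p := p) B
    have hPE : P ≤ E := hP.le.trans hBE
    obtain ⟨a, ha⟩ := IsPGroup.iff_card.mp hP'p
    obtain ⟨b, hb⟩ := IsPGroup.iff_card.mp hQE.isPGroup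
    have hPcard : Nat.card P = Nat.card P' := by
      rw [hP.card_eq, hBcard, ha, hb]
      have h1 : (p ^ a * q ^ b).factorization p = a := by
        rw [Nat.factorization_mul (pow_ne_zero _ hp.ne_zero) (pow_ne_zero _ hq.out.ne_zero),
          Nat.factorization_pow, Nat.factorization_pow, hp.factorization, hq.out.factorization]
        simp [Ne.symm hpq]
      rw [h1]
    have hPQ : P ⊓ π.ker = ⊥ := by
      rw [hker]
      apply Disjoint.eq_bot
      apply Subgroup.disjoint_of_coprime_natCard
      obtain ⟨c, hc⟩ := IsPGroup.iff_card.mp hP.isPGroup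
      rw [hc, hb]
      exact Nat.coprime_pow_primes _ _ hp hq.out hpq
    have hPmapc : Nat.card (P.map π) = Nat.card P := card_map_of_inf_ker_eq_bot π P hPQ
    have hPmap : P.map π = P' := by
      apply Subgroup.eq_of_le_of_card_ge
      · rw [Subgroup.map_le_iff_le_comap]; exact hP.le
      · rw [hPmapc, hPcard]
    have hPi : ¬ p ∣ P.relIndex E := by
      rw [← Subgroup.relIndex_mul_relIndex P B E hP.le hBE]
      intro h
      rcases (Nat.Prime.dvd_mul hp).mp h with h | h
      · exact hP.not_dvd_relIndex h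
      · apply hP'i
        have := Cfsg.Agent.Helper3.relIndex_comap_comap_mk' Q P' (E.map π)
        rw [hEcomap] at this
        rwa [← this]
    have hPc : ¬ IsCyclic P := by
      intro hc
      apply hP'c
      rw [← hPmap]
      exact isCyclic_of_surjective (π.subgroupMap P) (π.subgroupMap_surjective P)
    obtain ⟨D, hDP, hD1, hD2, hDF⟩ := hgood p hp P hPE hP.isPGroup hPi hPc
    have hinj : ∀ F : Subgroup G, F ≤ P → Nat.card (F.map π) = Nat.card F := by
      intro F hF
      apply card_map_of_inf_ker_eq_bot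
      rw [eq_bot_iff, ← hPQ]
      exact inf_le_inf_right _ hF
    refine ⟨D.map π, ?_, ?_, ?_, ?_⟩
    · rw [← hPmap]; exact Subgroup.map_mono hDP
    · rw [hinj D hDP]; exact hD1
    · rw [hinj D hDP, ← hPmap, hPmapc]; exact hD2
    · intro F' hF'P hF'c
      set F : Subgroup G := F'.comap π ⊓ P with hF
      have hFP : F ≤ P := inf_le_right
      have hFmap : F.map π = F' := by
        apply le_antisymm
        · rw [Subgroup.map_le_iff_le_comap]; exact inf_le_left
        · intro y hy
          have : y ∈ P.map π := by rw [hPmap]; exact hF'P hy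
          obtain ⟨x, hxP, rfl⟩ := this
          exact ⟨x, Subgroup.mem_inf.mpr ⟨Subgroup.mem_comap.mpr hy, hxP⟩, rfl⟩
      have hFc : Nat.card F = Nat.card F' := by rw [← hFmap, hinj F hFP]
      have hFH : IsH F := hDF F hFP (by rw [hFc, ← hinj D hDP]; exact hF'c)
      rw [← hFmap]
      exact isH_map π (QuotientGroup.mk'_surjective Q) (hP.isPGroup.to_le hFP) hFH

end quot

/-- the main induction -/
theorem main_aux (n : ℕ) : ∀ (G : Type u) [Group G] [Finite G], Nat.card G = n →
    ∀ (E : Subgroup G) [E.Normal], Cfsg.IsSupersolvable (G ⧸ E) → GoodIn E →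
    Cfsg.IsSupersolvable G := by
  induction n using Nat.strong_induction_on with
  | _ n ih =>
  intro G _ _ hcard E hEn hss hgood
  by_cases hE : E = ⊥
  · subst hE
    exact Cfsg.Agent.Helper3.isSupersolvable_of_mulEquiv hss QuotientGroup.quotientBot
  have hEpos : 0 < Nat.card E := Nat.card_pos
  have hE1 : Nat.card E ≠ 1 := fun h => hE (Subgroup.card_eq_one.mp h)
  obtain ⟨q, hq, hqd, hqmax⟩ : ∃ q : ℕ, q.Prime ∧ q ∣ Nat.card E ∧
      ∀ r : ℕ, r.Prime → r ∣ Nat.card E → r ≤ q := by
    have hne : (Nat.card E).primeFactors.Nonempty :=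
      Nat.nonempty_primeFactors.mpr (by omega)
    refine ⟨(Nat.card E).primeFactors.max' hne, ?_, ?_, ?_⟩
    · exact Nat.prime_of_mem_primeFactors (Finset.max'_mem _ hne)
    · exact Nat.dvd_of_mem_primeFactors (Finset.max'_mem _ hne)
    · intro r hr hrd
      exact Finset.le_max' _ r (Nat.mem_primeFactors.mpr ⟨hr, hrd, hEpos.ne'⟩)
  have : Fact q.Prime := ⟨hq⟩
  obtain ⟨Q, hQ⟩ := exists_isSylowIn (p := q) E
  have hEQ : E ≤ Subgroup.normalizer (Q : Set G) :=
    tower_aux _ E rfl hgood q hq hqmax Q hQ.le hQ.isPGroup hQ.not_dvd_relIndex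
  have hQn : Q.Normal := by
    rw [← Subgroup.normalizer_eq_top_iff, eq_top_iff]
    have hGE : (⊤ : Subgroup G) ≤ Subgroup.normalizer (E : Set G) := by
      rw [Subgroup.normalizer_eq_top]
    exact le_normalizer_of_isSylowIn hQ hEQ hGE
  have hQne : Q ≠ ⊥ := by
    intro h
    have h1 := hQ.card_eq
    rw [h, Subgroup.card_bot] at h1
    have h2 : 0 < (Nat.card E).factorization q := hq.factorization_pos_of_dvd hEpos.ne' hqd
    have h3 : 1 < q ^ (Nat.card E).factorization q := Nat.one_lt_pow h2.ne' hq.one_lt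
    omega
  have hsurj : Function.Surjective (QuotientGroup.mk' Q) := QuotientGroup.mk'_surjective Q
  have hE'n : (E.map (QuotientGroup.mk' Q)).Normal := hEn.map _ hsurj
  have hss' : Cfsg.IsSupersolvable ((G ⧸ Q) ⧸ E.map (QuotientGroup.mk' Q)) :=
    Cfsg.Agent.Helper3.isSupersolvable_of_mulEquiv hss
      (QuotientGroup.quotientQuotientEquivQuotient Q E hQ.le).symm
  have hlt : Nat.card (G ⧸ Q) < n := by
    rw [← hcard]
    exact Cfsg.Agent.Helper3.card_quotient_lt Q ((Subgroup.one_lt_card_iff_ne_bot Q).mpr hQne)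
  have hquot : Cfsg.IsSupersolvable (G ⧸ Q) :=
    ih _ hlt (G ⧸ Q) rfl (E.map (QuotientGroup.mk' Q)) hss' (goodIn_quot E Q hQ hgood)
  by_cases hQc : IsCyclic Q
  · exact Cfsg.Agent.Helper3.isSupersolvable_of_cyclic_normal_of_quotient Q hquot
  obtain ⟨D, hDQ, hD1, hD2, hDF⟩ :=
    hgood q hq Q hQ.le hQ.isPGroup hQ.not_dvd_relIndex hQc
  by_cases hq2 : q = 2
  · subst hq2
    apply isSupersolvable_of_ctrl Q ⊤ hQ.isPGroup hquot
    · intro g; exact Subgroup.mem_top _
    · intro g h; exact Subgroup.mem_top _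
    · intro c _
      obtain ⟨m, s, hs, hms⟩ :=
        Nat.exists_eq_pow_mul_and_not_dvd (orderOf_pos c).ne' 2 (by norm_num)
      refine ⟨m, ?_⟩
      apply mem_centralizer_of_odd hQ.isPGroup hQne (Or.inr ⟨D, hDQ, hD1, hD2, hDF⟩)
      have hpow : (c ^ (2 ^ m)) ^ s = 1 := by
        rw [← pow_mul, ← hms, pow_orderOf_eq_one]
      have hdvd : orderOf (c ^ (2 ^ m)) ∣ s := orderOf_dvd_of_pow_eq_one hpow
      have hsodd : Odd s := by rwa [← Nat.not_even_iff_odd, even_iff_two_dvd]
      exact Odd.of_dvd_nat hsodd hdvd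
  · obtain ⟨d, hd⟩ := IsPGroup.iff_card.mp (hQ.isPGroup.to_le hDQ)
    have hd1 : 1 ≤ d := by
      by_contra h
      have h0 : d = 0 := by omega
      rw [h0, pow_zero] at hd
      omega
    apply isSupersolvable_of_subgroups_normal hq2 Q hQ.isPGroup hquot d hd1
      (by rw [← hd]; exact hD2)
    intro F hFQ hFc
    exact normal_of_isH hQ.isPGroup hFQ (hDF F hFQ (Or.inl (by rw [hFc, hd])))

theorem main {G : Type u} [Group G] [Finite G] (E : Subgroup G) [E.Normal]
    (hss : Cfsg.IsSupersolvable (G ⧸ E)) (hgood : GoodIn E) : Cfsg.IsSupersolvable G :=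
  main_aux _ G rfl E hss hgood

end Cfsg.Agent.Helper15.HSup
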