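import Mathlib
import Cfsg.Agent.Lib.Helper8.HTB1

/-!
# Half-transitive linear `2`-groups, case B with `dim V = 2`: the group in an eigenbasis of `a`
(helper15, piece HTB2a of S3371)
-/

set_option autoImplicit false
set_option linter.style.haveILetI false

namespace Cfsg.Agent.Helper8.HT

variable {q : ℕ} [Fact q.Prime] {V : Type*} [AddCommGroup V] [Module (ZMod q) V] [Finite V]
  {G : Type*} [Group G] [Finite G] (ρ : G →* (V ≃ₗ[ZMod q] V))

omit [Finite V] in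
/-- A submodule with `q` elements is spanned by any of its non-zero vectors. -/
theorem b2a_line [Finite V] {W : Submodule (ZMod q) V} (hW : Nat.card W = q) {e : V} (he : e ∈ W)
    (he0 : e ≠ 0) : ∀ w ∈ W, ∃ x : ZMod q, w = x • e := by
  let f : ZMod q → W := fun x => ⟨x • e, W.smul_mem x he⟩
  have hinj : Function.Injective f := by
    intro x y hxy
    have h1 : x • e = y • e := congrArg Subtype.val hxy
    have h2 : (x - y) • e = 0 := by rw [sub_smul, h1, sub_self]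
    rcases smul_eq_zero.1 h2 with h | h
    · exact sub_eq_zero.1 h
    · exact absurd h he0
  have hbij : Function.Bijective f := by
    apply Function.Injective.bijective_of_nat_card_le hinj
    rw [hW, Nat.card_zmod]
  intro w hw
  obtain ⟨x, hx⟩ := hbij.2 ⟨w, hw⟩
  exact ⟨x, (congrArg Subtype.val hx).symm⟩

/-- The core of HTB2a, for given eigenvectors spanning the two eigenlines of `a`. -/
theorem b2a_core (hρ : Function.Injective ρ) (hhalf : Half ρ) (hq2 : q ≠ 2) {z a : G}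
    (hB : CaseB z a) {e₀ e₁ : V} (hf0 : ρ a e₀ = e₀) (hf1 : ρ a e₁ = -e₁) (hne0 : e₀ ≠ 0)
    (hne1 : e₁ ≠ 0) (hL0 : ∀ v : V, ρ a v = v → ∃ x : ZMod q, v = x • e₀)
    (hL1 : ∀ v : V, ρ a v = -v → ∃ y : ZMod q, v = y • e₁) :
    (∀ v : V, ∃ x y : ZMod q, v = x • e₀ + y • e₁) ∧
      (∀ x y : ZMod q, x • e₀ + y • e₁ = 0 → x = 0 ∧ y = 0) ∧
      (∀ g : G, ∃ α s : ZMod q, α ≠ 0 ∧ (s = 1 ∨ s = -1) ∧
        ((ρ g e₀ = α • e₀ ∧ ρ g e₁ = (s * α⁻¹) • e₁) ∨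
          (ρ g e₀ = α • e₁ ∧ ρ g e₁ = (s * α⁻¹) • e₀))) ∧
      (∀ α s : ZMod q, α ≠ 0 → (s = 1 ∨ s = -1) →
        (∃ g : G, ρ g e₀ = α • e₀ ∧ ρ g e₁ = (s * α⁻¹) • e₁) ∧
          (∃ g : G, ρ g e₀ = α • e₁ ∧ ρ g e₁ = (s * α⁻¹) • e₀)) := by
  classical
  have hcompl := caseB_isCompl ρ hρ hhalf hq2 hB
  -- independence
  have hind : ∀ x y : ZMod q, x • e₀ + y • e₁ = 0 → x = 0 ∧ y = 0 := by
    intro x y hxy
    have hu : x • e₀ = -(y • e₁) := eq_neg_of_add_eq_zero_left hxy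
    have ha0 : ρ a (x • e₀) = x • e₀ := by rw [map_smul, hf0]
    have ha1 : ρ a (x • e₀) = -(x • e₀) := by
      rw [hu, map_neg, map_smul, hf1, smul_neg]
    have hz : x • e₀ = 0 := eq_zero_of_eq_neg hq2 (ha0.symm.trans ha1)
    have hx : x = 0 := by
      rcases smul_eq_zero.1 hz with h | h
      · exact h
      · exact absurd h hne0
    have hy : y = 0 := by
      rw [hx, zero_smul, zero_add] at hxy
      rcases smul_eq_zero.1 hxy with h | h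
      · exact h
      · exact absurd h hne1
    exact ⟨hx, hy⟩
  -- spanning
  have hspan : ∀ v : V, ∃ x y : ZMod q, v = x • e₀ + y • e₁ := by
    intro v
    have hv : v ∈ fix ρ a ⊔ fix ρ (a * z) := by
      rw [hcompl.sup_eq_top]; exact Submodule.mem_top
    obtain ⟨v0, hv0, v1, hv1, rfl⟩ := Submodule.mem_sup.1 hv
    obtain ⟨x, hx⟩ := hL0 v0 hv0
    obtain ⟨y, hy⟩ := hL1 v1 ((mem_fix_mul_iff ρ hρ hhalf hq2 hB v1).1 hv1)
    exact ⟨x, y, by rw [← hx, ← hy]⟩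
  -- faithfulness
  have hfaith : ∀ g : G, ρ g e₀ = e₀ → ρ g e₁ = e₁ → g = 1 := by
    intro g h0 h1
    apply hρ
    ext v
    obtain ⟨x, y, rfl⟩ := hspan v
    rw [map_add, map_smul, map_smul, h0, h1, map_one]
    rfl
  -- elements centralizing `a` are diagonal, the others are anti-diagonal
  have hcent : ∀ g : G, g * a * g⁻¹ = a →
      ∃ α β : ZMod q, ρ g e₀ = α • e₀ ∧ ρ g e₁ = β • e₁ := by
    intro g hg
    obtain ⟨α, hα⟩ := hL0 (ρ g e₀) (by rw [apply_comm_of_conj ρ hg, hf0])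
    obtain ⟨β, hβ⟩ := hL1 (ρ g e₁) (by rw [apply_comm_of_conj ρ hg, hf1, map_neg])
    exact ⟨α, β, hα, hβ⟩
  have hswap : ∀ g : G, g * a * g⁻¹ = a * z →
      ∃ γ δ : ZMod q, ρ g e₀ = γ • e₁ ∧ ρ g e₁ = δ • e₀ := by
    intro g hg
    obtain ⟨γ, hγ⟩ := hL1 (ρ g e₀)
      (by rw [apply_anticomm_of_conj ρ hρ hhalf hq2 hB hg, hf0])
    obtain ⟨δ, hδ⟩ := hL0 (ρ g e₁)
      (by rw [apply_anticomm_of_conj ρ hρ hhalf hq2 hB hg, hf1, map_neg, neg_neg])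
    exact ⟨γ, δ, hγ, hδ⟩
  have hw : e₀ + e₁ ≠ 0 := by
    intro h
    have := hind 1 1 (by rw [one_smul, one_smul]; exact h)
    exact one_ne_zero this.1
  -- the stabilizer of `e₀ + e₁`
  have hSC : ∀ g ∈ stab ρ (e₀ + e₁), g * a * g⁻¹ = a → g = 1 := by
    intro g hg hga
    obtain ⟨α, β, hα, hβ⟩ := hcent g hga
    have h1 : ρ g (e₀ + e₁) = e₀ + e₁ := hg
    rw [map_add, hα, hβ] at h1
    have h2 : (α - 1) • e₀ + (β - 1) • e₁ = 0 := by
      rw [sub_smul, sub_smul, one_smul, one_smul, sub_add_sub_comm, h1, sub_self]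
    obtain ⟨ha1, hb1⟩ := hind _ _ h2
    apply hfaith g
    · rw [hα, sub_eq_zero.1 ha1, one_smul]
    · rw [hβ, sub_eq_zero.1 hb1, one_smul]
  have hSS : ∀ g ∈ stab ρ (e₀ + e₁), ∀ h ∈ stab ρ (e₀ + e₁), g * a * g⁻¹ = a * z →
      h * a * h⁻¹ = a * z → g = h := by
    intro g hg h hh hga hha
    have hmem : g⁻¹ * h ∈ stab ρ (e₀ + e₁) :=
      (stab ρ _).mul_mem ((stab ρ _).inv_mem hg) hh
    have hc : (g⁻¹ * h) * a * (g⁻¹ * h)⁻¹ = a := by
      have e1 : (g⁻¹ * h) * a * (g⁻¹ * h)⁻¹ = g⁻¹ * (h * a * h⁻¹) * g := by group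
      rw [e1, hha, ← hga]; group
    exact inv_mul_eq_one.1 (hSC _ hmem hc)
  have hScard : Nat.card (stab ρ (e₀ + e₁)) ≤ 2 := by
    by_cases hex : ∃ h ∈ stab ρ (e₀ + e₁), h * a * h⁻¹ = a * z
    · obtain ⟨h, hh, hha⟩ := hex
      have hsub : (stab ρ (e₀ + e₁) : Set G) ⊆ {1, h} := by
        intro g hg
        rcases hB.hconj g with hga | hga
        · left; exact hSC g hg hga
        · right; exact hSS g hg h hh hga hha
      calc Nat.card (stab ρ (e₀ + e₁)) = (stab ρ (e₀ + e₁) : Set G).ncard :=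
            Nat.card_coe_set_eq _
        _ ≤ ({1, h} : Set G).ncard := Set.ncard_le_ncard hsub (Set.toFinite _)
        _ ≤ ({h} : Set G).ncard + 1 := Set.ncard_insert_le _ _
        _ = 2 := by rw [Set.ncard_singleton]
    · push Not at hex
      have hbot : stab ρ (e₀ + e₁) = ⊥ := by
        rw [eq_bot_iff]
        intro g hg
        rcases hB.hconj g with hga | hga
        · exact Subgroup.mem_bot.2 (hSC g hg hga)
        · exact absurd hga (hex g hg)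
      rw [hbot, Subgroup.card_bot]
      norm_num
  have ha1 : a ≠ 1 := by
    intro h
    have h2 := hB.ha2
    rw [h, orderOf_one] at h2
    omega
  have hS0 : ∀ g ∈ stab ρ e₀, g = 1 ∨ g = a := by
    have hc : Nat.card (stab ρ e₀) ≤ 2 := (card_stab_eq ρ hhalf hne0 hw).le.trans hScard
    have hsub : ({1, a} : Set G) ⊆ (stab ρ e₀ : Set G) := by
      intro g hg
      rcases hg with rfl | rfl
      · exact (stab ρ e₀).one_mem
      · exact hf0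
    have hcard : ({1, a} : Set G).ncard = 2 := Set.ncard_pair (Ne.symm ha1)
    have heq : ({1, a} : Set G) = (stab ρ e₀ : Set G) := by
      apply Set.eq_of_subset_of_ncard_le hsub _ (Set.toFinite _)
      rw [hcard, ← Nat.card_coe_set_eq]
      exact hc
    intro g hg
    have hg' : g ∈ ({1, a} : Set G) := by rw [heq]; exact hg
    simpa using hg'
  -- the swapping elements
  have hr : ∀ r : ZMod q, r ≠ 0 →
      ∃ h : G, h * a * h⁻¹ = a * z ∧ ρ h e₀ = r • e₁ ∧ ρ h e₁ = r⁻¹ • e₀ := by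
    intro r hr0
    have h1' : ρ a (r • e₁) = -(r • e₁) := by rw [map_smul, hf1, smul_neg]
    have hne : r • e₁ ≠ 0 := by
      intro h
      rcases smul_eq_zero.1 h with h | h
      · exact hr0 h
      · exact hne1 h
    obtain ⟨h, hha, hh0, hh1⟩ := caseB_exists_swap ρ hρ hhalf hq2 hB hf0 h1' hne0 hne
    refine ⟨h, hha, hh0, ?_⟩
    rw [map_smul] at hh1
    rw [← hh1, smul_smul, inv_mul_cancel₀ hr0, one_smul]
  have hswapform : ∀ h : G, h * a * h⁻¹ = a * z → ∃ γ s : ZMod q, γ ≠ 0 ∧ (s = 1 ∨ s = -1) ∧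
      ρ h e₀ = γ • e₁ ∧ ρ h e₁ = (s * γ⁻¹) • e₀ := by
    intro h hha
    obtain ⟨γ, δ, hγ, hδ⟩ := hswap h hha
    have hγ0 : γ ≠ 0 := by
      intro h0
      rw [h0, zero_smul] at hγ
      exact apply_ne_zero ρ h hne0 hγ
    obtain ⟨k, hka, hk0, hk1⟩ := hr γ hγ0
    have hfix : k⁻¹ * h ∈ stab ρ e₀ := by
      change ρ (k⁻¹ * h) e₀ = e₀
      rw [map_mul, LinearEquiv.mul_apply, hγ, ← hk0, apply_inv_apply]
    rcases hS0 _ hfix with h1 | h1
    · have hkh : h = k := (inv_mul_eq_one.1 h1).symm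
      refine ⟨γ, 1, hγ0, Or.inl rfl, hγ, ?_⟩
      rw [hkh, hk1, one_mul]
    · have hkh : h = k * a := by rw [← h1]; group
      refine ⟨γ, -1, hγ0, Or.inr rfl, hγ, ?_⟩
      rw [hkh, map_mul, LinearEquiv.mul_apply, hf1, map_neg, hk1, neg_one_mul, neg_smul]
  obtain ⟨k1, hk1a, hk10, hk11⟩ := hr 1 one_ne_zero
  rw [one_smul] at hk10
  rw [inv_one, one_smul] at hk11
  have hcentform : ∀ g : G, g * a * g⁻¹ = a → ∃ α s : ZMod q, α ≠ 0 ∧ (s = 1 ∨ s = -1) ∧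
      ρ g e₀ = α • e₀ ∧ ρ g e₁ = (s * α⁻¹) • e₁ := by
    intro g hga
    obtain ⟨α, β, hα, hβ⟩ := hcent g hga
    have hkg : (k1 * g) * a * (k1 * g)⁻¹ = a * z := by
      have e1 : (k1 * g) * a * (k1 * g)⁻¹ = k1 * (g * a * g⁻¹) * k1⁻¹ := by group
      rw [e1, hga, hk1a]
    obtain ⟨γ, s, hγ0, hs, h0', h1'⟩ := hswapform _ hkg
    have e0' : ρ (k1 * g) e₀ = α • e₁ := by
      rw [map_mul, LinearEquiv.mul_apply, hα, map_smul, hk10]
    have e1' : ρ (k1 * g) e₁ = β • e₀ := by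
      rw [map_mul, LinearEquiv.mul_apply, hβ, map_smul, hk11]
    have hαγ : α = γ := by
      have h3 : (α - γ) • e₁ = 0 := by rw [sub_smul, ← e0', h0', sub_self]
      rcases smul_eq_zero.1 h3 with h | h
      · exact sub_eq_zero.1 h
      · exact absurd h hne1
    have hβ' : β = s * γ⁻¹ := by
      have h3 : (β - s * γ⁻¹) • e₀ = 0 := by rw [sub_smul, ← e1', h1', sub_self]
      rcases smul_eq_zero.1 h3 with h | h
      · exact sub_eq_zero.1 h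
      · exact absurd h hne0
    refine ⟨α, s, hαγ ▸ hγ0, hs, hα, ?_⟩
    rw [hβ, hβ', hαγ]
  have hform : ∀ g : G, ∃ α s : ZMod q, α ≠ 0 ∧ (s = 1 ∨ s = -1) ∧
      ((ρ g e₀ = α • e₀ ∧ ρ g e₁ = (s * α⁻¹) • e₁) ∨
        (ρ g e₀ = α • e₁ ∧ ρ g e₁ = (s * α⁻¹) • e₀)) := by
    intro g
    rcases hB.hconj g with hga | hga
    · obtain ⟨α, s, hα0, hs, h0', h1'⟩ := hcentform g hga
      exact ⟨α, s, hα0, hs, Or.inl ⟨h0', h1'⟩⟩
    · obtain ⟨γ, s, hγ0, hs, h0', h1'⟩ := hswapform g hga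
      exact ⟨γ, s, hγ0, hs, Or.inr ⟨h0', h1'⟩⟩
  have hexswap : ∀ α s : ZMod q, α ≠ 0 → (s = 1 ∨ s = -1) →
      ∃ g : G, ρ g e₀ = α • e₁ ∧ ρ g e₁ = (s * α⁻¹) • e₀ := by
    intro α s hα0 hs
    obtain ⟨k, hka, hk0, hk1⟩ := hr α hα0
    rcases hs with rfl | rfl
    · exact ⟨k, hk0, by rw [hk1, one_mul]⟩
    · refine ⟨k * a, ?_, ?_⟩
      · rw [map_mul, LinearEquiv.mul_apply, hf0, hk0]
      · rw [map_mul, LinearEquiv.mul_apply, hf1, map_neg, hk1, neg_one_mul, neg_smul]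
  have hexdiag : ∀ α s : ZMod q, α ≠ 0 → (s = 1 ∨ s = -1) →
      ∃ g : G, ρ g e₀ = α • e₀ ∧ ρ g e₁ = (s * α⁻¹) • e₁ := by
    intro α s hα0 hs
    obtain ⟨k, hk0, hk1⟩ := hexswap α s hα0 hs
    have hi0 : ρ k1⁻¹ e₁ = e₀ := by rw [← hk10, apply_inv_apply]
    have hi1 : ρ k1⁻¹ e₀ = e₁ := by rw [← hk11, apply_inv_apply]
    refine ⟨k1⁻¹ * k, ?_, ?_⟩
    · rw [map_mul, LinearEquiv.mul_apply, hk0, map_smul, hi0]
    · rw [map_mul, LinearEquiv.mul_apply, hk1, map_smul, hi1]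
  exact ⟨hspan, hind, hform, fun α s hα0 hs => ⟨hexdiag α s hα0 hs, hexswap α s hα0 hs⟩⟩

/-- PIECE HTB2a. Case B with `dim V = 2`: the group in a basis `e₀ ∈ C_V(a)`, `e₁ ∈ C_V(az)`. -/
theorem caseB_basis (hρ : Function.Injective ρ) (hhalf : Half ρ) (hq2 : q ≠ 2) {z a : G}
    (hB : CaseB z a) (hV : Nat.card V = q ^ 2) (h0 : Nat.card (fix ρ a) = q) :
    ∃ e₀ e₁ : V, (∀ v : V, ∃ x y : ZMod q, v = x • e₀ + y • e₁) ∧
      (∀ x y : ZMod q, x • e₀ + y • e₁ = 0 → x = 0 ∧ y = 0) ∧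
      (∀ g : G, ∃ α s : ZMod q, α ≠ 0 ∧ (s = 1 ∨ s = -1) ∧
        ((ρ g e₀ = α • e₀ ∧ ρ g e₁ = (s * α⁻¹) • e₁) ∨
          (ρ g e₀ = α • e₁ ∧ ρ g e₁ = (s * α⁻¹) • e₀))) ∧
      (∀ α s : ZMod q, α ≠ 0 → (s = 1 ∨ s = -1) →
        (∃ g : G, ρ g e₀ = α • e₀ ∧ ρ g e₁ = (s * α⁻¹) • e₁) ∧
          (∃ g : G, ρ g e₀ = α • e₁ ∧ ρ g e₁ = (s * α⁻¹) • e₀)) := by
  have hq : q.Prime := Fact.out
  have _hV := hV
  have h1 : Nat.card (fix ρ (a * z)) = q :=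
    (caseB_card_fix_eq ρ hρ hhalf hq2 hB).symm.trans h0
  have hq1 : 1 < q := hq.one_lt
  obtain ⟨e0, he0⟩ : ∃ v : fix ρ a, v ≠ 0 := by
    haveI : Nontrivial (fix ρ a) := Finite.one_lt_card_iff_nontrivial.1 (by rw [h0]; exact hq1)
    exact exists_ne 0
  obtain ⟨e1, he1⟩ : ∃ v : fix ρ (a * z), v ≠ 0 := by
    haveI : Nontrivial (fix ρ (a * z)) :=
      Finite.one_lt_card_iff_nontrivial.1 (by rw [h1]; exact hq1)
    exact exists_ne 0
  have he0' : (e0 : V) ≠ 0 := fun h => he0 (Subtype.ext h)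
  have he1' : (e1 : V) ≠ 0 := fun h => he1 (Subtype.ext h)
  refine ⟨e0, e1, b2a_core ρ hρ hhalf hq2 hB e0.2
    ((mem_fix_mul_iff ρ hρ hhalf hq2 hB _).1 e1.2) he0' he1' ?_ ?_⟩
  · intro v hv
    exact b2a_line h0 e0.2 he0' v hv
  · intro v hv
    exact b2a_line h1 e1.2 he1' v ((mem_fix_mul_iff ρ hρ hhalf hq2 hB v).2 hv)

end Cfsg.Agent.Helper8.HT
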