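import Mathlib
import Cfsg.Agent.Lib.Helper8.HTFPF
import Cfsg.Agent.Lib.Helper12.HTIND
import Cfsg.Agent.Lib.Helper12.HTNE
import Cfsg.Agent.Lib.Helper12.HTNOE
import Cfsg.Agent.S0126

/-!
# Half-transitive linear `p`-groups, `p` odd: the group is cyclic (helper15, piece HTODD of S3371)
-/

set_option autoImplicit false
set_option linter.style.haveILetI false

namespace Cfsg.Agent.Helper8.HT

variable {q : ℕ} [Fact q.Prime] {V : Type*} [AddCommGroup V] [Module (ZMod q) V] [Finite V]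
  {G : Type*} [Group G] [Finite G] (ρ : G →* (V ≃ₗ[ZMod q] V))

omit [Finite V] [Finite G] in
/-- An element `h` with `h a h⁻¹ = a z ^ j` (`z` central) maps `C_V(a z ^ k)` into
`C_V(a z ^ (k + j))`. -/
theorem odd_conj_fix {a z h : G} (hzc : z ∈ Subgroup.center G) {j k : ℕ}
    (hh : h * a * h⁻¹ = a * z ^ j) {v : V} (hv : ρ (a * z ^ k) v = v) :
    ρ (a * z ^ (k + j)) (ρ h v) = ρ h v := by
  have hzk : ∀ g : G, g * z ^ k = z ^ k * g := fun g =>
    Subgroup.mem_center_iff.1 (Subgroup.pow_mem _ hzc k) g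
  have h1 : h * a = a * z ^ j * h := by rw [← hh]; group
  have e : a * z ^ (k + j) * h = h * (a * z ^ k) := by
    calc a * z ^ (k + j) * h = a * z ^ j * (z ^ k * h) := by
          rw [add_comm, pow_add]; group
      _ = a * z ^ j * (h * z ^ k) := by rw [hzk h]
      _ = (a * z ^ j * h) * z ^ k := by group
      _ = h * a * z ^ k := by rw [← h1]
      _ = h * (a * z ^ k) := by group
  rw [← LinearEquiv.mul_apply, ← map_mul, e, map_mul, LinearEquiv.mul_apply, hv]

/-- Among four vectors with sum zero lying in the fixed spaces `C_V(a z ^ kᵢ)`, one whose index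
is different from the three others vanishes. -/
theorem odd_alone {p : ℕ} [Fact p.Prime] (hpq : p ≠ q) {a z : G} (haz : a * z = z * a)
    (ha : a ^ p = 1) (hz : z ^ p = 1) (hfpf : ∀ v : V, v ≠ 0 → ρ z v ≠ v)
    {k0 k1 k2 k3 : ℕ} (h0 : k0 < p) (h1 : k1 < p) (h2 : k2 < p) (h3 : k3 < p)
    (h01 : k0 ≠ k1) (h02 : k0 ≠ k2) (h03 : k0 ≠ k3) {x0 x1 x2 x3 : V}
    (hx0 : ρ (a * z ^ k0) x0 = x0) (hx1 : ρ (a * z ^ k1) x1 = x1)
    (hx2 : ρ (a * z ^ k2) x2 = x2) (hx3 : ρ (a * z ^ k3) x3 = x3)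
    (hsum : x0 + x1 + x2 + x3 = 0) : x0 = 0 := by
  classical
  let v : ℕ → V := fun k => (if k = k0 then x0 else 0) + (if k = k1 then x1 else 0) +
    (if k = k2 then x2 else 0) + (if k = k3 then x3 else 0)
  have hv : ∀ k < p, ρ (a * z ^ k) (v k) = v k := by
    intro k _
    have hmem : v k ∈ fix ρ (a * z ^ k) := by
      refine Submodule.add_mem _ (Submodule.add_mem _ (Submodule.add_mem _ ?_ ?_) ?_) ?_
      · split_ifs with h
        · rw [h]; exact hx0
        · exact Submodule.zero_mem _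
      · split_ifs with h
        · rw [h]; exact hx1
        · exact Submodule.zero_mem _
      · split_ifs with h
        · rw [h]; exact hx2
        · exact Submodule.zero_mem _
      · split_ifs with h
        · rw [h]; exact hx3
        · exact Submodule.zero_mem _
    exact hmem
  have hsum' : ∑ k ∈ Finset.range p, v k = 0 := by
    simp only [v, Finset.sum_add_distrib, Finset.sum_ite_eq', Finset.mem_range, if_pos h0,
      if_pos h1, if_pos h2, if_pos h3]
    exact hsum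
  have h := indep_fix ρ hpq haz ha hz hfpf v hv hsum' k0 h0
  simp only [v, if_true, if_neg h01, if_neg h02, if_neg h03, add_zero] at h
  exact h

/-- PIECE HTODD. For odd `p ≠ q` a half-transitive `p`-group is cyclic. -/
theorem isCyclic_of_odd [Nontrivial V] (hρ : Function.Injective ρ) (hhalf : Half ρ) {p : ℕ}
    [Fact p.Prime] (hp2 : p ≠ 2) (hpq : p ≠ q) (hG : IsPGroup p G) : IsCyclic G := by
  classical
  by_contra hnc
  have hp : p.Prime := Fact.out
  have hpodd : p % 2 = 1 := hp.eq_two_or_odd.resolve_left hp2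
  obtain ⟨U, hUn, ⟨-, hUe⟩, hUc⟩ := Cfsg.Agent.S0126.result hp2 hG hnc
  haveI := hUn
  obtain ⟨z, u, -, -, hzc, hzo, huo, huz, hconj_u⟩ := normal_rank_two_elements hG U hUc hUe
  have hzp : z ^ p = 1 := by rw [← hzo]; exact pow_orderOf_eq_one z
  have hup : u ^ p = 1 := by rw [← huo]; exact pow_orderOf_eq_one u
  have hzcomm : ∀ g : G, g * z = z * g := fun g => Subgroup.mem_center_iff.1 hzc g
  have hfpf := fpf_of_central ρ hρ hhalf hpq hzc hzo
  have hmod : ∀ n : ℕ, z ^ (n % p) = z ^ n := by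
    intro n
    have h := pow_mod_orderOf z n
    rwa [hzo] at h
  have hzkc : ∀ (n : ℕ) (g : G), g * z ^ n = z ^ n * g := fun n g =>
    Subgroup.mem_center_iff.1 (Subgroup.pow_mem _ hzc n) g
  rcases exists_fix_of_rank_two ρ hpq (hzcomm u) hup hzp with ⟨v, hv, hzv⟩ | ⟨k, v₀, hv0, hfix0⟩
  · exact hfpf v hv hzv
  have hap : (u * z ^ k) ^ p = 1 := by
    rw [(show Commute u (z ^ k) from hzkc k u).mul_pow, hup, one_mul, ← pow_mul, mul_comm,
      pow_mul, hzp, one_pow]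
  have hconj : ∀ s : G, ∃ j : ℕ, j < p ∧ s * (u * z ^ k) * s⁻¹ = u * z ^ k * z ^ j := by
    intro s
    obtain ⟨j, hj⟩ := hconj_u s
    refine ⟨j % p, Nat.mod_lt _ hp.pos, ?_⟩
    rw [hmod]
    calc s * (u * z ^ k) * s⁻¹ = s * u * (z ^ k * s⁻¹) := by group
      _ = s * u * (s⁻¹ * z ^ k) := by rw [hzkc k s⁻¹]
      _ = (s * u * s⁻¹) * z ^ k := by group
      _ = u * z ^ j * z ^ k := by rw [hj]
      _ = u * (z ^ j * z ^ k) := by group
      _ = u * (z ^ k * z ^ j) := by rw [hzkc k (z ^ j)]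
      _ = u * z ^ k * z ^ j := by group
  have ha1 : u * z ^ k ≠ 1 := by
    intro h
    apply huz
    have h2 : u = (z ^ k)⁻¹ := eq_inv_of_mul_eq_one_left h
    rw [h2]
    exact Subgroup.inv_mem _ (Subgroup.pow_mem _ (Subgroup.mem_zpowers z) k)
  generalize u * z ^ k = a at hfix0 hap hconj ha1
  have haz : a * z = z * a := hzcomm a
  have hao : orderOf a = p := orderOf_eq_prime hap ha1
  have hanc : a ∉ Subgroup.center G := fun hc =>
    fpf_of_central ρ hρ hhalf hpq hc hao v₀ hv0 hfix0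
  obtain ⟨g, hg⟩ : ∃ g : G, g * a ≠ a * g := by
    by_contra hall
    push Not at hall
    exact hanc (Subgroup.mem_center_iff.2 hall)
  obtain ⟨j₀, hj0p, hgj⟩ := hconj g
  have hj0 : j₀ ≠ 0 := by
    intro h0
    apply hg
    rw [h0, pow_zero, mul_one] at hgj
    calc g * a = g * a * g⁻¹ * g := by group
      _ = a * g := by rw [hgj]
  have hP0 : ρ (a * z ^ 0) v₀ = v₀ := by rw [pow_zero, mul_one]; exact hfix0
  have hv1 : ρ g v₀ ≠ 0 := apply_ne_zero ρ g hv0
  have hP1 : ρ (a * z ^ j₀) (ρ g v₀) = ρ g v₀ := by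
    have h := odd_conj_fix ρ hzc hgj hP0
    rwa [zero_add] at h
  generalize ρ g v₀ = v₁ at hv1 hP1
  have hzero : ρ (a * z ^ j₀) (0 : V) = 0 := map_zero _
  have hw : v₀ + v₁ ≠ 0 := by
    intro h
    apply hv0
    exact odd_alone ρ hpq haz hap hzp hfpf hp.pos hj0p hj0p hj0p (Ne.symm hj0) (Ne.symm hj0)
      (Ne.symm hj0) hP0 hP1 hzero hzero (by rw [add_zero, add_zero]; exact h)
  have hle : stab ρ (v₀ + v₁) ≤ stab ρ v₀ := by
    intro h hh
    obtain ⟨j, hjp, hhj⟩ := hconj h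
    have hst : ρ h v₀ + ρ h v₁ = v₀ + v₁ := by
      have h1 : ρ h (v₀ + v₁) = v₀ + v₁ := hh
      rwa [map_add] at h1
    have hx0 : ρ (a * z ^ j) (ρ h v₀) = ρ h v₀ := by
      have h1 := odd_conj_fix ρ hzc hhj hP0
      rwa [zero_add] at h1
    have hx1' : ρ (a * z ^ (j₀ + j)) (ρ h v₁) = ρ h v₁ := odd_conj_fix ρ hzc hhj hP1
    obtain ⟨m, hmp, hx1, hmcases⟩ : ∃ m : ℕ, m < p ∧ ρ (a * z ^ m) (ρ h v₁) = ρ h v₁ ∧
        (m = j₀ + j ∨ m + p = j₀ + j) := by
      refine ⟨(j₀ + j) % p, Nat.mod_lt _ hp.pos, by rw [hmod]; exact hx1', ?_⟩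
      rcases lt_or_ge (j₀ + j) p with hlt | hge
      · left; exact Nat.mod_eq_of_lt hlt
      · right
        rw [Nat.mod_eq_sub_mod hge, Nat.mod_eq_of_lt (by omega)]
        omega
    have hn0 : ρ (a * z ^ 0) (-v₀) = -v₀ := by rw [map_neg, hP0]
    have hn1 : ρ (a * z ^ j₀) (-v₁) = -v₁ := by rw [map_neg, hP1]
    have hj : j = 0 := by
      by_contra hjne
      by_cases hjj : j = j₀
      · have h1 : ρ h v₁ = 0 :=
          odd_alone ρ hpq haz hap hzp hfpf hmp hjp hp.pos hj0p (by omega) (by omega) (by omega)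
            hx1 hx0 hn0 hn1 (by
              have e : ρ h v₁ + ρ h v₀ + -v₀ + -v₁ = (ρ h v₀ + ρ h v₁) - (v₀ + v₁) := by abel
              rw [e, hst, sub_self])
        exact hv1 ((ρ h).map_eq_zero_iff.1 h1)
      · have h1 : ρ h v₀ = 0 :=
          odd_alone ρ hpq haz hap hzp hfpf hjp hmp hp.pos hj0p (by omega) (by omega) (by omega)
            hx0 hx1 hn0 hn1 (by
              have e : ρ h v₀ + ρ h v₁ + -v₀ + -v₁ = (ρ h v₀ + ρ h v₁) - (v₀ + v₁) := by abel
              rw [e, hst, sub_self])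
        exact hv0 ((ρ h).map_eq_zero_iff.1 h1)
    subst hj
    rw [add_zero] at hx1'
    have hy0 : ρ (a * z ^ 0) (ρ h v₀ - v₀) = ρ h v₀ - v₀ := by rw [map_sub, hx0, hP0]
    have hy1 : ρ (a * z ^ j₀) (ρ h v₁ - v₁) = ρ h v₁ - v₁ := by rw [map_sub, hx1', hP1]
    have h1 : ρ h v₀ - v₀ = 0 :=
      odd_alone ρ hpq haz hap hzp hfpf hp.pos hj0p hj0p hj0p (Ne.symm hj0) (Ne.symm hj0)
        (Ne.symm hj0) hy0 hy1 hzero hzero (by
          have e : ρ h v₀ - v₀ + (ρ h v₁ - v₁) + 0 + 0 = (ρ h v₀ + ρ h v₁) - (v₀ + v₁) := by abel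
          rw [e, hst, sub_self])
    exact sub_eq_zero.1 h1
  have heq : stab ρ (v₀ + v₁) = stab ρ v₀ :=
    Subgroup.eq_of_le_of_card_ge hle (card_stab_eq ρ hhalf hw hv0).ge
  have hamem : a ∈ stab ρ (v₀ + v₁) := by rw [heq]; exact hfix0
  have hav1 : ρ a v₁ = v₁ := by
    have h1 : ρ a (v₀ + v₁) = v₀ + v₁ := hamem
    rw [map_add, hfix0] at h1
    exact add_left_cancel h1
  have hzv1 : ρ (z ^ j₀) v₁ = v₁ := by
    have h1 := hP1
    rw [map_mul, LinearEquiv.mul_apply] at h1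
    have h2 : ρ a (ρ (z ^ j₀) v₁) = ρ a v₁ := by rw [h1, hav1]
    exact (ρ a).injective h2
  have hzj1 : z ^ j₀ ≠ 1 := by
    intro h
    have h1 := orderOf_dvd_of_pow_eq_one h
    rw [hzo] at h1
    have h2 := Nat.le_of_dvd (Nat.pos_of_ne_zero hj0) h1
    omega
  have hzjo : orderOf (z ^ j₀) = p :=
    orderOf_eq_prime (by rw [← pow_mul, mul_comm, pow_mul, hzp, one_pow]) hzj1
  exact fpf_of_central ρ hρ hhalf hpq (Subgroup.pow_mem _ hzc j₀) hzjo v₁ hv1 hzv1

end Cfsg.Agent.Helper8.HT
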