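import Mathlib
import Cfsg.Agent.Lib.Helper13.InvNDefs

/-!
# INVN piece STEP1 (helper15, precaution): `step_cell`, the rank-one computation.
-/

set_option autoImplicit false
set_option linter.unusedSectionVars false
set_option linter.unusedVariables false

namespace Cfsg.Agent.Helper13.InvN

open Cfsg Cfsg.Lie Cfsg.Agent.Lead.Chev Cfsg.Agent.Helper6.ChevL

variable {F : Type*} [Field F] {D : ChevalleyDatum} (hF : ChevFacts D F) (hS : CorSize D) (hI : CorInj D)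
include hF hS hI

/-- a sign is not zero in the field -/
theorem step1_sign_ne_zero (z : ℤ) (hz : z = 1 ∨ z = -1) : ((z : ℤ) : F) ≠ 0 := by
  rcases hz with rfl | rfl <;> simp

/-- rank one: `x_α(s) n_α⁻¹ = x_{-α}(s⁻¹) (x_α(-s) h_α(s))` -/
theorem step1_rank_one (r : ℕ) (s : F) :
    xGL D hF.xadd r s * (nGL D hF.xadd r)⁻¹ =
      xGL D hF.xadd (D.neg r) s⁻¹ * (xGL D hF.xadd r (-s) * hGLt D hF.xadd r s) := by
  have h1 := xGL_neg_eq D hF.xadd r (-s⁻¹)
  rw [neg_neg, inv_neg, inv_inv, neg_neg] at h1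
  -- h1 : x_{-r}(s⁻¹) = x_r(s) * nGLt r (-s) * x_r(s)
  have h2 : nGLt D hF.xadd r s = hGLt D hF.xadd r s * nGL D hF.xadd r := by
    rw [nGL_eq_nGLt]; exact nGLt_eq_hGLt_mul D hF.xadd r s
  have h3 : (nGLt D hF.xadd r (-s))⁻¹ = nGLt D hF.xadd r s := by
    rw [nGLt_inv, neg_neg]
  have h4 : (xGL D hF.xadd r s)⁻¹ = xGL D hF.xadd r (-s) := xGL_inv D hF.xadd r s
  rw [h1, ← h4, ← mul_assoc]
  calc xGL D hF.xadd r s * (nGL D hF.xadd r)⁻¹
      = xGL D hF.xadd r s * nGLt D hF.xadd r (-s) * xGL D hF.xadd r s * (xGL D hF.xadd r s)⁻¹ *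
          ((nGLt D hF.xadd r (-s))⁻¹) * (nGL D hF.xadd r)⁻¹ := by group
    _ = xGL D hF.xadd r s * nGLt D hF.xadd r (-s) * xGL D hF.xadd r s * (xGL D hF.xadd r s)⁻¹ *
          (hGLt D hF.xadd r s * nGL D hF.xadd r) * (nGL D hF.xadd r)⁻¹ := by rw [h3, h2]
    _ = _ := by group

/-- PIECE STEP1: a non-zero `α_i`-coordinate of `v` moves `t` into the longer cell of `s_i w` -/
theorem step_cell (t : GL D.Idx F) (w : List ℕ) (hw : WOK D w) (v h : GL D.Idx F) (hG : Good hF t w v h)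
    (i : ℕ) (hi : i < D.rank) (hfix : reflWord D w (D.simple i) = D.simple i)
    (v' : GL D.Idx F) (hv' : v' ∈ posExcept D F (D.simple i)) (a : F) (ha : a ≠ 0)
    (hv : v = v' * xGL D hF.xadd (D.simple i) a) :
    InCell hF (nGL D hF.xadd (D.simple i) * t * (nGL D hF.xadd (D.simple i))⁻¹) (i :: w) := by
  obtain ⟨et, -, hh, -⟩ := hG
  have hX := hF.xadd
  have hN := hF.nsimple
  have hα := hF.simple_lt i hi
  have hαpos := hF.simple_pos i hi
  have hnα := hF.sign.neg_lt _ hα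
  have hrev : reflWord D w.reverse (D.simple i) = D.simple i := by
    have := reflWord_reverse_cancel' D (etaOf D) hF.facts w hw (D.simple i) hα
    rwa [hfix] at this
  set α := D.simple i with hαdef
  set ni := nGL D hF.xadd α with hni
  set n := nWordGL D hF.xadd w with hn
  -- E1
  obtain ⟨c, hc, hconj⟩ := hF.diagonal_conj_xGL h⁻¹ (inv_mem hh) α hα
  have E1 : xGL D hF.xadd α a * h = h * xGL D hF.xadd α (c * a) := by
    have := hconj a
    rw [inv_inv] at this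
    rw [← this]
    group
  -- E2
  have E2 := xGL_mul_nWordGL D hF.xadd (etaOf D) hN w hw α hα (c * a)
  rw [hrev, ← hn] at E2
  have hsg : signWord D (etaOf D) w α = 1 ∨ signWord D (etaOf D) w α = -1 :=
    signWord_sq D (etaOf D) w (fun j hj s => (hN j (hw j hj)).sign s) α
  set s : F := ((signWord D (etaOf D) w α : ℤ) : F) * (c * a) with hs
  have hs0 : s ≠ 0 := mul_ne_zero (step1_sign_ne_zero hF hS hI _ hsg) (mul_ne_zero hc ha)
  -- E3
  have E3 := step1_rank_one hF hS hI α s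
  -- E4
  have E4' := nWordGL_conj D hF.xadd (etaOf D) hN w hw (D.neg α) hnα s⁻¹
  rw [reflWord_neg D (etaOf D) hF.facts w hw α hα, hfix, ← hn] at E4'
  set σ1 : F := ((signWord D (etaOf D) w (D.neg α) : ℤ) : F) * s⁻¹ with hσ1
  have E4 : n * xGL D hF.xadd (D.neg α) s⁻¹ = xGL D hF.xadd (D.neg α) σ1 * n := by
    rw [← E4']; group
  -- E5
  have E5' := nGL_conj D hF.xadd i (etaOf D i) (hN i hi) (D.neg α) hnα σ1
  rw [(hF.facts i hi).wneg α hα, reflectRoot_simple, hF.sign.neg_neg α hα, ← hαdef, ← hni] at E5'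
  set σ2 : F := ((etaOf D i (D.neg α) : ℤ) : F) * σ1 with hσ2
  have E5 : ni * xGL D hF.xadd (D.neg α) σ1 = xGL D hF.xadd α σ2 * ni := by
    rw [← E5']; group
  -- memberships
  have hh' : ni * h * ni⁻¹ ∈ D.diagonalSubgroup F :=
    nGL_conj_mem_diagonal D hF.xadd i (etaOf D i) (hN i hi) h hh
  have hv1 : ni * v' * ni⁻¹ ∈ D.borelSubgroup F :=
    posUnipotent_le_borel D (hF.posExcept_le_posUnipotent i hi (hF.nGL_conj_posExcept i hi v' hv'))
  have hx2 : xGL D hF.xadd α σ2 ∈ D.borelSubgroup F :=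
    posUnipotent_le_borel D (xGL_mem_posUnipotent D hF.xadd α hαpos σ2)
  have hb2 : xGL D hF.xadd α (-s) * hGLt D hF.xadd α s ∈ D.borelSubgroup F :=
    mul_mem (posUnipotent_le_borel D (xGL_mem_posUnipotent D hF.xadd α hαpos (-s)))
      (diagonal_le_borel D (hGLt_mem_diagonal D hF.xadd α hα s hs0))
  refine ⟨(ni * v' * ni⁻¹) * (ni * h * ni⁻¹) * xGL D hF.xadd α σ2,
    mul_mem (mul_mem hv1 (diagonal_le_borel D hh')) hx2,
    xGL D hF.xadd α (-s) * hGLt D hF.xadd α s, hb2, ?_⟩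
  rw [nWordGL_cons]
  show ni * t * ni⁻¹ = (ni * v' * ni⁻¹) * (ni * h * ni⁻¹) * xGL D hF.xadd α σ2 * (ni * n) *
    (xGL D hF.xadd α (-s) * hGLt D hF.xadd α s)
  rw [et, hv]
  calc ni * (v' * xGL D hF.xadd α a * h * n) * ni⁻¹
      = (ni * v' * ni⁻¹) * ni * (xGL D hF.xadd α a * h) * n * ni⁻¹ := by group
    _ = (ni * v' * ni⁻¹) * ni * (h * xGL D hF.xadd α (c * a)) * n * ni⁻¹ := by rw [E1]
    _ = (ni * v' * ni⁻¹) * ni * h * (xGL D hF.xadd α (c * a) * n) * ni⁻¹ := by group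
    _ = (ni * v' * ni⁻¹) * ni * h * (n * xGL D hF.xadd α s) * ni⁻¹ := by rw [E2]
    _ = (ni * v' * ni⁻¹) * ni * h * n * (xGL D hF.xadd α s * ni⁻¹) := by group
    _ = (ni * v' * ni⁻¹) * ni * h * n * (xGL D hF.xadd (D.neg α) s⁻¹ *
          (xGL D hF.xadd α (-s) * hGLt D hF.xadd α s)) := by rw [E3]
    _ = (ni * v' * ni⁻¹) * ni * h * (n * xGL D hF.xadd (D.neg α) s⁻¹) *
          (xGL D hF.xadd α (-s) * hGLt D hF.xadd α s) := by group
    _ = (ni * v' * ni⁻¹) * ni * h * (xGL D hF.xadd (D.neg α) σ1 * n) *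
          (xGL D hF.xadd α (-s) * hGLt D hF.xadd α s) := by rw [E4]
    _ = (ni * v' * ni⁻¹) * (ni * h * ni⁻¹) * (ni * xGL D hF.xadd (D.neg α) σ1) * n *
          (xGL D hF.xadd α (-s) * hGLt D hF.xadd α s) := by group
    _ = (ni * v' * ni⁻¹) * (ni * h * ni⁻¹) * (xGL D hF.xadd α σ2 * ni) * n *
          (xGL D hF.xadd α (-s) * hGLt D hF.xadd α s) := by rw [E5]
    _ = _ := by group

end Cfsg.Agent.Helper13.InvN
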