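import Mathlib
import Cfsg.Agent.Lib.Helper15.PMinimal
import Cfsg.Agent.Lib.Helper7.Layer
import Cfsg.Agent.Lib.Helper7.FStar
import Cfsg.Agent.Lib.Helper7.Fitting
import Cfsg.Agent.Lib.Helper7.Cores
import Cfsg.Agent.Lib.Helper22.PPrimeCore
import Cfsg.Agent.S0542

/-!
# `p`-minimal groups, second part (helper15's shared library)
-/

set_option autoImplicit false

namespace Cfsg.Agent.Helper15

open Cfsg

section General

variable {G : Type*} [Group G]

/-- `S` normalizes the join of the `S`-conjugates of `A`. -/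
theorem le_normalizer_iSup_conj (S A : Subgroup G) :
    S ≤ Subgroup.normalizer
      ((⨆ s : ↥S, A.map (MulAut.conj (s : G)).toMonoidHom : Subgroup G) : Set G) := by
  apply Cfsg.Agent.Helper1.le_normalizer_of_forall_conj_mem
  intro g hg x hx
  have h1 : g * x * g⁻¹ ∈ (⨆ s : ↥S, A.map (MulAut.conj (s : G)).toMonoidHom).map
      (MulAut.conj g).toMonoidHom := ⟨x, hx, rfl⟩
  have h2 : (⨆ s : ↥S, A.map (MulAut.conj (s : G)).toMonoidHom).map (MulAut.conj g).toMonoidHom ≤
      ⨆ s : ↥S, A.map (MulAut.conj (s : G)).toMonoidHom := by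
    rw [Subgroup.map_iSup]
    apply iSup_le
    intro s
    rw [map_conj_map_conj]
    exact le_iSup (fun s : ↥S => A.map (MulAut.conj (s : G)).toMonoidHom) (⟨g, hg⟩ * s)
  exact h2 h1

theorem le_iSup_conj (S A : Subgroup G) :
    A ≤ ⨆ s : ↥S, A.map (MulAut.conj (s : G)).toMonoidHom := by
  have := le_iSup (fun s : ↥S => A.map (MulAut.conj (s : G)).toMonoidHom) 1
  simp only [OneMemClass.coe_one] at this
  rwa [map_conj_one] at this

/-- A subgroup equal to its own commutator subgroup is trivial in a solvable group. -/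
theorem eq_bot_of_commutator_eq_of_isSolvable [Group.IsSolvable G] {H : Subgroup G} (h : ⁅H, H⁆ = H) :
    H = ⊥ := by
  have key : ∀ n : ℕ, H ≤ derivedSeries G n := by
    intro n
    induction n with
    | zero => simp
    | succ n ih =>
      rw [derivedSeries_succ, ← h]
      exact Subgroup.commutator_mono ih ih
  obtain ⟨n, hn⟩ := Group.IsSolvable.solvable (G := G)
  rw [eq_bot_iff, ← hn]
  exact key n

/-- If `N` is normal with all Sylow `p`-subgroups normal, then `S ∩ N` is normal. -/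
theorem normal_sylow_inf_of_forall_normal [Finite G] {p : ℕ} [Fact p.Prime] (S : Sylow p G)
    (N : Subgroup G) [hN : N.Normal] (hT : ∀ T : Sylow p ↥N, (T : Subgroup ↥N).Normal) :
    ((S : Subgroup G) ⊓ N).Normal := by
  haveI : Subsingleton (Sylow p N) := by
    have := Sylow.unique_of_normal (Cfsg.Agent.Helper16.sylowInfNormal S N) (hT _)
    exact Unique.instSubsingleton
  have key : ∀ S' : Sylow p G, (S' : Subgroup G) ⊓ N = (S : Subgroup G) ⊓ N := by
    intro S'
    have h1 : Cfsg.Agent.Helper16.sylowInfNormal S' N = Cfsg.Agent.Helper16.sylowInfNormal S N :=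
      Subsingleton.elim _ _
    have h2 := congrArg (fun R : Sylow p N => (R : Subgroup N).map N.subtype) h1
    simp only [Cfsg.Agent.Helper16.coe_sylowInfNormal, Subgroup.subgroupOf_map_subtype] at h2
    exact h2
  constructor
  intro x hx g
  have hx' := Subgroup.mem_inf.mp hx
  have : g * x * g⁻¹ ∈ ((g • S : Sylow p G) : Subgroup G) ⊓ N := by
    refine Subgroup.mem_inf.mpr ⟨?_, hN.conj_mem x hx'.2 g⟩
    show g * x * g⁻¹ ∈ (S : Subgroup G).map (MulAut.conj g).toMonoidHom
    exact ⟨x, hx'.1, rfl⟩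
  rw [key] at this
  exact this

/-- `p`-minimality may be checked on one Sylow `p`-subgroup. -/
theorem isPMinimal_of_sylow [Finite G] {p : ℕ} [Fact p.Prime] (S₀ : Sylow p G)
    (h1 : ¬ (S₀ : Subgroup G).Normal)
    (h2 : ∃! M : Subgroup G, IsCoatom M ∧ (S₀ : Subgroup G) ≤ M) : Cfsg.IsPMinimal p G := by
  intro S'
  obtain ⟨g, rfl⟩ := MulAction.exists_smul_eq G S₀ S'
  constructor
  · intro hn
    apply h1
    have := Sylow.unique_of_normal (g • S₀) hn
    have h : S₀ = g • S₀ := Subsingleton.elim _ _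
    rw [h]
    exact hn
  · obtain ⟨M₀, ⟨hM₀, hS₀M₀⟩, huniq⟩ := h2
    have hco : ∀ (h : G) (X : Subgroup G), IsCoatom X →
        IsCoatom (X.map (MulAut.conj h).toMonoidHom) := by
      intro h X hX
      exact ((MulAut.conj h).mapSubgroup.isCoatom_iff X).mpr hX
    refine ⟨M₀.map (MulAut.conj g).toMonoidHom, ⟨hco g M₀ hM₀, ?_⟩, ?_⟩
    · show (S₀ : Subgroup G).map (MulAut.conj g).toMonoidHom ≤ _
      exact Subgroup.map_mono hS₀M₀
    · rintro M' ⟨hM', hSM'⟩
      have h3 : (S₀ : Subgroup G) ≤ M'.map (MulAut.conj g⁻¹).toMonoidHom := by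
        have : (S₀ : Subgroup G).map (MulAut.conj g).toMonoidHom ≤ M' := hSM'
        have := Subgroup.map_mono (f := (MulAut.conj g⁻¹).toMonoidHom) this
        rwa [map_conj_inv_map_conj] at this
      have h4 := huniq _ ⟨hco g⁻¹ M' hM', h3⟩
      rw [← h4, map_conj_map_conj_inv]

open scoped commutatorElement in
theorem commutatorElement_mul_left_of_commute {z h y : G} (hzh : Commute z h) (hzy : Commute z y) :
    ⁅z * h, y⁆ = ⁅h, y⁆ := by
  have hc : Commute z (h * y * h⁻¹) := (hzh.mul_right hzy).mul_right hzh.inv_right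
  rw [commutatorElement_def, commutatorElement_def]
  calc z * h * y * (z * h)⁻¹ * y⁻¹ = (z * (h * y * h⁻¹)) * z⁻¹ * y⁻¹ := by group
    _ = ((h * y * h⁻¹) * z) * z⁻¹ * y⁻¹ := by rw [hc.eq]
    _ = h * y * h⁻¹ * y⁻¹ := by group

open scoped commutatorElement in
theorem commutatorElement_mul_right_of_commute {z h y : G} (hzh : Commute z h) (hzy : Commute z y) :
    ⁅h, z * y⁆ = ⁅h, y⁆ := by
  have hc : Commute z (y⁻¹) := hzy.inv_right
  have hc2 : Commute z h⁻¹ := hzh.inv_right
  rw [commutatorElement_def, commutatorElement_def]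
  calc h * (z * y) * h⁻¹ * (z * y)⁻¹ = h * z * y * h⁻¹ * y⁻¹ * z⁻¹ := by group
    _ = z * h * y * h⁻¹ * y⁻¹ * z⁻¹ := by rw [hzh.eq]
    _ = z * (h * y * h⁻¹ * y⁻¹) * z⁻¹ := by group
    _ = (h * y * h⁻¹ * y⁻¹) * z * z⁻¹ := by
      have : Commute z (h * y * h⁻¹ * y⁻¹) :=
        ((hzh.mul_right hzy).mul_right hc2).mul_right hc
      rw [this.eq]
    _ = h * y * h⁻¹ * y⁻¹ := by group

end General

section PMinimal

variable {P : Type*} [Group P] [Finite P] {p : ℕ} [Fact p.Prime]

/-- A normal `p'`-subgroup inside `M` is nilpotent. -/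
theorem pMin_isNilpotent_of_normal_coprime (hP : Cfsg.IsPMinimal p P) (S : Sylow p P)
    {M : Subgroup P} (hM : IsCoatom M) (hSM : (S : Subgroup P) ≤ M) (N : Subgroup P)
    [hN : N.Normal] (hNM : N ≤ M) (hcop : (Nat.card N).Coprime p) : Group.IsNilpotent ↥N := by
  apply ((Group.isNilpotent_of_finite_tfae (G := ↥N)).out 0 3).mpr
  intro r hr R
  have hSN : (S : Subgroup P) ≤ Subgroup.normalizer (N : Set P) := by
    rw [Subgroup.normalizer_eq_top_iff.mpr hN]; exact le_top
  have hcop' : (Nat.card (S : Subgroup P)).Coprime (Nat.card N) := by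
    obtain ⟨k, hk⟩ := S.2.exists_card_eq
    rw [hk]
    exact Nat.Coprime.pow_left _ hcop.symm
  have hsolv : Group.IsSolvable ↥(S : Subgroup P) := by
    haveI := S.2.isNilpotent
    infer_instance
  obtain ⟨R₀, hR₀⟩ := Cfsg.Agent.Helper1.exists_invariant_sylow (p := r) (K := N)
    (S : Subgroup P) hSN hcop' (Or.inl hsolv)
  have hfr := Sylow.normalizer_sup_eq_top R₀
  have htop : Subgroup.normalizer (((R₀ : Subgroup N).map N.subtype : Subgroup P) : Set P) = ⊤ := by
    by_contra hne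
    have h1 := pMin_le_of_sylow_le hP S hM hSM hR₀ hne
    have h2 : (⊤ : Subgroup P) ≤ M := by
      rw [← hfr]; exact sup_le h1 hNM
    exact hM.1 (top_le_iff.mp h2)
  have hn : ((R₀ : Subgroup N).map N.subtype).Normal := Subgroup.normalizer_eq_top_iff.mp htop
  have hR₀n : (R₀ : Subgroup N).Normal := by
    have := hn.subgroupOf N
    rwa [Subgroup.subgroupOf, Subgroup.comap_map_eq_self_of_injective N.subtype_injective] at this
  have := Sylow.unique_of_normal R₀ hR₀n
  have hRR : R = R₀ := Subsingleton.elim _ _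
  rw [hRR]
  exact hR₀n

/-- With `O_p(P) = 1`, an `S`-invariant subnormal non-solvable subgroup is not inside `M`. -/
theorem pMin_not_le_of_not_isSolvable (hP : Cfsg.IsPMinimal p P) (S : Sylow p P)
    {M : Subgroup P} (hM : IsCoatom M) (hSM : (S : Subgroup P) ≤ M)
    (hOp : Cfsg.pCore p P = ⊥) {N : Subgroup P} (hNsn : N.IsSubnormal)
    (hSN : (S : Subgroup P) ≤ Subgroup.normalizer (N : Set P))
    (hns : ¬ Group.IsSolvable ↥N) : ¬ N ≤ M := by
  intro hNM
  have hp : p.Prime := Fact.out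
  set N₁ := Subgroup.normalClosure (N : Set P) with hN₁
  have hN₁M : N₁ ≤ M := pMin_normalClosure_le hP S hM hSM hNsn hNM hSN
  haveI hN₁n : N₁.Normal := Subgroup.normalClosure_normal
  have hinf : N₁ ⊓ (S : Subgroup P) = ⊥ := by
    have := pMin_normal_inf_sylow_le_pCore hP S hM hSM N₁ hN₁M
    rw [hOp] at this
    exact le_bot_iff.mp this
  have hcop : (Nat.card N₁).Coprime p := by
    have h1 := (Cfsg.Agent.Helper16.sylowInfNormal S N₁).not_dvd_index
    rw [Cfsg.Agent.Helper16.coe_sylowInfNormal] at h1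
    have h2 : (S : Subgroup P).subgroupOf N₁ = ⊥ := by
      rw [Subgroup.subgroupOf_eq_bot, disjoint_iff, inf_comm]
      exact hinf
    rw [h2, Subgroup.index_bot] at h1
    exact ((Nat.Prime.coprime_iff_not_dvd hp).mpr h1).symm
  haveI := pMin_isNilpotent_of_normal_coprime hP S hM hSM N₁ hN₁M hcop
  apply hns
  exact solvable_of_solvable_injective
    (Subgroup.inclusion_injective (Subgroup.le_normalClosure : N ≤ N₁))

omit [Finite P] in
/-- A subgroup equal to its commutator subgroup lies in `O^p`. -/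
theorem le_pResidual_of_commutator_eq [Finite P] {L : Subgroup P} (hL : ⁅L, L⁆ = L) :
    L ≤ Cfsg.pResidual p P := by
  haveI : (Cfsg.pResidual p P).Normal := Cfsg.Agent.Helper22.pResidual_normal
  have hpg : IsPGroup p (P ⧸ Cfsg.pResidual p P) := Cfsg.Agent.Helper22.isPGroup_quotient_pResidual
  haveI := hpg.isNilpotent
  have h1 : ⁅L.map (QuotientGroup.mk' (Cfsg.pResidual p P)),
      L.map (QuotientGroup.mk' (Cfsg.pResidual p P))⁆ =
      L.map (QuotientGroup.mk' (Cfsg.pResidual p P)) := by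
    rw [← Subgroup.map_commutator, hL]
  have h2 := eq_bot_of_commutator_eq_of_isSolvable h1
  have h3 := (Subgroup.map_eq_bot_iff _).mp h2
  rwa [QuotientGroup.ker_mk'] at h3

/-- Structure of a `p`-minimal group with `O_p(P) = 1` having a component `K`. -/
theorem pMin_component_structure (hP : Cfsg.IsPMinimal p P) (S : Sylow p P)
    {M : Subgroup P} (hM : IsCoatom M) (hSM : (S : Subgroup P) ≤ M)
    (hOp : Cfsg.pCore p P = ⊥) {K : Subgroup P} (hK : Cfsg.IsComponent K) :
    (¬ (⨆ s : ↥(S : Subgroup P), K.map (MulAut.conj (s : P)).toMonoidHom) ≤ M) ∧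
    Cfsg.pResidual p P = ⨆ s : ↥(S : Subgroup P), K.map (MulAut.conj (s : P)).toMonoidHom ∧
    Cfsg.layer P = ⨆ s : ↥(S : Subgroup P), K.map (MulAut.conj (s : P)).toMonoidHom ∧
    Cfsg.fittingSubgroup P ≤ Cfsg.pResidual p P := by
  have hp : p.Prime := Fact.out
  set N : Subgroup P := ⨆ s : ↥(S : Subgroup P), K.map (MulAut.conj (s : P)).toMonoidHom with hN
  have hKs : ∀ s : ↥(S : Subgroup P), Cfsg.IsComponent (K.map (MulAut.conj (s : P)).toMonoidHom) :=
    fun s => Cfsg.Agent.Helper7.isComponent_map_mulEquiv (MulAut.conj (s : P)) hK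
  have hNsn : N.IsSubnormal := by
    rw [hN]
    apply Cfsg.Agent.Helper3.isSubnormal_sSup
    rintro U ⟨s, rfl⟩
    exact (hKs s).1
  have hSN : (S : Subgroup P) ≤ Subgroup.normalizer (N : Set P) := le_normalizer_iSup_conj _ K
  have hKN : K ≤ N := le_iSup_conj _ K
  have hns : ¬ Group.IsSolvable ↥N := by
    intro h
    apply Cfsg.Agent.Helper7.quasisimple_not_isSolvable hK.2
    exact solvable_of_solvable_injective (Subgroup.inclusion_injective hKN)
  have hNM : ¬ N ≤ M := pMin_not_le_of_not_isSolvable hP S hM hSM hOp hNsn hSN hns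
  have htop : N ⊔ (S : Subgroup P) = ⊤ :=
    pMin_eq_top_of_not_le hP S hM hSM le_sup_right (fun h => hNM (le_sup_left.trans h))
  haveI hNn : N.Normal := by
    rw [← Subgroup.normalizer_eq_top_iff, eq_top_iff, ← htop]
    exact sup_le Subgroup.le_normalizer hSN
  have hRN : Cfsg.pResidual p P ≤ N := by
    have hpg : IsPGroup p (P ⧸ N) :=
      Cfsg.Agent.Helper16.isPGroup_quotient_of_sup_eq_top (S : Subgroup P) N S.2
        (by rw [sup_comm]; exact htop)
    have := Cfsg.Agent.Helper22.pResidual_le_ker_of_isPGroup (QuotientGroup.mk' N) hpg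
    rwa [QuotientGroup.ker_mk'] at this
  have hNL : N ≤ Cfsg.layer P := by
    rw [hN]
    exact iSup_le (fun s => Cfsg.Agent.Helper7.component_le_layer (hKs s))
  have hLR : Cfsg.layer P ≤ Cfsg.pResidual p P := by
    unfold Cfsg.layer
    apply sSup_le
    intro L hL
    exact le_pResidual_of_commutator_eq (Cfsg.Agent.Helper7.component_perfect hL)
  have hRN' : Cfsg.pResidual p P = N := le_antisymm hRN (hNL.trans hLR)
  have hLN : Cfsg.layer P = N := le_antisymm (hLR.trans hRN) hNL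
  refine ⟨hNM, hRN', hLN, ?_⟩
  -- the Fitting subgroup is a `p'`-group
  haveI hFn : (Cfsg.fittingSubgroup P).Normal := Cfsg.Agent.Helper7.fittingSubgroup_normal'
  haveI hFnil : Group.IsNilpotent ↥(Cfsg.fittingSubgroup P) :=
    Cfsg.Agent.Helper7.fittingSubgroup_isNilpotent
  have hTn := normal_sylow_inf_of_forall_normal S (Cfsg.fittingSubgroup P)
    (fun T => inferInstance)
  have hTbot : (S : Subgroup P) ⊓ Cfsg.fittingSubgroup P = ⊥ := by
    have := le_pCore hTn (S.2.to_le inf_le_left)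
    rw [hOp] at this
    exact le_bot_iff.mp this
  have hcop : ¬ p ∣ Nat.card ↥(Cfsg.fittingSubgroup P) := by
    have h1 := (Cfsg.Agent.Helper16.sylowInfNormal S (Cfsg.fittingSubgroup P)).not_dvd_index
    rw [Cfsg.Agent.Helper16.coe_sylowInfNormal] at h1
    have h2 : (S : Subgroup P).subgroupOf (Cfsg.fittingSubgroup P) = ⊥ := by
      rw [Subgroup.subgroupOf_eq_bot, disjoint_iff]
      exact hTbot
    rwa [h2, Subgroup.index_bot] at h1
  intro x hx
  apply Cfsg.Agent.Helper22.mem_pResidual_of_coprime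
  have h1 : orderOf x ∣ Nat.card ↥(Cfsg.fittingSubgroup P) := by
    have := orderOf_dvd_natCard (⟨x, hx⟩ : ↥(Cfsg.fittingSubgroup P))
    rwa [Subgroup.orderOf_mk] at this
  exact Nat.Coprime.coprime_dvd_left h1 ((Nat.Prime.coprime_iff_not_dvd hp).mpr hcop).symm

/-- `N_S(K)` is a Sylow `p`-subgroup of `K N_S(K)` for subnormal `K`. -/
theorem isSylowIn_inf_normalizer_sup (S : Sylow p P) {K : Subgroup P} (hKsn : K.IsSubnormal) :
    IsSylowIn p ((S : Subgroup P) ⊓ Subgroup.normalizer (K : Set P))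
      (K ⊔ ((S : Subgroup P) ⊓ Subgroup.normalizer (K : Set P))) := by
  set S_K := (S : Subgroup P) ⊓ Subgroup.normalizer (K : Set P) with hS_K
  refine ⟨le_sup_right, S.2.to_le inf_le_left, ?_⟩
  intro T hT hle hTL
  obtain ⟨Q, hQ⟩ := Cfsg.Agent.S0542.result p K hKsn S
  have h1 : T ⊓ K ≤ (S : Subgroup P) := by
    have hQle : (Q : Subgroup K) ≤ (T ⊓ K).subgroupOf K := by
      rw [hQ]
      intro x hx
      have hxS : (x : P) ∈ (S : Subgroup P) := Subgroup.mem_subgroupOf.mp hx
      have hxSK : (x : P) ∈ S_K := Subgroup.mem_inf.mpr ⟨hxS, Subgroup.le_normalizer x.2⟩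
      exact Subgroup.mem_subgroupOf.mpr (Subgroup.mem_inf.mpr ⟨hle hxSK, x.2⟩)
    have heq : (T ⊓ K).subgroupOf K = (Q : Subgroup K) :=
      Q.is_maximal' (hT.to_le inf_le_left).comap_subtype hQle
    intro x hx
    have hxK : x ∈ K := (Subgroup.mem_inf.mp hx).2
    have h2 : (⟨x, hxK⟩ : K) ∈ (T ⊓ K).subgroupOf K := Subgroup.mem_subgroupOf.mpr hx
    rw [heq, hQ] at h2
    exact Subgroup.mem_subgroupOf.mp h2
  apply le_antisymm _ hle
  intro t ht
  obtain ⟨k, hk, s, hs, rfl⟩ := Cfsg.Agent.Helper1.exists_mul_of_mem_sup (N := K) (A := S_K)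
    inf_le_right (hTL ht)
  have hkT : k ∈ T := by
    have := T.mul_mem ht (T.inv_mem (hle hs))
    rwa [mul_inv_cancel_right] at this
  have hkS : k ∈ (S : Subgroup P) := h1 (Subgroup.mem_inf.mpr ⟨hkT, hk⟩)
  have hkSK : k ∈ S_K := Subgroup.mem_inf.mpr ⟨hkS, Subgroup.le_normalizer hk⟩
  exact S_K.mul_mem hkSK hs

open scoped commutatorElement in
/-- A subgroup over `N_S(K)` not containing the component `K` meets `K` inside `M`. -/
theorem pMin_inf_component_le (hP : Cfsg.IsPMinimal p P) (S : Sylow p P)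
    {M : Subgroup P} (hM : IsCoatom M) (hSM : (S : Subgroup P) ≤ M)
    {K : Subgroup P} (hK : Cfsg.IsComponent K) (H : Subgroup P)
    (hSKH : (S : Subgroup P) ⊓ Subgroup.normalizer (K : Set P) ≤ H) (hKH : ¬ K ≤ H) :
    H ⊓ K ≤ M := by
  set H₀ := H ⊓ K with hH₀
  set D : Subgroup P := ⨆ s : ↥(S : Subgroup P), H₀.map (MulAut.conj (s : P)).toMonoidHom with hD
  have hH₀D : H₀ ≤ D := le_iSup_conj _ H₀
  have hSD : (S : Subgroup P) ≤ Subgroup.normalizer (D : Set P) := le_normalizer_iSup_conj _ H₀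
  by_contra hH₀M
  have htop : D ⊔ (S : Subgroup P) = ⊤ :=
    pMin_eq_top_of_not_le hP S hM hSM le_sup_right
      (fun h => hH₀M (hH₀D.trans (le_sup_left.trans h)))
  haveI hDn : D.Normal := by
    rw [← Subgroup.normalizer_eq_top_iff, eq_top_iff, ← htop]
    exact sup_le Subgroup.le_normalizer hSD
  have hRD : Cfsg.pResidual p P ≤ D := by
    have hpg : IsPGroup p (P ⧸ D) :=
      Cfsg.Agent.Helper16.isPGroup_quotient_of_sup_eq_top (S : Subgroup P) D S.2
        (by rw [sup_comm]; exact htop)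
    have := Cfsg.Agent.Helper22.pResidual_le_ker_of_isPGroup (QuotientGroup.mk' D) hpg
    rwa [QuotientGroup.ker_mk'] at this
  have hKD : K ≤ D :=
    (le_pResidual_of_commutator_eq (Cfsg.Agent.Helper7.component_perfect hK)).trans hRD
  set C := Subgroup.centralizer (K : Set P) with hC
  have hDle : D ≤ C ⊔ H₀ := by
    rw [hD]
    apply iSup_le
    intro s
    by_cases hs : (s : P) ∈ Subgroup.normalizer (K : Set P)
    · refine le_trans ?_ le_sup_right
      rintro x ⟨h, hh, rfl⟩
      have hh' := Subgroup.mem_inf.mp hh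
      have hsH : (s : P) ∈ H := hSKH (Subgroup.mem_inf.mpr ⟨s.2, hs⟩)
      refine Subgroup.mem_inf.mpr ⟨?_, ?_⟩
      · exact H.mul_mem (H.mul_mem hsH hh'.1) (H.inv_mem hsH)
      · exact ((Subgroup.mem_normalizer_iff.mp hs) h).mp hh'.2
    · refine le_trans ?_ le_sup_left
      have hne : K.map (MulAut.conj (s : P)).toMonoidHom ≠ K := by
        intro h
        exact hs (mem_normalizer_of_map_conj_eq h)
      have hKs : Cfsg.IsComponent (K.map (MulAut.conj (s : P)).toMonoidHom) :=
        Cfsg.Agent.Helper7.isComponent_map_mulEquiv (MulAut.conj (s : P)) hK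
      have hcomm := Cfsg.Agent.Helper7.component_commutator_eq_bot_of_ne hKs hK hne
      have := Subgroup.commutator_eq_bot_iff_le_centralizer.mp hcomm
      exact (Subgroup.map_mono inf_le_right).trans this
  have hH₀C : H₀ ≤ Subgroup.normalizer (C : Set P) := by
    apply Cfsg.Agent.Helper1.le_normalizer_of_forall_conj_mem
    intro k hk c hc
    have hkK : k ∈ K := (Subgroup.mem_inf.mp hk).2
    rw [hC, Subgroup.mem_centralizer_iff] at hc ⊢
    intro y hy
    have h1 := hc (k⁻¹ * y * k) (K.mul_mem (K.mul_mem (K.inv_mem hkK) hy) hkK)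
    calc y * (k * c * k⁻¹) = k * ((k⁻¹ * y * k) * c) * k⁻¹ := by group
      _ = k * (c * (k⁻¹ * y * k)) * k⁻¹ := by rw [h1]
      _ = k * c * k⁻¹ * y := by group
  -- every element of `K` is a central element times an element of `H₀`
  have hdecomp : ∀ k ∈ K, ∃ c ∈ C, ∃ h ∈ H₀, c ∈ K ∧ k = c * h := by
    intro k hk
    obtain ⟨c, hc, h, hh, rfl⟩ := Cfsg.Agent.Helper1.exists_mul_of_mem_sup (N := C) (A := H₀)
      hH₀C (hDle (hKD hk))
    refine ⟨c, hc, h, hh, ?_, rfl⟩
    have := K.mul_mem hk (K.inv_mem (Subgroup.mem_inf.mp hh).2)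
    rwa [mul_inv_cancel_right] at this
  apply hKH
  have hKK : K ≤ H₀ := by
    rw [← Cfsg.Agent.Helper7.component_perfect hK, Subgroup.commutator_le]
    intro k₁ hk₁ k₂ hk₂
    obtain ⟨c₁, hc₁, h₁, hh₁, hc₁K, rfl⟩ := hdecomp k₁ hk₁
    obtain ⟨c₂, hc₂, h₂, hh₂, hc₂K, rfl⟩ := hdecomp k₂ hk₂
    have hh₁K : h₁ ∈ K := (Subgroup.mem_inf.mp hh₁).2
    have hh₂K : h₂ ∈ K := (Subgroup.mem_inf.mp hh₂).2
    have comm : ∀ c ∈ C, ∀ y ∈ K, Commute c y := by
      intro c hc y hy
      exact ((Subgroup.mem_centralizer_iff.mp hc) y hy).symm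
    rw [commutatorElement_mul_left_of_commute (comm c₁ hc₁ h₁ hh₁K)
      (comm c₁ hc₁ _ (K.mul_mem hc₂K hh₂K)),
      commutatorElement_mul_right_of_commute (comm c₂ hc₂ h₁ hh₁K) (comm c₂ hc₂ h₂ hh₂K)]
    exact Subgroup.commutator_mem_commutator hh₁ hh₂ |> fun h =>
      (Subgroup.commutator_le_self H₀) h
  exact hKK.trans inf_le_left

/-- With `O_p(P) = 1` the Sylow subgroup `N_S(K)` of `K N_S(K)` is not normal. -/
theorem pMin_component_not_le_normalizer (hP : Cfsg.IsPMinimal p P) (S : Sylow p P)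
    {M : Subgroup P} (hM : IsCoatom M) (hSM : (S : Subgroup P) ≤ M)
    (hOp : Cfsg.pCore p P = ⊥) {K : Subgroup P} (hK : Cfsg.IsComponent K) :
    ¬ K ≤ Subgroup.normalizer
      (((S : Subgroup P) ⊓ Subgroup.normalizer (K : Set P) : Subgroup P) : Set P) := by
  intro hKn
  have hp : p.Prime := Fact.out
  set S_K := (S : Subgroup P) ⊓ Subgroup.normalizer (K : Set P) with hS_K
  set T := (S : Subgroup P) ⊓ K with hT
  have hTn : (T.subgroupOf K).Normal := by
    rw [Subgroup.normal_subgroupOf_iff_le_normalizer (inf_le_right : T ≤ K)]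
    apply Cfsg.Agent.Helper1.le_normalizer_of_forall_conj_mem
    intro k hk x hx
    have hx' := Subgroup.mem_inf.mp hx
    have hxSK : x ∈ S_K := Subgroup.mem_inf.mpr ⟨hx'.1, Subgroup.le_normalizer hx'.2⟩
    have h1 : k * x * k⁻¹ ∈ S_K := ((Subgroup.mem_normalizer_iff.mp (hKn hk)) x).mp hxSK
    exact Subgroup.mem_inf.mpr ⟨(Subgroup.mem_inf.mp h1).1,
      K.mul_mem (K.mul_mem hk hx'.2) (K.inv_mem hk)⟩
  have hTsn : T.IsSubnormal := Subgroup.IsSubnormal.step T K inf_le_right hK.1 hTn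
  have hTbot : T = ⊥ := by
    have := Cfsg.Agent.Helper7.subnormal_isPGroup_le_pCore p T hTsn (S.2.to_le inf_le_left)
    rw [hOp] at this
    exact le_bot_iff.mp this
  obtain ⟨Q, hQ⟩ := Cfsg.Agent.S0542.result p K hK.1 S
  have hcopK : (Nat.card K).Coprime p := by
    have h1 := Q.not_dvd_index
    have h2 : (S : Subgroup P).subgroupOf K = ⊥ := by
      rw [Subgroup.subgroupOf_eq_bot, disjoint_iff]
      exact hTbot
    rw [hQ, h2, Subgroup.index_bot] at h1
    exact ((Nat.Prime.coprime_iff_not_dvd hp).mpr h1).symm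
  obtain ⟨-, hRE, -, -⟩ := pMin_component_structure hP S hM hSM hOp hK
  have hE : Cfsg.pResidual p P ≤ Cfsg.pPrimeCore p P := by
    rw [hRE]
    apply iSup_le
    intro s
    apply Cfsg.Agent.Helper7.subnormal_coprime_le_pPrimeCore p _
      (hK.1.map (MulAut.conj (s : P)).surjective)
    rw [card_map_conj]
    exact hcopK
  have hcopR : (Nat.card ↥(Cfsg.pResidual p P)).Coprime p :=
    Nat.Coprime.coprime_dvd_left (Subgroup.card_dvd_of_le hE)
      (Cfsg.Agent.Helper22.card_pPrimeCore_coprime p)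
  have hTT : ∀ T : Sylow p ↥(Cfsg.pResidual p P),
      (T : Subgroup ↥(Cfsg.pResidual p P)).Normal := by
    intro T
    obtain ⟨k, hk⟩ := T.2.exists_card_eq
    have hdvd : Nat.card (T : Subgroup ↥(Cfsg.pResidual p P)) ∣ Nat.card ↥(Cfsg.pResidual p P) :=
      Subgroup.card_subgroup_dvd_card _
    have hk0 : k = 0 := by
      by_contra hne
      have h1 : p ∣ Nat.card ↥(Cfsg.pResidual p P) := by
        refine dvd_trans ?_ hdvd
        rw [hk]
        exact dvd_pow_self p hne
      exact hp.one_lt.ne' (Nat.Coprime.eq_one_of_dvd hcopR.symm h1)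
    rw [hk0, pow_zero] at hk
    have : (T : Subgroup ↥(Cfsg.pResidual p P)) = ⊥ := Subgroup.eq_bot_of_card_eq _ hk
    rw [this]
    infer_instance
  obtain ⟨r, a, c, hr, hcard⟩ := pMin_card_pResidual hP S hM hSM hTT
  have hc0 : c = 0 := by
    by_contra hne
    have h1 : p ∣ Nat.card ↥(Cfsg.pResidual p P) := by
      rw [hcard]
      exact dvd_mul_of_dvd_left (dvd_pow_self p hne) _
    exact hp.one_lt.ne' (Nat.Coprime.eq_one_of_dvd hcopR.symm h1)
  rw [hc0, pow_zero, one_mul] at hcard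
  haveI : Fact r.Prime := ⟨hr⟩
  have hrg : IsPGroup r ↥(Cfsg.pResidual p P) := IsPGroup.of_card hcard
  haveI := hrg.isNilpotent
  apply Cfsg.Agent.Helper7.quasisimple_not_isSolvable hK.2
  exact solvable_of_solvable_injective (Subgroup.inclusion_injective
    (le_pResidual_of_commutator_eq (p := p) (Cfsg.Agent.Helper7.component_perfect hK)))

/-- `K N_S(K)` is `p`-minimal. -/
theorem pMin_component_isPMinimal (hP : Cfsg.IsPMinimal p P) (S : Sylow p P)
    {M : Subgroup P} (hM : IsCoatom M) (hSM : (S : Subgroup P) ≤ M)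
    (hOp : Cfsg.pCore p P = ⊥) {K : Subgroup P} (hK : Cfsg.IsComponent K) :
    Cfsg.IsPMinimal p ↥(K ⊔ ((S : Subgroup P) ⊓ Subgroup.normalizer (K : Set P))) := by
  set S_K := (S : Subgroup P) ⊓ Subgroup.normalizer (K : Set P) with hS_K
  set L := K ⊔ S_K with hL
  have hsyl : IsSylowIn p S_K L := isSylowIn_inf_normalizer_sup S hK.1
  have hS₀ : ((hsyl.toSylow : Sylow p ↥L) : Subgroup ↥L) = S_K.subgroupOf L := hsyl.coe_toSylow
  apply isPMinimal_of_sylow hsyl.toSylow
  · rw [hS₀, Subgroup.normal_subgroupOf_iff_le_normalizer (le_sup_right : S_K ≤ L)]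
    intro hLn
    exact pMin_component_not_le_normalizer hP S hM hSM hOp hK (le_sup_left.trans hLn)
  · obtain ⟨hEM, -, -, -⟩ := pMin_component_structure hP S hM hSM hOp hK
    set M_K := (M ⊓ K) ⊔ S_K with hM_K
    have hMKL : M_K ≤ L := sup_le (inf_le_right.trans le_sup_left) le_sup_right
    have hMKM : M_K ≤ M := sup_le inf_le_left (inf_le_left.trans hSM)
    have hKMK : ¬ K ≤ M_K := by
      intro h
      apply hEM
      apply iSup_le
      rintro s x ⟨k, hk, rfl⟩
      exact M.mul_mem (M.mul_mem (hSM s.2) (hMKM (h hk))) (M.inv_mem (hSM s.2))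
    have key : ∀ H : Subgroup P, S_K ≤ H → H ≤ L → H ≠ L → H ≤ M_K := by
      intro H h1 h2 h3
      have hKH : ¬ K ≤ H := fun h => h3 (le_antisymm h2 (sup_le h h1))
      have h4 := pMin_inf_component_le hP S hM hSM hK H h1 hKH
      intro x hx
      obtain ⟨k, hk, s, hs, rfl⟩ := Cfsg.Agent.Helper1.exists_mul_of_mem_sup (N := K) (A := S_K)
        inf_le_right (h2 hx)
      have hkH : k ∈ H := by
        have := H.mul_mem hx (H.inv_mem (h1 hs))
        rwa [mul_inv_cancel_right] at this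
      have hkM : k ∈ M ⊓ K :=
        Subgroup.mem_inf.mpr ⟨h4 (Subgroup.mem_inf.mpr ⟨hkH, hk⟩), hk⟩
      exact Subgroup.mul_mem_sup hkM hs
    set M₀ := M_K.subgroupOf L with hM₀
    have hM₀top : M₀ ≠ ⊤ := by
      intro h
      exact hKMK (le_sup_left.trans (Subgroup.subgroupOf_eq_top.mp h))
    have hS₀M₀ : ((hsyl.toSylow : Sylow p ↥L) : Subgroup ↥L) ≤ M₀ := by
      rw [hS₀]
      exact Subgroup.comap_mono le_sup_right
    have key' : ∀ H' : Subgroup ↥L, ((hsyl.toSylow : Sylow p ↥L) : Subgroup ↥L) ≤ H' →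
        H' ≠ ⊤ → H' ≤ M₀ := by
      intro H' h1 h2
      have h3 : S_K ≤ H'.map L.subtype := by
        intro x hx
        have hxL : x ∈ L := (le_sup_right : S_K ≤ L) hx
        have : (⟨x, hxL⟩ : ↥L) ∈ S_K.subgroupOf L := Subgroup.mem_subgroupOf.mpr hx
        rw [← hS₀] at this
        exact ⟨⟨x, hxL⟩, h1 this, rfl⟩
      have h4 : H'.map L.subtype ≠ L := by
        intro h
        apply h2
        rw [eq_top_iff]
        intro y _
        have hy : (y : P) ∈ H'.map L.subtype := by rw [h]; exact y.2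
        obtain ⟨y', hy', hyy'⟩ := hy
        have : y' = y := Subtype.ext hyy'
        rw [← this]
        exact hy'
      have h5 := key _ h3 (Subgroup.map_subtype_le _) h4
      intro x hx
      exact Subgroup.mem_subgroupOf.mpr (h5 ⟨x, hx, rfl⟩)
    have hco : IsCoatom M₀ := by
      refine ⟨hM₀top, fun b hb => ?_⟩
      by_contra hne
      have := key' b (hS₀M₀.trans hb.le) hne
      exact absurd (lt_of_lt_of_le hb this) (lt_irrefl _)
    refine ⟨M₀, ⟨hco, hS₀M₀⟩, ?_⟩
    rintro M' ⟨hM', hS₀M'⟩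
    have h := key' M' hS₀M' hM'.1
    by_contra hne
    exact hM₀top (hM'.2 M₀ (lt_of_le_of_ne h hne))

end PMinimal

end Cfsg.Agent.Helper15
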