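import Mathlib
import Cfsg.Prelude.Def_LocalEven
import Cfsg.Agent.Lib.Helper15.SubSyl2
import Cfsg.Agent.Lib.Helper15.PMinimal2
import Cfsg.Agent.Lib.Helper1.Coprime

set_option autoImplicit false
set_option linter.unusedSectionVars false
set_option linter.unusedVariables false
set_option linter.style.haveILetI false

/-!
Isolated `p`-minimal subgroups: generation of a group by the normalizer of a Sylow subgroup and
the `p`-minimal subgroups over it, and the resulting dichotomy for invariant subgroups.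
-/

namespace Cfsg.Agent.Helper15.Iso

open Subgroup Cfsg.Agent.Helper15 Cfsg.Agent.Helper15.SubSyl

variable {G : Type*} [Group G] {p : ℕ}

/-- the subgroup generated by `N_U(S)` and the `p`-minimal subgroups between `S` and `U` -/
def parJoin (p : ℕ) (S U : Subgroup G) : Subgroup G :=
  (normalizer (S : Set G) ⊓ U) ⊔
    ⨆ P' : {P' : Subgroup G // S ≤ P' ∧ P' ≤ U ∧ Cfsg.IsPMinimal p ↥P'}, (P' : Subgroup G)

theorem parJoin_mono (S : Subgroup G) {U V : Subgroup G} (h : U ≤ V) :
    parJoin p S U ≤ parJoin p S V := by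
  unfold parJoin
  refine sup_le ((inf_le_inf_left _ h).trans le_sup_left) ?_
  refine le_trans ?_ le_sup_right
  apply iSup_le
  rintro ⟨P', h1, h2, h3⟩
  exact le_iSup (fun P' : {P' : Subgroup G // S ≤ P' ∧ P' ≤ V ∧ Cfsg.IsPMinimal p ↥P'} =>
    (P' : Subgroup G)) ⟨P', h1, h2.trans h, h3⟩

theorem le_parJoin_aux [Finite G] [Fact p.Prime] (S : Sylow p G) :
    ∀ (n : ℕ) (U : Subgroup G), Nat.card U ≤ n → (S : Subgroup G) ≤ U →
      U ≤ parJoin p (S : Subgroup G) U := by
  intro n
  induction n with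
  | zero =>
    intro U hU
    have := Nat.card_pos (α := U)
    omega
  | succ n ih =>
    intro U hU hSU
    by_cases hnorm : U ≤ normalizer ((S : Subgroup G) : Set G)
    · exact (le_inf hnorm le_rfl).trans le_sup_left
    by_cases hmin : Cfsg.IsPMinimal p ↥U
    · refine le_trans ?_ le_sup_right
      exact le_iSup (fun P' : {P' : Subgroup G // (S : Subgroup G) ≤ P' ∧ P' ≤ U ∧
        Cfsg.IsPMinimal p ↥P'} => (P' : Subgroup G)) ⟨U, hSU, le_rfl, hmin⟩
    -- the Sylow subgroup of `U`
    set SU : Sylow p ↥U := S.subtype hSU with hSUdef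
    have hSUcoe : (SU : Subgroup ↥U) = (S : Subgroup G).subgroupOf U := rfl
    have hnn : ¬ (SU : Subgroup ↥U).Normal := by
      intro hn
      apply hnorm
      rw [hSUcoe] at hn
      exact (Subgroup.normal_subgroupOf_iff_le_normalizer hSU).1 hn
    have hnu : ¬ ∃! M : Subgroup ↥U, IsCoatom M ∧ (SU : Subgroup ↥U) ≤ M := by
      intro h
      exact hmin (isPMinimal_of_sylow SU hnn h)
    have hne : (SU : Subgroup ↥U) ≠ ⊤ := by
      intro h
      apply hnn
      rw [h]; infer_instance
    obtain ⟨M₁, hM₁, hSM₁⟩ := (eq_top_or_exists_le_coatom (SU : Subgroup ↥U)).resolve_left hne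
    obtain ⟨M₂, hM₂, hSM₂, hne12⟩ : ∃ M₂ : Subgroup ↥U, IsCoatom M₂ ∧
        (SU : Subgroup ↥U) ≤ M₂ ∧ M₂ ≠ M₁ := by
      by_contra hcon
      push Not at hcon
      exact hnu ⟨M₁, ⟨hM₁, hSM₁⟩, fun M' hM' => hcon M' hM'.1 hM'.2⟩
    have hsup : M₁ ⊔ M₂ = ⊤ := hM₁.sup_eq_top_of_ne hM₂ hne12.symm
    have hU_eq : U = M₁.map U.subtype ⊔ M₂.map U.subtype := by
      rw [← Subgroup.map_sup, hsup, ← MonoidHom.range_eq_map, Subgroup.range_subtype]
    have hstep : ∀ M : Subgroup ↥U, IsCoatom M → (SU : Subgroup ↥U) ≤ M →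
        M.map U.subtype ≤ parJoin p (S : Subgroup G) U := by
      intro M hM hSM
      have hle : M.map U.subtype ≤ U := Subgroup.map_subtype_le M
      have hlt : M.map U.subtype < U := by
        refine lt_of_le_of_ne hle ?_
        intro h
        apply hM.1
        rw [eq_top_iff]
        intro x _
        have hx : (x : G) ∈ M.map U.subtype := by rw [h]; exact x.2
        obtain ⟨y, hy, hyx⟩ := hx
        have : y = x := Subtype.ext hyx
        rw [← this]; exact hy
      have hcard : Nat.card (M.map U.subtype : Subgroup G) ≤ n := by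
        have h1 : Nat.card (M.map U.subtype : Subgroup G) < Nat.card U := by
          by_contra h
          push Not at h
          exact hlt.ne (Subgroup.eq_of_le_of_card_ge hle h)
        omega
      have hS : (S : Subgroup G) ≤ M.map U.subtype := by
        intro x hx
        exact ⟨⟨x, hSU hx⟩, hSM (Subgroup.mem_subgroupOf.2 hx), rfl⟩
      exact (ih _ hcard hS).trans (parJoin_mono _ hle)
    have h1 := hstep M₁ hM₁ hSM₁
    have h2 := hstep M₂ hM₂ hSM₂
    calc U = M₁.map U.subtype ⊔ M₂.map U.subtype := hU_eq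
      _ ≤ parJoin p (S : Subgroup G) U := sup_le h1 h2

/-- a group is generated by `N(S)` and the `p`-minimal subgroups over `S` -/
theorem le_parJoin [Finite G] [Fact p.Prime] (S : Sylow p G) {U : Subgroup G}
    (hSU : (S : Subgroup G) ≤ U) : U ≤ parJoin p (S : Subgroup G) U :=
  le_parJoin_aux S _ U le_rfl hSU


/-- an element of order prime to `p` in `N ⊔ T` (`T` a `p`-group normalizing `N`) lies in `N` -/
theorem mem_of_coprime_of_mem_sup [Finite G] [Fact p.Prime] {N T : Subgroup G}
    (hT : IsPGroup p T) (hTN : T ≤ normalizer (N : Set G)) {g : G} (hg : g ∈ N ⊔ T)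
    (hco : (orderOf g).Coprime p) : g ∈ N := by
  set U : Subgroup G := N ⊔ T with hU
  have hNU : N ≤ U := le_sup_left
  have hTU : T ≤ U := le_sup_right
  have hUN : U ≤ normalizer (N : Set G) := sup_le le_normalizer hTN
  haveI hN' : (N.subgroupOf U).Normal := (Subgroup.normal_subgroupOf_iff_le_normalizer hNU).2 hUN
  have hsup : T.subgroupOf U ⊔ N.subgroupOf U = ⊤ := by
    rw [← Subgroup.subgroupOf_sup hTU hNU, sup_comm, Subgroup.subgroupOf_self]
  have hT' : IsPGroup p (T.subgroupOf U) := hT.comap_subtype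
  have hq : IsPGroup p (↥U ⧸ N.subgroupOf U) :=
    Cfsg.Agent.Helper16.isPGroup_quotient_of_sup_eq_top _ _ hT' hsup
  have hker := Cfsg.Agent.Helper22.pResidual_le_ker_of_isPGroup
    (QuotientGroup.mk' (N.subgroupOf U)) hq
  rw [QuotientGroup.ker_mk'] at hker
  have hmem : (⟨g, hg⟩ : ↥U) ∈ Cfsg.pResidual p ↥U := by
    apply Subgroup.subset_closure
    show (orderOf (⟨g, hg⟩ : ↥U)).Coprime p
    rw [Subgroup.orderOf_mk]; exact hco
  exact Subgroup.mem_subgroupOf.1 (hker hmem)

theorem pRes_le_of_le_sup [Finite G] [Fact p.Prime] {N T B : Subgroup G} (hT : IsPGroup p T)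
    (hTN : T ≤ normalizer (N : Set G)) (hB : B ≤ N ⊔ T) : pRes p B ≤ N := by
  unfold pRes
  rw [Subgroup.map_le_iff_le_comap]
  unfold Cfsg.pResidual
  rw [Subgroup.closure_le]
  intro y hy
  change (orderOf y).Coprime p at hy
  rw [SetLike.mem_coe, Subgroup.mem_comap]
  apply mem_of_coprime_of_mem_sup hT hTN (hB y.2)
  rw [Subgroup.orderOf_coe]; exact hy

/-- **Dichotomy**: an `S`-invariant subgroup contains `O^p(P)` or lies in `L`. -/
theorem dichotomy [Finite G] [Fact p.Prime] (S : Sylow p G) {P L : Subgroup G}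
    (hNL : normalizer ((S : Subgroup G) : Set G) ≤ L)
    (hPL : ∀ P' : Subgroup G, (S : Subgroup G) ≤ P' → Cfsg.IsPMinimal p ↥P' → P' ≠ P → P' ≤ L)
    {N : Subgroup G} (hSN : (S : Subgroup G) ≤ normalizer (N : Set G)) :
    pRes p P ≤ N ∨ N ≤ L := by
  by_cases hPU : P ≤ N ⊔ (S : Subgroup G)
  · left; exact pRes_le_of_le_sup S.2 hSN hPU
  · right
    have h := le_parJoin S (U := N ⊔ (S : Subgroup G)) le_sup_right
    refine le_sup_left.trans (h.trans ?_)
    unfold parJoin
    refine sup_le (inf_le_left.trans hNL) ?_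
    apply iSup_le
    rintro ⟨P', h1, h2, h3⟩
    exact hPL P' h1 h3 (fun h => hPU (h ▸ h2))

end Cfsg.Agent.Helper15.Iso
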