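import Mathlib
import Cfsg.Agent.Lib.Helper15.Iso1
import Cfsg.Agent.Lib.Helper15.PMinimal
import Cfsg.Agent.Lib.Helper15.CharPAmbient
import Cfsg.Agent.Lib.Helper14.Ambient

set_option autoImplicit false
set_option linter.unusedSectionVars false
set_option linter.unusedVariables false
set_option linter.style.haveILetI false

/-!
Isolated `p`-minimal subgroups: the abstract setting and its first consequences.
-/

namespace Cfsg.Agent.Helper15.Iso

open Subgroup Cfsg Cfsg.Agent.Helper15 Cfsg.Agent.Helper15.SubSyl Cfsg.Agent.Helper14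

variable {G : Type*} [Group G] {p : ℕ}

/-- the abstract setting: `P` is a `p`-minimal subgroup over the Sylow subgroup `S`, `L` contains
`N(S)` and all other `p`-minimal subgroups over `S`, and `Q ≤ S` is normalized by `L` but is not
inside `O_p(P)` -/
structure IsoSetting (p : ℕ) (S : Sylow p G) (P L Q : Subgroup G) : Prop where
  hSP : (S : Subgroup G) ≤ P
  hPmin : Cfsg.IsPMinimal p ↥P
  hNL : normalizer ((S : Subgroup G) : Set G) ≤ L
  hPL : ∀ P' : Subgroup G, (S : Subgroup G) ≤ P' → Cfsg.IsPMinimal p ↥P' → P' ≠ P → P' ≤ L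
  hQS : Q ≤ (S : Subgroup G)
  hLQ : L ≤ normalizer (Q : Set G)
  hiso : ¬ Q ≤ pCoreOf p P

variable [Finite G] [Fact p.Prime] {S : Sylow p G} {P L Q : Subgroup G}

theorem IsoSetting.hSL (h : IsoSetting p S P L Q) : (S : Subgroup G) ≤ L :=
  le_normalizer.trans h.hNL

theorem IsoSetting.sup_eq (h : IsoSetting p S P L Q) : pRes p P ⊔ (S : Subgroup G) = P := by
  have h1 := Cfsg.Agent.Helper22.sylow_sup_pResidual_eq_top (S.subtype h.hSP)
  have h2 := congrArg (Subgroup.map P.subtype) h1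
  rw [Subgroup.map_sup, ← MonoidHom.range_eq_map, Subgroup.range_subtype] at h2
  have h3 : ((S.subtype h.hSP : Sylow p ↥P) : Subgroup ↥P).map P.subtype = (S : Subgroup G) := by
    show ((S : Subgroup G).subgroupOf P).map P.subtype = _
    exact Subgroup.map_subgroupOf_eq_of_le h.hSP
  rw [h3, sup_comm] at h2
  exact h2

/-- any `P`-invariant subgroup containing `Q` contains `O^p(P)` -/
theorem IsoSetting.pRes_le (h : IsoSetting p S P L Q) {N : Subgroup G} (hQN : Q ≤ N)
    (hPN : P ≤ normalizer (N : Set G)) : pRes p P ≤ N := by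
  set S' : Sylow p ↥P := S.subtype h.hSP with hS'
  obtain ⟨-, M, ⟨hM, hSM⟩, -⟩ := h.hPmin S'
  haveI hN' : (N.subgroupOf P).Normal := by
    constructor
    intro n hn g
    rw [Subgroup.mem_subgroupOf] at hn ⊢
    have hg := hPN g.2
    rw [Subgroup.mem_normalizer_iff] at hg
    exact (hg _).1 hn
  rcases pMin_pResidual_le_or_le h.hPmin S' hM hSM (N.subgroupOf P) with h1 | h1
  · unfold pRes
    rw [Subgroup.map_le_iff_le_comap]
    exact h1
  · exfalso
    apply h.hiso
    have h2 := pMin_normal_inf_sylow_le_pCore h.hPmin S' hM hSM (N.subgroupOf P) h1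
    intro q hq
    have hqS : q ∈ (S : Subgroup G) := h.hQS hq
    have hqP : q ∈ P := h.hSP hqS
    rw [mem_pCoreOf_iff]
    refine ⟨hqP, h2 ⟨?_, ?_⟩⟩
    · exact Subgroup.mem_subgroupOf.2 (hQN hq)
    · exact Subgroup.mem_subgroupOf.2 hqS

theorem IsoSetting.not_isPGroup (h : IsoSetting p S P L Q) : ¬ IsPGroup p (pRes p P) := by
  intro hX
  have hSX : (S : Subgroup G) ≤ normalizer ((pRes p P : Subgroup G) : Set G) := by
    have hn : (Cfsg.pResidual p ↥P).Normal := Cfsg.Agent.Helper22.pResidual_normal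
    intro s hs
    rw [Subgroup.mem_normalizer_iff]
    have key : ∀ (g : G) (hg : g ∈ P) (y : G), y ∈ pRes p P → g * y * g⁻¹ ∈ pRes p P := by
      rintro g hg _ ⟨y, hy, rfl⟩
      exact ⟨⟨g, hg⟩ * y * ⟨g, hg⟩⁻¹, hn.conj_mem y hy ⟨g, hg⟩, rfl⟩
    intro x
    constructor
    · exact key s (h.hSP hs) x
    · intro hx
      have := key s⁻¹ (P.inv_mem (h.hSP hs)) _ hx
      simpa [mul_assoc] using this
  have hPp : IsPGroup p P := by
    rw [← h.sup_eq, sup_comm]
    exact S.2.to_sup_of_normal_right' hX hSX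
  have hPS : P = (S : Subgroup G) := S.is_maximal' hPp h.hSP
  obtain ⟨hnn, -⟩ := h.hPmin (S.subtype h.hSP)
  apply hnn
  have : ((S.subtype h.hSP : Sylow p ↥P) : Subgroup ↥P) = ⊤ := by
    show (S : Subgroup G).subgroupOf P = ⊤
    rw [Subgroup.subgroupOf_eq_top, hPS]
  rw [this]; infer_instance

theorem IsoSetting.not_le (h : IsoSetting p S P L Q) : ¬ P ≤ L := by
  intro hPL
  apply h.hiso
  exact le_pCoreOf (h.hQS.trans h.hSP) (hPL.trans h.hLQ) (S.2.to_le h.hQS)

theorem IsoSetting.pRes_not_le (h : IsoSetting p S P L Q) : ¬ pRes p P ≤ L := by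
  intro hX
  apply h.not_le
  rw [← h.sup_eq]
  exact sup_le hX h.hSL

/-- the dichotomy in the setting -/
theorem IsoSetting.dichotomy (h : IsoSetting p S P L Q) {N : Subgroup G}
    (hSN : (S : Subgroup G) ≤ normalizer (N : Set G)) : pRes p P ≤ N ∨ N ≤ L :=
  Iso.dichotomy S h.hNL h.hPL hSN

/-- `G = Y L` -/
theorem IsoSetting.sup_eq_top (h : IsoSetting p S P L Q) :
    Subgroup.normalClosure ((pRes p P : Subgroup G) : Set G) ⊔ L = ⊤ := by
  rw [eq_top_iff]
  have h1 := le_parJoin S (U := (⊤ : Subgroup G)) le_top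
  refine h1.trans ?_
  unfold parJoin
  refine sup_le (inf_le_left.trans (h.hNL.trans le_sup_right)) ?_
  apply iSup_le
  rintro ⟨P', h1, h2, h3⟩
  show P' ≤ Subgroup.normalClosure ((pRes p P : Subgroup G) : Set G) ⊔ L
  by_cases hP' : P' = P
  · rw [hP']
    have h4 : P ≤ pRes p P ⊔ (S : Subgroup G) := h.sup_eq.ge
    exact h4.trans (sup_le (Subgroup.le_normalClosure.trans le_sup_left)
      (h.hSL.trans le_sup_right))
  · have h5 : P' ≤ L := h.hPL P' h1 h3 hP'
    exact h5.trans le_sup_right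

end Cfsg.Agent.Helper15.Iso
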