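import Mathlib
import Cfsg.Agent.Lib.Helper15.Iso2
import Cfsg.Agent.Lib.Helper7.Quasisimple

set_option autoImplicit false
set_option linter.unusedSectionVars false
set_option linter.unusedVariables false
set_option linter.style.haveILetI false

/-!
Isolated `p`-minimal subgroups: the normal closure `Y` of `O^p(P)`, the subgroup `D = Y ∩ core(L)`
and the basic commutator relations.
-/

namespace Cfsg.Agent.Helper15.Iso

open Subgroup Cfsg Cfsg.Agent.Helper15 Cfsg.Agent.Helper15.SubSyl Cfsg.Agent.Helper14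
  Cfsg.Agent.Helper7
open scoped commutatorElement

variable {G : Type*} [Group G] {p : ℕ}

/-- the normal closure of `O^p(P)` -/
def yOf (p : ℕ) (P : Subgroup G) : Subgroup G :=
  Subgroup.normalClosure ((pRes p P : Subgroup G) : Set G)

instance yOf_normal (P : Subgroup G) : (yOf p P).Normal := by
  unfold yOf; infer_instance

theorem pRes_le_yOf (P : Subgroup G) : pRes p P ≤ yOf p P :=
  Subgroup.le_normalClosure

theorem yOf_le {P N : Subgroup G} [N.Normal] (h : pRes p P ≤ N) : yOf p P ≤ N :=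
  Subgroup.normalClosure_le_normal h

/-- `D = Y ∩ core(L)` -/
def dOf (p : ℕ) (P L : Subgroup G) : Subgroup G := yOf p P ⊓ L.normalCore

instance dOf_normal (P L : Subgroup G) : (dOf p P L).Normal := by
  unfold dOf; infer_instance

theorem dOf_le_yOf (P L : Subgroup G) : dOf p P L ≤ yOf p P := inf_le_left

theorem dOf_le (P L : Subgroup G) : dOf p P L ≤ L := inf_le_right.trans (Subgroup.normalCore_le L)

/-- `O_p(Y)` -/
def oOf (p : ℕ) (P : Subgroup G) : Subgroup G := pCoreOf p (yOf p P)

instance oOf_normal (P : Subgroup G) : (oOf p P).Normal := by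
  have h : (⊤ : Subgroup G) ≤ normalizer ((oOf p P : Subgroup G) : Set G) := by
    apply le_normalizer_pCoreOf_of_le_normalizer
    rw [Subgroup.normalizer_eq_top]
  exact Subgroup.normalizer_eq_top_iff.1 (top_le_iff.1 h)

theorem oOf_le_yOf (P : Subgroup G) : oOf p P ≤ yOf p P := pCoreOf_le p _

theorem oOf_isPGroup (P : Subgroup G) : IsPGroup p (oOf p P) := pCoreOf_isPGroup p _

theorem le_oOf {P N : Subgroup G} [N.Normal] (h : N ≤ yOf p P) (hN : IsPGroup p N) :
    N ≤ oOf p P := by
  apply le_pCoreOf h _ hN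
  rw [Subgroup.normalizer_eq_top]; exact le_top

variable [Finite G] [Fact p.Prime] {S : Sylow p G} {P L Q : Subgroup G}

theorem oOf_le_pCore (P : Subgroup G) : oOf p P ≤ Cfsg.pCore p G :=
  le_pCore (oOf_normal P) (oOf_isPGroup P)

theorem oOf_le_sylow (S : Sylow p G) (P : Subgroup G) : oOf p P ≤ (S : Subgroup G) :=
  (oOf_le_pCore P).trans (pCore_le_sylow S)

theorem pCore_inf_yOf (P : Subgroup G) : Cfsg.pCore p G ⊓ yOf p P = oOf p P := by
  apply le_antisymm
  · haveI : (Cfsg.pCore p G).Normal := Cfsg.pCore_normal p G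
    exact le_oOf inf_le_right ((isPGroup_pCore p G).to_le inf_le_left)
  · exact le_inf (oOf_le_pCore P) (oOf_le_yOf P)

/-- a normal subgroup contains `Y` or lies in the core of `L` -/
theorem IsoSetting.normal_dich (h : IsoSetting p S P L Q) (N : Subgroup G) [hN : N.Normal] :
    yOf p P ≤ N ∨ N ≤ L.normalCore := by
  have hSN : (S : Subgroup G) ≤ normalizer (N : Set G) := by
    rw [Subgroup.normalizer_eq_top]; exact le_top
  rcases h.dichotomy hSN with h1 | h1
  · left; exact yOf_le h1
  · right; exact Subgroup.normal_le_normalCore.2 h1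

/-- a normal subgroup inside `Y` equals `Y` or lies in `D` -/
theorem IsoSetting.normal_dich' (h : IsoSetting p S P L Q) (N : Subgroup G) [hN : N.Normal]
    (hNY : N ≤ yOf p P) : N = yOf p P ∨ N ≤ dOf p P L := by
  rcases h.normal_dich N with h1 | h1
  · left; exact le_antisymm hNY h1
  · right; exact le_inf hNY h1

theorem IsoSetting.yOf_not_le (h : IsoSetting p S P L Q) : ¬ yOf p P ≤ L := fun h1 =>
  h.pRes_not_le ((pRes_le_yOf P).trans h1)

theorem IsoSetting.yOf_not_le_dOf (h : IsoSetting p S P L Q) : ¬ yOf p P ≤ dOf p P L := fun h1 =>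
  h.yOf_not_le (h1.trans (dOf_le P L))

theorem IsoSetting.yOf_not_isPGroup (h : IsoSetting p S P L Q) : ¬ IsPGroup p (yOf p P) :=
  fun h1 => h.not_isPGroup (h1.to_le (pRes_le_yOf P))

theorem IsoSetting.oOf_le_dOf (h : IsoSetting p S P L Q) : oOf p P ≤ dOf p P L := by
  rcases h.normal_dich' (oOf p P) (oOf_le_yOf P) with h1 | h1
  · exfalso
    apply h.yOf_not_isPGroup
    rw [← h1]; exact oOf_isPGroup P
  · exact h1

theorem IsoSetting.sup_eq_top' (h : IsoSetting p S P L Q) : yOf p P ⊔ L = ⊤ := h.sup_eq_top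

omit [Finite G] [Fact p.Prime] in
theorem le_normalizer_of_forall_map_conj_le {H K : Subgroup G}
    (h : ∀ g ∈ H, K.map (MulAut.conj g).toMonoidHom ≤ K) : H ≤ normalizer (K : Set G) :=
  fun g hg => mem_normalizer_of_map_conj_le (h g hg) (h g⁻¹ (H.inv_mem hg))

omit [Finite G] [Fact p.Prime] in
theorem le_normalizer_sup {H A B : Subgroup G} (hA : H ≤ normalizer (A : Set G))
    (hB : H ≤ normalizer (B : Set G)) : H ≤ normalizer ((A ⊔ B : Subgroup G) : Set G) := by
  intro g hg
  apply mem_normalizer_of_map_conj_eq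
  rw [Subgroup.map_sup, map_conj_eq_of_mem_normalizer (hA hg),
    map_conj_eq_of_mem_normalizer (hB hg)]

omit [Finite G] [Fact p.Prime] in
theorem le_normalizer_inf {H A B : Subgroup G} (hA : H ≤ normalizer (A : Set G))
    (hB : H ≤ normalizer (B : Set G)) : H ≤ normalizer ((A ⊓ B : Subgroup G) : Set G) := by
  intro g hg
  apply mem_normalizer_of_map_conj_eq
  rw [Subgroup.map_inf _ _ _ (MulAut.conj g).injective, map_conj_eq_of_mem_normalizer (hA hg),
    map_conj_eq_of_mem_normalizer (hB hg)]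

omit [Finite G] [Fact p.Prime] in
theorem le_normalizer_commutator {H A B : Subgroup G} (hA : H ≤ normalizer (A : Set G))
    (hB : H ≤ normalizer (B : Set G)) : H ≤ normalizer ((⁅A, B⁆ : Subgroup G) : Set G) := by
  intro g hg
  apply mem_normalizer_of_map_conj_eq
  rw [Subgroup.map_commutator, map_conj_eq_of_mem_normalizer (hA hg),
    map_conj_eq_of_mem_normalizer (hB hg)]

omit [Finite G] [Fact p.Prime] in
/-- `A` normalizes `⁅A, B⁆` -/
theorem left_le_normalizer_commutator (A B : Subgroup G) :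
    A ≤ normalizer ((⁅A, B⁆ : Subgroup G) : Set G) := by
  apply le_normalizer_of_forall_map_conj_le
  intro a ha
  rw [Subgroup.map_le_iff_le_comap, Subgroup.commutator_le]
  intro a' ha' b hb
  rw [Subgroup.mem_comap]
  show a * ⁅a', b⁆ * a⁻¹ ∈ ⁅A, B⁆
  have e : a * ⁅a', b⁆ * a⁻¹ = ⁅a * a', b⁆ * ⁅a, b⁆⁻¹ := by
    simp only [commutatorElement_def]; group
  rw [e]
  exact Subgroup.mul_mem _ (Subgroup.commutator_mem_commutator (A.mul_mem ha ha') hb)
    (Subgroup.inv_mem _ (Subgroup.commutator_mem_commutator ha hb))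

omit [Finite G] [Fact p.Prime] in
/-- `B` normalizes `⁅A, B⁆` -/
theorem right_le_normalizer_commutator (A B : Subgroup G) :
    B ≤ normalizer ((⁅A, B⁆ : Subgroup G) : Set G) := by
  rw [Subgroup.commutator_comm]
  exact left_le_normalizer_commutator B A

omit [Finite G] [Fact p.Prime] in
theorem normal_of_top_le_normalizer {K : Subgroup G} (h : (⊤ : Subgroup G) ≤ normalizer (K : Set G)) :
    K.Normal :=
  Subgroup.normalizer_eq_top_iff.1 (top_le_iff.1 h)

omit [Finite G] [Fact p.Prime] in
theorem le_normalizer_of_normal (H K : Subgroup G) [K.Normal] : H ≤ normalizer (K : Set G) := by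
  rw [Subgroup.normalizer_eq_top]; exact le_top

omit [Finite G] [Fact p.Prime] in
instance commutatorStab_normal (Y Z : Subgroup G) [hY : Y.Normal] [hZ : Z.Normal] :
    (commutatorStab Y Z).Normal := by
  constructor
  intro x hx g y hy
  have e : ⁅g * x * g⁻¹, y⁆ = g * ⁅x, g⁻¹ * y * g⁆ * g⁻¹ := by
    simp only [commutatorElement_def]; group
  rw [e]
  apply hZ.conj_mem
  apply hx
  have := hY.conj_mem y hy g⁻¹
  simpa using this

/-- `⁅D, Q⁆ ≤ O_p(Y)` -/
theorem IsoSetting.comm_dOf_Q (h : IsoSetting p S P L Q) : ⁅dOf p P L, Q⁆ ≤ oOf p P := by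
  have hDQ : dOf p P L ≤ normalizer (Q : Set G) := (dOf_le P L).trans h.hLQ
  have h1 : ⁅dOf p P L, Q⁆ ≤ dOf p P L ⊓ Q := by
    refine le_inf (Subgroup.commutator_le_left _ _) ?_
    rw [Subgroup.commutator_le]
    intro d hd q hq
    have hd' := hDQ hd
    rw [Subgroup.mem_normalizer_iff] at hd'
    rw [commutatorElement_def]
    exact Q.mul_mem ((hd' q).1 hq) (Q.inv_mem hq)
  refine h1.trans ?_
  have h2 : dOf p P L ⊓ Q ≤ pCoreOf p (dOf p P L) := by
    apply le_pCoreOf inf_le_left
    · exact le_normalizer_inf le_normalizer hDQ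
    · exact (S.2.to_le h.hQS).to_le inf_le_right
  refine h2.trans ?_
  haveI : (pCoreOf p (dOf p P L)).Normal := by
    apply normal_of_top_le_normalizer
    apply le_normalizer_pCoreOf_of_le_normalizer
    exact le_normalizer_of_normal _ _
  exact le_oOf ((pCoreOf_le p _).trans (dOf_le_yOf P L)) (pCoreOf_isPGroup p _)

theorem IsoSetting.yOf_le_normalClosure (h : IsoSetting p S P L Q) :
    yOf p P ≤ Subgroup.normalClosure (Q : Set G) := by
  apply yOf_le
  exact h.pRes_le Subgroup.le_normalClosure (le_normalizer_of_normal _ _)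

/-- `⁅D, Y⁆ ≤ O_p(Y)` -/
theorem IsoSetting.comm_dOf_yOf (h : IsoSetting p S P L Q) : ⁅dOf p P L, yOf p P⁆ ≤ oOf p P := by
  rw [Subgroup.commutator_comm, ← le_commutatorStab_iff]
  refine h.yOf_le_normalClosure.trans ?_
  apply Subgroup.normalClosure_le_normal
  show Q ≤ commutatorStab (dOf p P L) (oOf p P)
  rw [le_commutatorStab_iff, Subgroup.commutator_comm]
  exact h.comm_dOf_Q

/-- `Y = ⁅Y, Q⁆` -/
theorem IsoSetting.comm_yOf_Q (h : IsoSetting p S P L Q) : ⁅yOf p P, Q⁆ = yOf p P := by
  have hLY : L ≤ normalizer ((yOf p P : Subgroup G) : Set G) := le_normalizer_of_normal _ _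
  haveI hK : (⁅yOf p P, Q⁆ : Subgroup G).Normal := by
    apply normal_of_top_le_normalizer
    rw [← h.sup_eq_top']
    exact sup_le (left_le_normalizer_commutator _ _) (le_normalizer_commutator hLY h.hLQ)
  rcases h.normal_dich' ⁅yOf p P, Q⁆ (Subgroup.commutator_le_left _ _) with h1 | h1
  · exact h1
  exfalso
  apply h.pRes_not_le
  have hSD : (S : Subgroup G) ≤ normalizer ((dOf p P L : Subgroup G) : Set G) :=
    le_normalizer_of_normal _ _
  have hX : pRes p P ≤ dOf p P L ⊔ Q := by
    apply h.pRes_le le_sup_right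
    refine h.sup_eq.ge.trans ?_
    refine sup_le ?_ (le_normalizer_sup hSD (h.hSL.trans h.hLQ))
    apply le_normalizer_of_forall_map_conj_le
    intro x hx
    rw [Subgroup.map_sup]
    refine sup_le ?_ ?_
    · exact (map_conj_le_of_mem_normalizer le_rfl
        (le_normalizer_of_normal ⊤ (dOf p P L) (Subgroup.mem_top x))).trans le_sup_left
    · rintro _ ⟨q, hq, rfl⟩
      show x * q * x⁻¹ ∈ dOf p P L ⊔ Q
      have e : x * q * x⁻¹ = ⁅x, q⁆ * q := by simp only [commutatorElement_def]; group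
      rw [e]
      exact Subgroup.mul_mem _ (le_sup_left (a := dOf p P L) (b := Q)
        (h1 (Subgroup.commutator_mem_commutator (pRes_le_yOf P hx) hq)))
        (le_sup_right (a := dOf p P L) (b := Q) hq)
  have hP : P ≤ dOf p P L ⊔ (S : Subgroup G) := by
    refine h.sup_eq.ge.trans ?_
    exact sup_le (hX.trans (sup_le le_sup_left (h.hQS.trans le_sup_right))) le_sup_right
  exact (pRes_le_of_le_sup S.2 hSD hP).trans (dOf_le P L)

end Cfsg.Agent.Helper15.Iso
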