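import Mathlib
import Cfsg.Agent.Lib.Helper15.Iso3
import Cfsg.Agent.Lib.Helper7.FStar

set_option autoImplicit false
set_option linter.unusedSectionVars false
set_option linter.unusedVariables false
set_option linter.style.haveILetI false

/-!
Isolated `p`-minimal subgroups: `O^p(P)` lies in the preimage of `F*(G / O_p(G))`.
-/

namespace Cfsg.Agent.Helper15.Iso

open Subgroup Cfsg Cfsg.Agent.Helper15 Cfsg.Agent.Helper15.SubSyl Cfsg.Agent.Helper14
  Cfsg.Agent.Helper7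
open scoped commutatorElement

/-- a group with `⁅⁅⊤, ⊤⁆, ⊤⁆ = ⊥` is nilpotent of class at most two -/
theorem nilpotent_of_comm_comm_eq_bot {K : Type*} [Group K]
    (h : ⁅⁅(⊤ : Subgroup K), (⊤ : Subgroup K)⁆, (⊤ : Subgroup K)⁆ = ⊥) :
    ∃ _ : Group.IsNilpotent K, Group.nilpotencyClass K ≤ 2 := by
  have h2 : (⊤ : Subgroup K).lowerCentralSeries 2 = ⊥ := h
  have hn : Group.IsNilpotent K := Subgroup.nilpotent_iff_lowerCentralSeries.2 ⟨2, h2⟩
  exact ⟨hn, Subgroup.lowerCentralSeries_eq_bot_iff_nilpotencyClass_le.1 h2⟩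

theorem isNilpotent_of_comm_comm_eq_bot {K : Type*} [Group K] (H : Subgroup K)
    (h : ⁅⁅H, H⁆, H⁆ = ⊥) : Group.IsNilpotent H :=
  (Subgroup.isNilpotent_iff_lowerCentralSeries H).2 ⟨2, h⟩

universe u

variable {G : Type u} [Group G] {p : ℕ} [Finite G] [Fact p.Prime] {S : Sylow p G}
  {P L Q : Subgroup G}

/-- `Y` lies in the preimage of `F*(G / O_p(G))` -/
theorem IsoSetting.yOf_le_comap (h : IsoSetting p S P L Q) [hn : (Cfsg.pCore p G).Normal] :
    yOf p P ≤ (Cfsg.generalizedFittingSubgroup (G ⧸ Cfsg.pCore p G)).comap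
      (QuotientGroup.mk' (Cfsg.pCore p G)) := by
  set π := QuotientGroup.mk' (Cfsg.pCore p G) with hπ
  have hπs : Function.Surjective π := QuotientGroup.mk'_surjective _
  set F := Cfsg.generalizedFittingSubgroup (G ⧸ Cfsg.pCore p G) with hF
  haveI hFn : F.Normal := generalizedFittingSubgroup_normal
  haveI : (F.comap π).Normal := hFn.comap π
  rcases h.normal_dich' (yOf p P ⊓ F.comap π) inf_le_left with h1 | h1
  · rw [← h1]; exact inf_le_right
  set Yb := (yOf p P).map π with hYb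
  set Db := (dOf p P L).map π with hDb
  haveI hYbn : Yb.Normal := (yOf_normal P).map π hπs
  haveI hDbn : Db.Normal := (dOf_normal P L).map π hπs
  have hDY : ⁅Db, Yb⁆ = ⊥ := by
    rw [eq_bot_iff, hDb, hYb, ← Subgroup.map_commutator]
    refine (Subgroup.map_mono h.comm_dOf_yOf).trans ?_
    rw [Subgroup.map_le_iff_le_comap]
    intro x hx
    rw [Subgroup.mem_comap, Subgroup.mem_bot]
    exact (QuotientGroup.eq_one_iff x).2 (oOf_le_pCore P hx)
  have hYF : Yb ⊓ F ≤ Db := by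
    rintro _ ⟨⟨y, hy, rfl⟩, hyF⟩
    exact ⟨y, h1 ⟨hy, hyF⟩, rfl⟩
  have hc1 : ⁅Yb, F⁆ ≤ Db :=
    (le_inf (Subgroup.commutator_le_left _ _) (Subgroup.commutator_le_right _ _)).trans hYF
  have hc2 : ⁅⁅Yb, F⁆, Yb⁆ = ⊥ := by
    rw [eq_bot_iff, ← hDY]
    exact Subgroup.commutator_mono hc1 le_rfl
  have hc3 : ⁅⁅F, Yb⁆, Yb⁆ = ⊥ := by
    rw [Subgroup.commutator_comm F Yb]; exact hc2
  have hc4 : ⁅⁅Yb, Yb⁆, F⁆ = ⊥ := Subgroup.commutator_commutator_eq_bot_of_rotate hc2 hc3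
  have hc5 : ⁅Yb, Yb⁆ ≤ F := by
    rw [Subgroup.commutator_eq_bot_iff_le_centralizer] at hc4
    exact hc4.trans centralizer_generalizedFittingSubgroup_le
  have hc6 : ⁅Yb, Yb⁆ ≤ Db := (le_inf (Subgroup.commutator_le_left _ _) hc5).trans hYF
  have hc7 : ⁅⁅Yb, Yb⁆, Yb⁆ = ⊥ := by
    rw [eq_bot_iff, ← hDY]
    exact Subgroup.commutator_mono hc6 le_rfl
  have hnil : Group.IsNilpotent Yb := isNilpotent_of_comm_comm_eq_bot Yb hc7
  have hfit : Yb ≤ Cfsg.fittingSubgroup (G ⧸ Cfsg.pCore p G) := le_sSup ⟨hYbn, hnil⟩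
  intro y hy
  rw [Subgroup.mem_comap]
  exact fittingSubgroup_le_generalizedFittingSubgroup (hfit ⟨y, hy, rfl⟩)

end Cfsg.Agent.Helper15.Iso
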