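import Mathlib
import Cfsg.Agent.Lib.Helper15.Iso4
import Cfsg.Agent.Lib.Helper15.AmbMaschke

set_option autoImplicit false
set_option linter.unusedSectionVars false
set_option linter.unusedVariables false
set_option linter.style.haveILetI false

/-!
Isolated `p`-minimal subgroups: the case of a solvable normal closure.
-/

namespace Cfsg.Agent.Helper15.Iso

open Subgroup Cfsg Cfsg.Agent.Helper15 Cfsg.Agent.Helper15.SubSyl Cfsg.Agent.Helper14
  Cfsg.Agent.Helper7
open scoped commutatorElement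

variable {G : Type*} [Group G] {p : ℕ}

theorem mem_pRes_of_coprime {B : Subgroup G} {g : G} (hg : g ∈ B)
    (hco : (orderOf g).Coprime p) : g ∈ pRes p B := by
  refine ⟨⟨g, hg⟩, ?_, rfl⟩
  apply Subgroup.subset_closure
  show (orderOf (⟨g, hg⟩ : ↥B)).Coprime p
  rw [Subgroup.orderOf_mk]; exact hco

theorem pRes_le_of_forall {B N : Subgroup G}
    (h : ∀ g ∈ B, (orderOf g).Coprime p → g ∈ N) : pRes p B ≤ N := by
  unfold pRes
  rw [Subgroup.map_le_iff_le_comap]
  unfold Cfsg.pResidual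
  rw [Subgroup.closure_le]
  intro y hy
  change (orderOf y).Coprime p at hy
  rw [SetLike.mem_coe, Subgroup.mem_comap]
  apply h _ y.2
  rw [Subgroup.orderOf_coe]; exact hy

theorem pRes_mono {A B : Subgroup G} (h : A ≤ B) : pRes p A ≤ pRes p B :=
  pRes_le_of_forall fun g hg hco => mem_pRes_of_coprime (h hg) hco

/-- a solvable nontrivial subgroup is not perfect -/
theorem comm_self_ne_of_isSolvable {Y : Subgroup G} (hsol : Group.IsSolvable ↥Y) (hne : Y ≠ ⊥) :
    ⁅Y, Y⁆ ≠ Y := by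
  haveI : Nontrivial ↥Y := (Subgroup.nontrivial_iff_ne_bot Y).2 hne
  have h1 := Group.IsSolvable.commutator_lt_top_of_nontrivial ↥Y
  intro h
  apply h1.ne
  apply Subgroup.map_injective Y.subtype_injective
  rw [commutator_def, Subgroup.map_commutator, ← MonoidHom.range_eq_map, Subgroup.range_subtype]
  exact h

variable [Finite G] [Fact p.Prime] {S : Sylow p G} {P L Q : Subgroup G}

theorem IsoSetting.yOf_ne_bot (h : IsoSetting p S P L Q) : yOf p P ≠ ⊥ := by
  intro h1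
  apply h.yOf_not_le
  rw [h1]; exact bot_le

/-- `⁅Y, Y⁆ ≤ D` when `Y` is solvable -/
theorem IsoSetting.comm_yOf_le (h : IsoSetting p S P L Q) (hsol : Group.IsSolvable ↥(yOf p P)) :
    ⁅yOf p P, yOf p P⁆ ≤ dOf p P L := by
  rcases h.normal_dich' ⁅yOf p P, yOf p P⁆ (Subgroup.commutator_le_left _ _) with h1 | h1
  · exact absurd h1 (comm_self_ne_of_isSolvable hsol h.yOf_ne_bot)
  · exact h1

/-- `Y ∩ L = D` when `⁅Y, Y⁆ ≤ D` -/
theorem IsoSetting.yOf_inf_eq (h : IsoSetting p S P L Q)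
    (hc : ⁅yOf p P, yOf p P⁆ ≤ dOf p P L) : yOf p P ⊓ L = dOf p P L := by
  have hD : dOf p P L ≤ yOf p P ⊓ L := le_inf (dOf_le_yOf P L) (dOf_le P L)
  haveI : (yOf p P ⊓ L : Subgroup G).Normal := by
    apply normal_of_top_le_normalizer
    rw [← h.sup_eq_top']
    refine sup_le ?_ (le_normalizer_inf (le_normalizer_of_normal _ _) le_normalizer)
    apply le_normalizer_of_forall_map_conj_le
    rintro y hy _ ⟨z, hz, rfl⟩
    show y * z * y⁻¹ ∈ yOf p P ⊓ L
    have e : y * z * y⁻¹ = ⁅y, z⁆ * z := by simp only [commutatorElement_def]; group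
    rw [e]
    exact Subgroup.mul_mem _ (hD (hc (Subgroup.commutator_mem_commutator hy hz.1))) hz
  rcases h.normal_dich' (yOf p P ⊓ L) inf_le_left with h1 | h1
  · exfalso
    apply h.yOf_not_le
    rw [← h1]; exact inf_le_right
  · exact le_antisymm h1 hD

/-- the subgroup of elements of `Y` whose `r`-th power lies in `D` (for `Y / D` abelian) -/
theorem exists_omega {Y D : Subgroup G} [hD : D.Normal] (hDY : D ≤ Y) (hc : ⁅Y, Y⁆ ≤ D) (r : ℕ) :
    ∃ Ω : Subgroup G, ∀ z : G, z ∈ Ω ↔ z ∈ Y ∧ z ^ r ∈ D := by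
  haveI hn : (D.subgroupOf Y).Normal := inferInstance
  letI cg := AmbMaschke.quotCommGroup Y D hc
  set π := QuotientGroup.mk' (D.subgroupOf Y) with hπ
  refine ⟨(((powMonoidHom r : (↥Y ⧸ D.subgroupOf Y) →* (↥Y ⧸ D.subgroupOf Y)).ker).comap π).map
    Y.subtype, ?_⟩
  intro z
  constructor
  · rintro ⟨w, hw, rfl⟩
    refine ⟨w.2, ?_⟩
    rw [SetLike.mem_coe, Subgroup.mem_comap, MonoidHom.mem_ker, powMonoidHom_apply,
      ← map_pow] at hw
    have := (QuotientGroup.eq_one_iff _).1 hw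
    rw [Subgroup.mem_subgroupOf] at this
    simpa using this
  · rintro ⟨hzY, hzD⟩
    refine ⟨⟨z, hzY⟩, ?_, rfl⟩
    rw [SetLike.mem_coe, Subgroup.mem_comap, MonoidHom.mem_ker, powMonoidHom_apply, ← map_pow]
    apply (QuotientGroup.eq_one_iff _).2
    rw [Subgroup.mem_subgroupOf]
    simpa using hzD

/-- `Y / D` has prime exponent `r ≠ p` when it is abelian -/
theorem IsoSetting.exists_exponent (h : IsoSetting p S P L Q)
    (hc : ⁅yOf p P, yOf p P⁆ ≤ dOf p P L) :
    ∃ r : ℕ, r.Prime ∧ r ≠ p ∧ ∀ y ∈ yOf p P, y ^ r ∈ dOf p P L := by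
  have hDY := dOf_le_yOf (p := p) P L
  have hne : Nat.card (↥(yOf p P) ⧸ (dOf p P L).subgroupOf (yOf p P)) ≠ 1 := by
    intro h1
    apply h.yOf_not_le_dOf
    have h2 : ((dOf p P L).subgroupOf (yOf p P)).index = 1 := h1
    rw [Subgroup.index_eq_one, Subgroup.subgroupOf_eq_top] at h2
    exact h2
  obtain ⟨r, hr, hrd⟩ := Nat.exists_prime_and_dvd hne
  haveI : Fact r.Prime := ⟨hr⟩
  obtain ⟨a, ha⟩ := exists_prime_orderOf_dvd_card' r hrd
  obtain ⟨y₀, rfl⟩ := QuotientGroup.mk'_surjective _ a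
  have hy₀r : (y₀ : G) ^ r ∈ dOf p P L := by
    have h1 : (QuotientGroup.mk' ((dOf p P L).subgroupOf (yOf p P)) y₀) ^ r = 1 := by
      rw [← ha]; exact pow_orderOf_eq_one _
    rw [← map_pow] at h1
    have := (QuotientGroup.eq_one_iff _).1 h1
    rw [Subgroup.mem_subgroupOf] at this
    simpa using this
  have hy₀D : (y₀ : G) ∉ dOf p P L := by
    intro h1
    have h2 : QuotientGroup.mk' ((dOf p P L).subgroupOf (yOf p P)) y₀ = 1 :=
      (QuotientGroup.eq_one_iff _).2 (Subgroup.mem_subgroupOf.2 h1)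
    rw [h2, orderOf_one] at ha
    exact hr.one_lt.ne ha
  obtain ⟨Ω, hΩ⟩ := exists_omega hDY hc r
  haveI hΩn : Ω.Normal := by
    constructor
    intro z hz g
    rw [hΩ] at hz ⊢
    refine ⟨(yOf_normal P).conj_mem z hz.1 g, ?_⟩
    rw [conj_pow]
    exact (dOf_normal P L).conj_mem _ hz.2 g
  have hΩY : Ω ≤ yOf p P := fun z hz => ((hΩ z).1 hz).1
  have hexp : ∀ y ∈ yOf p P, y ^ r ∈ dOf p P L := by
    rcases h.normal_dich' Ω hΩY with h1 | h1
    · intro y hy
      rw [← h1] at hy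
      exact ((hΩ y).1 hy).2
    · exfalso
      exact hy₀D (h1 ((hΩ _).2 ⟨y₀.2, hy₀r⟩))
  refine ⟨r, hr, ?_, hexp⟩
  rintro rfl
  apply h.pRes_not_le
  refine (pRes_le_of_forall (N := dOf r P L) ?_).trans (dOf_le P L)
  intro g hg hco
  have hgY : g ∈ yOf r P := pRes_le_yOf P (mem_pRes_of_coprime hg hco)
  obtain ⟨m, hm⟩ := exists_pow_eq_self_of_coprime hco.symm
  rw [← hm]
  exact Subgroup.pow_mem _ (hexp g hgY) m

/-- `Y = R O_p(Y)` for an `r`-subgroup `R` -/
theorem IsoSetting.exists_rsub (h : IsoSetting p S P L Q) {r : ℕ} (hr : r.Prime)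
    (hexp : ∀ y ∈ yOf p P, y ^ r ∈ dOf p P L) :
    ∃ R : Subgroup G, IsPGroup r R ∧ R ≤ yOf p P ∧ R ⊔ oOf p P = yOf p P := by
  haveI : Fact r.Prime := ⟨hr⟩
  have hDY := dOf_le_yOf (p := p) P L
  obtain ⟨R, hR⟩ := exists_isSylowIn (p := r) (yOf p P)
  have hKY : R ⊔ dOf p P L ≤ yOf p P := sup_le hR.le hDY
  -- `Y = R D`
  have hYRD : yOf p P ≤ R ⊔ dOf p P L := by
    rw [← Subgroup.relIndex_eq_one]
    have ha : ¬ r ∣ (R ⊔ dOf p P L).relIndex (yOf p P) := by
      intro hdvd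
      apply hR.not_dvd_relIndex
      rw [← Subgroup.relIndex_mul_relIndex R (R ⊔ dOf p P L) (yOf p P) le_sup_left hKY]
      exact Dvd.dvd.mul_left hdvd _
    have hq : IsPGroup r (↥(yOf p P) ⧸ (dOf p P L).subgroupOf (yOf p P)) := by
      intro a
      obtain ⟨y, rfl⟩ := QuotientGroup.mk'_surjective _ a
      refine ⟨1, ?_⟩
      rw [pow_one, ← map_pow]
      apply (QuotientGroup.eq_one_iff _).2
      rw [Subgroup.mem_subgroupOf]
      simpa using hexp y y.2
    obtain ⟨n, hn⟩ := IsPGroup.iff_card.1 hq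
    have hb : (R ⊔ dOf p P L).relIndex (yOf p P) ∣ r ^ n := by
      rw [← hn]
      exact Subgroup.relIndex_dvd_of_le_left (yOf p P) (le_sup_right (a := R))
    obtain ⟨m, -, hm⟩ := (Nat.dvd_prime_pow hr).1 hb
    rw [hm] at ha ⊢
    cases m with
    | zero => rfl
    | succ m => exact absurd (dvd_pow_self r (Nat.succ_ne_zero m)) ha
  -- `R O_p(Y)` is normal in `G`
  have hN1 : R ≤ normalizer ((R ⊔ oOf p P : Subgroup G) : Set G) :=
    le_normalizer_sup le_normalizer (le_normalizer_of_normal _ _)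
  have hN2 : dOf p P L ≤ normalizer ((R ⊔ oOf p P : Subgroup G) : Set G) := by
    apply le_normalizer_of_forall_map_conj_le
    intro d hd
    rw [Subgroup.map_sup]
    refine sup_le ?_ ((map_conj_le_of_mem_normalizer le_rfl
      (le_normalizer_of_normal ⊤ (oOf p P) (Subgroup.mem_top d))).trans le_sup_right)
    rintro _ ⟨x, hx, rfl⟩
    show d * x * d⁻¹ ∈ R ⊔ oOf p P
    have e : d * x * d⁻¹ = ⁅d, x⁆ * x := by simp only [commutatorElement_def]; group
    rw [e]
    exact Subgroup.mul_mem _ (le_sup_right (a := R) (h.comm_dOf_yOf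
      (Subgroup.commutator_mem_commutator hd (hR.le hx)))) (le_sup_left (b := oOf p P) hx)
  have hN3 : yOf p P ≤ normalizer ((R ⊔ oOf p P : Subgroup G) : Set G) :=
    hYRD.trans (sup_le hN1 hN2)
  haveI hnorm : (R ⊔ oOf p P : Subgroup G).Normal := by
    apply normal_of_top_le_normalizer
    apply le_normalizer_of_forall_map_conj_le
    intro g _
    rw [Subgroup.map_sup]
    refine sup_le ?_ ((map_conj_le_of_mem_normalizer le_rfl
      (le_normalizer_of_normal ⊤ (oOf p P) (Subgroup.mem_top g))).trans le_sup_right)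
    have h1 : IsSylowIn r (R.map (MulAut.conj g).toMonoidHom) (yOf p P) :=
      hR.map_conj_of_mem_normalizer (le_normalizer_of_normal ⊤ (yOf p P) (Subgroup.mem_top g))
    obtain ⟨y, hy, hy2⟩ := hR.exists_conj h1
    rw [← hy2]
    calc R.map (MulAut.conj y).toMonoidHom
        ≤ (R ⊔ oOf p P).map (MulAut.conj y).toMonoidHom := Subgroup.map_mono le_sup_left
      _ = R ⊔ oOf p P := map_conj_eq_of_mem_normalizer (hN3 hy)
  refine ⟨R, hR.isPGroup, hR.le, ?_⟩
  rcases h.normal_dich' (R ⊔ oOf p P) (sup_le hR.le (oOf_le_yOf P)) with h1 | h1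
  · exact h1
  · exfalso
    apply h.yOf_not_le_dOf
    exact hYRD.trans (sup_le (le_sup_left.trans h1) le_rfl)

omit [Finite G] [Fact p.Prime] in
theorem le_normalizer_pRes (P : Subgroup G) : P ≤ normalizer ((pRes p P : Subgroup G) : Set G) := by
  have hn : (Cfsg.pResidual p ↥P).Normal := Cfsg.Agent.Helper22.pResidual_normal
  apply le_normalizer_of_forall_map_conj_le
  rintro g hg _ ⟨_, ⟨y, hy, rfl⟩, rfl⟩
  exact ⟨⟨g, hg⟩ * y * ⟨g, hg⟩⁻¹, hn.conj_mem y hy ⟨g, hg⟩, rfl⟩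

omit [Finite G] [Fact p.Prime] in
theorem pRes_eq_closure (B : Subgroup G) :
    pRes p B = Subgroup.closure {g : G | g ∈ B ∧ (orderOf g).Coprime p} := by
  apply le_antisymm
  · exact pRes_le_of_forall fun g hg hco => Subgroup.subset_closure ⟨hg, hco⟩
  · rw [Subgroup.closure_le]
    rintro g ⟨hg, hco⟩
    exact mem_pRes_of_coprime hg hco

omit [Finite G] [Fact p.Prime] in
instance pRes_normal (B : Subgroup G) [hB : B.Normal] : (pRes p B).Normal := by
  have key : ∀ g : G, (pRes p B).map (MulAut.conj g).toMonoidHom ≤ pRes p B := by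
    intro g
    rw [pRes_eq_closure, MonoidHom.map_closure, Subgroup.closure_le]
    rintro _ ⟨x, ⟨hxB, hxco⟩, rfl⟩
    apply Subgroup.subset_closure
    refine ⟨hB.conj_mem x hxB g, ?_⟩
    have : orderOf ((MulAut.conj g).toMonoidHom x) = orderOf x :=
      orderOf_injective (MulAut.conj g).toMonoidHom (MulAut.conj g).injective x
    show (orderOf ((MulAut.conj g).toMonoidHom x)).Coprime p
    rw [this]; exact hxco
  constructor
  intro n hn g
  exact key g ⟨n, hn, rfl⟩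

/-- `Y = X D` -/
theorem IsoSetting.yOf_le_sup (h : IsoSetting p S P L Q)
    (hc : ⁅yOf p P, yOf p P⁆ ≤ dOf p P L) {r : ℕ} (hr : r.Prime) (hrp : r ≠ p)
    (hexp : ∀ y ∈ yOf p P, y ^ r ∈ dOf p P L) : yOf p P ≤ pRes p P ⊔ dOf p P L := by
  haveI : Fact r.Prime := ⟨hr⟩
  have hSX : (S : Subgroup G) ≤ normalizer ((pRes p P : Subgroup G) : Set G) :=
    h.hSP.trans (le_normalizer_pRes P)
  have hco : (Nat.card (S : Subgroup G)).Coprime r := by
    obtain ⟨n, hn⟩ := IsPGroup.iff_card.1 S.2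
    rw [hn]
    exact Nat.Coprime.pow_left n ((Nat.coprime_primes (Fact.out : p.Prime) hr).2 (Ne.symm hrp))
  obtain ⟨W, hDW, hWY, hSW, hMW, hsup⟩ := AmbMaschke.amb_maschke (T := (S : Subgroup G))
    (D := dOf p P L) (M := pRes p P ⊔ dOf p P L) (Y := yOf p P) le_sup_right
    (sup_le (pRes_le_yOf P) (dOf_le_yOf P L)) (le_normalizer_of_normal _ _)
    (le_normalizer_sup hSX (le_normalizer_of_normal _ _)) (le_normalizer_of_normal _ _)
    (le_normalizer_of_normal _ _) hc hexp hco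
  rcases h.dichotomy hSW with h1 | h1
  · exfalso
    apply h.pRes_not_le
    have : pRes p P ≤ (pRes p P ⊔ dOf p P L) ⊓ W := le_inf le_sup_left h1
    rw [hMW] at this
    exact this.trans (dOf_le P L)
  · have h2 : W ≤ dOf p P L := by
      rw [← h.yOf_inf_eq hc]
      exact le_inf hWY h1
    rw [← hsup]
    exact sup_le le_rfl (h2.trans le_sup_right)

/-- `Y ≤ X O_p(Y)` -/
theorem IsoSetting.yOf_le_sup_oOf (h : IsoSetting p S P L Q)
    (hY : yOf p P ≤ pRes p P ⊔ dOf p P L) : yOf p P ≤ pRes p P ⊔ oOf p P := by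
  calc yOf p P = ⁅yOf p P, Q⁆ := h.comm_yOf_Q.symm
    _ ≤ pRes p P ⊔ oOf p P := by
      rw [Subgroup.commutator_le]
      intro y hy q hq
      obtain ⟨x, hx, d, hd, rfl⟩ := Subgroup.mem_sup_of_normal_right.1 (hY hy)
      have e : ⁅x * d, q⁆ = x * ⁅d, q⁆ * x⁻¹ * ⁅x, q⁆ := by
        simp only [commutatorElement_def]; group
      rw [e]
      refine Subgroup.mul_mem _ (le_sup_right (a := pRes p P) ?_) (le_sup_left (b := oOf p P) ?_)
      · exact (oOf_normal P).conj_mem _ (h.comm_dOf_Q (Subgroup.commutator_mem_commutator hd hq)) x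
      · have hqN : q ∈ normalizer ((pRes p P : Subgroup G) : Set G) :=
          le_normalizer_pRes P (h.hSP (h.hQS hq))
        have e2 : ⁅x, q⁆ = x * (q * x⁻¹ * q⁻¹) := by
          simp only [commutatorElement_def]; group
        rw [e2]
        exact Subgroup.mul_mem _ hx
          ((Subgroup.mem_normalizer_iff.1 hqN _).1 (Subgroup.inv_mem _ hx))

/-- if `Y ≤ P` then `Y = O^p(P)` -/
theorem yOf_le_pRes_of_le {P : Subgroup G} (hYP : yOf p P ≤ P) : yOf p P ≤ pRes p P := by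
  have h1 : pRes p P ≤ pRes p (yOf p P) :=
    pRes_le_of_forall fun g hg hco =>
      mem_pRes_of_coprime (pRes_le_yOf P (mem_pRes_of_coprime hg hco)) hco
  exact (yOf_le h1).trans (pRes_mono hYP)

/-- the solvable case -/
theorem IsoSetting.solvable_case (h : IsoSetting p S P L Q)
    (hsol : Group.IsSolvable ↥(yOf p P)) :
    pRes p P = yOf p P ∧ ⁅⁅yOf p P, yOf p P⁆, yOf p P⁆ ≤ oOf p P ∧
      ∃ r : ℕ, r.Prime ∧ r ≠ p ∧ ∃ R : Subgroup G, IsPGroup r R ∧ R ≤ yOf p P ∧
        R ⊔ oOf p P = yOf p P := by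
  have hc := h.comm_yOf_le hsol
  obtain ⟨r, hr, hrp, hexp⟩ := h.exists_exponent hc
  refine ⟨?_, ?_, r, hr, hrp, h.exists_rsub hr hexp⟩
  · apply le_antisymm (pRes_le_yOf P)
    apply yOf_le_pRes_of_le
    refine (h.yOf_le_sup_oOf (h.yOf_le_sup hc hr hrp hexp)).trans ?_
    exact sup_le (SubSyl.pRes_le p P) ((oOf_le_sylow S P).trans h.hSP)
  · exact (Subgroup.commutator_mono hc le_rfl).trans h.comm_dOf_yOf

end Cfsg.Agent.Helper15.Iso
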