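import Mathlib
import Cfsg.Agent.Lib.Helper15.Iso5

set_option autoImplicit false
set_option linter.unusedSectionVars false
set_option linter.unusedVariables false
set_option linter.style.haveILetI false

/-!
Isolated `p`-minimal subgroups: the concrete setting and the packaging of the solvable case.
-/

namespace Cfsg.Agent.Helper15.Iso

open Subgroup Cfsg Cfsg.Agent.Helper15 Cfsg.Agent.Helper15.SubSyl Cfsg.Agent.Helper14
  Cfsg.Agent.Helper7
open scoped commutatorElement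

variable {G : Type*} [Group G] {p : ℕ} [Finite G] [Fact p.Prime]

/-- the concrete setting of the statements gives the abstract setting -/
theorem isoSetting_of (S : Sylow p G) (P : Subgroup G) (hSP : (S : Subgroup G) ≤ P)
    (hPmin : Cfsg.IsPMinimal p ↥P) (L : Subgroup G)
    (hL : L = Subgroup.normalizer ((S : Subgroup G) : Set G) ⊔
      ⨆ P' : {P' : Subgroup G // (S : Subgroup G) ≤ P' ∧ Cfsg.IsPMinimal p ↥P' ∧ P' ≠ P},
        (P' : Subgroup G))
    (hiso : ¬ (Cfsg.pCore p ↥L).map L.subtype ≤ (Cfsg.pCore p ↥P).map P.subtype) :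
    IsoSetting p S P L (pCoreOf p L) := by
  have hNL : normalizer ((S : Subgroup G) : Set G) ≤ L := by rw [hL]; exact le_sup_left
  have hSL : (S : Subgroup G) ≤ L := le_normalizer.trans hNL
  refine ⟨hSP, hPmin, hNL, ?_, ?_, le_normalizer_pCoreOf p L, hiso⟩
  · intro P' h1 h2 h3
    rw [hL]
    refine le_trans ?_ le_sup_right
    exact le_iSup (fun P' : {P' : Subgroup G // (S : Subgroup G) ≤ P' ∧
      Cfsg.IsPMinimal p ↥P' ∧ P' ≠ P} => (P' : Subgroup G)) ⟨P', h1, h2, h3⟩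
  · intro x hx
    rw [mem_pCoreOf_iff] at hx
    obtain ⟨hxL, hx⟩ := hx
    have h1 := pCore_le_sylow (S.subtype hSL) hx
    exact Subgroup.mem_subgroupOf.1 h1

variable {S : Sylow p G} {P L Q : Subgroup G}

/-- the quotient `Y / O_p(Y)` is an `r`-group -/
theorem isPGroup_quotient_of_sup {Y R : Subgroup G} {r : ℕ} (hR : IsPGroup r R) (hRY : R ≤ Y)
    (hsup : R ⊔ pCoreOf p Y = Y) [hO : (pCoreOf p Y).Normal] :
    IsPGroup r (↥Y ⧸ Cfsg.pCore p ↥Y) := by
  intro a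
  obtain ⟨y, rfl⟩ := QuotientGroup.mk'_surjective _ a
  have hy : (y : G) ∈ R ⊔ pCoreOf p Y := by rw [hsup]; exact y.2
  obtain ⟨a, ha, o, ho, hao⟩ := Subgroup.mem_sup_of_normal_right.1 hy
  obtain ⟨k, hk⟩ := hR ⟨a, ha⟩
  have hk' : a ^ r ^ k = 1 := by
    have := congrArg Subtype.val hk
    simpa using this
  rw [mem_pCoreOf_iff] at ho
  obtain ⟨hoY, ho⟩ := ho
  refine ⟨k, ?_⟩
  have e : y = ⟨a, hRY ha⟩ * ⟨o, hoY⟩ := Subtype.ext hao.symm
  have h1 : QuotientGroup.mk' (Cfsg.pCore p ↥Y) y =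
      QuotientGroup.mk' (Cfsg.pCore p ↥Y) ⟨a, hRY ha⟩ := by
    have h0 : QuotientGroup.mk' (Cfsg.pCore p ↥Y) ⟨o, hoY⟩ = 1 :=
      (QuotientGroup.eq_one_iff _).2 ho
    rw [e, map_mul, h0, mul_one]
  rw [h1, ← map_pow]
  apply (QuotientGroup.eq_one_iff _).2
  have : (⟨a, hRY ha⟩ : ↥Y) ^ r ^ k = 1 := Subtype.ext (by simpa using hk')
  rw [this]; exact Subgroup.one_mem _

/-- the quotient `Y / O_p(Y)` has class at most two -/
theorem nilpotent_quotient_of_comm {Y : Subgroup G} (hc : ⁅⁅Y, Y⁆, Y⁆ ≤ pCoreOf p Y) :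
    ∃ _ : Group.IsNilpotent (↥Y ⧸ Cfsg.pCore p ↥Y),
      Group.nilpotencyClass (↥Y ⧸ Cfsg.pCore p ↥Y) ≤ 2 := by
  apply nilpotent_of_comm_comm_eq_bot
  have hs : Function.Surjective (QuotientGroup.mk' (Cfsg.pCore p ↥Y)) :=
    QuotientGroup.mk'_surjective _
  rw [eq_bot_iff, ← Subgroup.map_top_of_surjective _ hs, ← Subgroup.map_commutator,
    ← Subgroup.map_commutator, Subgroup.map_le_iff_le_comap]
  have h1 : ⁅⁅(⊤ : Subgroup ↥Y), (⊤ : Subgroup ↥Y)⁆, (⊤ : Subgroup ↥Y)⁆ ≤ Cfsg.pCore p ↥Y := by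
    rw [← Subgroup.map_le_map_iff_of_injective Y.subtype_injective, Subgroup.map_commutator,
      Subgroup.map_commutator, ← MonoidHom.range_eq_map, Subgroup.range_subtype]
    exact hc
  refine h1.trans ?_
  intro x hx
  rw [Subgroup.mem_comap, Subgroup.mem_bot]
  exact (QuotientGroup.eq_one_iff _).2 hx

end Cfsg.Agent.Helper15.Iso
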