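import Mathlib
import Cfsg.Agent.Lib.Helper15.Iso6
import Cfsg.Agent.Lib.Helper15.CoprimeGen
import Cfsg.Agent.Lib.Helper1.CoprimeIndex

set_option autoImplicit false
set_option linter.unusedSectionVars false
set_option linter.unusedVariables false
set_option linter.style.haveILetI false

/-!
Isolated `p`-minimal subgroups: the case where `Y / O_p(Y)` has order prime to `p`.
-/

namespace Cfsg.Agent.Helper15.Iso

open Subgroup Cfsg Cfsg.Agent.Helper15 Cfsg.Agent.Helper15.SubSyl Cfsg.Agent.Helper14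
  Cfsg.Agent.Helper7
open scoped commutatorElement

variable {G : Type*} [Group G] {p : ℕ} [Finite G] [Fact p.Prime] {S : Sylow p G}
  {P L Q : Subgroup G}

/-- the case of an abelian quotient `Y / D` -/
theorem IsoSetting.abelian_case (h : IsoSetting p S P L Q)
    (hc : ⁅yOf p P, yOf p P⁆ ≤ dOf p P L) :
    pRes p P = yOf p P ∧
      ∃ r : ℕ, r.Prime ∧ r ≠ p ∧ ∃ R : Subgroup G, IsPGroup r R ∧ R ≤ yOf p P ∧
        R ⊔ oOf p P = yOf p P := by
  obtain ⟨r, hr, hrp, hexp⟩ := h.exists_exponent hc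
  refine ⟨?_, r, hr, hrp, h.exists_rsub hr hexp⟩
  apply le_antisymm (pRes_le_yOf P)
  apply yOf_le_pRes_of_le
  refine (h.yOf_le_sup_oOf (h.yOf_le_sup hc hr hrp hexp)).trans ?_
  exact sup_le (SubSyl.pRes_le p P) ((oOf_le_sylow S P).trans h.hSP)

/-- `O_p(Y)` contains every `p`-subgroup of `Y` in the `p'`-case -/
theorem le_oOf_of_isPGroup (hp' : ¬ p ∣ (oOf p P).relIndex (yOf p P)) {T : Subgroup G}
    (hT : IsPGroup p T) (hTY : T ≤ yOf p P) : T ≤ oOf p P := by
  have hsyl : IsSylowIn p (oOf p P) (yOf p P) :=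
    isSylowIn_of_not_dvd_relIndex (oOf_isPGroup P) (oOf_le_yOf P) hp'
  have h1 : IsPGroup p (T ⊔ oOf p P : Subgroup G) :=
    hT.to_sup_of_normal_right' (oOf_isPGroup P) (le_normalizer_of_normal _ _)
  have h2 := hsyl.eq_of_le h1 le_sup_right (sup_le hTY (oOf_le_yOf P))
  rw [← h2]; exact le_sup_left

/-- an `S`-invariant subgroup of `Y` contains `O^p(P)` or is centralized by `Q` modulo `O_p(Y)` -/
theorem IsoSetting.dich_Q (h : IsoSetting p S P L Q)
    (hp' : ¬ p ∣ (oOf p P).relIndex (yOf p P)) {U : Subgroup G} (hUY : U ≤ yOf p P)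
    (hSU : (S : Subgroup G) ≤ normalizer (U : Set G)) :
    pRes p P ≤ U ∨ ⁅U, Q⁆ ≤ oOf p P := by
  rcases h.dichotomy hSU with h1 | h1
  · left; exact h1
  right
  have h2 : ⁅U, Q⁆ ≤ U ⊓ Q := by
    rw [Subgroup.commutator_le]
    intro u hu q hq
    constructor
    · have hqN := hSU (h.hQS hq)
      have e : ⁅u, q⁆ = u * (q * u⁻¹ * q⁻¹) := by simp only [commutatorElement_def]; group
      rw [e]
      exact U.mul_mem hu ((Subgroup.mem_normalizer_iff.1 hqN _).1 (U.inv_mem hu))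
    · have huN := h.hLQ (h1 hu)
      rw [commutatorElement_def]
      exact Q.mul_mem ((Subgroup.mem_normalizer_iff.1 huN q).1 hq) (Q.inv_mem hq)
  refine h2.trans (le_oOf_of_isPGroup hp' ?_ (inf_le_left.trans hUY))
  exact (S.2.to_le h.hQS).to_le inf_le_right

/-- an `S`-invariant Sylow `s`-subgroup modulo `O_p(Y)` -/
theorem exists_inv_sylow (S : Sylow p G) (P : Subgroup G)
    (hp' : ¬ p ∣ (oOf p P).relIndex (yOf p P)) {s : ℕ} (hs : s.Prime) :
    ∃ V : Subgroup G, oOf p P ≤ V ∧ V ≤ yOf p P ∧ (S : Subgroup G) ≤ normalizer (V : Set G) ∧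
      ¬ s ∣ V.relIndex (yOf p P) ∧ ∀ g ∈ V, ∃ k : ℕ, g ^ s ^ k ∈ oOf p P := by
  haveI : Fact s.Prime := ⟨hs⟩
  set π := QuotientGroup.mk' (oOf p P) with hπ
  have hπs : Function.Surjective π := QuotientGroup.mk'_surjective _
  have hker : π.ker = oOf p P := QuotientGroup.ker_mk' _
  have hU : IsPGroup p ((S : Subgroup G).map π) := S.2.map π
  have hcard : Nat.card ((yOf p P).map π) = (oOf p P).relIndex (yOf p P) := by
    rw [← Subgroup.relIndex_bot_left, ← Subgroup.relIndex_comap, MonoidHom.comap_bot, hker]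
  have hR : (Nat.card ((yOf p P).map π)).Coprime p := by
    rw [hcard]
    exact ((Nat.Prime.coprime_iff_not_dvd (Fact.out : p.Prime)).2 hp').symm
  haveI hRn : ((yOf p P).map π).Normal := (yOf_normal P).map π hπs
  obtain ⟨Pb, hPbR, hPbr, hPbcard, hUPb⟩ :=
    exists_invariant_sylow_of_coprime (p := p) s hU hR (le_normalizer_of_normal _ _)
  have hmemY : ∀ x : G, π x ∈ (yOf p P).map π → x ∈ yOf p P := by
    rintro x ⟨y, hy, hyx⟩
    have h1 : y⁻¹ * x ∈ π.ker := by
      rw [MonoidHom.mem_ker, map_mul, map_inv, hyx, inv_mul_cancel]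
    rw [hker] at h1
    have := (yOf p P).mul_mem hy (oOf_le_yOf P h1)
    simpa using this
  refine ⟨Pb.comap π, ?_, ?_, ?_, ?_, ?_⟩
  · intro x hx
    rw [Subgroup.mem_comap]
    have : π x = 1 := by rw [← MonoidHom.mem_ker, hker]; exact hx
    rw [this]; exact Pb.one_mem
  · intro x hx
    exact hmemY x (hPbR hx)
  · intro t ht
    have htN := hUPb ⟨t, ht, rfl⟩
    rw [Subgroup.mem_normalizer_iff] at htN ⊢
    intro x
    rw [Subgroup.mem_comap, Subgroup.mem_comap, map_mul, map_mul, map_inv]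
    exact htN (π x)
  · rw [Subgroup.relIndex_comap]
    exact (isSylowIn_of_card hPbR hPbcard).not_dvd_relIndex
  · intro g hg
    obtain ⟨k, hk⟩ := hPbr ⟨π g, hg⟩
    refine ⟨k, ?_⟩
    have hk' : (π g) ^ s ^ k = 1 := by
      have := congrArg Subtype.val hk
      simpa using this
    rw [← map_pow, ← MonoidHom.mem_ker, hker] at hk'
    exact hk'

/-- powers by coprime prime powers -/
theorem mem_of_pow_mem_of_pow_mem {N : Subgroup G} [N.Normal] {g : G} {a b : ℕ} (hab : a.Coprime b)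
    (ha : g ^ a ∈ N) (hb : g ^ b ∈ N) : g ∈ N := by
  have h1 : (QuotientGroup.mk' N g) ^ a = 1 := by
    rw [← map_pow]; exact (QuotientGroup.eq_one_iff _).2 ha
  have h2 : (QuotientGroup.mk' N g) ^ b = 1 := by
    rw [← map_pow]; exact (QuotientGroup.eq_one_iff _).2 hb
  have h3 : orderOf (QuotientGroup.mk' N g) ∣ Nat.gcd a b :=
    Nat.dvd_gcd (orderOf_dvd_of_pow_eq_one h1) (orderOf_dvd_of_pow_eq_one h2)
  rw [hab, Nat.dvd_one, orderOf_eq_one_iff] at h3
  exact (QuotientGroup.eq_one_iff _).1 h3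

/-- `Y` is solvable when it is an `r`-group modulo `O_p(Y)` -/
theorem isSolvable_yOf_of_pow (P : Subgroup G) {r : ℕ} (hr : r.Prime)
    (hpow : ∀ y ∈ yOf p P, ∃ k : ℕ, y ^ r ^ k ∈ oOf p P) : Group.IsSolvable ↥(yOf p P) := by
  haveI : Fact r.Prime := ⟨hr⟩
  set N := Cfsg.pCore p ↥(yOf p P) with hN
  haveI : Group.IsNilpotent ↥N := (isPGroup_pCore p ↥(yOf p P)).isNilpotent
  haveI : Group.IsSolvable ↥N := inferInstance
  have hq : IsPGroup r (↥(yOf p P) ⧸ N) := by
    intro a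
    obtain ⟨y, rfl⟩ := QuotientGroup.mk'_surjective _ a
    obtain ⟨k, hk⟩ := hpow y y.2
    refine ⟨k, ?_⟩
    rw [← map_pow]
    apply (QuotientGroup.eq_one_iff _).2
    have hk' : ((y ^ r ^ k : ↥(yOf p P)) : G) ∈ oOf p P := by simpa using hk
    obtain ⟨_, h2⟩ := mem_pCoreOf_iff.1 hk'
    exact h2
  haveI : Group.IsNilpotent (↥(yOf p P) ⧸ N) := hq.isNilpotent
  haveI : Group.IsSolvable (↥(yOf p P) ⧸ N) := inferInstance
  apply Group.isSolvable_of_ker_le_range N.subtype (QuotientGroup.mk' N)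
  rw [QuotientGroup.ker_mk', Subgroup.range_subtype]

/-- the `p'`-case: `Y = O^p(P)` -/
theorem IsoSetting.pprime_case (h : IsoSetting p S P L Q)
    (hp' : ¬ p ∣ (oOf p P).relIndex (yOf p P)) : pRes p P = yOf p P := by
  have hpp : p.Prime := Fact.out
  set C := yOf p P ⊓ commutatorStab Q (oOf p P) with hC
  have hOC : oOf p P ≤ C := by
    refine le_inf (oOf_le_yOf P) ?_
    rw [le_commutatorStab_iff]
    exact Subgroup.commutator_le_left _ _
  have hmemC : ∀ {U : Subgroup G}, U ≤ yOf p P → ⁅U, Q⁆ ≤ oOf p P → U ≤ C := by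
    intro U h1 h2
    exact le_inf h1 ((le_commutatorStab_iff _ _ _).2 h2)
  have hCne : ¬ yOf p P ≤ C := by
    intro h1
    apply h.yOf_not_isPGroup
    have h2 : ⁅yOf p P, Q⁆ ≤ oOf p P := (le_commutatorStab_iff _ _ _).1 (h1.trans inf_le_right)
    rw [h.comm_yOf_Q] at h2
    exact (oOf_isPGroup P).to_le h2
  have hpC : ¬ p ∣ C.relIndex (yOf p P) := fun h1 =>
    hp' (h1.trans (Subgroup.relIndex_dvd_of_le_left (yOf p P) hOC))
  -- the two primes cannot both carry `X`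
  have hclash : ∀ {r s : ℕ}, r.Prime → s.Prime → r ≠ s → ∀ V W : Subgroup G,
      (∀ g ∈ V, ∃ k : ℕ, g ^ r ^ k ∈ oOf p P) → (∀ g ∈ W, ∃ k : ℕ, g ^ s ^ k ∈ oOf p P) →
      pRes p P ≤ V → pRes p P ≤ W → False := by
    intro r s hr hs hrs V W hV hW hXV hXW
    apply h.not_isPGroup
    have h1 : pRes p P ≤ ⊥ := by
      apply pRes_le_of_forall
      intro g hg hco
      have hgX := mem_pRes_of_coprime hg hco
      obtain ⟨k, hk⟩ := hV g (hXV hgX)
      obtain ⟨l, hl⟩ := hW g (hXW hgX)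
      have hcop : (r ^ k).Coprime (s ^ l) :=
        Nat.Coprime.pow _ _ ((Nat.coprime_primes hr hs).2 hrs)
      have hgO : g ∈ oOf p P := mem_of_pow_mem_of_pow_mem hcop hk hl
      rw [Subgroup.mem_bot]
      exact eq_one_of_isPGroup_of_coprime (oOf_isPGroup P) hgO hco
    exact IsPGroup.of_bot.to_le h1
  -- the prime `r`
  obtain ⟨r, hr, hrp, V, hOV, hVY, hSV, hrV, hVpow, hXV⟩ : ∃ r : ℕ, r.Prime ∧ r ≠ p ∧
      ∃ V : Subgroup G, oOf p P ≤ V ∧ V ≤ yOf p P ∧ (S : Subgroup G) ≤ normalizer (V : Set G) ∧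
      ¬ r ∣ V.relIndex (yOf p P) ∧ (∀ g ∈ V, ∃ k : ℕ, g ^ r ^ k ∈ oOf p P) ∧ pRes p P ≤ V := by
    by_contra hcon
    push Not at hcon
    apply hCne
    rw [← Subgroup.relIndex_eq_one, Nat.eq_one_iff_not_exists_prime_dvd]
    intro s hs hdvd
    by_cases hsp : s = p
    · subst hsp; exact hpC hdvd
    obtain ⟨V, hOV, hVY, hSV, hsV, hVpow⟩ := exists_inv_sylow S P hp' hs
    rcases h.dich_Q hp' hVY hSV with h1 | h1
    · exact hcon s hs hsp V hOV hVY hSV hsV hVpow h1
    · exact hsV (hdvd.trans (Subgroup.relIndex_dvd_of_le_left (yOf p P) (hmemC hVY h1)))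
  -- coprime indices
  have hcop : (V.relIndex (yOf p P)).Coprime (C.relIndex (yOf p P)) := by
    apply Nat.coprime_of_dvd
    intro s hs h1 h2
    have hsr : s ≠ r := by rintro rfl; exact hrV h1
    have hsp : s ≠ p := by rintro rfl; exact hpC h2
    obtain ⟨W, hOW, hWY, hSW, hsW, hWpow⟩ := exists_inv_sylow S P hp' hs
    rcases h.dich_Q hp' hWY hSW with h3 | h3
    · exact hclash hr hs (Ne.symm hsr) V W hVpow hWpow hXV h3
    · exact hsW (h2.trans (Subgroup.relIndex_dvd_of_le_left (yOf p P) (hmemC hWY h3)))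
  -- factorization
  have hfac : ∀ y ∈ yOf p P, ∃ a ∈ V, ∃ c ∈ C, y = a * c := by
    intro y hy
    obtain ⟨a, ha, c, hc, hac⟩ := Cfsg.Agent.Helper1.exists_mul_of_coprime_index
      (H := V.subgroupOf (yOf p P)) (K := C.subgroupOf (yOf p P)) hcop ⟨y, hy⟩
    refine ⟨a, Subgroup.mem_subgroupOf.1 ha, c, Subgroup.mem_subgroupOf.1 hc, ?_⟩
    have := congrArg Subtype.val hac
    simpa using this
  -- `⁅Y, Q⁆ ≤ V`
  have hYV : yOf p P ≤ V := by
    calc yOf p P = ⁅yOf p P, Q⁆ := h.comm_yOf_Q.symm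
      _ ≤ V := by
        rw [Subgroup.commutator_le]
        intro y hy q hq
        obtain ⟨a, ha, c, hc, rfl⟩ := hfac y hy
        have e : ⁅a * c, q⁆ = a * ⁅c, q⁆ * a⁻¹ * ⁅a, q⁆ := by
          simp only [commutatorElement_def]; group
        rw [e]
        refine V.mul_mem (hOV ?_) ?_
        · exact (oOf_normal P).conj_mem _ (hc.2 q hq) a
        · have hqN := hSV (h.hQS hq)
          have e2 : ⁅a, q⁆ = a * (q * a⁻¹ * q⁻¹) := by
            simp only [commutatorElement_def]; group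
          rw [e2]
          exact V.mul_mem ha ((Subgroup.mem_normalizer_iff.1 hqN _).1 (V.inv_mem ha))
  have hsol : Group.IsSolvable ↥(yOf p P) :=
    isSolvable_yOf_of_pow P hr fun y hy => hVpow y (hYV hy)
  exact (h.solvable_case hsol).1

end Cfsg.Agent.Helper15.Iso
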