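import Mathlib
import Cfsg.Agent.Lib.Helper15.Iso7

set_option autoImplicit false
set_option linter.unusedSectionVars false
set_option linter.unusedVariables false
set_option linter.style.haveILetI false

/-!
Conjugation on the quotient `Y / O_p(Y)` of a normal subgroup `Y`, and preimages of subgroups of the
quotient in the ambient group.
-/

namespace Cfsg.Agent.Helper15.Iso

open Subgroup Cfsg Cfsg.Agent.Helper15 Cfsg.Agent.Helper14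
open scoped commutatorElement

variable {G : Type*} [Group G] {p : ℕ}

/-- the automorphism of `Y / O_p(Y)` induced by conjugation with `g` -/
noncomputable def qconj (p : ℕ) (Y : Subgroup G) [Y.Normal] (g : G) :
    (↥Y ⧸ Cfsg.pCore p ↥Y) ≃* (↥Y ⧸ Cfsg.pCore p ↥Y) :=
  QuotientGroup.congr (Cfsg.pCore p ↥Y) (Cfsg.pCore p ↥Y) (MulAut.conjNormal g)
    (pCore_map_equiv (MulAut.conjNormal g : ↥Y ≃* ↥Y))

theorem qconj_mk (Y : Subgroup G) [Y.Normal] (g : G) (y : ↥Y) :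
    qconj p Y g (QuotientGroup.mk' (Cfsg.pCore p ↥Y) y) =
      QuotientGroup.mk' (Cfsg.pCore p ↥Y) (MulAut.conjNormal g y) := rfl

/-- the preimage in the ambient group of a subgroup of `Y / O_p(Y)` -/
def pre (p : ℕ) (Y : Subgroup G) (K : Subgroup (↥Y ⧸ Cfsg.pCore p ↥Y)) : Subgroup G :=
  (K.comap (QuotientGroup.mk' (Cfsg.pCore p ↥Y))).map Y.subtype

theorem mem_pre {Y : Subgroup G} {K : Subgroup (↥Y ⧸ Cfsg.pCore p ↥Y)} {z : G} :
    z ∈ pre p Y K ↔ ∃ hz : z ∈ Y, QuotientGroup.mk' (Cfsg.pCore p ↥Y) ⟨z, hz⟩ ∈ K := by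
  unfold pre
  constructor
  · rintro ⟨y, hy, rfl⟩
    exact ⟨y.2, hy⟩
  · rintro ⟨hz, h⟩
    exact ⟨⟨z, hz⟩, h, rfl⟩

theorem pre_le (Y : Subgroup G) (K : Subgroup (↥Y ⧸ Cfsg.pCore p ↥Y)) : pre p Y K ≤ Y :=
  Subgroup.map_subtype_le _

theorem pre_mono {Y : Subgroup G} {K₁ K₂ : Subgroup (↥Y ⧸ Cfsg.pCore p ↥Y)} (h : K₁ ≤ K₂) :
    pre p Y K₁ ≤ pre p Y K₂ := by
  intro z hz
  rw [mem_pre] at hz ⊢
  obtain ⟨hzY, hz⟩ := hz
  exact ⟨hzY, h hz⟩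

theorem pre_le_pre_iff {Y : Subgroup G} {K₁ K₂ : Subgroup (↥Y ⧸ Cfsg.pCore p ↥Y)} :
    pre p Y K₁ ≤ pre p Y K₂ ↔ K₁ ≤ K₂ := by
  constructor
  · intro h a ha
    obtain ⟨y, rfl⟩ := QuotientGroup.mk'_surjective _ a
    have h1 : (y : G) ∈ pre p Y K₁ := mem_pre.2 ⟨y.2, ha⟩
    obtain ⟨_, h2⟩ := mem_pre.1 (h h1)
    exact h2
  · exact pre_mono

theorem pre_injective {Y : Subgroup G} {K₁ K₂ : Subgroup (↥Y ⧸ Cfsg.pCore p ↥Y)}
    (h : pre p Y K₁ = pre p Y K₂) : K₁ = K₂ :=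
  le_antisymm (pre_le_pre_iff.1 h.le) (pre_le_pre_iff.1 h.ge)

theorem pre_top (Y : Subgroup G) : pre p Y ⊤ = Y := by
  apply le_antisymm (pre_le Y _)
  intro z hz
  exact mem_pre.2 ⟨hz, Subgroup.mem_top _⟩

theorem pre_bot (Y : Subgroup G) : pre p Y ⊥ = pCoreOf p Y := by
  ext z
  rw [mem_pre, mem_pCoreOf_iff]
  constructor
  · rintro ⟨hz, h⟩
    exact ⟨hz, (QuotientGroup.eq_one_iff _).1 (Subgroup.mem_bot.1 h)⟩
  · rintro ⟨hz, h⟩
    exact ⟨hz, Subgroup.mem_bot.2 ((QuotientGroup.eq_one_iff _).2 h)⟩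

theorem pCoreOf_le_pre (Y : Subgroup G) (K : Subgroup (↥Y ⧸ Cfsg.pCore p ↥Y)) :
    pCoreOf p Y ≤ pre p Y K := by
  rw [← pre_bot]; exact pre_mono bot_le

theorem pre_inf (Y : Subgroup G) (K₁ K₂ : Subgroup (↥Y ⧸ Cfsg.pCore p ↥Y)) :
    pre p Y (K₁ ⊓ K₂) = pre p Y K₁ ⊓ pre p Y K₂ := by
  ext z
  simp only [mem_pre, Subgroup.mem_inf]
  constructor
  · rintro ⟨hz, h1, h2⟩
    exact ⟨⟨hz, h1⟩, ⟨hz, h2⟩⟩
  · rintro ⟨⟨hz, h1⟩, ⟨_, h2⟩⟩
    exact ⟨hz, h1, h2⟩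

/-- conjugating a preimage -/
theorem pre_map_conj (Y : Subgroup G) [Y.Normal] (K : Subgroup (↥Y ⧸ Cfsg.pCore p ↥Y)) (g : G) :
    (pre p Y K).map (MulAut.conj g).toMonoidHom = pre p Y (K.map (qconj p Y g).toMonoidHom) := by
  ext z
  constructor
  · rintro ⟨w, hw, rfl⟩
    obtain ⟨hwY, hw⟩ := mem_pre.1 hw
    rw [mem_pre]
    have hY : (MulAut.conj g).toMonoidHom w ∈ Y := by
      have := (MulAut.conjNormal g (⟨w, hwY⟩ : ↥Y)).2
      simpa [MulAut.conjNormal_apply] using this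
    refine ⟨hY, ⟨_, hw, ?_⟩⟩
    show qconj p Y g (QuotientGroup.mk' _ ⟨w, hwY⟩) = _
    rw [qconj_mk]
    congr 1
  · intro hz
    obtain ⟨hzY, a, ha, haz⟩ := mem_pre.1 hz
    obtain ⟨y, rfl⟩ := QuotientGroup.mk'_surjective _ a
    have haz' : QuotientGroup.mk' (Cfsg.pCore p ↥Y) (MulAut.conjNormal g y) =
        QuotientGroup.mk' (Cfsg.pCore p ↥Y) ⟨z, hzY⟩ := haz
    -- `z = (g y g⁻¹) * n` with `n ∈ O_p(Y)`
    have h1 : (MulAut.conjNormal g y)⁻¹ * ⟨z, hzY⟩ ∈ Cfsg.pCore p ↥Y := QuotientGroup.eq.1 haz'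
    set n : ↥Y := (MulAut.conjNormal g y)⁻¹ * ⟨z, hzY⟩ with hn
    have h2 : (MulAut.conjNormal g).symm n ∈ Cfsg.pCore p ↥Y := by
      have := pCore_map_equiv (p := p) ((MulAut.conjNormal g : ↥Y ≃* ↥Y).symm)
      rw [← this]
      exact ⟨n, h1, rfl⟩
    refine ⟨((y * (MulAut.conjNormal g).symm n : ↥Y) : G), ?_, ?_⟩
    · rw [SetLike.mem_coe, mem_pre]
      refine ⟨(y * (MulAut.conjNormal g).symm n).2, ?_⟩
      have : QuotientGroup.mk' (Cfsg.pCore p ↥Y) (y * (MulAut.conjNormal g).symm n) =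
          QuotientGroup.mk' (Cfsg.pCore p ↥Y) y := by
        have h0 : QuotientGroup.mk' (Cfsg.pCore p ↥Y) ((MulAut.conjNormal g).symm n) = 1 :=
          (QuotientGroup.eq_one_iff _).2 h2
        rw [map_mul, h0, mul_one]
      rw [this]; exact ha
    · have e : (MulAut.conjNormal g) (y * (MulAut.conjNormal g).symm n) = ⟨z, hzY⟩ := by
        rw [map_mul, MulEquiv.apply_symm_apply, hn]; group
      have h3 := congrArg Subtype.val e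
      rw [MulAut.conjNormal_apply] at h3
      exact h3

theorem map_qconj_map_qconj (Y : Subgroup G) [Y.Normal] (K : Subgroup (↥Y ⧸ Cfsg.pCore p ↥Y))
    (g h : G) :
    (K.map (qconj p Y h).toMonoidHom).map (qconj p Y g).toMonoidHom =
      K.map (qconj p Y (g * h)).toMonoidHom := by
  apply pre_injective
  rw [← pre_map_conj, ← pre_map_conj, ← pre_map_conj, map_conj_map_conj]

theorem map_qconj_one (Y : Subgroup G) [Y.Normal] (K : Subgroup (↥Y ⧸ Cfsg.pCore p ↥Y)) :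
    K.map (qconj p Y 1).toMonoidHom = K := by
  apply pre_injective
  rw [← pre_map_conj, map_conj_one]

/-- the preimage of a characteristic subgroup is normal in the ambient group -/
theorem pre_normal_of_characteristic (Y : Subgroup G) [Y.Normal]
    (K : Subgroup (↥Y ⧸ Cfsg.pCore p ↥Y)) [hK : K.Characteristic] : (pre p Y K).Normal := by
  constructor
  intro n hn g
  have h1 : (pre p Y K).map (MulAut.conj g).toMonoidHom = pre p Y K := by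
    rw [pre_map_conj, Subgroup.characteristic_iff_map_eq.1 hK]
  rw [← h1]
  exact ⟨n, hn, rfl⟩

/-- the preimage of a normal subgroup is normalized by `Y` -/
theorem le_normalizer_pre (Y : Subgroup G) (K : Subgroup (↥Y ⧸ Cfsg.pCore p ↥Y)) [hK : K.Normal] :
    Y ≤ normalizer ((pre p Y K : Subgroup G) : Set G) := by
  have key : ∀ y ∈ Y, ∀ z ∈ pre p Y K, y * z * y⁻¹ ∈ pre p Y K := by
    intro y hy z hz
    obtain ⟨hzY, hz⟩ := mem_pre.1 hz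
    rw [mem_pre]
    refine ⟨Y.mul_mem (Y.mul_mem hy hzY) (Y.inv_mem hy), ?_⟩
    have e : (⟨y * z * y⁻¹, Y.mul_mem (Y.mul_mem hy hzY) (Y.inv_mem hy)⟩ : ↥Y) =
        ⟨y, hy⟩ * ⟨z, hzY⟩ * ⟨y, hy⟩⁻¹ := rfl
    rw [e, map_mul, map_mul, map_inv]
    exact hK.conj_mem _ hz _
  intro y hy
  rw [Subgroup.mem_normalizer_iff]
  intro z
  constructor
  · exact key y hy z
  · intro hz
    have := key y⁻¹ (Y.inv_mem hy) _ hz
    simpa [mul_assoc] using this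

/-- commuting subgroups of the quotient have preimages commuting modulo `O_p(Y)` -/
theorem commutator_pre_le (Y : Subgroup G) {K₁ K₂ : Subgroup (↥Y ⧸ Cfsg.pCore p ↥Y)}
    (h : ⁅K₁, K₂⁆ = ⊥) : ⁅pre p Y K₁, pre p Y K₂⁆ ≤ pCoreOf p Y := by
  rw [Subgroup.commutator_le]
  intro z₁ hz₁ z₂ hz₂
  obtain ⟨h1Y, h1⟩ := mem_pre.1 hz₁
  obtain ⟨h2Y, h2⟩ := mem_pre.1 hz₂
  rw [mem_pCoreOf_iff]
  refine ⟨Subgroup.commutator_mem_commutator h1Y h2Y |> fun h => (Subgroup.commutator_le_self Y) h, ?_⟩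
  apply (QuotientGroup.eq_one_iff _).1
  have e : (⟨⁅z₁, z₂⁆, (Subgroup.commutator_le_self Y)
      (Subgroup.commutator_mem_commutator h1Y h2Y)⟩ : ↥Y) = ⁅(⟨z₁, h1Y⟩ : ↥Y), ⟨z₂, h2Y⟩⁆ := rfl
  have h3 : ((⁅(⟨z₁, h1Y⟩ : ↥Y), ⟨z₂, h2Y⟩⁆ : ↥Y) : ↥Y ⧸ Cfsg.pCore p ↥Y) ∈ ⁅K₁, K₂⁆ := by
    have : ((⁅(⟨z₁, h1Y⟩ : ↥Y), ⟨z₂, h2Y⟩⁆ : ↥Y) : ↥Y ⧸ Cfsg.pCore p ↥Y) =
        ⁅QuotientGroup.mk' (Cfsg.pCore p ↥Y) ⟨z₁, h1Y⟩,
          QuotientGroup.mk' (Cfsg.pCore p ↥Y) ⟨z₂, h2Y⟩⁆ :=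
      map_commutatorElement (QuotientGroup.mk' (Cfsg.pCore p ↥Y)) _ _
    rw [this]
    exact Subgroup.commutator_mem_commutator h1 h2
  rw [h, Subgroup.mem_bot] at h3
  rw [e]; exact h3

/-- a subgroup of the quotient whose preimage commutes with `Y` modulo `O_p(Y)` is central -/
theorem le_center_of_commutator_pre_le (Y : Subgroup G) {K : Subgroup (↥Y ⧸ Cfsg.pCore p ↥Y)}
    (h : ⁅pre p Y K, Y⁆ ≤ pCoreOf p Y) : K ≤ center (↥Y ⧸ Cfsg.pCore p ↥Y) := by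
  intro a ha
  rw [Subgroup.mem_center_iff]
  intro b
  obtain ⟨y, rfl⟩ := QuotientGroup.mk'_surjective _ a
  obtain ⟨z, rfl⟩ := QuotientGroup.mk'_surjective _ b
  have h1 : ⁅(y : G), (z : G)⁆ ∈ pCoreOf p Y :=
    h (Subgroup.commutator_mem_commutator (mem_pre.2 ⟨y.2, ha⟩) z.2)
  obtain ⟨_, h2⟩ := mem_pCoreOf_iff.1 h1
  have h3 : QuotientGroup.mk' (Cfsg.pCore p ↥Y) ⁅y, z⁆ = 1 := (QuotientGroup.eq_one_iff _).2 h2
  rw [map_commutatorElement, commutatorElement_eq_one_iff_mul_comm] at h3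
  exact h3.symm

end Cfsg.Agent.Helper15.Iso
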