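import Mathlib
import Cfsg.Agent.Lib.Helper15.Iso8
import Cfsg.Agent.Lib.Helper7.Layer

set_option autoImplicit false
set_option linter.unusedSectionVars false
set_option linter.unusedVariables false
set_option linter.style.haveILetI false

/-!
Isolated `p`-minimal subgroups: the perfect case, `Y / O_p(Y)` is the product of its components.
-/

namespace Cfsg.Agent.Helper15.Iso

open Subgroup Cfsg Cfsg.Agent.Helper15 Cfsg.Agent.Helper15.SubSyl Cfsg.Agent.Helper14
  Cfsg.Agent.Helper7
open scoped commutatorElement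

universe u

variable {G : Type u} [Group G] {p : ℕ} [Finite G] [Fact p.Prime] {S : Sylow p G}
  {P L Q : Subgroup G}

/-- a characteristic subgroup of `Y / O_p(Y)` is everything or central -/
theorem IsoSetting.char_dich (h : IsoSetting p S P L Q)
    (C : Subgroup (↥(yOf p P) ⧸ Cfsg.pCore p ↥(yOf p P))) [hC : C.Characteristic] :
    C = ⊤ ∨ C ≤ center (↥(yOf p P) ⧸ Cfsg.pCore p ↥(yOf p P)) := by
  haveI : (pre p (yOf p P) C).Normal := pre_normal_of_characteristic _ C
  rcases h.normal_dich' (pre p (yOf p P) C) (pre_le _ _) with h1 | h1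
  · left
    apply pre_injective
    rw [h1, pre_top]
  · right
    apply le_center_of_commutator_pre_le
    exact (Subgroup.commutator_mono h1 le_rfl).trans h.comm_dOf_yOf

theorem IsoSetting.nontrivial_quot (h : IsoSetting p S P L Q) :
    Nontrivial (↥(yOf p P) ⧸ Cfsg.pCore p ↥(yOf p P)) := by
  by_contra hnt
  rw [not_nontrivial_iff_subsingleton] at hnt
  apply h.yOf_not_isPGroup
  have h1 : yOf p P ≤ oOf p P := by
    intro y hy
    show y ∈ pCoreOf p (yOf p P)
    rw [mem_pCoreOf_iff]
    refine ⟨hy, (QuotientGroup.eq_one_iff _).1 (Subsingleton.elim _ _)⟩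
  exact (oOf_isPGroup P).to_le h1

theorem commutator_quot_eq_top (P : Subgroup G) (hperf : ⁅yOf p P, yOf p P⁆ = yOf p P) :
    commutator (↥(yOf p P) ⧸ Cfsg.pCore p ↥(yOf p P)) = ⊤ := by
  have hs : Function.Surjective (QuotientGroup.mk' (Cfsg.pCore p ↥(yOf p P))) :=
    QuotientGroup.mk'_surjective _
  have h1 : ⁅(⊤ : Subgroup ↥(yOf p P)), (⊤ : Subgroup ↥(yOf p P))⁆ = ⊤ := by
    apply Subgroup.map_injective (yOf p P).subtype_injective
    rw [Subgroup.map_commutator, ← MonoidHom.range_eq_map, Subgroup.range_subtype]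
    exact hperf
  rw [commutator_def, ← Subgroup.map_top_of_surjective _ hs, ← Subgroup.map_commutator, h1]

/-- `Y / O_p(Y)` is the product of its components in the perfect case -/
theorem IsoSetting.layer_eq_top (h : IsoSetting p S P L Q)
    (hperf : ⁅yOf p P, yOf p P⁆ = yOf p P) :
    Cfsg.layer (↥(yOf p P) ⧸ Cfsg.pCore p ↥(yOf p P)) = ⊤ := by
  set Yb := ↥(yOf p P) ⧸ Cfsg.pCore p ↥(yOf p P) with hYb
  haveI := h.nontrivial_quot
  have hcomm := commutator_quot_eq_top P hperf
  haveI : (Cfsg.layer Yb).Characteristic := layer_characteristic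
  haveI : (Cfsg.fittingSubgroup Yb).Characteristic := fittingSubgroup_characteristic
  rcases h.char_dich (Cfsg.layer Yb) with h1 | h1
  · exact h1
  exfalso
  rcases h.char_dich (Cfsg.fittingSubgroup Yb) with h2 | h2
  · -- nilpotent and perfect
    have hnil : Group.IsNilpotent ↥(Cfsg.fittingSubgroup Yb) := fittingSubgroup_isNilpotent
    rw [h2] at hnil
    haveI : Group.IsNilpotent Yb := Group.isNilpotent_top.1 hnil
    have := Group.IsSolvable.commutator_lt_top_of_nontrivial Yb
    exact this.ne hcomm
  · have h3 : Cfsg.generalizedFittingSubgroup Yb ≤ center Yb := sup_le h1 h2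
    have h4 : Subgroup.centralizer (Cfsg.generalizedFittingSubgroup Yb : Set Yb) = ⊤ := by
      rw [eq_top_iff, ← Subgroup.centralizer_eq_top_iff_subset.2 (show
        ((center Yb : Subgroup Yb) : Set Yb) ⊆ center Yb from le_rfl)]
      exact Subgroup.centralizer_le h3
    have h5 : (⊤ : Subgroup Yb) ≤ center Yb := by
      rw [← h4]
      exact centralizer_generalizedFittingSubgroup_le.trans h3
    have h6 : commutator Yb = ⊥ := by
      rw [commutator_def, Subgroup.commutator_eq_bot_iff_le_centralizer]
      intro x _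
      rw [Subgroup.mem_centralizer_iff]
      intro y _
      exact (Subgroup.mem_center_iff.1 (h5 (Subgroup.mem_top x)) y)
    rw [h6] at hcomm
    exact bot_ne_top hcomm

end Cfsg.Agent.Helper15.Iso
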