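import Mathlib
import Cfsg.Agent.Lib.Helper15.Iso9

set_option autoImplicit false
set_option linter.unusedSectionVars false
set_option linter.unusedVariables false
set_option linter.style.haveILetI false

/-!
Isolated `p`-minimal subgroups: the Sylow subgroup permutes the components of `Y / O_p(Y)`
transitively.
-/

namespace Cfsg.Agent.Helper15.Iso

open Subgroup Cfsg Cfsg.Agent.Helper15 Cfsg.Agent.Helper15.SubSyl Cfsg.Agent.Helper14
  Cfsg.Agent.Helper7
open scoped commutatorElement

universe u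

variable {G : Type u} [Group G] {p : ℕ} [Finite G] [Fact p.Prime] {S : Sylow p G}
  {P L Q : Subgroup G}

/-- the product of the `S`-conjugates of a subgroup of `Y / O_p(Y)` -/
noncomputable def orb (S : Sylow p G) (P : Subgroup G)
    (K : Subgroup (↥(yOf p P) ⧸ Cfsg.pCore p ↥(yOf p P))) :
    Subgroup (↥(yOf p P) ⧸ Cfsg.pCore p ↥(yOf p P)) :=
  ⨆ s : ↥(S : Subgroup G), K.map (qconj p (yOf p P) (s : G)).toMonoidHom

theorem le_orb (S : Sylow p G) (P : Subgroup G)
    (K : Subgroup (↥(yOf p P) ⧸ Cfsg.pCore p ↥(yOf p P))) : K ≤ orb S P K := by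
  have h1 : K ≤ K.map (qconj p (yOf p P) ((1 : ↥(S : Subgroup G)) : G)).toMonoidHom := by
    rw [Subgroup.coe_one, map_qconj_one]
  unfold orb
  exact le_iSup_of_le (1 : ↥(S : Subgroup G)) h1

theorem le_normalizer_pre_orb (S : Sylow p G) (P : Subgroup G)
    (K : Subgroup (↥(yOf p P) ⧸ Cfsg.pCore p ↥(yOf p P))) :
    (S : Subgroup G) ≤ normalizer ((pre p (yOf p P) (orb S P K) : Subgroup G) : Set G) := by
  apply le_normalizer_of_forall_map_conj_le
  intro s hs
  rw [pre_map_conj]
  apply pre_mono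
  have key : ∀ s' : ↥(S : Subgroup G),
      (K.map (qconj p (yOf p P) (s' : G)).toMonoidHom).map (qconj p (yOf p P) s).toMonoidHom ≤
        orb S P K := by
    intro s'
    rw [map_qconj_map_qconj]
    obtain ⟨t, ht⟩ : ∃ t : ↥(S : Subgroup G), (t : G) = s * (s' : G) := ⟨⟨s, hs⟩ * s', rfl⟩
    rw [← ht]
    unfold orb
    exact le_iSup (fun t : ↥(S : Subgroup G) =>
      K.map (qconj p (yOf p P) (t : G)).toMonoidHom) t
  have h2 : (orb S P K).map (qconj p (yOf p P) s).toMonoidHom =
      ⨆ s' : ↥(S : Subgroup G), (K.map (qconj p (yOf p P) (s' : G)).toMonoidHom).map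
        (qconj p (yOf p P) s).toMonoidHom := by
    unfold orb
    rw [Subgroup.map_iSup]
  rw [h2]
  exact iSup_le key

/-- components of `Y / O_p(Y)` are normal when the layer is everything -/
theorem normal_of_isComponent {H : Type u} [Group H] [Finite H] (hl : Cfsg.layer H = ⊤)
    {K : Subgroup H} (hK : Cfsg.IsComponent K) : K.Normal := by
  apply normal_of_top_le_normalizer
  rw [← hl]
  exact layer_le_normalizer_component hK

theorem orb_normal (S : Sylow p G) (P : Subgroup G)
    (hl : Cfsg.layer (↥(yOf p P) ⧸ Cfsg.pCore p ↥(yOf p P)) = ⊤)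
    {K : Subgroup (↥(yOf p P) ⧸ Cfsg.pCore p ↥(yOf p P))} (hK : Cfsg.IsComponent K) :
    (orb S P K).Normal := by
  unfold orb
  haveI : ∀ s : ↥(S : Subgroup G), (K.map (qconj p (yOf p P) (s : G)).toMonoidHom).Normal :=
    fun s => normal_of_isComponent hl (isComponent_map_mulEquiv _ hK)
  infer_instance

/-- a component commuting with no conjugate-coincidence commutes with the whole orbit product -/
theorem commutator_orb_eq_bot (S : Sylow p G) (P : Subgroup G)
    {K' K : Subgroup (↥(yOf p P) ⧸ Cfsg.pCore p ↥(yOf p P))} (hK' : Cfsg.IsComponent K')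
    (hK : Cfsg.IsComponent K)
    (hne : ∀ s : ↥(S : Subgroup G), K' ≠ K.map (qconj p (yOf p P) (s : G)).toMonoidHom) :
    ⁅K', orb S P K⁆ = ⊥ := by
  rw [eq_bot_iff]
  unfold orb
  apply commutator_iSup_le'
  intro s
  rw [component_commutator_eq_bot_of_ne hK' (isComponent_map_mulEquiv _ hK) (hne s)]

/-- for an `S`-invariant subgroup `U ≤ L`: `⁅U, Q⁆ ≤ U ∩ Q` -/
theorem IsoSetting.comm_le_inf (h : IsoSetting p S P L Q) {U : Subgroup G}
    (hSU : (S : Subgroup G) ≤ normalizer (U : Set G)) (hUL : U ≤ L) : ⁅U, Q⁆ ≤ U ⊓ Q := by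
  rw [Subgroup.commutator_le]
  intro u hu q hq
  constructor
  · have hqN := hSU (h.hQS hq)
    have e : ⁅u, q⁆ = u * (q * u⁻¹ * q⁻¹) := by simp only [commutatorElement_def]; group
    rw [e]
    exact U.mul_mem hu ((Subgroup.mem_normalizer_iff.1 hqN _).1 (U.inv_mem hu))
  · have huN := h.hLQ (hUL hu)
    rw [commutatorElement_def]
    exact Q.mul_mem ((Subgroup.mem_normalizer_iff.1 huN q).1 hq) (Q.inv_mem hq)

/-- the preimage of the centre of `Y / O_p(Y)` lies in `D` in the perfect case -/
theorem IsoSetting.pre_center_le (h : IsoSetting p S P L Q)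
    (hperf : ⁅yOf p P, yOf p P⁆ = yOf p P) :
    pre p (yOf p P) (center (↥(yOf p P) ⧸ Cfsg.pCore p ↥(yOf p P))) ≤ dOf p P L := by
  set Yb := ↥(yOf p P) ⧸ Cfsg.pCore p ↥(yOf p P) with hYb
  haveI : (pre p (yOf p P) (center Yb)).Normal := pre_normal_of_characteristic _ _
  rcases h.normal_dich' (pre p (yOf p P) (center Yb)) (pre_le _ _) with h1 | h1
  · exfalso
    have h2 : center Yb = ⊤ := by
      apply pre_injective
      rw [h1, pre_top]
    haveI := h.nontrivial_quot
    have hcomm := commutator_quot_eq_top P hperf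
    have h6 : commutator Yb = ⊥ := by
      rw [commutator_def, Subgroup.commutator_eq_bot_iff_le_centralizer]
      intro x _
      rw [Subgroup.mem_centralizer_iff]
      intro y _
      have hx : x ∈ center Yb := by rw [h2]; exact Subgroup.mem_top x
      exact (Subgroup.mem_center_iff.1 hx y)
    rw [h6] at hcomm
    exact bot_ne_top hcomm
  · exact h1

/-- no orbit product of components lies in `L` -/
theorem IsoSetting.orb_not_le (h : IsoSetting p S P L Q)
    (hl : Cfsg.layer (↥(yOf p P) ⧸ Cfsg.pCore p ↥(yOf p P)) = ⊤)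
    {K : Subgroup (↥(yOf p P) ⧸ Cfsg.pCore p ↥(yOf p P))} (hK : Cfsg.IsComponent K) :
    ¬ pre p (yOf p P) (orb S P K) ≤ L := by
  intro hU
  set U := pre p (yOf p P) (orb S P K) with hUdef
  have hUY : U ≤ yOf p P := pre_le _ _
  have hSU : (S : Subgroup G) ≤ normalizer (U : Set G) := le_normalizer_pre_orb S P K
  haveI : (orb S P K).Normal := orb_normal S P hl hK
  have hYU : yOf p P ≤ normalizer (U : Set G) := le_normalizer_pre (yOf p P) (orb S P K)
  have hUQ : ⁅U, Q⁆ ≤ oOf p P := by
    refine (h.comm_le_inf hSU hU).trans ?_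
    have h3 : U ⊓ Q ≤ pCoreOf p U :=
      le_pCoreOf inf_le_left (le_normalizer_inf le_normalizer (hU.trans h.hLQ))
        ((S.2.to_le h.hQS).to_le inf_le_right)
    have h4 : pCoreOf p U ≤ oOf p P :=
      le_pCoreOf ((pCoreOf_le p U).trans hUY) (le_normalizer_pCoreOf_of_le_normalizer hYU)
        (pCoreOf_isPGroup p U)
    exact h3.trans h4
  have hKU : pre p (yOf p P) K ≤ U := pre_mono (le_orb S P K)
  have hKQ : ⁅pre p (yOf p P) K, Q⁆ ≤ oOf p P := (Subgroup.commutator_mono hKU le_rfl).trans hUQ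
  haveI : K.Normal := normal_of_isComponent hl hK
  have hYK : yOf p P ≤ normalizer ((pre p (yOf p P) K : Subgroup G) : Set G) :=
    le_normalizer_pre (yOf p P) K
  set N := Subgroup.normalClosure ((pre p (yOf p P) K : Subgroup G) : Set G) with hN
  have hNQ : N ≤ commutatorStab Q (oOf p P) := by
    rw [hN]
    unfold Subgroup.normalClosure
    rw [Subgroup.closure_le]
    intro z hz
    rw [Group.mem_conjugatesOfSet_iff] at hz
    obtain ⟨k, hk, hconj⟩ := hz
    rw [isConj_iff] at hconj
    obtain ⟨c, rfl⟩ := hconj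
    have hc : c ∈ L ⊔ yOf p P := by
      rw [sup_comm, h.sup_eq_top']; exact Subgroup.mem_top c
    obtain ⟨l, hl', y, hy, rfl⟩ := Subgroup.mem_sup_of_normal_right.1 hc
    have hk' : y * k * y⁻¹ ∈ pre p (yOf p P) K :=
      (Subgroup.mem_normalizer_iff.1 (hYK hy) k).1 hk
    intro q hq
    have hq' : l⁻¹ * q * l ∈ Q := by
      have := (Subgroup.mem_normalizer_iff.1 (h.hLQ (L.inv_mem hl')) q).1 hq
      simpa using this
    have e : ⁅l * y * k * (l * y)⁻¹, q⁆ = l * ⁅y * k * y⁻¹, l⁻¹ * q * l⁆ * l⁻¹ := by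
      simp only [commutatorElement_def]; group
    rw [e]
    exact (oOf_normal P).conj_mem _ (hKQ (Subgroup.commutator_mem_commutator hk' hq')) l
  have hNY : N ≤ yOf p P := Subgroup.normalClosure_le_normal (pre_le _ _)
  rcases h.normal_dich' N hNY with h1 | h1
  · apply h.yOf_not_isPGroup
    have h2 : ⁅yOf p P, Q⁆ ≤ oOf p P := by
      rw [← le_commutatorStab_iff, ← h1]; exact hNQ
    rw [h.comm_yOf_Q] at h2
    exact (oOf_isPGroup P).to_le h2
  · have h2 : pre p (yOf p P) K ≤ dOf p P L := Subgroup.le_normalClosure.trans h1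
    have h3 : K ≤ center (↥(yOf p P) ⧸ Cfsg.pCore p ↥(yOf p P)) := by
      apply le_center_of_commutator_pre_le
      exact (Subgroup.commutator_mono h2 le_rfl).trans h.comm_dOf_yOf
    have h4 : ⁅K, K⁆ = ⊥ := by
      rw [Subgroup.commutator_eq_bot_iff_le_centralizer]
      exact h3.trans (Subgroup.center_le_centralizer _)
    rw [component_perfect hK] at h4
    exact component_ne_bot hK h4

/-- `S` permutes the components of `Y / O_p(Y)` transitively -/
theorem IsoSetting.transitive (h : IsoSetting p S P L Q)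
    (hperf : ⁅yOf p P, yOf p P⁆ = yOf p P)
    (hl : Cfsg.layer (↥(yOf p P) ⧸ Cfsg.pCore p ↥(yOf p P)) = ⊤)
    (K₁ K₂ : Subgroup (↥(yOf p P) ⧸ Cfsg.pCore p ↥(yOf p P))) (hK₁ : Cfsg.IsComponent K₁)
    (hK₂ : Cfsg.IsComponent K₂) :
    ∃ s ∈ (S : Subgroup G), pre p (yOf p P) K₂ =
      (pre p (yOf p P) K₁).map (MulAut.conj s).toMonoidHom := by
  by_contra hcon
  push Not at hcon
  set Yb := ↥(yOf p P) ⧸ Cfsg.pCore p ↥(yOf p P) with hYb
  have hne12 : ∀ s s' : ↥(S : Subgroup G),
      K₁.map (qconj p (yOf p P) (s : G)).toMonoidHom ≠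
        K₂.map (qconj p (yOf p P) (s' : G)).toMonoidHom := by
    intro s s' heq
    apply hcon ((s' : G)⁻¹ * (s : G)) ((S : Subgroup G).mul_mem ((S : Subgroup G).inv_mem s'.2) s.2)
    have h1 : (K₁.map (qconj p (yOf p P) (s : G)).toMonoidHom).map
        (qconj p (yOf p P) (s' : G)⁻¹).toMonoidHom =
        (K₂.map (qconj p (yOf p P) (s' : G)).toMonoidHom).map
          (qconj p (yOf p P) (s' : G)⁻¹).toMonoidHom := by rw [heq]
    rw [map_qconj_map_qconj, map_qconj_map_qconj, inv_mul_cancel, map_qconj_one] at h1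
    rw [← h1, ← pre_map_conj]
  -- the two orbit products
  have hS1 := le_normalizer_pre_orb S P K₁
  have hS2 := le_normalizer_pre_orb S P K₂
  rcases h.dichotomy hS1 with hX1 | hL1
  swap
  · exact h.orb_not_le hl hK₁ hL1
  rcases h.dichotomy hS2 with hX2 | hL2
  swap
  · exact h.orb_not_le hl hK₂ hL2
  -- `X` lies in the preimage of the intersection, which is central
  apply h.pRes_not_le
  have hX : pRes p P ≤ pre p (yOf p P) (orb S P K₁ ⊓ orb S P K₂) := by
    rw [pre_inf]; exact le_inf hX1 hX2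
  have hcent : orb S P K₁ ⊓ orb S P K₂ ≤ center Yb := by
    have h1 : (⊤ : Subgroup Yb) ≤
        Subgroup.centralizer ((orb S P K₁ ⊓ orb S P K₂ : Subgroup Yb) : Set Yb) := by
      rw [← hl]
      unfold Cfsg.layer
      apply sSup_le
      intro K' hK'
      rw [← Subgroup.commutator_eq_bot_iff_le_centralizer, eq_bot_iff]
      by_cases hex : ∃ s : ↥(S : Subgroup G),
          K' = K₁.map (qconj p (yOf p P) (s : G)).toMonoidHom
      · obtain ⟨s, hs⟩ := hex
        have h2 : ⁅K', orb S P K₂⁆ = ⊥ := by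
          apply commutator_orb_eq_bot S P hK' hK₂
          intro s'
          rw [hs]; exact hne12 s s'
        rw [← h2]
        exact Subgroup.commutator_mono le_rfl inf_le_right
      · push Not at hex
        have h2 : ⁅K', orb S P K₁⁆ = ⊥ := commutator_orb_eq_bot S P hK' hK₁ hex
        rw [← h2]
        exact Subgroup.commutator_mono le_rfl inf_le_left
    intro x hx
    rw [Subgroup.mem_center_iff]
    intro y
    have := h1 (Subgroup.mem_top y)
    rw [Subgroup.mem_centralizer_iff] at this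
    exact (this x hx).symm
  exact (hX.trans ((pre_mono hcent).trans (h.pre_center_le hperf))).trans (dOf_le P L)

end Cfsg.Agent.Helper15.Iso
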