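import Mathlib
import Cfsg.Prelude.Def_IsolatedElements
import Cfsg.Prelude.Def_CaseTheorems
import Cfsg.Prelude.Def_Local
import Cfsg.Agent.Lib.Helper15.IsoRank3
import Cfsg.Agent.Lib.Helper15.PCore
import Cfsg.Agent.Lib.Helper7.Cores

set_option autoImplicit false

namespace Cfsg.Agent.Helper15.IsoRank

open Cfsg.Agent.Helper15
open Cfsg.Agent.Helper10 (NPC)

universe u

/-- the hypotheses: `p` odd, `O_{p'}(G) = 1`, `p`-rank at most two, `x` of order `p` isolated and
not central -/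
structure Hyp (p : ℕ) (G : Type u) [Group G] (x : G) : Prop where
  hp : p ≠ 2
  hcore : Cfsg.pPrimeCore p G = ⊥
  hrank : Cfsg.PRankLE p 2 G
  hx : orderOf x = p
  hiso : Cfsg.IsIsolated x
  hnc : x ∉ Subgroup.center G

variable {G : Type u} [Group G] [Finite G] {p : ℕ} [Fact p.Prime] {x : G}

omit [Finite G] [Fact p.Prime] in
theorem Hyp.not_mem_of_normal_abelian (h : Hyp p G x) (N : Subgroup G) [hN : N.Normal]
    (hab : ∀ a ∈ N, ∀ b ∈ N, a * b = b * a) : x ∉ N := by
  intro hxN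
  apply h.hnc
  rw [Subgroup.mem_center_iff]
  intro g
  have hg : g * x * g⁻¹ ∈ N := hN.conj_mem x hxN g
  have := h.hiso g (hab x hxN _ hg)
  exact conj_eq_self_iff.1 this

omit [Fact p.Prime] in
theorem isPGroup_of_npc (hcore : Cfsg.pPrimeCore p G = ⊥) (H : Subgroup G) [H.Normal]
    (hn : NPC p ↥H) : IsPGroup p ↥H := by
  obtain ⟨N, hNn, hNc, k, hk⟩ := hn
  have h1 : N ≤ Cfsg.pPrimeCore p ↥H := Cfsg.Agent.Helper22.le_pPrimeCore p N hNn hNc
  have h2 := Cfsg.Agent.Helper7.map_subtype_pPrimeCore_le p H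
  rw [hcore, le_bot_iff, Subgroup.map_eq_bot_iff_of_injective _ H.subtype_injective] at h2
  rw [h2, le_bot_iff] at h1
  rw [h1, Subgroup.index_bot] at hk
  exact IsPGroup.of_card hk

theorem Hyp.x_commute_sylow (h : Hyp p G x) (P : Sylow p G) (hxP : x ∈ (P : Subgroup G))
    {a : G} (ha : a ∈ (P : Subgroup G)) : a * x = x * a :=
  mem_centralizer_singleton_iff.1 (IsIsolated.commute_of_mem h.hiso P.isPGroup' hxP ha)

omit [Finite G] in
theorem Hyp.exists_sylow (h : Hyp p G x) : ∃ P : Sylow p G, x ∈ (P : Subgroup G) := by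
  have hPx : IsPGroup p ↥(Subgroup.zpowers x) :=
    isPGroup_zpowers_of_orderOf ⟨1, by rw [h.hx, pow_one]⟩
  obtain ⟨P, hP⟩ := hPx.exists_le_sylow
  exact ⟨P, hP (Subgroup.mem_zpowers x)⟩

theorem Hyp.pCore_eq_bot (h : Hyp p G x) : Cfsg.pCore p G = ⊥ := by
  by_contra hne
  set R := Cfsg.pCore p G with hR
  have hRp : IsPGroup p ↥R := isPGroup_pCore p G
  haveI hRn : R.Normal := by
    rw [hR]; unfold Cfsg.pCore
    exact Subgroup.sSup_normal _ (fun _ hH => hH.1)
  haveI : Nontrivial ↥R := (Subgroup.nontrivial_iff_ne_bot R).2 hne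
  haveI : Nontrivial ↥(Subgroup.center ↥R) := hRp.center_nontrivial
  have hZp : IsPGroup p ↥(Subgroup.center ↥R) := hRp.to_subgroup _
  have hdvd : p ∣ Nat.card ↥(Subgroup.center ↥R) := by
    rcases hZp.card_eq_or_dvd with h1 | h1
    · exfalso
      have := Finite.one_lt_card (α := ↥(Subgroup.center ↥R))
      omega
    · exact h1
  obtain ⟨z₀, hz₀⟩ := exists_prime_orderOf_dvd_card' p hdvd
  set z : G := ((z₀ : ↥R) : G) with hzdef
  have hz : orderOf z = p := by
    rw [hzdef, Subgroup.orderOf_coe, Subgroup.orderOf_coe, hz₀]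
  have hzR : z ∈ R := (z₀ : ↥R).2
  have hzcR : ∀ r ∈ R, r * z = z * r := by
    intro r hr
    have := (Subgroup.mem_center_iff.1 z₀.2) ⟨r, hr⟩
    exact congrArg Subtype.val this
  -- the centre of `R` as a normal abelian subgroup of `G`
  set N := (Subgroup.center ↥R).map R.subtype with hN
  haveI : N.Normal := ConjAct.normal_of_characteristic_of_normal
  have hNab : ∀ a ∈ N, ∀ b ∈ N, a * b = b * a := by
    rintro a ⟨a', ha', rfl⟩ b ⟨b', hb', rfl⟩
    have := (Subgroup.mem_center_iff.1 ha') b'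
    have h2 := congrArg Subtype.val this
    simpa using h2.symm
  have hxN : x ∉ N := h.not_mem_of_normal_abelian N hNab
  have hzN : z ∈ N := ⟨(z₀ : ↥R), z₀.2, rfl⟩
  -- `z` is not a power of `x`
  have hzx : z ∉ Subgroup.zpowers x := by
    intro hmem
    obtain ⟨i, hi⟩ := Subgroup.mem_zpowers_iff.1 hmem
    have hz1 : x ^ i ≠ 1 := by
      rw [hi]
      intro h1
      rw [h1, orderOf_one] at hz
      exact (Fact.out : p.Prime).one_lt.ne hz
    obtain ⟨k, hk⟩ := exists_zpow_zpow_eq h.hx i hz1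
    apply hxN
    rw [← hk, hi]
    exact N.zpow_mem hzN k
  -- the centralizer of `R`
  set H := Subgroup.centralizer (R : Set G) with hH
  obtain ⟨P, hxP⟩ := h.exists_sylow
  have hRP : R ≤ (P : Subgroup G) := pCore_le_sylow P
  have hxH : x ∈ H := by
    rw [hH, Subgroup.mem_centralizer_iff]
    intro r hr
    exact h.x_commute_sylow P hxP (hRP hr)
  have hzH : z ∈ H := by
    rw [hH, Subgroup.mem_centralizer_iff]
    intro r hr
    exact hzcR r hr
  have hzcH : ∀ g ∈ H, g * z = z * g := by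
    intro g hg
    exact ((Subgroup.mem_centralizer_iff.1 hg) z hzR).symm
  have hisoH : IsolIn H x := (isolIn_top_iff.2 h.hiso).mono le_top
  have hnpc : NPC p ↥H := by
    apply npc_of_forall_isolIn h.hp
    intro y hy hyo
    exact isolIn_of_central h.hrank h.hx hz hzx hxH hzH hisoH hzcH hy hyo
  have hHp : IsPGroup p ↥H := isPGroup_of_npc h.hcore H hnpc
  have hHR : H ≤ R := le_pCore inferInstance hHp
  have hxR : x ∈ R := hHR hxH
  apply hxN
  refine ⟨⟨x, hxR⟩, ?_, rfl⟩
  rw [SetLike.mem_coe, Subgroup.mem_center_iff]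
  intro r
  apply Subtype.ext
  have := (Subgroup.mem_centralizer_iff.1 hxH) (r : G) r.2
  simpa using this

end Cfsg.Agent.Helper15.IsoRank
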