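import Mathlib
import Cfsg.Prelude.Def_IsolatedElements
import Cfsg.Prelude.Def_CaseTheorems
import Cfsg.Prelude.Def_Local
import Cfsg.Agent.Lib.Helper15.IsoRank4
import Cfsg.Agent.Lib.Helper15.SubSyl1
import Cfsg.Agent.Lib.Helper7.FStarP
import Cfsg.Agent.Lib.Helper7.Layer3

set_option autoImplicit false

namespace Cfsg.Agent.Helper15.IsoRank

open Cfsg.Agent.Helper15
open Cfsg.Agent.Helper10 (NPC)
open scoped commutatorElement

universe u

variable {G : Type u} [Group G] [Finite G] {p : ℕ} [Fact p.Prime] {x : G}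

theorem Hyp.fitting_eq_bot (h : Hyp p G x) : Cfsg.fittingSubgroup G = ⊥ := by
  have := Cfsg.Agent.Helper7.fittingSubgroup_le_pCore_of_pPrimeCore_eq_bot p h.hcore
  rw [h.pCore_eq_bot] at this
  exact le_bot_iff.1 this

theorem Hyp.center_component (h : Hyp p G x) {K : Subgroup G} (hK : Cfsg.IsComponent K) :
    Subgroup.center ↥K = ⊥ := by
  have hsn : ((Subgroup.center ↥K).map K.subtype).IsSubnormal :=
    (inferInstance : (Subgroup.center ↥K).Normal).isSubnormal.trans' hK.1
  have hnil : Group.IsNilpotent ↥((Subgroup.center ↥K).map K.subtype) :=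
    Cfsg.Agent.Helper7.isNilpotent_map_subtype _
      (Cfsg.Agent.Helper7.isNilpotent_of_isMulCommutative _)
  have := Cfsg.Agent.Helper7.subnormal_nilpotent_le_fittingSubgroup _ hsn hnil
  rw [h.fitting_eq_bot, le_bot_iff, Subgroup.map_eq_bot_iff_of_injective _ K.subtype_injective]
    at this
  exact this

theorem Hyp.isSimpleGroup_component (h : Hyp p G x) {K : Subgroup G}
    (hK : Cfsg.IsComponent K) : IsSimpleGroup ↥K := by
  haveI := Cfsg.Agent.Helper7.quasisimple_nontrivial hK.2
  refine ⟨fun N hN => ?_⟩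
  rcases Cfsg.Agent.Helper7.quasisimple_normal_eq_top_or_le_center hK.2 N with h1 | h1
  · right; exact h1
  · left
    rw [h.center_component hK] at h1
    exact le_bot_iff.1 h1

theorem Hyp.dvd_card_component (h : Hyp p G x) {K : Subgroup G} (hK : Cfsg.IsComponent K) :
    p ∣ Nat.card ↥K := by
  by_contra hnd
  have hcop : (Nat.card ↥K).Coprime p :=
    (Nat.Coprime.symm ((Nat.Prime.coprime_iff_not_dvd (Fact.out : p.Prime)).2 hnd))
  have := Cfsg.Agent.Helper7.subnormal_coprime_le_pPrimeCore p K hK.1 hcop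
  rw [h.hcore, le_bot_iff] at this
  exact Cfsg.Agent.Helper7.component_ne_bot hK this

/-- a component has no normal `p`-complement -/
theorem Hyp.not_npc_component (h : Hyp p G x) {K : Subgroup G} (hK : Cfsg.IsComponent K) :
    ¬ NPC p ↥K := by
  rintro ⟨N, hNn, hNc, k, hk⟩
  haveI := h.isSimpleGroup_component hK
  rcases hNn.eq_bot_or_eq_top with h1 | h1
  · rw [h1, Subgroup.index_bot] at hk
    have hKp : IsPGroup p ↥K := IsPGroup.of_card hk
    apply Cfsg.Agent.Helper7.not_isSolvable_of_component hK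
    haveI : Group.IsNilpotent ↥K := hKp.isNilpotent
    infer_instance
  · rw [h1] at hNc
    have hdvd := h.dvd_card_component hK
    have hcard : Nat.card ↥(⊤ : Subgroup ↥K) = Nat.card ↥K := Subgroup.card_top
    rw [hcard] at hNc
    have := Nat.eq_one_of_dvd_coprimes hNc hdvd dvd_rfl
    exact (Fact.out : p.Prime).one_lt.ne' this

theorem Hyp.component_aux (h : Hyp p G x) {K L : Subgroup G} (hK : Cfsg.IsComponent K)
    (hL : Cfsg.IsComponent L) (hne : K ≠ L) (hxL : x ∉ L) : False := by
  have hcomm : ⁅K, L⁆ = ⊥ := Cfsg.Agent.Helper7.component_commutator_eq_bot_of_ne hK hL hne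
  have hKL : ∀ a ∈ K, ∀ b ∈ L, a * b = b * a := by
    intro a ha b hb
    have := (Subgroup.commutator_eq_bot_iff_le_centralizer.1 hcomm) ha
    exact ((Subgroup.mem_centralizer_iff.1 this) b hb).symm
  obtain ⟨P, hxP⟩ := h.exists_sylow
  have hSyl : IsSylowIn p (L ⊓ (P : Subgroup G)) L :=
    Cfsg.Agent.Helper15.SubSyl.isSylowIn_inf_of_isSubnormal P hL.1
  have hdvdL := h.dvd_card_component hL
  have hcard := hSyl.card_eq
  have hfac : 1 ≤ (Nat.card ↥L).factorization p := by
    have hpos : Nat.card ↥L ≠ 0 := Nat.card_pos.ne'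
    exact ((Fact.out : p.Prime).dvd_iff_one_le_factorization hpos).1 hdvdL
  have hdvdS : p ∣ Nat.card ↥(L ⊓ (P : Subgroup G)) := by
    rw [hcard]
    exact dvd_pow_self p (by omega)
  obtain ⟨s₀, hs₀⟩ := exists_prime_orderOf_dvd_card' p hdvdS
  set s : G := (s₀ : G) with hsdef
  have hs : orderOf s = p := by rw [hsdef, Subgroup.orderOf_coe, hs₀]
  have hsL : s ∈ L := s₀.2.1
  have hsP : s ∈ (P : Subgroup G) := s₀.2.2
  have hsx : s * x = x * s := h.x_commute_sylow P hxP hsP
  have hszx : s ∉ Subgroup.zpowers x := by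
    intro hmem
    obtain ⟨i, hi⟩ := Subgroup.mem_zpowers_iff.1 hmem
    have hs1 : x ^ i ≠ 1 := by
      rw [hi]
      intro h1
      rw [h1, orderOf_one] at hs
      exact (Fact.out : p.Prime).one_lt.ne hs
    obtain ⟨k, hk⟩ := exists_zpow_zpow_eq h.hx i hs1
    apply hxL
    rw [← hk, hi]
    exact L.zpow_mem hsL k
  set H := Subgroup.centralizer ({s} : Set G) with hH
  have hxH : x ∈ H := mem_centralizer_singleton_iff.2 hsx.symm
  have hsH : s ∈ H := mem_centralizer_singleton_iff.2 rfl
  have hKH : K ≤ H := fun a ha => mem_centralizer_singleton_iff.2 (hKL a ha s hsL)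
  have hcH : ∀ g ∈ H, g * s = s * g := fun g hg => mem_centralizer_singleton_iff.1 hg
  have hisoH : IsolIn H x := (isolIn_top_iff.2 h.hiso).mono le_top
  apply h.not_npc_component hK
  apply npc_of_forall_isolIn h.hp
  intro y hy hyo
  exact (isolIn_of_central h.hrank h.hx hs hszx hxH hsH hisoH hcH (hKH hy) hyo).mono hKH

theorem Hyp.component_unique (h : Hyp p G x) {K L : Subgroup G} (hK : Cfsg.IsComponent K)
    (hL : Cfsg.IsComponent L) : K = L := by
  by_contra hne
  by_cases hxL : x ∈ L
  · by_cases hxK : x ∈ K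
    · -- `x` would be central in `K`
      have hcomm : ⁅K, L⁆ = ⊥ :=
        Cfsg.Agent.Helper7.component_commutator_eq_bot_of_ne hK hL hne
      have hc : (⟨x, hxK⟩ : ↥K) ∈ Subgroup.center ↥K := by
        rw [Subgroup.mem_center_iff]
        intro k
        apply Subtype.ext
        have := (Subgroup.commutator_eq_bot_iff_le_centralizer.1 hcomm) k.2
        exact ((Subgroup.mem_centralizer_iff.1 this) x hxL).symm
      rw [h.center_component hK, Subgroup.mem_bot] at hc
      have hx1 : x = 1 := congrArg Subtype.val hc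
      have := h.hx
      rw [hx1, orderOf_one] at this
      exact (Fact.out : p.Prime).one_lt.ne this
    · exact h.component_aux hL hK (Ne.symm hne) hxK
  · exact h.component_aux hK hL hne hxL

end Cfsg.Agent.Helper15.IsoRank
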