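import Mathlib
import Cfsg.Prelude.Def_JComponents

/-!
# S2945 (helper15): shared abbreviation for the farm-out pieces
-/

set_option autoImplicit false

namespace Cfsg.Agent.Helper15.JC45

open Cfsg

universe u

variable {G : Type u} [Group G]

/-- conjugate of a subgroup: `cj a H = a H a⁻¹` -/
abbrev cj (a : G) (H : Subgroup G) : Subgroup G := H.map (MulAut.conj a).toMonoidHom

end Cfsg.Agent.Helper15.JC45
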