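import Mathlib
import Cfsg.Prelude.Def_JComponents
import Cfsg.Agent.Lib.Helper19.JCDefs
import Cfsg.Agent.Lib.Helper1.JCW1
import Cfsg.Agent.Lib.Helper1.JCW2
import Cfsg.Agent.Lib.Helper27.JCCUBE
import Cfsg.Agent.Lib.Helper14.Ambient
import Cfsg.Agent.Lib.Helper15.JC45Defs
import Cfsg.Agent.Lib.Helper16.JC45AB
import Cfsg.Agent.Lib.Helper7.JC45GENV
import Cfsg.Agent.Lib.Helper7.JC45PACTCore
import Cfsg.Agent.Lib.Helper8.JC45PSET

/-!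
# S2945 (helper15): the pair lemma (assembly of GENV, PSET, PACT)
-/

set_option autoImplicit false
set_option linter.unusedSectionVars false
set_option linter.unusedVariables false

namespace Cfsg.Agent.Helper15.JC45

open Cfsg Cfsg.Agent.Helper19.JC Cfsg.Agent.Helper4.ZJ

universe u

variable {G : Type u} [Group G] [Finite G]

/-- data of one component relative to a 2-group `R` with `O₂(K) ≤ R`, `V = Ω₁Z(R)` -/
theorem pair_data {K J R : Subgroup G} (c : Comp K J) (hP0R : pCoreOf 2 K ≤ R) :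
    ∃ d ∈ K, (∀ w ∈ wOf K, d * w = w * d → w = 1) ∧
      (∀ k ∈ K, ∃ j : ℕ, ∀ v ∈ omegaCenterOf R, k * v * k⁻¹ = d ^ j * v * (d ^ j)⁻¹) ∧
      (∀ v ∈ omegaCenterOf R, d ^ 3 * v = v * d ^ 3) := by
  obtain ⟨d, hd, hd'⟩ := c.exists_d
  -- elements of `O₂(K)` centralise `V`
  have hPV : ∀ p ∈ pCoreOf 2 K, ∀ v ∈ omegaCenterOf R, p * v = v * p := fun p hp v hv =>
    ((mem_omegaCenterOf_iff _ v).1 hv).2.1 p (hP0R hp)
  -- elements of `O₂(K)` centralise `W`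
  have hPW : ∀ p ∈ pCoreOf 2 K, ∀ w ∈ wOf K, p * w = w * p := fun p hp w hw =>
    ((mem_omegaCenterOf_iff _ w).1 (c.W_le_U hw)).2.1 p hp
  refine ⟨d, hd, ?_, ?_, ?_⟩
  · intro w hw hdw
    apply c.W_fpf w hw
    intro k hk
    have hdi : d⁻¹ * w = w * d⁻¹ := by
      calc d⁻¹ * w = d⁻¹ * (w * d) * d⁻¹ := by group
        _ = d⁻¹ * (d * w) * d⁻¹ := by rw [hdw]
        _ = w * d⁻¹ := by group
    rcases c.coset_cases hd hd' hk with h | h | h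
    · exact hPW k h w hw
    · have h1 := hPW _ h w hw
      calc k * w = d * ((d⁻¹ * k) * w) := by group
        _ = d * (w * (d⁻¹ * k)) := by rw [h1]
        _ = (d * w) * (d⁻¹ * k) := by group
        _ = (w * d) * (d⁻¹ * k) := by rw [hdw]
        _ = w * k := by group
    · have h1 := hPW _ h w hw
      calc k * w = d * (d * ((d⁻¹ * d⁻¹ * k) * w)) := by group
        _ = d * (d * (w * (d⁻¹ * d⁻¹ * k))) := by rw [h1]
        _ = d * ((d * w) * (d⁻¹ * d⁻¹ * k)) := by group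
        _ = d * ((w * d) * (d⁻¹ * d⁻¹ * k)) := by rw [hdw]
        _ = (d * w) * (d⁻¹ * k) := by group
        _ = (w * d) * (d⁻¹ * k) := by rw [hdw]
        _ = w * k := by group
  · intro k hk
    rcases c.coset_cases hd hd' hk with h | h | h
    · refine ⟨0, fun v hv => ?_⟩
      have h1 := hPV k h v hv
      calc k * v * k⁻¹ = (k * v) * k⁻¹ := by group
        _ = (v * k) * k⁻¹ := by rw [h1]
        _ = d ^ 0 * v * (d ^ 0)⁻¹ := by group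
    · refine ⟨1, fun v hv => ?_⟩
      have h1 := hPV _ h v hv
      calc k * v * k⁻¹ = d * ((d⁻¹ * k) * v) * (d⁻¹ * k)⁻¹ * d⁻¹ := by group
        _ = d * (v * (d⁻¹ * k)) * (d⁻¹ * k)⁻¹ * d⁻¹ := by rw [h1]
        _ = d ^ 1 * v * (d ^ 1)⁻¹ := by group
    · refine ⟨2, fun v hv => ?_⟩
      have h1 := hPV _ h v hv
      calc k * v * k⁻¹ = d * d * ((d⁻¹ * d⁻¹ * k) * v) * (d⁻¹ * d⁻¹ * k)⁻¹ * d⁻¹ * d⁻¹ := by group
        _ = d * d * (v * (d⁻¹ * d⁻¹ * k)) * (d⁻¹ * d⁻¹ * k)⁻¹ * d⁻¹ * d⁻¹ := by rw [h1]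
        _ = d ^ 2 * v * (d ^ 2)⁻¹ := by rw [pow_two]; group
  · intro v hv
    exact hPV _ (c.cube_mem hd) v hv

theorem pair_normalizes {K₁ J₁ K₂ J₂ : Subgroup G} (c₁ : Comp K₁ J₁) (c₂ : Comp K₂ J₂)
    (h₁ : (K₁.subgroupOf (K₁ ⊔ K₂)).IsSubnormal) (h₂ : (K₂.subgroupOf (K₁ ⊔ K₂)).IsSubnormal) :
    (∀ k ∈ K₁, ∀ w ∈ wOf K₂, k * w * k⁻¹ ∈ wOf K₂) ∧
      (∀ w ∈ wOf K₂, ∀ k ∈ K₁, w * k * w⁻¹ * k⁻¹ ∈ wOf K₁) := by
  set Y : Subgroup G := K₁ ⊔ K₂ with hY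
  set R : Subgroup G := pCoreOf 2 Y with hR
  obtain ⟨hP1, hRK1⟩ := pset_one c₁ (le_sup_left : K₁ ≤ Y) h₁
  obtain ⟨hP2, hRK2⟩ := pset_one c₂ (le_sup_right : K₂ ≤ Y) h₂
  have hR2 : IsPGroup 2 R := Cfsg.Agent.Helper14.pCoreOf_isPGroup 2 Y
  have hYR : Y ≤ Subgroup.normalizer (R : Set G) := Cfsg.Agent.Helper14.le_normalizer_pCoreOf 2 Y
  have hK1R : K₁ ≤ Subgroup.normalizer (R : Set G) := le_sup_left.trans hYR
  have hK2R : K₂ ≤ Subgroup.normalizer (R : Set G) := le_sup_right.trans hYR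
  set V : Subgroup G := omegaCenterOf R with hV
  have hW1V : wOf K₁ ≤ V := genv_W_le c₁ hR2 hP1 hK1R hRK1
  have hW2V : wOf K₂ ≤ V := genv_W_le c₂ hR2 hP2 hK2R hRK2
  have hc1 := genv_comm c₁ hR2 hP1 hK1R hRK1
  have hc2 := genv_comm c₂ hR2 hP2 hK2R hRK2
  obtain ⟨d₁, hd₁, hf₁, hact₁, hcube₁⟩ := pair_data (R := R) c₁ hP1
  obtain ⟨d₂, hd₂, hf₂, hact₂, hcube₂⟩ := pair_data (R := R) c₂ hP2
  have hV2 : ∀ v ∈ V, v * v = 1 := fun v hv => by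
    have := ((mem_omegaCenterOf_iff _ v).1 hv).2.2
    rwa [pow_two] at this
  have hVc : ∀ u ∈ V, ∀ v ∈ V, u * v = v * u := fun u hu v hv =>
    ((mem_omegaCenterOf_iff _ v).1 hv).2.1 u (omegaCenterOf_le _ hu)
  have hmain := pact_core (fun M _ _ hMc hM2 hM16 P hP _ hx W hW hxW hxf =>
      ab_central hMc hM2 hM16 P hP hx W hW hxW hxf) hV2 hVc hW1V hW2V c₁.hW4 c₂.hW4 hc1 hc2 hd₁ hd₂ hf₁ hf₂ hact₁ hact₂
    hcube₁ hcube₂ h₁ h₂
  -- powers of `d₁` normalise `W₂`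
  have hpow : ∀ j : ℕ, ∀ w ∈ wOf K₂, d₁ ^ j * w * (d₁ ^ j)⁻¹ ∈ wOf K₂ := by
    intro j
    induction j with
    | zero => intro w hw; simpa using hw
    | succ j ih =>
      intro w hw
      have h1 := hmain _ (ih w hw)
      have e : d₁ ^ (j + 1) * w * (d₁ ^ (j + 1))⁻¹ = d₁ * (d₁ ^ j * w * (d₁ ^ j)⁻¹) * d₁⁻¹ := by
        rw [pow_succ']; group
      rw [e]; exact h1
  refine ⟨?_, ?_⟩
  · intro k hk w hw
    obtain ⟨j, hj⟩ := hact₁ k hk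
    rw [hj w (hW2V hw)]
    exact hpow j w hw
  · intro w hw k hk
    exact hc1 w (hW2V hw) k hk

/-- **the pair lemma** -/
theorem pair_centralizes {K₁ J₁ K₂ J₂ : Subgroup G} (c₁ : Comp K₁ J₁) (c₂ : Comp K₂ J₂)
    (h₁ : (K₁.subgroupOf (K₁ ⊔ K₂)).IsSubnormal) (h₂ : (K₂.subgroupOf (K₁ ⊔ K₂)).IsSubnormal)
    (hne : wOf K₁ ≠ wOf K₂) : ∀ k ∈ K₁, ∀ w ∈ wOf K₂, k * w = w * k := by
  obtain ⟨hn, hcomm⟩ := pair_normalizes c₁ c₂ h₁ h₂
  -- `I = W₁ ⊓ W₂` is `K₁`-invariant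
  set I : Subgroup G := wOf K₁ ⊓ wOf K₂ with hI
  have hK1W1 : K₁ ≤ Subgroup.normalizer (wOf K₁ : Set G) := le_sup_left.trans c₁.le_normalizer_W
  have hIK : K₁ ≤ Subgroup.normalizer (I : Set G) := by
    apply le_normalizer_of_conj_mem
    intro k hk n hn'
    exact Subgroup.mem_inf.mpr ⟨conj_mem_of_le_normalizer hK1W1 hk hn'.1, hn k hk n hn'.2⟩
  have hIbot : I = ⊥ := by
    rcases c₁.W_irred I inf_le_left hIK with h | h
    · exact h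
    · exfalso
      apply hne
      have hle : wOf K₁ ≤ wOf K₂ := by
        intro x hx
        have : x ∈ I := by rw [h]; exact hx
        exact this.2
      exact Subgroup.eq_of_le_of_card_ge hle (by rw [c₁.hW4, c₂.hW4])
  intro k hk w hw
  have h1 : w * k * w⁻¹ * k⁻¹ ∈ I := by
    refine Subgroup.mem_inf.mpr ⟨hcomm w hw k hk, ?_⟩
    have h2 : k * w⁻¹ * k⁻¹ ∈ wOf K₂ := hn k hk _ (Subgroup.inv_mem _ hw)
    have e : w * k * w⁻¹ * k⁻¹ = w * (k * w⁻¹ * k⁻¹) := by group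
    rw [e]
    exact Subgroup.mul_mem _ hw h2
  rw [hIbot, Subgroup.mem_bot] at h1
  calc k * w = (w * k * w⁻¹ * k⁻¹)⁻¹ * (w * k) := by group
    _ = w * k := by rw [h1]; group

end Cfsg.Agent.Helper15.JC45
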