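import Mathlib
import Cfsg.Agent.Lib.Helper15.JC45Pair
import Cfsg.Agent.Lib.Helper25.JCConj
import Cfsg.Agent.Lib.Helper25.JCSyl
import Cfsg.Agent.Lib.Helper25.JC44
import Cfsg.Agent.Lib.Helper1.RelSubnormal
import Cfsg.Agent.Lib.Helper3.Thompson
import Cfsg.Agent.Lib.Helper3.Basic
import Cfsg.Agent.Lib.Helper4.ZJElementary
import Cfsg.Agent.Lib.Helper16.JC45AUT4
import Cfsg.Agent.Lib.Helper18.JC45OFFL
import Cfsg.Agent.Lib.Helper2.JC45IND
import Cfsg.Agent.Lib.Helper2.JC45FIXB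

/-!
# S2945 (helper15): final assembly
-/

set_option autoImplicit false
set_option linter.unusedSectionVars false
set_option linter.unusedVariables false
set_option linter.style.haveILetI false

namespace Cfsg.Agent.Helper15.JC45

open Cfsg Cfsg.Agent.Helper19.JC Cfsg.Agent.Helper4.ZJ Cfsg.Agent.Helper25.JC

universe u

variable {G : Type u} [Group G] [Finite G]

/-- `iSup` of pairwise commuting subgroups of exponent 2 is elementary abelian -/
theorem fin_iSup_elem {ι : Type*} (Wf : ι → Subgroup G)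
    (h2 : ∀ i, ∀ w ∈ Wf i, w * w = 1)
    (hc : ∀ i j, ∀ x ∈ Wf i, ∀ y ∈ Wf j, x * y = y * x) :
    IsElementaryAbelian 2 (⨆ i, Wf i) := by
  have hcl : (⨆ i, Wf i) = Subgroup.closure (⋃ i, (Wf i : Set G)) := Subgroup.iSup_eq_closure Wf
  have hcomm : ∀ x ∈ (⋃ i, (Wf i : Set G)), ∀ y ∈ (⋃ i, (Wf i : Set G)), x * y = y * x := by
    intro x hx y hy
    obtain ⟨i, hi⟩ := Set.mem_iUnion.1 hx
    obtain ⟨j, hj⟩ := Set.mem_iUnion.1 hy
    exact hc i j x hi y hj
  have hcm : IsMulCommutative (⨆ i, Wf i : Subgroup G) := by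
    rw [hcl]; exact Subgroup.isMulCommutative_closure hcomm
  refine ⟨hcm, ?_⟩
  intro g hg
  have hgg : ∀ x ∈ (⨆ i, Wf i), ∀ y ∈ (⨆ i, Wf i), x * y = y * x := by
    intro x hx y hy
    have h := mul_comm' (⟨x, hx⟩ : (⨆ i, Wf i : Subgroup G)) ⟨y, hy⟩
    exact congrArg Subtype.val h
  rw [hcl] at hg
  induction hg using Subgroup.closure_induction with
  | mem x hx =>
    obtain ⟨i, hi⟩ := Set.mem_iUnion.1 hx
    rw [pow_two]; exact h2 i x hi
  | one => exact one_pow 2
  | mul x y hx hy ihx ihy =>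
    have hxy : Commute x y := hgg x (hcl ▸ hx) y (hcl ▸ hy)
    rw [hxy.mul_pow, ihx, ihy, one_mul]
  | inv x _ ih => rw [inv_pow, ih, inv_one]

/-- `4 ^ n ≤ 4 * n` forces `n ≤ 1` -/
theorem fin_arith {n : ℕ} (h : 4 ^ n ≤ 4 * n) : n ≤ 1 := by
  by_contra hn
  rw [not_le] at hn
  have key : ∀ m : ℕ, 2 ≤ m → 4 * m < 4 ^ m := by
    intro m hm
    induction m, hm using Nat.le_induction with
    | base => norm_num
    | succ m hm ih =>
      rw [pow_succ]
      omega
  exact absurd h (not_le.mpr (key n hn))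

/-- conjugation by `a` then by `b` -/
theorem cj_cj (a b : G) (H : Subgroup G) : cj a (cj b H) = cj (a * b) H := by
  unfold cj
  rw [Subgroup.map_map]
  congr 1
  ext x
  simp [MulAut.conj_apply, mul_assoc]

theorem cj_one (H : Subgroup G) : cj (1 : G) H = H := by
  unfold cj
  ext x
  simp

theorem mem_cj {a x : G} {H : Subgroup G} : x ∈ cj a H ↔ a⁻¹ * x * a ∈ H := mem_map_conj

theorem conj_mem_cj {a x : G} {H : Subgroup G} (hx : x ∈ H) : a * x * a⁻¹ ∈ cj a H :=
  ⟨x, hx, rfl⟩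


/-- fibre count: `|A| ≤ #{W^a} * |N_A(W)|` -/
theorem fin_fibre (A W : Subgroup G) :
    Nat.card A ≤ (Set.range fun a : ↥A => cj (a : G) W).ncard *
      Nat.card ↥(A ⊓ Subgroup.normalizer (W : Set G) : Subgroup G) := by
  classical
  haveI : Fintype ↥A := Fintype.ofFinite _
  haveI : Fintype ↥(A ⊓ Subgroup.normalizer (W : Set G) : Subgroup G) := Fintype.ofFinite _
  set f : ↥A → Subgroup G := fun a => cj (a : G) W with hf
  have hfib : ∀ ω ∈ (Finset.univ : Finset ↥A).image f,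
      ((Finset.univ : Finset ↥A).filter fun a => f a = ω).card ≤
        Nat.card ↥(A ⊓ Subgroup.normalizer (W : Set G) : Subgroup G) := by
    intro ω hω
    obtain ⟨a0, -, rfl⟩ := Finset.mem_image.1 hω
    rw [Nat.card_eq_fintype_card, ← Finset.card_univ]
    have hmem : ∀ a : ↥A, f a = f a0 →
        (a0 : G)⁻¹ * (a : G) ∈ (A ⊓ Subgroup.normalizer (W : Set G) : Subgroup G) := by
      intro a ha
      refine Subgroup.mem_inf.2 ⟨A.mul_mem (A.inv_mem a0.2) a.2, ?_⟩
      apply mem_normalizer_of_map_conj_eq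
      have h1 : cj ((a0 : G)⁻¹) (cj (a : G) W) = cj ((a0 : G)⁻¹) (cj (a0 : G) W) := by
        have : cj (a : G) W = cj (a0 : G) W := ha
        rw [this]
      rw [cj_cj, cj_cj, inv_mul_cancel, cj_one] at h1
      exact h1
    refine Finset.card_le_card_of_injOn
      (fun a => if h : f a = f a0 then ⟨(a0 : G)⁻¹ * (a : G), hmem a h⟩ else 1) ?_ ?_
    · intro a _
      exact Finset.mem_univ _
    · intro a ha b hb hab
      have ha' : f a = f a0 := (Finset.mem_filter.1 ha).2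
      have hb' : f b = f a0 := (Finset.mem_filter.1 hb).2
      simp only [ha', hb', dite_true] at hab
      have h2 := congrArg Subtype.val hab
      simp only at h2
      exact Subtype.ext (mul_left_cancel h2)
  have h1 := Finset.card_le_mul_card_image (Finset.univ : Finset ↥A)
    (Nat.card ↥(A ⊓ Subgroup.normalizer (W : Set G) : Subgroup G)) hfib
  have h2 : ((Finset.univ : Finset ↥A).image f).card = (Set.range f).ncard := by
    rw [← Set.ncard_coe_finset]
    congr 1
    ext x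
    simp
  rw [Finset.card_univ, ← Nat.card_eq_fintype_card, h2] at h1
  rw [mul_comm]
  exact h1


/-- **core**: every `A ∈ 𝒜(T)` normalises `W_K` -/
theorem normalizes_W {T L K J' A : Subgroup G} (c : Comp K J')
    (hcomp : ∀ a ∈ A, ∃ J'' : Subgroup G, Comp (cj a K) J'')
    (hTL : IsSylowTwoIn T L) (hA : A ∈ famE 2 T) (hKL : K ≤ L)
    (hsn : ∀ a ∈ A, ∀ b ∈ A, ((cj a K).subgroupOf (cj a K ⊔ cj b K)).IsSubnormal ∧
      ((cj b K).subgroupOf (cj a K ⊔ cj b K)).IsSubnormal) :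
    A ≤ Subgroup.normalizer (wOf K : Set G) := by
  obtain ⟨hAT, hAe, hAmax⟩ := mem_famE.1 hA
  have hAc : ∀ a ∈ A, ∀ b ∈ A, a * b = b * a := comm_of_mem_famE hA
  have hA2 : ∀ a ∈ A, a * a = 1 := fun a ha => by
    have := hAe.2 a ha
    rwa [pow_two] at this
  set W : Subgroup G := wOf K with hW
  have hWcj : ∀ a : G, wOf (cj a K) = cj a W := fun a => wOf_map (MulAut.conj a) K
  have hWK : W ≤ K := c.W_le_P0.trans c.P0_le_K
  -- `W` is abelian
  have hWc : ∀ x ∈ W, ∀ y ∈ W, x * y = y * x := fun x hx y hy =>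
    ((mem_omegaCenterOf_iff _ y).1 (c.W_le_U hy)).2.1 x (c.W_le_P0 hx)
  -- the pair lemma for the conjugates
  have hcent : ∀ a ∈ A, ∀ b ∈ A, cj a W ≠ cj b W →
      ∀ k ∈ cj a K, ∀ w ∈ cj b W, k * w = w * k := by
    intro a ha b hb hne k hk w hw
    obtain ⟨Ja, ca⟩ := hcomp a ha
    obtain ⟨Jb, cb⟩ := hcomp b hb
    have hne' : wOf (cj a K) ≠ wOf (cj b K) := by rwa [hWcj, hWcj]
    exact pair_centralizes ca cb (hsn a ha b hb).1 (hsn a ha b hb).2 hne' k hk w
      (by rw [hWcj]; exact hw)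
  -- the subgroups
  set Sg : Subgroup G := ⨆ a : ↥A, cj (a : G) W with hSg
  set D : Subgroup G := A ⊓ Subgroup.centralizer (W : Set G) with hD
  set A0 : Subgroup G := A ⊓ Subgroup.normalizer (W : Set G) with hA0
  have hcjWK : ∀ a : G, cj a W ≤ cj a K := fun a => Subgroup.map_mono hWK
  -- `Σ` is elementary abelian
  have hSe : IsElementaryAbelian 2 Sg := by
    apply fin_iSup_elem
    · rintro a _ ⟨w, hw, rfl⟩
      show (a : G) * w * (a : G)⁻¹ * ((a : G) * w * (a : G)⁻¹) = 1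
      have := c.hW2 w hw
      calc (a : G) * w * (a : G)⁻¹ * ((a : G) * w * (a : G)⁻¹)
          = (a : G) * (w * w) * (a : G)⁻¹ := by group
        _ = 1 := by rw [this]; group
    · intro a b x hx y hy
      by_cases h : cj (a : G) W = cj (b : G) W
      · rw [← h] at hy
        obtain ⟨x0, hx0, rfl⟩ := hx
        obtain ⟨y0, hy0, rfl⟩ := hy
        show (a : G) * x0 * (a : G)⁻¹ * ((a : G) * y0 * (a : G)⁻¹) =
          (a : G) * y0 * (a : G)⁻¹ * ((a : G) * x0 * (a : G)⁻¹)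
        have := hWc x0 hx0 y0 hy0
        calc (a : G) * x0 * (a : G)⁻¹ * ((a : G) * y0 * (a : G)⁻¹)
            = (a : G) * (x0 * y0) * (a : G)⁻¹ := by group
          _ = (a : G) * (y0 * x0) * (a : G)⁻¹ := by rw [this]
          _ = _ := by group
      · exact hcent a a.2 b b.2 h x (hcjWK _ hx) y hy
  -- `D` centralises `Σ`
  have hDS : Sg ≤ Subgroup.centralizer (D : Set G) := by
    apply iSup_le
    rintro a _ ⟨w, hw, rfl⟩
    rw [Subgroup.mem_centralizer_iff]
    intro d hd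
    have hd1 : d * (a : G) = (a : G) * d := hAc d hd.1 a a.2
    have hd2 : w * d = d * w := (Subgroup.mem_centralizer_iff.1 hd.2) w hw
    show d * ((a : G) * w * (a : G)⁻¹) = (a : G) * w * (a : G)⁻¹ * d
    calc d * ((a : G) * w * (a : G)⁻¹) = (d * (a : G)) * w * (a : G)⁻¹ := by group
      _ = ((a : G) * d) * w * (a : G)⁻¹ := by rw [hd1]
      _ = (a : G) * (d * w) * (a : G)⁻¹ := by group
      _ = (a : G) * (w * d) * (a : G)⁻¹ := by rw [hd2]
      _ = (a : G) * w * ((a : G)⁻¹ * (a : G) * d * (a : G)⁻¹) := by group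
      _ = (a : G) * w * ((a : G)⁻¹ * (d * (a : G)) * (a : G)⁻¹) := by rw [hd1]; group
      _ = (a : G) * w * (a : G)⁻¹ * d := by group
  have hDe : IsElementaryAbelian 2 D :=
    Cfsg.Agent.Helper3.isElementaryAbelian_mono inf_le_left hAe
  have hE : IsElementaryAbelian 2 (D ⊔ Sg) :=
    Cfsg.Agent.Helper3.isElementaryAbelian_sup hDe hSe hDS
  have hAL : A ≤ L := hAT.trans hTL.1
  have hEL : D ⊔ Sg ≤ L := by
    refine sup_le (inf_le_left.trans hAL) (iSup_le fun a => ?_)
    exact (hcjWK _).trans (Cfsg.Agent.Helper25.JC.map_conj_le_of_mem (hAL a.2) hKL)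
  -- the inequalities
  have h1 : Nat.card ↥(D ⊔ Sg : Subgroup G) ≤ Nat.card A := offl hTL hA hEL hE
  have h2 := Cfsg.Agent.Helper3.card_mul_card_le_card_sup_mul_card_inf D Sg
  have h3 : Nat.card ↥(D ⊓ Sg : Subgroup G) ≤
      Nat.card ↥(Sg ⊓ Subgroup.centralizer (A : Set G) : Subgroup G) := by
    apply Subgroup.card_le_of_le
    intro x hx
    refine Subgroup.mem_inf.2 ⟨hx.2, ?_⟩
    rw [Subgroup.mem_centralizer_iff]
    intro a ha
    exact hAc a ha x hx.1.1
  have h4 : Nat.card ↥(Sg ⊓ Subgroup.centralizer (A : Set G) : Subgroup G) ≤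
      Nat.card ↥(W ⊓ Subgroup.centralizer (A0 : Set G) : Subgroup G) := fixb c hAc hcent
  have hfpf : ∀ a : ↥A, ∀ w ∈ cj (a : G) W, (∀ k ∈ cj (a : G) K, k * w = w * k) → w = 1 := by
    intro a w hw hk
    obtain ⟨Ja, ca⟩ := hcomp a a.2
    exact ca.W_fpf w (by rw [hWcj]; exact hw) hk
  have h5 : 4 ^ (Set.range fun a : ↥A => cj (a : G) W).ncard ≤ Nat.card Sg := by
    apply ind_card (fun a : ↥A => cj (a : G) K) (fun a : ↥A => cj (a : G) W)
    · intro a
      show Nat.card ↥(W.map (MulAut.conj (a : G)).toMonoidHom) = 4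
      rw [Subgroup.card_map_of_injective (MulAut.conj (a : G)).injective]
      exact c.hW4
    · exact hfpf
    · intro a b hne k hk w hw
      exact hcent a a.2 b b.2 hne k hk w hw
  have h6 := fin_fibre A W
  have hA0A : A0 ≤ A := inf_le_left
  have h7 : Nat.card A0 * Nat.card ↥(W ⊓ Subgroup.centralizer (A0 : Set G) : Subgroup G) ≤
      4 * Nat.card ↥(A0 ⊓ Subgroup.centralizer (W : Set G) : Subgroup G) :=
    aut4 c.hW4 c.hW2 (fun a ha => hA2 a (hA0A ha))
      (fun a ha b hb => hAc a (hA0A ha) b (hA0A hb)) inf_le_right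
  have h8 : (A0 ⊓ Subgroup.centralizer (W : Set G) : Subgroup G) = D := by
    apply le_antisymm
    · intro x hx
      exact Subgroup.mem_inf.2 ⟨hx.1.1, hx.2⟩
    · intro x hx
      exact Subgroup.mem_inf.2 ⟨Subgroup.mem_inf.2 ⟨hx.1,
        Subgroup.centralizer_le_normalizer (W : Set G) hx.2⟩, hx.2⟩
  rw [h8] at h7
  set n := (Set.range fun a : ↥A => cj (a : G) W).ncard with hn
  have hDpos : 0 < Nat.card D := Nat.card_pos
  have hkey : Nat.card D * 4 ^ n ≤ Nat.card D * (4 * n) := by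
    calc Nat.card D * 4 ^ n ≤ Nat.card D * Nat.card Sg := Nat.mul_le_mul_left _ h5
      _ ≤ Nat.card ↥(D ⊔ Sg : Subgroup G) * Nat.card ↥(D ⊓ Sg : Subgroup G) := h2
      _ ≤ Nat.card A * Nat.card ↥(W ⊓ Subgroup.centralizer (A0 : Set G) : Subgroup G) :=
          Nat.mul_le_mul h1 (h3.trans h4)
      _ ≤ (n * Nat.card A0) *
          Nat.card ↥(W ⊓ Subgroup.centralizer (A0 : Set G) : Subgroup G) :=
          Nat.mul_le_mul_right _ h6
      _ = n * (Nat.card A0 *
          Nat.card ↥(W ⊓ Subgroup.centralizer (A0 : Set G) : Subgroup G)) := by ring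
      _ ≤ n * (4 * Nat.card D) := Nat.mul_le_mul_left _ h7
      _ = Nat.card D * (4 * n) := by ring
  have hn1 : n ≤ 1 := fin_arith (Nat.le_of_mul_le_mul_left hkey hDpos)
  -- conclusion
  intro a ha
  apply mem_normalizer_of_map_conj_eq
  have hfin : (Set.range fun a : ↥A => cj (a : G) W).Finite := Set.toFinite _
  have := (Set.ncard_le_one hfin).1 hn1 (cj a W) ⟨⟨a, ha⟩, rfl⟩ (cj 1 W) ⟨⟨1, A.one_mem⟩, rfl⟩
  rw [cj_one] at this
  exact this


open scoped Pointwise in
theorem smul_eq_cj (a : G) (H : Subgroup G) : MulAut.conj a • H = cj a H := rfl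

/-- **S2945** modulo `Uniq G` -/
theorem s2945_of_uniq (huniq : Uniq G) (hL : IsCharacteristicTwoType G) (T : Subgroup G)
    (hT : IsPGroup 2 ↥T) (L : Subgroup G) (hLT : L ∈ jOvergroups T) (K : Subgroup G) (hKL : K ≤ L)
    (hKsn : (K.subgroupOf (K ⊔ thompsonSubgroupOf 2 T)).IsSubnormal) (g : G)
    (hKg : K ∈ jComponentsZero (T.map (MulAut.conj g).toMonoidHom)) : IsJComponent T K := by
  set T' : Subgroup G := T.map (MulAut.conj g).toMonoidHom with hT'def
  have hT' : IsPGroup 2 ↥T' := (isPGroup_map_iff (MulAut.conj g) 2).2 hT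
  have hK' : IsJComponent T' K := hKg.1
  have c : Comp K (thompsonSubgroupOf 2 T') := comp_of_isJComponent hT' hK'
  obtain ⟨hNeq, hconj⟩ := s2944_of_uniq huniq hL T' hT' K hKg
  set J : Subgroup G := thompsonSubgroupOf 2 T with hJ
  have key : J ≤ Subgroup.normalizer (wOf K : Set G) := by
    apply thompsonSubgroupOf_le
    intro A hA
    have hAJ : A ≤ J := le_thompsonSubgroupOf hA
    have hcjX : ∀ a ∈ A, cj a K ≤ K ⊔ J := fun a ha =>
      Cfsg.Agent.Helper25.JC.map_conj_le_of_mem (le_sup_right (a := K) (hAJ ha)) le_sup_left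
    have hsn1 : ∀ a ∈ A, ((cj a K).subgroupOf (K ⊔ J)).IsSubnormal := by
      intro a ha
      have h1 := Cfsg.Agent.Helper1.sn_conj a hKsn
      rw [smul_eq_cj, smul_eq_cj] at h1
      have h2 : cj a (K ⊔ J) = K ⊔ J :=
        map_conj_eq_self_of_mem (le_sup_right (a := K) (hAJ ha))
      rwa [h2] at h1
    refine normalizes_W c ?_ hLT.1 hA hKL ?_
    · intro a ha
      exact ⟨thompsonSubgroupOf 2 (T'.map (MulAut.conj a).toMonoidHom),
        comp_of_isJComponent ((isPGroup_map_iff (MulAut.conj a) 2).2 hT')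
          (isJComponent_map_of (MulAut.conj a) hK')⟩
    · intro a ha b hb
      have hY : cj a K ⊔ cj b K ≤ K ⊔ J := sup_le (hcjX a ha) (hcjX b hb)
      exact ⟨Cfsg.Agent.Helper1.sn_mono hY (hsn1 a ha), Cfsg.Agent.Helper1.sn_mono hY (hsn1 b hb)⟩
  have hmap : T'.map (MulAut.conj g⁻¹).toMonoidHom = T := by
    have := cj_cj g⁻¹ g T
    rw [inv_mul_cancel, cj_one] at this
    exact this
  have h := hconj g⁻¹ (by rw [hmap]; exact key)
  rwa [hmap] at h

end Cfsg.Agent.Helper15.JC45
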