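import Mathlib
import Cfsg.Prelude.Def_JComponents
import Cfsg.Agent.Lib.Helper13.JCFFDefs
import Cfsg.Agent.Lib.Helper13.JCF1
import Cfsg.Agent.Lib.Helper15.JCSUBNCore
import Cfsg.Agent.Lib.Helper24.JCF4

/-!
# KS12, piece SUBN (helper15, for helper13's skeleton)
-/

set_option autoImplicit false

namespace Cfsg.Agent.Helper13.JCFF

open Cfsg

variable {X : Type*} [Group X] [Finite X]

/-- PIECE SUBN. -/
theorem KS.Kc_subnormal {T : Subgroup X} (h : KS X T) (F : FFData X (VX X)) (i : Fin F.r) :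
    (Kc F i).IsSubnormal :=
  subn_core F i (VX_normal h.hQ) (pCore_le_centralizer_VX h.hQ) (h.J_inf_C_le F)

end Cfsg.Agent.Helper13.JCFF
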