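import Mathlib
import Cfsg.Prelude.Def_JComponents
import Cfsg.Agent.Lib.Helper27.KVDefs
import Cfsg.Agent.Lib.Helper19.JCBackB
import Cfsg.Agent.Lib.Helper19.JCPieces
import Cfsg.Agent.Lib.Helper27.JCTR
import Cfsg.Agent.Lib.Helper26.JCF4B
import Cfsg.Agent.S2946

/-!
# KS12c / S2951' (helper27's farm-out), PIECE BAS: basics on `Z0`, `DD`  (helper15)
-/

set_option autoImplicit false
set_option linter.unusedVariables false
set_option linter.unusedSectionVars false

namespace Cfsg.Agent.Helper27.KV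

open Cfsg Cfsg.Agent.Helper13.JCFF Cfsg.Agent.Helper27.KU

universe u

variable {G : Type u} [Group G] [Finite G]

/-- BAS (2) -/
theorem z0_sq (T : Subgroup G) : ∀ x ∈ Z0 T, x * x = 1 := by
  intro x hx
  have h := ((Cfsg.Agent.Helper19.JC.mem_omegaCenterOf_iff _ x).mp hx).2.2
  rwa [pow_two] at h

/-- BAS (3) -/
theorem z0_comm (T : Subgroup G) : ∀ x ∈ Z0 T, ∀ y ∈ Z0 T, x * y = y * x := by
  intro x hx y hy
  have hx' := (Cfsg.Agent.Helper19.JC.mem_omegaCenterOf_iff _ x).mp hx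
  have hy' := (Cfsg.Agent.Helper19.JC.mem_omegaCenterOf_iff _ y).mp hy
  exact hy'.2.1 x hx'.1

/-- BAS (4) -/
theorem z0_le (T : Subgroup G) : Z0 T ≤ T :=
  (Cfsg.Agent.Helper19.JC.omegaCenterOf_le _).trans
    (Cfsg.Agent.Helper4.ZJ.thompsonSubgroupOf_le_self T)

/-- `Ω₁Z(X)` is elementary abelian -/
theorem bas_elem_omegaCenterOf (X : Subgroup G) : IsElementaryAbelian 2 (omegaCenterOf X) := by
  refine ⟨⟨⟨?_⟩⟩, ?_⟩
  · rintro ⟨x, hx⟩ ⟨y, hy⟩
    have hx' := (Cfsg.Agent.Helper19.JC.mem_omegaCenterOf_iff _ x).mp hx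
    have hy' := (Cfsg.Agent.Helper19.JC.mem_omegaCenterOf_iff _ y).mp hy
    exact Subtype.ext (hy'.2.1 x hx'.1)
  · intro a ha
    exact ((Cfsg.Agent.Helper19.JC.mem_omegaCenterOf_iff _ a).mp ha).2.2

/-- BAS (5) -/
theorem omegaCenterOf_le_z0 (T : Subgroup G) : omegaCenterOf T ≤ Z0 T := by
  show omegaCenterOf T ≤ omegaCenterOf (thompsonSubgroupOf 2 T)
  rw [Cfsg.Agent.Helper19.JC.omegaCenterOf_thompson]
  apply Cfsg.Agent.Helper4.ZJ.le_ZE (Cfsg.Agent.Helper19.JC.omegaCenterOf_le T)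
  intro A hA
  apply Cfsg.Agent.Helper19.JC.le_of_centralizes hA (Cfsg.Agent.Helper19.JC.omegaCenterOf_le T)
    (bas_elem_omegaCenterOf T)
  intro a ha y hy
  have hy' := (Cfsg.Agent.Helper19.JC.mem_omegaCenterOf_iff _ y).mp hy
  exact hy'.2.1 a ((Cfsg.Agent.Helper4.ZJ.mem_famE.1 hA).1 ha)

/-- BAS (6) -/
theorem z0_map_conj {T : Subgroup G} {g : G}
    (hg : g ∈ Subgroup.normalizer (thompsonSubgroupOf 2 T : Set G)) :
    (Z0 T).map (MulAut.conj g).toMonoidHom = Z0 T := by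
  show (omegaCenterOf (thompsonSubgroupOf 2 T)).map (MulAut.conj g).toMonoidHom =
    omegaCenterOf (thompsonSubgroupOf 2 T)
  rw [← tr_omegaCenterOf_map (MulAut.conj g).toMonoidHom (MulAut.conj g).injective,
    Cfsg.Agent.Helper19.JC.map_conj_eq_of_mem_normalizer hg]

/-- the image of a centralizer under an automorphism -/
theorem bas_centralizer_map (φ : G ≃* G) (X : Subgroup G) :
    (Subgroup.centralizer (X : Set G)).map φ.toMonoidHom =
      Subgroup.centralizer ((X.map φ.toMonoidHom : Subgroup G) : Set G) := by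
  ext y
  constructor
  · rintro ⟨c, hc, rfl⟩
    rw [Subgroup.mem_centralizer_iff]
    rintro _ ⟨x, hx, rfl⟩
    have := (Subgroup.mem_centralizer_iff.mp hc) x hx
    show φ x * φ c = φ c * φ x
    rw [← map_mul, ← map_mul, this]
  · intro hy
    refine ⟨φ.symm y, ?_, by simp⟩
    show φ.symm y ∈ Subgroup.centralizer (X : Set G)
    rw [Subgroup.mem_centralizer_iff]
    intro x hx
    have h1 : φ x ∈ X.map φ.toMonoidHom := ⟨x, hx, rfl⟩
    have h2 := (Subgroup.mem_centralizer_iff.mp hy) (φ x) h1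
    apply φ.injective
    rw [map_mul, map_mul, MulEquiv.apply_symm_apply]
    exact h2

/-- BAS (7) -/
theorem dd_map_conj {T K : Subgroup G} {g : G}
    (hg : g ∈ Subgroup.normalizer (thompsonSubgroupOf 2 T : Set G)) :
    (DD T K).map (MulAut.conj g).toMonoidHom = DD T (K.map (MulAut.conj g).toMonoidHom) := by
  have hinj : Function.Injective (MulAut.conj g).toMonoidHom := (MulAut.conj g).injective
  have hJ : (thompsonSubgroupOf 2 T).map (MulAut.conj g).toMonoidHom = thompsonSubgroupOf 2 T :=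
    Cfsg.Agent.Helper19.JC.map_conj_eq_of_mem_normalizer hg
  unfold DD
  rw [Subgroup.map_inf _ _ _ hinj, Subgroup.map_inf _ _ _ hinj, z0_map_conj hg,
    bas_centralizer_map, Subgroup.map_sup, hJ]

/-- the two factors of `Z₀` in S2946 meet trivially -/
theorem bas_dd_inf_w {T K : Subgroup G} (hT2 : IsPGroup 2 ↥T) (hK : IsJComponent T K) :
    DD T K ⊓ (Z0 T ⊓ wOf K) = ⊥ := by
  have c := Cfsg.Agent.Helper19.JC.comp_of_isJComponent hT2 hK
  rw [eq_bot_iff]
  intro w hw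
  obtain ⟨hw1, hw2⟩ := Subgroup.mem_inf.mp hw
  have hwW : w ∈ wOf K := (Subgroup.mem_inf.mp hw2).2
  have hwc := dd_le_centralizer T K hw1
  rw [Subgroup.mem_centralizer_iff] at hwc
  rw [Subgroup.mem_bot]
  apply c.W_fpf w hwW
  intro k hk
  exact hwc k ((le_sup_left : K ≤ K ⊔ thompsonSubgroupOf 2 T) hk)

/-- BAS (8) -/
theorem card_z0 (hL : IsCharacteristicTwoType G)
    (hN : ∀ N : Subgroup G, IsTwoLocal N → Group.IsSolvable ↥N)
    (hZ : ∀ S : Sylow 2 G, Subgroup.centralizer (omegaCenterOf (S : Subgroup G) : Set G) ≤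
      Subgroup.normalizer ((S : Subgroup G) : Set G))
    {T : Subgroup G} (hT2 : IsPGroup 2 ↥T) (hT1 : T ≠ ⊥) {K : Subgroup G} (hK : IsJComponent T K) :
    Nat.card ↥(Z0 T) = 2 * Nat.card ↥(DD T K) := by
  obtain ⟨h2, hsup⟩ := Cfsg.Agent.S2946.result hL hN hZ T hT2 hT1 K hK (Z0 T) rfl
  have hcent : Subgroup.centralizer ((K : Set G) ⊔ (thompsonSubgroupOf 2 T : Set G)) =
      Subgroup.centralizer ((K ⊔ thompsonSubgroupOf 2 T : Subgroup G) : Set G) := by
    have h1 : (K ⊔ thompsonSubgroupOf 2 T : Subgroup G) =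
        Subgroup.closure ((K : Set G) ∪ (thompsonSubgroupOf 2 T : Set G)) := by
      rw [Subgroup.closure_union, Subgroup.closure_eq, Subgroup.closure_eq]
    rw [h1, Subgroup.centralizer_closure]
    rfl
  rw [hcent] at hsup
  have hsup' : DD T K ⊔ (Z0 T ⊓ wOf K) = Z0 T := hsup
  have hnorm : DD T K ≤ Subgroup.normalizer ((Z0 T ⊓ wOf K : Subgroup G) : Set G) := by
    intro d hd
    rw [Subgroup.mem_normalizer_iff]
    intro x
    have hdZ : d ∈ Z0 T := dd_le_z0 T K hd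
    constructor
    · intro hx
      have hxZ : x ∈ Z0 T := (Subgroup.mem_inf.mp hx).1
      have : d * x * d⁻¹ = x := by
        rw [z0_comm T d hdZ x hxZ, mul_assoc, mul_inv_cancel, mul_one]
      rwa [this]
    · intro hx
      have hxZ : d * x * d⁻¹ ∈ Z0 T := (Subgroup.mem_inf.mp hx).1
      have hxZ' : x ∈ Z0 T := by
        have := (Z0 T).mul_mem ((Z0 T).mul_mem ((Z0 T).inv_mem hdZ) hxZ) hdZ
        simpa [mul_assoc] using this
      have : d * x * d⁻¹ = x := by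
        rw [z0_comm T d hdZ x hxZ', mul_assoc, mul_inv_cancel, mul_one]
      rwa [this] at hx
  have h := f4b_card_sup (DD T K) (Z0 T ⊓ wOf K) hnorm
  rw [hsup', bas_dd_inf_w hT2 hK, Subgroup.card_bot, mul_one, h2] at h
  rw [h, mul_comm]

/-- BAS (9) -/
theorem z0_inf_wOf_ne_bot (hL : IsCharacteristicTwoType G)
    (hN : ∀ N : Subgroup G, IsTwoLocal N → Group.IsSolvable ↥N)
    (hZ : ∀ S : Sylow 2 G, Subgroup.centralizer (omegaCenterOf (S : Subgroup G) : Set G) ≤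
      Subgroup.normalizer ((S : Subgroup G) : Set G))
    {T : Subgroup G} (hT2 : IsPGroup 2 ↥T) (hT1 : T ≠ ⊥) {K : Subgroup G} (hK : IsJComponent T K) :
    Z0 T ⊓ wOf K ≠ ⊥ := by
  obtain ⟨h2, -⟩ := Cfsg.Agent.S2946.result hL hN hZ T hT2 hT1 K hK (Z0 T) rfl
  intro h
  rw [h, Subgroup.card_bot] at h2
  omega

/-- BAS (10) -/
theorem exists_not_comm_of_mem_wOf {T K : Subgroup G} (hT2 : IsPGroup 2 ↥T) (hK : IsJComponent T K)
    {w : G} (hw : w ∈ wOf K) (hw1 : w ≠ 1) : ∃ k ∈ K, k * w ≠ w * k := by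
  have c := Cfsg.Agent.Helper19.JC.comp_of_isJComponent hT2 hK
  by_contra hcon
  push Not at hcon
  exact hw1 (c.W_fpf w hw hcon)

end Cfsg.Agent.Helper27.KV
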