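import Mathlib
import Cfsg.Prelude.Def_JComponents
import Cfsg.Agent.Lib.Helper27.KVDefs
import Cfsg.Agent.Lib.Helper19.JCDefs
import Cfsg.Agent.Lib.Helper7.JC48A

/-!
# KS12c / S2951' (helper27's farm-out), PIECE MAXS  (helper15)

* `sylow_mem_maxStraddling` : a Sylow 2-subgroup `S` in a 2-local `L ≰ N_G(J(S))` is in `𝒯*(N_G(J(S)))`.
* `comp_not_le_normalizer_J` : a `J(T)`-component does not normalize `J(T)`.
-/

set_option autoImplicit false
set_option linter.unusedVariables false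
set_option linter.unusedSectionVars false

namespace Cfsg.Agent.Helper27.KV

open Cfsg Cfsg.Agent.Helper13.JCFF Cfsg.Agent.Helper27.KU
open scoped commutatorElement

universe u

variable {G : Type u} [Group G] [Finite G]

/-- a 2-subgroup has a conjugate inside a given Sylow 2-subgroup -/
theorem maxs_exists_conj_le (S : Sylow 2 G) {T : Subgroup G} (hT : IsPGroup 2 ↥T) :
    ∃ g : G, T.map (MulAut.conj g).toMonoidHom ≤ (S : Subgroup G) := by
  obtain ⟨Q, hTQ⟩ := hT.exists_le_sylow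
  obtain ⟨g, hg⟩ := MulAction.exists_smul_eq G Q S
  refine ⟨g, ?_⟩
  have h1 : ((g • Q : Sylow 2 G) : Subgroup G) = (S : Subgroup G) := by rw [hg]
  rw [Sylow.coe_subgroup_smul] at h1
  rw [← h1]
  intro x hx
  obtain ⟨t, ht, rfl⟩ := hx
  exact Subgroup.smul_mem_pointwise_smul _ _ _ (hTQ ht)

/-- `m(T^g) = m(T)` -/
theorem maxs_mOf_map_conj (T : Subgroup G) (g : G) :
    maxElemAbelianOrder (T.map (MulAut.conj g).toMonoidHom) = maxElemAbelianOrder T := by
  obtain ⟨A, hA⟩ := Cfsg.Agent.Helper4.ZJ.famE_nonempty (p := 2) T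
  rw [Cfsg.Agent.Helper7.JC48.mOf_eq hA,
    Cfsg.Agent.Helper7.JC48.mOf_eq (Cfsg.Agent.Helper4.ZJ.famE_map (MulAut.conj g) hA)]
  exact Cfsg.Agent.Helper15.card_map_conj A g

/-- `|J(T^g)| = |J(T)|` -/
theorem maxs_card_J_map_conj (T : Subgroup G) (g : G) :
    Nat.card ↥(thompsonSubgroupOf 2 (T.map (MulAut.conj g).toMonoidHom)) =
      Nat.card ↥(thompsonSubgroupOf 2 T) := by
  rw [Cfsg.Agent.Helper4.ZJ.thompsonSubgroupOf_map]
  exact Cfsg.Agent.Helper15.card_map_conj _ g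

/-- MAXS (1).  A Sylow 2-subgroup `S` contained in a 2-local `L ≰ N_G(J(S))` is in `𝒯*(N_G(J(S)))`: it is at the top for all
three measures (`mOf_mono`, `J_mono_of`, conjugation into `S` of a 2-subgroup). -/
theorem sylow_mem_maxStraddling (S : Sylow 2 G) (hS1 : (S : Subgroup G) ≠ ⊥) {L : Subgroup G}
    (hL2 : IsTwoLocal L) (hSL : (S : Subgroup G) ≤ L)
    (hL : ¬ L ≤ Subgroup.normalizer (thompsonSubgroupOf 2 (S : Subgroup G) : Set G)) :
    (S : Subgroup G) ∈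
      maxStraddlingTwoSubgroups (Subgroup.normalizer (thompsonSubgroupOf 2 (S : Subgroup G) : Set G)) := by
  refine ⟨⟨S.isPGroup', hS1, Cfsg.Agent.Helper7.JC48.le_normalizer_J _, L, hL2, hSL, hL⟩, ?_⟩
  intro T hT
  obtain ⟨g, hg⟩ := maxs_exists_conj_le S hT.1
  have hm : maxElemAbelianOrder T ≤ maxElemAbelianOrder (S : Subgroup G) := by
    rw [← maxs_mOf_map_conj T g]
    exact Cfsg.Agent.Helper7.JC48.mOf_mono hg
  refine ⟨hm, fun hme => ⟨?_, fun _ => ?_⟩⟩
  · rw [← maxs_card_J_map_conj T g]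
    apply Subgroup.card_le_of_le
    apply Cfsg.Agent.Helper7.JC48.J_mono_of hg
    rw [maxs_mOf_map_conj T g, hme]
  · rw [← Cfsg.Agent.Helper15.card_map_conj T g]
    exact Subgroup.card_le_of_le hg

/-- MAXS (2).  If `K ≤ N_G(J(T))` then `K = ⁅K, J(T)⁆ ≤ J(T)` is a 2-group, `pCoreOf 2 K = K`, relIndex `1 ≠ 3`. -/
theorem comp_not_le_normalizer_J {T K : Subgroup G} (hT2 : IsPGroup 2 ↥T) (hK : IsJComponent T K) :
    ¬ K ≤ Subgroup.normalizer (thompsonSubgroupOf 2 T : Set G) := by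
  intro hle
  have c := Cfsg.Agent.Helper19.JC.comp_of_isJComponent hT2 hK
  have h1 : ⁅K, thompsonSubgroupOf 2 T⁆ ≤ thompsonSubgroupOf 2 T := by
    rw [Subgroup.commutator_le]
    intro k hk j hj
    have hk' := hle hk
    rw [Subgroup.mem_normalizer_iff] at hk'
    have : k * j * k⁻¹ ∈ thompsonSubgroupOf 2 T := (hk' j).mp hj
    have h2 : ⁅k, j⁆ = (k * j * k⁻¹) * j⁻¹ := by rw [commutatorElement_def]
    rw [h2]
    exact mul_mem this (inv_mem hj)
  have h3 : K ≤ thompsonSubgroupOf 2 T := by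
    calc K = ⁅K, thompsonSubgroupOf 2 T⁆ := hK.2.1.symm
      _ ≤ thompsonSubgroupOf 2 T := h1
  have h4 : IsPGroup 2 ↥K := c.hJ.to_le h3
  exact c.K_ne_P0 (Cfsg.Agent.Helper14.le_pCoreOf le_rfl Subgroup.le_normalizer h4)

end Cfsg.Agent.Helper27.KV
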