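import Mathlib
import Cfsg.Agent.Lib.Helper26.L33Defs
import Cfsg.Agent.Lib.Helper15.GL23FUS

/-!
# S2916 piece A2 (helper15 for helper26): one class of involutions when `t` is not isolated
(steps 2.. of helper18's `GL23.one_class`).
-/

set_option autoImplicit false
set_option linter.unusedSectionVars false
set_option linter.unusedVariables false

namespace Cfsg.Agent.Helper26.L33

open Cfsg Cfsg.Agent.Helper15.GL23

universe u v

section A

variable {G : Type u} [Group G] [Finite G]

/-- PIECE A2 -/
theorem one_class_of_not_isolated (t : G) (ht : orderOf t = 2)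
    (hL : Like (Subgroup.centralizer ({t} : Set G)) (tC t)) (hni : ¬ Cfsg.IsIsolated t) :
    ∀ x : G, orderOf x = 2 → IsConj t x := by
  have hnotiso := hni
  unfold IsIsolated at hnotiso
  push Not at hnotiso
  obtain ⟨g, hgc, hgne⟩ := hnotiso
  set s := g * t * g⁻¹ with hs
  have hso : orderOf s = 2 := FUS.orderOf_conj' ht g
  have hts : IsConj t s := isConj_iff.mpr ⟨g, rfl⟩
  have hsmem : s ∈ Subgroup.centralizer ({t} : Set G) := by
    rw [Subgroup.mem_centralizer_singleton_iff]
    exact hgc.eq.symm
  -- involutions commuting with `t` are conjugate to `t`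
  have star : ∀ y : G, orderOf y = 2 → Commute t y → IsConj t y := by
    intro y hy hc
    by_cases hyt : y = t
    · rw [hyt]
    · have hymem : y ∈ Subgroup.centralizer ({t} : Set G) := by
        rw [Subgroup.mem_centralizer_singleton_iff]
        exact hc.eq.symm
      have h1 : orderOf (⟨s, hsmem⟩ : Subgroup.centralizer ({t} : Set G)) = 2 := by
        rw [Subgroup.orderOf_mk]; exact hso
      have h2 : orderOf (⟨y, hymem⟩ : Subgroup.centralizer ({t} : Set G)) = 2 := by
        rw [Subgroup.orderOf_mk]; exact hy
      have h3 : (⟨s, hsmem⟩ : Subgroup.centralizer ({t} : Set G)) ≠ tC t := by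
        intro h
        apply hgne
        exact congrArg Subtype.val h
      have h4 : (⟨y, hymem⟩ : Subgroup.centralizer ({t} : Set G)) ≠ tC t := by
        intro h
        apply hyt
        exact congrArg Subtype.val h
      obtain ⟨c, hc'⟩ := isConj_iff.mp (hL.invol _ _ h1 h2 h3 h4)
      have hsy : IsConj s y := by
        rw [isConj_iff]
        refine ⟨(c : G), ?_⟩
        have := congrArg Subtype.val hc'
        simpa using this
      exact hts.trans hsy
  -- the same for conjugates of `t`
  have star' : ∀ h y : G, orderOf y = 2 → Commute (h * t * h⁻¹) y → IsConj t y := by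
    intro h y hy hc
    have hy' : orderOf (h⁻¹ * y * h) = 2 := by
      have := FUS.orderOf_conj' hy h⁻¹
      rwa [inv_inv] at this
    have hc' : Commute t (h⁻¹ * y * h) := by
      have e := hc.eq
      show t * (h⁻¹ * y * h) = (h⁻¹ * y * h) * t
      calc t * (h⁻¹ * y * h) = h⁻¹ * ((h * t * h⁻¹) * y) * h := by group
        _ = h⁻¹ * (y * (h * t * h⁻¹)) * h := by rw [e]
        _ = (h⁻¹ * y * h) * t := by group
    have h1 := star _ hy' hc'
    have h2 : IsConj (h⁻¹ * y * h) y := by
      rw [isConj_iff]
      exact ⟨h, by group⟩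
    exact h1.trans h2
  -- the dihedral argument
  intro x hx
  set d := t * x with hd
  have hm : 0 < orderOf d := orderOf_pos d
  rcases Nat.even_or_odd' (orderOf d) with ⟨k, hk | hk⟩
  · -- even order `2k`
    have hk0 : 0 < k := by omega
    set z1 := d ^ k with hz1
    have hz1ne : z1 ≠ 1 := pow_ne_one_of_lt_orderOf (by omega) (by omega)
    have hz1sq : z1 * z1 = 1 := by
      rw [hz1, ← pow_add]
      have e : k + k = orderOf d := by omega
      rw [e, pow_orderOf_eq_one]
    have hz1o : orderOf z1 = 2 := by
      have : Fact (Nat.Prime 2) := ⟨Nat.prime_two⟩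
      apply orderOf_eq_prime
      · rw [pow_two]; exact hz1sq
      · exact hz1ne
    have hz1inv : z1⁻¹ = z1 := inv_eq_of_mul_eq_one_left hz1sq
    have hct : Commute t z1 := by
      have h1 : t * z1 * t⁻¹ = z1⁻¹ := FUS.conj_d_pow ht hx k
      rw [hz1inv] at h1
      show t * z1 = z1 * t
      calc t * z1 = (t * z1 * t⁻¹) * t := by group
        _ = z1 * t := by rw [h1]
    have hcx : Commute x z1 := by
      have h1 : x * z1 * x⁻¹ = z1⁻¹ := FUS.conj_d_pow' ht hx k
      rw [hz1inv] at h1
      show x * z1 = z1 * x
      calc x * z1 = (x * z1 * x⁻¹) * x := by group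
        _ = z1 * x := by rw [h1]
    obtain ⟨h, hh⟩ := isConj_iff.mp (star z1 hz1o hct)
    apply star' h x hx
    rw [hh]
    exact hcx.symm
  · -- odd order
    apply FUS.conj_of_odd ht hx k
    rw [← hk]
    exact pow_orderOf_eq_one d

end A

end Cfsg.Agent.Helper26.L33
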