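import Mathlib
import Cfsg.Agent.Lib.Helper26.L33Defs
import Cfsg.Agent.Lib.Helper15.GL23FUS
import Cfsg.Agent.Lib.Helper23.InvolutionInvert

/-!
# S2916 piece A3 (helper15 for helper26): a normal subgroup of odd order is trivial.
-/

set_option autoImplicit false
set_option linter.unusedSectionVars false
set_option linter.unusedVariables false

namespace Cfsg.Agent.Helper26.L33

open Cfsg Cfsg.Agent.Helper15.GL23

universe u v

section A

variable {G : Type u} [Group G] [Finite G]

/-- `t` inverts a normal subgroup of odd order -/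
theorem a3_inverts (t : G) (ht : orderOf t = 2)
    (hF : HFacts (Subgroup.centralizer ({t} : Set G)))
    (N : Subgroup G) (hN : N.Normal) (hodd : Odd (Nat.card N)) :
    ∀ n ∈ N, t * n * t⁻¹ = n⁻¹ := by
  have htt : t * t = 1 := FUS.sq_one ht
  -- `C_N(t) = 1`
  have hfree : ∀ n ∈ N, t * n * t⁻¹ = n → n = 1 := by
    intro n hn hfix
    set C := Subgroup.centralizer ({t} : Set G) with hC
    haveI : N.Normal := hN
    have hnorm : (N.subgroupOf C).Normal := inferInstance
    have hcard : Odd (Nat.card (N.subgroupOf C)) := by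
      have hinj : Function.Injective (fun x : N.subgroupOf C => (⟨(x : C), x.2⟩ : N)) := by
        intro a b hab
        have h1 : ((a : C) : G) = ((b : C) : G) := congrArg (fun y : N => (y : G)) hab
        exact Subtype.ext (Subtype.ext h1)
      have hdvd : Nat.card (N.subgroupOf C) ∣ Nat.card N := by
        have e : Nat.card (N.subgroupOf C) = Nat.card ((N.subgroupOf C).map C.subtype) :=
          (Subgroup.card_map_of_injective (Subgroup.subtype_injective C)).symm
        rw [e]
        apply Subgroup.card_dvd_of_le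
        intro x hx
        obtain ⟨y, hy, rfl⟩ := hx
        exact hy
      exact Odd.of_dvd_nat hodd hdvd
    have hbot := hF.odd_normal (N.subgroupOf C) hnorm hcard
    have hnC : n ∈ C := by
      rw [hC, Subgroup.mem_centralizer_singleton_iff]
      calc n * t = (t * n * t⁻¹) * t := by rw [hfix]
        _ = t * n := by group
    have hmem : (⟨n, hnC⟩ : C) ∈ N.subgroupOf C := by
      rw [Subgroup.mem_subgroupOf]; exact hn
    rw [hbot, Subgroup.mem_bot] at hmem
    exact congrArg Subtype.val hmem
  have hinv : ∀ n ∈ N, t * n * t⁻¹ ∈ N := fun n hn => hN.conj_mem n hn t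
  exact Cfsg.Agent.Helper23.inverts_of_fixed_point_free t htt N hinv hfree

/-- PIECE A3 -/
theorem odd_normal_eq_bot (t : G) (ht : orderOf t = 2)
    (hL : Like (Subgroup.centralizer ({t} : Set G)) (tC t))
    (hF : HFacts (Subgroup.centralizer ({t} : Set G)))
    (h1 : ∀ x : G, orderOf x = 2 → IsConj t x) (N : Subgroup G) (hN : N.Normal)
    (hodd : Odd (Nat.card N)) : N = ⊥ := by
  have hinvt := a3_inverts t ht hF N hN hodd
  -- every involution inverts `N`
  have hall : ∀ x : G, orderOf x = 2 → ∀ n ∈ N, x * n * x⁻¹ = n⁻¹ := by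
    intro x hx n hn
    obtain ⟨g, hg⟩ := isConj_iff.mp (h1 x hx)
    have hn' : g⁻¹ * n * g ∈ N := by
      have := hN.conj_mem n hn g⁻¹
      rwa [inv_inv] at this
    have h2 := hinvt _ hn'
    rw [← hg]
    calc g * t * g⁻¹ * n * (g * t * g⁻¹)⁻¹ = g * (t * (g⁻¹ * n * g) * t⁻¹) * g⁻¹ := by group
      _ = g * (g⁻¹ * n * g)⁻¹ * g⁻¹ := by rw [h2]
      _ = n⁻¹ := by group
  -- an involution `b ≠ t` of `C(t)`
  obtain ⟨b, hb2, hbt⟩ := hL.ex_invol
  have hbo : orderOf (b : G) = 2 := by
    rw [← hb2]; exact (Subgroup.orderOf_coe b)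
  have hbne : (b : G) ≠ t := fun h => hbt (Subtype.ext h)
  have hbc : (b : G) * t = t * (b : G) :=
    (Subgroup.mem_centralizer_singleton_iff (g := t) (k := (b : G))).mp b.2
  have htt : t * t = 1 := FUS.sq_one ht
  have hbb : (b : G) * (b : G) = 1 := FUS.sq_one hbo
  have htbo : orderOf (t * (b : G)) = 2 := by
    have : Fact (Nat.Prime 2) := ⟨Nat.prime_two⟩
    apply orderOf_eq_prime
    · rw [pow_two]
      calc t * (b : G) * (t * (b : G)) = t * ((b : G) * t) * (b : G) := by group
        _ = t * (t * (b : G)) * (b : G) := by rw [hbc]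
        _ = (t * t) * ((b : G) * (b : G)) := by group
        _ = 1 := by rw [htt, hbb, one_mul]
    · intro h
      apply hbne
      have : (b : G) = t⁻¹ := eq_inv_of_mul_eq_one_right h
      rw [this, FUS.inv_self ht]
  rw [Subgroup.eq_bot_iff_forall]
  intro n hn
  have e1 := hall (b : G) hbo n hn
  have e2 := hinvt n⁻¹ (N.inv_mem hn)
  have e3 := hall (t * (b : G)) htbo n hn
  have e4 : t * (b : G) * n * (t * (b : G))⁻¹ = n := by
    calc t * (b : G) * n * (t * (b : G))⁻¹ = t * ((b : G) * n * (b : G)⁻¹) * t⁻¹ := by group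
      _ = t * n⁻¹ * t⁻¹ := by rw [e1]
      _ = n := by rw [e2, inv_inv]
  have e5 : n = n⁻¹ := by rw [← e3, e4]
  have hn2 : n ^ 2 = 1 := by
    rw [pow_two]
    calc n * n = n * n⁻¹ := by rw [← e5]
      _ = 1 := mul_inv_cancel n
  have hdvd2 : orderOf n ∣ 2 := orderOf_dvd_of_pow_eq_one hn2
  have hdvdN : orderOf n ∣ Nat.card N := Subgroup.orderOf_dvd_natCard N hn
  have hoddn : Odd (orderOf n) := Odd.of_dvd_nat hodd hdvdN
  have : orderOf n = 1 := by
    rcases (Nat.dvd_prime Nat.prime_two).mp hdvd2 with h | h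
    · exact h
    · rw [h] at hoddn; exact absurd hoddn (by decide)
  exact orderOf_eq_one_iff.mp this

end A

end Cfsg.Agent.Helper26.L33
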