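import Mathlib
import Cfsg.Agent.Lib.Helper26.L33Defs

/-!
# S2916 sub-piece C4B-SYL (helper15 for helper26): a Sylow 3-subgroup of order 27 containing `K`.
-/

set_option autoImplicit false

namespace Cfsg.Agent.Helper26.L33

open Cfsg

universe u

section SubPieces

variable {G : Type u} [Group G] [Finite G]

/-- C4B-SYL -/
theorem c4b_sylow (hG : Nat.card G = 5616) (K : Subgroup G) (h9 : Nat.card K = 9) :
    ∃ P0 : Subgroup G, K ≤ P0 ∧ Nat.card P0 = 27 := by
  haveI : Fact (Nat.Prime 3) := ⟨Nat.prime_three⟩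
  have hK : IsPGroup 3 K := IsPGroup.of_card (n := 2) (by rw [h9]; norm_num)
  obtain ⟨Q, hQ⟩ := hK.exists_le_sylow
  refine ⟨Q, hQ, ?_⟩
  obtain ⟨k, hk⟩ := (IsPGroup.iff_card.mp Q.2)
  have h1 := Subgroup.card_mul_index (Q : Subgroup G)
  rw [hG] at h1
  have h2 : ¬ 3 ∣ (Q : Subgroup G).index := Q.not_dvd_index
  have hk' : Nat.card (Q : Subgroup G) = 3 ^ k := hk
  rw [hk'] at h1 ⊢
  have hdvd : 3 ^ k ∣ 5616 := ⟨_, h1.symm⟩
  have hk3 : k ≤ 3 := by
    by_contra hlt
    push Not at hlt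
    have : 3 ^ 4 ∣ 5616 := (Nat.pow_dvd_pow 3 hlt).trans hdvd
    norm_num at this
  interval_cases k
  · exfalso; apply h2
    have : (Q : Subgroup G).index = 5616 := by omega
    rw [this]; norm_num
  · exfalso; apply h2
    have : (Q : Subgroup G).index = 1872 := by omega
    rw [this]; norm_num
  · exfalso; apply h2
    have : (Q : Subgroup G).index = 624 := by omega
    rw [this]; norm_num
  · norm_num

end SubPieces

end Cfsg.Agent.Helper26.L33
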