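import Mathlib
import Cfsg.Agent.Lib.Helper26.L33Defs

/-!
# S2916 sub-piece C7-AB (helper15 for helper26): a group of order 27 with centre of order `≥ 9` is abelian.
-/

set_option autoImplicit false

namespace Cfsg.Agent.Helper26.L33

open Cfsg

universe u

section SubPieces

variable {G : Type u} [Group G] [Finite G]

/-- C7-AB -/
theorem c7_abelian (P : Subgroup G) (hP : Nat.card P = 27) (u z : G) (ou : orderOf u = 3) (huP : u ∈ P)
    (hu : ∀ x ∈ P, u * x = x * u) (hzP : z ∈ P) (hz : ∀ x ∈ P, z * x = x * z)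
    (hzu : z ∉ Subgroup.zpowers u) : ∀ x ∈ P, ∀ y ∈ P, x * y = y * x := by
  haveI : Fact (Nat.Prime 3) := ⟨Nat.prime_three⟩
  set Z : Subgroup P := Subgroup.center P with hZ
  have huZ : (⟨u, huP⟩ : P) ∈ Z := by
    rw [hZ, Subgroup.mem_center_iff]
    intro g
    apply Subtype.ext
    exact (hu g g.2).symm
  have hzZ : (⟨z, hzP⟩ : P) ∈ Z := by
    rw [hZ, Subgroup.mem_center_iff]
    intro g
    apply Subtype.ext
    exact (hz g g.2).symm
  -- `|Z| ∈ {9, 27}`
  have hdvd : Nat.card Z ∣ 27 := by rw [← hP]; exact Subgroup.card_subgroup_dvd_card Z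
  have hle : Subgroup.zpowers (⟨u, huP⟩ : P) ≤ Z := (Subgroup.zpowers_le).mpr huZ
  have hc3 : Nat.card (Subgroup.zpowers (⟨u, huP⟩ : P)) = 3 := by
    rw [Nat.card_zpowers, Subgroup.orderOf_mk, ou]
  have hne : Subgroup.zpowers (⟨u, huP⟩ : P) ≠ Z := by
    intro heq
    apply hzu
    have : (⟨z, hzP⟩ : P) ∈ Subgroup.zpowers (⟨u, huP⟩ : P) := by rw [heq]; exact hzZ
    obtain ⟨k, hk⟩ := Subgroup.mem_zpowers_iff.mp this
    rw [Subgroup.mem_zpowers_iff]
    refine ⟨k, ?_⟩
    have := congrArg Subtype.val hk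
    simpa using this
  have h3dvd : 3 ∣ Nat.card Z := by rw [← hc3]; exact Subgroup.card_dvd_of_le hle
  have hcard : Nat.card Z = 9 ∨ Nat.card Z = 27 := by
    have h4 : Nat.card Z ≤ 27 := Nat.le_of_dvd (by norm_num) hdvd
    have h5 : Nat.card Z ≠ 3 := by
      intro h3
      exact hne (Subgroup.eq_of_le_of_card_ge hle (by rw [h3, hc3]))
    obtain ⟨k, hk⟩ := h3dvd
    have hk9 : k ≤ 9 := by omega
    interval_cases k <;> first | omega | (rw [hk] at hdvd; norm_num at hdvd)
  -- the quotient is cyclic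
  have hidx : Z.index = 3 ∨ Z.index = 1 := by
    have h1 := Subgroup.card_mul_index Z
    rw [hP] at h1
    rcases hcard with h | h
    · left; rw [h] at h1; omega
    · right; rw [h] at h1; omega
  haveI : IsCyclic (P ⧸ Z) := by
    rcases hidx with h | h
    · have : Nat.card (P ⧸ Z) = 3 := by rw [← Subgroup.index_eq_card]; exact h
      exact isCyclic_of_prime_card this
    · have : Nat.card (P ⧸ Z) = 1 := by rw [← Subgroup.index_eq_card]; exact h
      haveI : Subsingleton (P ⧸ Z) := (Nat.card_eq_one_iff_unique.mp this).1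
      exact isCyclic_of_subsingleton
  intro x hx y hy
  have hker : (QuotientGroup.mk' Z).ker ≤ Subgroup.center P := by
    rw [QuotientGroup.ker_mk']
  have := commutative_of_cyclic_center_quotient (QuotientGroup.mk' Z) hker ⟨x, hx⟩ ⟨y, hy⟩
  exact congrArg Subtype.val this

end SubPieces

end Cfsg.Agent.Helper26.L33
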