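import Mathlib
import Cfsg.Agent.Lib.Helper26.L33Defs
import Cfsg.Agent.Lib.Helper2.GWBZB

/-!
# S2916 piece C8a (helper15 for helper26): `E = ⟨u, a'⟩` has order 9 and is self-centralizing.
-/

set_option autoImplicit false
set_option linter.unusedSectionVars false
set_option linter.unusedVariables false

namespace Cfsg.Agent.Helper26.L33

open Cfsg

universe u v

section C

variable {G : Type u} [Group G] [Finite G]

/-- the order of `N ⊔ K` for commuting subgroups meeting trivially -/
theorem c8a_card_sup {N K : Subgroup G} (hc : ∀ n ∈ N, ∀ k ∈ K, n * k = k * n) (h : N ⊓ K = ⊥) :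
    Nat.card ↥(N ⊔ K) = Nat.card ↥N * Nat.card ↥K := by
  apply Cfsg.Agent.Helper27.GWB.zb_card_sup _ h
  intro k hk
  rw [Subgroup.mem_normalizer_iff]
  intro n
  constructor
  · intro hn
    have : k * n * k⁻¹ = n := by
      rw [← hc n hn k hk]; group
    rw [this]; exact hn
  · intro hn
    have h1 := hc (k * n * k⁻¹) hn k hk
    have : n = k * n * k⁻¹ := by
      calc n = k⁻¹ * (k * n * k⁻¹ * k) := by group
        _ = k⁻¹ * (k * (k * n * k⁻¹)) := by rw [h1]
        _ = k * n * k⁻¹ := by group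
    rw [this]; exact hn

end C

section C

variable {G : Type u} [Group G] [Finite G] [IsSimpleGroup G]

/-- C8a -/
theorem cent_E {t u s : G} {P : Subgroup G} (h : Cfg2 G t u s P)
    (hz : ∀ z ∈ P, (∀ x ∈ P, z * x = x * z) → z ∈ Subgroup.zpowers u) (a' : G) (ha : Good G t u s P a') :
    Nat.card (Subgroup.closure ({u, a'} : Set G)) = 9 ∧
      ∀ x : G, x * u = u * x → x * a' = a' * x → x ∈ Subgroup.closure ({u, a'} : Set G) := by
  have hP27 : Nat.card P = 27 := h.cardP
  have hPle : P ≤ Subgroup.centralizer ({u} : Set G) := h.K_le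
  have huP : u ∈ P := h.uK
  have haP : a' ∈ P := ha.mem
  -- `a'` commutes with `u`
  have hau : a' * u = u * a' :=
    (Subgroup.mem_centralizer_singleton_iff (g := u) (k := a')).mp (hPle haP)
  -- `E = ⟨u⟩ ⊔ ⟨a'⟩`
  have hE : Subgroup.closure ({u, a'} : Set G) = Subgroup.zpowers u ⊔ Subgroup.zpowers a' := by
    rw [Subgroup.zpowers_eq_closure, Subgroup.zpowers_eq_closure, ← Subgroup.closure_union]
    rfl
  have hcomm : ∀ n ∈ Subgroup.zpowers u, ∀ k ∈ Subgroup.zpowers a', n * k = k * n := by
    intro n hn k hk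
    obtain ⟨i, rfl⟩ := Subgroup.mem_zpowers_iff.mp hn
    obtain ⟨j, rfl⟩ := Subgroup.mem_zpowers_iff.mp hk
    have : Commute u a' := hau.symm
    exact (this.zpow_zpow i j).eq
  haveI : Fact (Nat.Prime 3) := ⟨Nat.prime_three⟩
  have hcu : Nat.card (Subgroup.zpowers u) = 3 := by rw [Nat.card_zpowers, h.ou]
  have hca : Nat.card (Subgroup.zpowers a') = 3 := by rw [Nat.card_zpowers, ha.ord]
  have hinf : Subgroup.zpowers u ⊓ Subgroup.zpowers a' = ⊥ := by
    have hdvd : Nat.card ↥(Subgroup.zpowers u ⊓ Subgroup.zpowers a') ∣ 3 := by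
      rw [← hca]; exact Subgroup.card_dvd_of_le inf_le_right
    rcases (Nat.dvd_prime Nat.prime_three).mp hdvd with h1 | h3
    · exact Subgroup.card_eq_one.mp h1
    · exfalso
      apply ha.nmem
      have heq : Subgroup.zpowers u ⊓ Subgroup.zpowers a' = Subgroup.zpowers a' :=
        Subgroup.eq_of_le_of_card_ge inf_le_right (by rw [h3, hca])
      have : a' ∈ Subgroup.zpowers u ⊓ Subgroup.zpowers a' := by
        rw [heq]; exact Subgroup.mem_zpowers a'
      exact this.1
  have hE9 : Nat.card (Subgroup.closure ({u, a'} : Set G)) = 9 := by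
    rw [hE, c8a_card_sup hcomm hinf, hcu, hca]
  refine ⟨hE9, ?_⟩
  -- `E ≤ P`, `E ≤ C(a')`
  have hEP : Subgroup.closure ({u, a'} : Set G) ≤ P := by
    rw [Subgroup.closure_le]
    intro y hy
    rcases hy with rfl | rfl
    · exact huP
    · exact haP
  have hEC : Subgroup.closure ({u, a'} : Set G) ≤ Subgroup.centralizer ({a'} : Set G) := by
    rw [Subgroup.closure_le]
    intro y hy
    rcases hy with rfl | rfl
    · exact Subgroup.mem_centralizer_singleton_iff.mpr hau.symm
    · exact Subgroup.mem_centralizer_singleton_iff.mpr rfl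
  -- `C_P(a') = E`
  set D : Subgroup G := P ⊓ Subgroup.centralizer ({a'} : Set G) with hD
  have hED : Subgroup.closure ({u, a'} : Set G) ≤ D := le_inf hEP hEC
  have hDP : D ≤ P := inf_le_left
  have hDne : D ≠ P := by
    intro heq
    apply ha.nmem
    apply hz a' haP
    intro x hx
    have : x ∈ D := by rw [heq]; exact hx
    have h2 := (Subgroup.mem_centralizer_singleton_iff (g := a') (k := x)).mp this.2
    exact h2.symm
  have hDcard : Nat.card D = 9 := by
    have h1 : Nat.card D ∣ 27 := by rw [← hP27]; exact Subgroup.card_dvd_of_le hDP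
    have h2 : 9 ∣ Nat.card D := by rw [← hE9]; exact Subgroup.card_dvd_of_le hED
    have h3 : Nat.card D ≠ 27 := by
      intro h27
      exact hDne (Subgroup.eq_of_le_of_card_ge hDP (by rw [h27, hP27]))
    have h4 : Nat.card D ≤ 27 := Nat.le_of_dvd (by norm_num) h1
    obtain ⟨k, hk⟩ := h2
    have hk3 : k ≤ 3 := by omega
    interval_cases k
    · rw [hk] at h1; norm_num at h1
    · omega
    · rw [hk] at h1; norm_num at h1
    · omega
  have hDE : Subgroup.closure ({u, a'} : Set G) = D :=
    Subgroup.eq_of_le_of_card_ge hED (by rw [hDcard, hE9])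
  -- `t ∈ C(u) \ P`
  have htt : t * t = 1 := by
    have := pow_orderOf_eq_one t
    rwa [h.ot, pow_two] at this
  have htC : t ∈ Subgroup.centralizer ({u} : Set G) :=
    Subgroup.mem_centralizer_singleton_iff.mpr h.tu
  have htP : t ∉ P := by
    intro htP
    have h1 : orderOf t ∣ Nat.card P := Subgroup.orderOf_dvd_natCard P htP
    rw [h.ot, hP27] at h1
    norm_num at h1
  -- `P` has index 2 in `C(u)`
  set C := Subgroup.centralizer ({u} : Set G) with hC
  have hidx : (P.subgroupOf C).index = 2 := by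
    have h0 : Nat.card (P.subgroupOf C) = Nat.card P :=
      Nat.card_congr (Subgroup.subgroupOfEquivOfLe hPle).toEquiv
    have h1 := Subgroup.card_mul_index (P.subgroupOf C)
    have h2 : Nat.card C = 2 * Nat.card P := h.cardCentU
    rw [h0, h2, hP27] at h1
    omega
  intro x hxu hxa
  have hxC : x ∈ C := Subgroup.mem_centralizer_singleton_iff.mpr hxu
  by_cases hxP : x ∈ P
  · rw [hDE]
    exact ⟨hxP, Subgroup.mem_centralizer_singleton_iff.mpr hxa⟩
  · exfalso
    -- `p = x t ∈ P`
    have hmul := Subgroup.mul_mem_iff_of_index_two hidx (a := (⟨x, hxC⟩ : C)) (b := (⟨t, htC⟩ : C))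
    have hp : x * t ∈ P := by
      have : (⟨x, hxC⟩ : C) * ⟨t, htC⟩ ∈ P.subgroupOf C := by
        rw [hmul, Subgroup.mem_subgroupOf, Subgroup.mem_subgroupOf]
        exact ⟨fun hh => absurd hh hxP, fun hh => absurd hh htP⟩
      exact Subgroup.mem_subgroupOf.mp this
    set p := x * t with hpdef
    have hx : x = p * t := by
      rw [hpdef, mul_assoc, htt, mul_one]
    -- `p` inverts `a'`
    have htinv : t⁻¹ = t := inv_eq_of_mul_eq_one_left htt
    have hpa : p * a' * p⁻¹ = a'⁻¹ := by
      have h1 : x * a' * x⁻¹ = a' := by rw [hxa]; group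
      have h2 : t * a'⁻¹ * t⁻¹ = a' := by
        have := ha.inv_t
        calc t * a'⁻¹ * t⁻¹ = (t * a' * t⁻¹)⁻¹ := by group
          _ = a' := by rw [this, inv_inv]
      calc p * a' * p⁻¹ = x * (t * a' * t⁻¹) * x⁻¹ := by rw [hpdef]; group
        _ = x * a'⁻¹ * x⁻¹ := by rw [ha.inv_t]
        _ = (x * a' * x⁻¹)⁻¹ := by group
        _ = a'⁻¹ := by rw [h1]
    -- odd powers of `p` invert `a'`
    have hpow : ∀ n : ℕ, p ^ (2 * n + 1) * a' * (p ^ (2 * n + 1))⁻¹ = a'⁻¹ := by
      intro n
      induction n with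
      | zero => simpa using hpa
      | succ n ih =>
        have e : p ^ (2 * (n + 1) + 1) = p * p * p ^ (2 * n + 1) := by
          rw [show 2 * (n + 1) + 1 = 2 + (2 * n + 1) by ring, pow_add, pow_two]
        rw [e]
        have hpa' : p * a'⁻¹ * p⁻¹ = a' := by
          calc p * a'⁻¹ * p⁻¹ = (p * a' * p⁻¹)⁻¹ := by group
            _ = a' := by rw [hpa, inv_inv]
        calc p * p * p ^ (2 * n + 1) * a' * (p * p * p ^ (2 * n + 1))⁻¹
            = p * (p * (p ^ (2 * n + 1) * a' * (p ^ (2 * n + 1))⁻¹) * p⁻¹) * p⁻¹ := by group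
          _ = p * (p * a'⁻¹ * p⁻¹) * p⁻¹ := by rw [ih]
          _ = p * a' * p⁻¹ := by rw [hpa']
          _ = a'⁻¹ := hpa
    have hp27 : p ^ 27 = 1 := by
      have := pow_card_eq_one' (G := P) (x := (⟨p, hp⟩ : P))
      rw [hP27] at this
      exact congrArg Subtype.val this
    have h13 := hpow 13
    rw [show 2 * 13 + 1 = 27 by norm_num, hp27] at h13
    have ha2 : a' = a'⁻¹ := by simpa using h13
    have ha3 : a' ^ 3 = 1 := by rw [← ha.ord]; exact pow_orderOf_eq_one a'
    have ha1 : a' = 1 := by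
      have h2 : a' * a' = 1 := by
        calc a' * a' = a' * a'⁻¹ := by rw [← ha2]
          _ = 1 := mul_inv_cancel a'
      calc a' = a' ^ 3 * (a' * a')⁻¹ := by group
        _ = 1 := by rw [ha3, h2]; group
    have := ha.ord
    rw [ha1, orderOf_one] at this
    norm_num at this

end C

end Cfsg.Agent.Helper26.L33
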