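import Mathlib
import Cfsg.Agent.Lib.Helper26.L33Defs
import Cfsg.Agent.Lib.Helper15.L33_C8A

/-!
# S2916 piece C8b (helper15 for helper26): `|N(E)| ≤ 432` for `E = ⟨u, a'⟩`.
-/

set_option autoImplicit false
set_option linter.unusedSectionVars false
set_option linter.unusedVariables false

namespace Cfsg.Agent.Helper26.L33

open Cfsg

universe u v

section Aux

/-- in a group of order 9 there are at most 48 pairs `(x, y)` with `x ≠ 1`, `y ∉ ⟨x⟩` -/
theorem c8b_pairs (E : Type u) [Group E] [Fintype E] [DecidableEq E] (h9 : Fintype.card E = 9) :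
    ((Finset.univ : Finset (E × E)).filter
      (fun p => p.1 ≠ 1 ∧ p.2 ∉ Subgroup.zpowers p.1)).card ≤ 48 := by
  classical
  rw [Finset.card_filter, Fintype.sum_prod_type]
  have hinner : ∀ x : E, (∑ y : E, if (x ≠ 1 ∧ y ∉ Subgroup.zpowers x) then 1 else 0)
      ≤ (if x = 1 then 0 else 6) := by
    intro x
    by_cases hx : x = 1
    · simp [hx]
    · rw [if_neg hx]
      have h1 : (∑ y : E, if (x ≠ 1 ∧ y ∉ Subgroup.zpowers x) then 1 else 0)
          = ((Finset.univ : Finset E).filter (fun y => y ∉ Subgroup.zpowers x)).card := by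
        rw [Finset.card_filter]
        apply Finset.sum_congr rfl
        intro y _
        simp [hx]
      rw [h1]
      have h2 : ((Finset.univ : Finset E).filter (fun y => y ∉ Subgroup.zpowers x)).card
          + ((Finset.univ : Finset E).filter (fun y => y ∈ Subgroup.zpowers x)).card = 9 := by
        rw [add_comm, Finset.card_filter_add_card_filter_not, Finset.card_univ, h9]
      have h3 : ((Finset.univ : Finset E).filter (fun y => y ∈ Subgroup.zpowers x)).card
          = orderOf x := by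
        rw [← Nat.card_zpowers, Nat.card_eq_fintype_card, Fintype.card_subtype]
      have h4 : orderOf x ∣ 9 := by
        rw [← h9]; exact orderOf_dvd_card
      have h5 : orderOf x ≠ 1 := fun h => hx (orderOf_eq_one_iff.mp h)
      have h6 : 3 ≤ orderOf x := by
        have h7 : orderOf x ≤ 9 := Nat.le_of_dvd (by norm_num) h4
        have h8 : 0 < orderOf x := Nat.pos_of_dvd_of_pos h4 (by norm_num)
        interval_cases (orderOf x) <;> simp_all
      omega
  calc (∑ x : E, ∑ y : E, if (x ≠ 1 ∧ y ∉ Subgroup.zpowers x) then 1 else 0)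
      ≤ ∑ x : E, (if x = 1 then 0 else 6) := Finset.sum_le_sum (fun x _ => hinner x)
    _ = 48 := by
      rw [Finset.sum_ite, Finset.sum_const_zero, zero_add, Finset.sum_const, smul_eq_mul]
      have : ((Finset.univ : Finset E).filter (fun x => ¬ x = 1)).card = 8 := by
        have h2 := Finset.card_filter_add_card_filter_not (s := (Finset.univ : Finset E))
          (fun x : E => x = 1)
        rw [Finset.card_univ, h9] at h2
        have h3 : ((Finset.univ : Finset E).filter (fun x => x = 1)).card = 1 := by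
          rw [Finset.card_eq_one]
          refine ⟨1, ?_⟩
          ext y
          simp
        omega
      rw [this]

end Aux

section C

variable {G : Type u} [Group G] [Finite G] [IsSimpleGroup G]

/-- C8b -/
theorem card_normE_le {t u s : G} {P : Subgroup G} (h : Cfg2 G t u s P)
    (hz : ∀ z ∈ P, (∀ x ∈ P, z * x = x * z) → z ∈ Subgroup.zpowers u) (a' : G) (ha : Good G t u s P a') :
    Nat.card (Subgroup.normalizer ((Subgroup.closure ({u, a'} : Set G) : Subgroup G) : Set G)) ≤ 432 := by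
  classical
  obtain ⟨hE9, hcent⟩ := cent_E h hz a' ha
  obtain ⟨E, hE⟩ : ∃ E : Subgroup G, E = Subgroup.closure ({u, a'} : Set G) := ⟨_, rfl⟩
  rw [← hE] at hE9 hcent ⊢
  obtain ⟨NE, hNE⟩ : ∃ NE : Subgroup G, NE = Subgroup.normalizer (E : Set G) := ⟨_, rfl⟩
  rw [← hNE]
  have huE : u ∈ E := by rw [hE]; exact Subgroup.subset_closure (by simp)
  have haE : a' ∈ E := by rw [hE]; exact Subgroup.subset_closure (by simp)
  have hconj : ∀ n ∈ NE, ∀ x ∈ E, n * x * n⁻¹ ∈ E := by
    intro n hn x hx
    rw [hNE] at hn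
    exact (Subgroup.mem_normalizer_iff.mp hn x).mp hx
  letI : Fintype NE := Fintype.ofFinite _
  letI : Fintype E := Fintype.ofFinite _
  have hE9' : Fintype.card E = 9 := by rw [← Nat.card_eq_fintype_card]; exact hE9
  obtain ⟨φ, hφ⟩ : ∃ φ : NE → E × E, ∀ n : NE,
      ((φ n).1 : G) = (n : G) * u * (n : G)⁻¹ ∧ ((φ n).2 : G) = (n : G) * a' * (n : G)⁻¹ :=
    ⟨fun n => (⟨(n : G) * u * (n : G)⁻¹, hconj n n.2 u huE⟩,
      ⟨(n : G) * a' * (n : G)⁻¹, hconj n n.2 a' haE⟩), fun n => ⟨rfl, rfl⟩⟩
  have hu1 : u ≠ 1 := by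
    intro h1
    have := h.ou
    rw [h1, orderOf_one] at this
    norm_num at this
  -- fibres
  have hfib : ∀ p ∈ (Finset.univ : Finset NE).image φ,
      ((Finset.univ : Finset NE).filter (fun n => φ n = p)).card ≤ 9 := by
    intro p hp
    obtain ⟨n₀, _, rfl⟩ := Finset.mem_image.mp hp
    have hmem : ∀ n : NE, φ n = φ n₀ → (n₀ : G)⁻¹ * (n : G) ∈ E := by
      intro n hn
      have e1 : (n : G) * u * (n : G)⁻¹ = (n₀ : G) * u * (n₀ : G)⁻¹ := by
        rw [← (hφ n).1, ← (hφ n₀).1, hn]
      have e2 : (n : G) * a' * (n : G)⁻¹ = (n₀ : G) * a' * (n₀ : G)⁻¹ := by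
        rw [← (hφ n).2, ← (hφ n₀).2, hn]
      apply hcent
      · calc (n₀ : G)⁻¹ * (n : G) * u = (n₀ : G)⁻¹ * ((n : G) * u * (n : G)⁻¹) * (n : G) := by group
          _ = (n₀ : G)⁻¹ * ((n₀ : G) * u * (n₀ : G)⁻¹) * (n : G) := by rw [e1]
          _ = u * ((n₀ : G)⁻¹ * (n : G)) := by group
      · calc (n₀ : G)⁻¹ * (n : G) * a' = (n₀ : G)⁻¹ * ((n : G) * a' * (n : G)⁻¹) * (n : G) := by group
          _ = (n₀ : G)⁻¹ * ((n₀ : G) * a' * (n₀ : G)⁻¹) * (n : G) := by rw [e2]
          _ = a' * ((n₀ : G)⁻¹ * (n : G)) := by group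
    have hle : ((Finset.univ : Finset NE).filter (fun n => φ n = φ n₀)).card
        ≤ (Finset.univ : Finset E).card := by
      apply Finset.card_le_card_of_injOn
        (fun n : NE => if hn : (n₀ : G)⁻¹ * (n : G) ∈ E then (⟨(n₀ : G)⁻¹ * (n : G), hn⟩ : E) else 1)
      · intro n _
        exact Finset.mem_univ _
      · intro n hn n' hn' heq
        have hn1 := hmem n (Finset.mem_filter.mp hn).2
        have hn2 := hmem n' (Finset.mem_filter.mp hn').2
        simp only [dif_pos hn1, dif_pos hn2] at heq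
        have : (n₀ : G)⁻¹ * (n : G) = (n₀ : G)⁻¹ * (n' : G) := congrArg Subtype.val heq
        exact Subtype.ext (mul_left_cancel this)
    rw [Finset.card_univ, hE9'] at hle
    exact hle
  -- the image
  have himg : ((Finset.univ : Finset NE).image φ).card ≤ 48 := by
    refine le_trans (Finset.card_le_card ?_) (c8b_pairs E hE9')
    intro p hp
    obtain ⟨n, _, rfl⟩ := Finset.mem_image.mp hp
    rw [Finset.mem_filter]
    refine ⟨Finset.mem_univ _, ?_, ?_⟩
    · intro h1
      apply hu1
      have h2 : (n : G) * u * (n : G)⁻¹ = 1 := by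
        rw [← (hφ n).1, h1]; rfl
      calc u = (n : G)⁻¹ * ((n : G) * u * (n : G)⁻¹) * (n : G) := by group
        _ = 1 := by rw [h2]; group
    · intro h1
      obtain ⟨k, hk⟩ := Subgroup.mem_zpowers_iff.mp h1
      apply ha.nmem
      rw [Subgroup.mem_zpowers_iff]
      refine ⟨k, ?_⟩
      have h2 : ((n : G) * u * (n : G)⁻¹) ^ k = (n : G) * a' * (n : G)⁻¹ := by
        rw [← (hφ n).1, ← (hφ n).2, ← hk]
        simp
      have h3 : ((n : G) * u * (n : G)⁻¹) ^ k = (n : G) * u ^ k * (n : G)⁻¹ := by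
        rw [conj_zpow]
      rw [h3] at h2
      calc u ^ k = (n : G)⁻¹ * ((n : G) * u ^ k * (n : G)⁻¹) * (n : G) := by group
        _ = (n : G)⁻¹ * ((n : G) * a' * (n : G)⁻¹) * (n : G) := by rw [h2]
        _ = a' := by group
  have hfin := Finset.card_le_mul_card_image (Finset.univ : Finset NE) 9 hfib
  rw [Nat.card_eq_fintype_card, ← Finset.card_univ]
  calc (Finset.univ : Finset NE).card ≤ 9 * ((Finset.univ : Finset NE).image φ).card := hfin
    _ ≤ 9 * 48 := Nat.mul_le_mul_left 9 himg
    _ = 432 := by norm_num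

end C

end Cfsg.Agent.Helper26.L33
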