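import Mathlib
import Cfsg.Agent.Lib.Helper26.L33Defs
import Cfsg.Agent.Lib.Helper15.L33_C8A

/-!
# S2916 piece C9 (helper15 for helper26): `|N(E_a) ∩ N(E_b)| = 108`.
-/

set_option autoImplicit false
set_option linter.unusedSectionVars false
set_option linter.unusedVariables false

namespace Cfsg.Agent.Helper26.L33

open Cfsg

universe u v

section Aux

variable {G : Type u} [Group G]

/-- elements of `⟨u, a⟩` for commuting `u`, `a` -/
theorem c9_mem_closure {u a : G} (hc : Commute u a) {x : G}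
    (hx : x ∈ Subgroup.closure ({u, a} : Set G)) : ∃ i j : ℤ, x = u ^ i * a ^ j := by
  induction hx using Subgroup.closure_induction with
  | mem y hy =>
    rcases hy with rfl | rfl
    · exact ⟨1, 0, by simp⟩
    · exact ⟨0, 1, by simp⟩
  | one => exact ⟨0, 0, by simp⟩
  | mul y z _ _ hy hz =>
    obtain ⟨i, j, rfl⟩ := hy
    obtain ⟨i', j', rfl⟩ := hz
    refine ⟨i + i', j + j', ?_⟩
    have h1 : Commute (a ^ j) (u ^ i') := (hc.symm.zpow_zpow j i')
    calc u ^ i * a ^ j * (u ^ i' * a ^ j') = u ^ i * (a ^ j * u ^ i') * a ^ j' := by group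
      _ = u ^ i * (u ^ i' * a ^ j) * a ^ j' := by rw [h1.eq]
      _ = u ^ (i + i') * a ^ (j + j') := by rw [zpow_add, zpow_add]; group
  | inv y _ hy =>
    obtain ⟨i, j, rfl⟩ := hy
    refine ⟨-i, -j, ?_⟩
    have h1 : Commute (a ^ (-j)) (u ^ (-i)) := (hc.symm.zpow_zpow (-j) (-i))
    calc (u ^ i * a ^ j)⁻¹ = a ^ (-j) * u ^ (-i) := by rw [mul_inv_rev, zpow_neg, zpow_neg]
      _ = u ^ (-i) * a ^ (-j) := h1.eq

/-- conjugation preserves `⟨u, a⟩` if it does so on the generators -/
theorem c9_conj_closure {g u a : G} (hu : g * u * g⁻¹ ∈ Subgroup.closure ({u, a} : Set G))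
    (ha : g * a * g⁻¹ ∈ Subgroup.closure ({u, a} : Set G)) :
    ∀ x ∈ Subgroup.closure ({u, a} : Set G), g * x * g⁻¹ ∈ Subgroup.closure ({u, a} : Set G) := by
  intro x hx
  induction hx using Subgroup.closure_induction with
  | mem y hy =>
    rcases hy with rfl | rfl
    · exact hu
    · exact ha
  | one => simp
  | mul y z _ _ hy hz =>
    have : g * (y * z) * g⁻¹ = (g * y * g⁻¹) * (g * z * g⁻¹) := by group
    rw [this]; exact Subgroup.mul_mem _ hy hz
  | inv y _ hy =>
    have : g * y⁻¹ * g⁻¹ = (g * y * g⁻¹)⁻¹ := by group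
    rw [this]; exact Subgroup.inv_mem _ hy

/-- an involution preserving a subgroup normalizes it -/
theorem c9_mem_normalizer_of_invol {g : G} (hg : g * g = 1) (E : Subgroup G)
    (h : ∀ x ∈ E, g * x * g⁻¹ ∈ E) : g ∈ Subgroup.normalizer (E : Set G) := by
  rw [Subgroup.mem_normalizer_iff]
  intro x
  refine ⟨h x, fun hx => ?_⟩
  have hginv : g⁻¹ = g := inv_eq_of_mul_eq_one_left hg
  have h1 := h _ hx
  have e : g * (g * x * g⁻¹) * g⁻¹ = x := by
    rw [hginv]
    calc g * (g * x * g) * g = (g * g) * x * (g * g) := by group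
      _ = x := by rw [hg, one_mul, mul_one]
  rwa [e] at h1

/-- elements of `⟨x⟩` for an involution `x` -/
theorem c9_zpowers_invol {x y : G} (hx : x * x = 1) (hy : y ∈ Subgroup.zpowers x) : y = 1 ∨ y = x := by
  obtain ⟨k, rfl⟩ := Subgroup.mem_zpowers_iff.mp hy
  have h2 : x ^ (2 : ℤ) = 1 := by
    rw [zpow_two]; exact hx
  have hk : k = 2 * (k / 2) + k % 2 := (Int.mul_ediv_add_emod k 2).symm
  rw [hk, zpow_add, zpow_mul, h2, one_zpow, one_mul]
  rcases Int.emod_two_eq_zero_or_one k with h | h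
  · left; rw [h, zpow_zero]
  · right; rw [h, zpow_one]

end Aux

section C

variable {G : Type u} [Group G] [Finite G] [IsSimpleGroup G]

/-- a subgroup of order 9 of a group of order 27 is normal in it -/
theorem c9_normal_in_P {P E : Subgroup G} (hP : Nat.card P = 27) (hE : Nat.card E = 9) (hEP : E ≤ P) :
    ∀ p ∈ P, ∀ x ∈ E, p * x * p⁻¹ ∈ E := by
  have h0 : Nat.card (E.subgroupOf P) = 9 := by
    rw [← hE]; exact Nat.card_congr (Subgroup.subgroupOfEquivOfLe hEP).toEquiv
  have hidx : (E.subgroupOf P).index = 3 := by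
    have h1 := Subgroup.card_mul_index (E.subgroupOf P)
    rw [h0, hP] at h1
    omega
  have hmin : (Nat.card P).minFac = 3 := by
    rw [hP]; norm_num
  have hnorm : (E.subgroupOf P).Normal :=
    Subgroup.normal_of_index_eq_minFac_card (by rw [hidx, hmin])
  intro p hp x hx
  have h1 : (⟨x, hEP hx⟩ : P) ∈ E.subgroupOf P := Subgroup.mem_subgroupOf.mpr hx
  have h2 := hnorm.conj_mem _ h1 ⟨p, hp⟩
  exact Subgroup.mem_subgroupOf.mp h2

/-! ### PIECE C9 -/
theorem card_inter {t u s : G} {P : Subgroup G} {a b : G} (h : Cfg3 G t u s P a b)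
    (hz : ∀ z ∈ P, (∀ x ∈ P, z * x = x * z) → z ∈ Subgroup.zpowers u) :
    Nat.card ↥(Subgroup.normalizer ((Subgroup.closure ({u, a} : Set G) : Subgroup G) : Set G) ⊓
      Subgroup.normalizer ((Subgroup.closure ({u, b} : Set G) : Subgroup G) : Set G)) = 108 := by
  classical
  have ga : Good G t u s P a := ⟨h.aP, h.au, h.oa, h.ta, Or.inl h.sa⟩
  have gb : Good G t u s P b := ⟨h.bP, h.bu, h.ob, h.tb, Or.inr h.sb⟩
  obtain ⟨hEa9, -⟩ := cent_E h.toCfg2 hz a ga
  obtain ⟨hEb9, -⟩ := cent_E h.toCfg2 hz b gb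
  obtain ⟨Ea, hEa⟩ : ∃ E : Subgroup G, E = Subgroup.closure ({u, a} : Set G) := ⟨_, rfl⟩
  obtain ⟨Eb, hEb⟩ : ∃ E : Subgroup G, E = Subgroup.closure ({u, b} : Set G) := ⟨_, rfl⟩
  rw [← hEa] at hEa9 ⊢
  rw [← hEb] at hEb9 ⊢
  have hP27 : Nat.card P = 27 := h.cardP
  have hPle : P ≤ Subgroup.centralizer ({u} : Set G) := h.K_le
  have huP : u ∈ P := h.uK
  have hcommP : ∀ x ∈ P, x * u = u * x := fun x hx =>
    (Subgroup.mem_centralizer_singleton_iff (g := u) (k := x)).mp (hPle hx)
  have htt : t * t = 1 := by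
    have := pow_orderOf_eq_one t
    rwa [h.ot, pow_two] at this
  have hss : s * s = 1 := by
    have := pow_orderOf_eq_one s
    rwa [h.os, pow_two] at this
  have hu3 : u ^ 3 = 1 := by rw [← h.ou]; exact pow_orderOf_eq_one u
  have hu1 : u ≠ 1 := by
    intro h1
    have := h.ou
    rw [h1, orderOf_one] at this
    norm_num at this
  have huEa : u ∈ Ea := by rw [hEa]; exact Subgroup.subset_closure (by simp)
  have haEa : a ∈ Ea := by rw [hEa]; exact Subgroup.subset_closure (by simp)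
  have huEb : u ∈ Eb := by rw [hEb]; exact Subgroup.subset_closure (by simp)
  have hbEb : b ∈ Eb := by rw [hEb]; exact Subgroup.subset_closure (by simp)
  have hEaP : Ea ≤ P := by
    rw [hEa, Subgroup.closure_le]
    intro y hy
    rcases hy with rfl | rfl
    · exact huP
    · exact h.aP
  have hEbP : Eb ≤ P := by
    rw [hEb, Subgroup.closure_le]
    intro y hy
    rcases hy with rfl | rfl
    · exact huP
    · exact h.bP
  -- `b ∉ Ea`
  have hbEa : b ∉ Ea := by
    intro hb
    rw [hEa] at hb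
    have hcua : Commute u a := (hcommP a h.aP).symm
    obtain ⟨i, j, hij⟩ := c9_mem_closure hcua hb
    have e1 : s * b * s⁻¹ = u ^ (-i) * a ^ j := by
      rw [hij]
      calc s * (u ^ i * a ^ j) * s⁻¹ = (s * u * s⁻¹) ^ i * (s * a * s⁻¹) ^ j := by
            rw [conj_zpow, conj_zpow]; group
        _ = u ^ (-i) * a ^ j := by rw [h.su, h.sa, inv_zpow, zpow_neg]
    have e2 : b⁻¹ = u ^ (-i) * a ^ (-j) := by
      rw [hij]
      have h1 : Commute (a ^ (-j)) (u ^ (-i)) := (hcua.symm.zpow_zpow (-j) (-i))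
      calc (u ^ i * a ^ j)⁻¹ = a ^ (-j) * u ^ (-i) := by rw [mul_inv_rev, zpow_neg, zpow_neg]
        _ = u ^ (-i) * a ^ (-j) := h1.eq
    have e3 : a ^ j = a ^ (-j) := by
      have := h.sb
      rw [e1, e2] at this
      exact mul_left_cancel this
    have e4 : a ^ (2 * j) = 1 := by
      have : a ^ (2 * j) = a ^ j * a ^ j := by rw [two_mul, zpow_add]
      rw [this]
      nth_rewrite 2 [e3]
      rw [← zpow_add, add_neg_cancel, zpow_zero]
    have e5 : (3 : ℤ) ∣ 2 * j := by
      have := orderOf_dvd_iff_zpow_eq_one.mpr e4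
      rwa [h.oa] at this
    have e6 : (3 : ℤ) ∣ j := by
      have hcop : IsCoprime (3 : ℤ) 2 := by norm_num
      exact hcop.dvd_of_dvd_mul_left e5
    have e7 : a ^ j = 1 := by
      apply orderOf_dvd_iff_zpow_eq_one.mp
      rw [h.oa]; exact_mod_cast e6
    apply h.bu
    rw [hij, e7, mul_one]
    exact Subgroup.zpow_mem_zpowers u i
  -- `Ea ⊔ Eb = P`
  have hsup : Ea ⊔ Eb = P := by
    have hle : Ea ⊔ Eb ≤ P := sup_le hEaP hEbP
    have h1 : Nat.card ↥(Ea ⊔ Eb) ∣ 27 := by rw [← hP27]; exact Subgroup.card_dvd_of_le hle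
    have h2 : 9 ∣ Nat.card ↥(Ea ⊔ Eb) := by rw [← hEa9]; exact Subgroup.card_dvd_of_le le_sup_left
    have h3 : Nat.card ↥(Ea ⊔ Eb) ≠ 9 := by
      intro h9
      have : Ea = Ea ⊔ Eb := Subgroup.eq_of_le_of_card_ge le_sup_left (by rw [h9, hEa9])
      apply hbEa
      rw [this]
      exact Subgroup.mem_sup_right hbEb
    have h4 : Nat.card ↥(Ea ⊔ Eb) ≤ 27 := Nat.le_of_dvd (by norm_num) h1
    have h5 : Nat.card ↥(Ea ⊔ Eb) = 27 := by
      obtain ⟨k, hk⟩ := h2
      have hk3 : k ≤ 3 := by omega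
      interval_cases k
      · rw [hk] at h1; norm_num at h1
      · omega
      · rw [hk] at h1; norm_num at h1
      · omega
    exact Subgroup.eq_of_le_of_card_ge hle (by rw [h5, hP27])
  obtain ⟨X, hX⟩ : ∃ X : Subgroup G, X = Subgroup.normalizer (Ea : Set G) ⊓
      Subgroup.normalizer (Eb : Set G) := ⟨_, rfl⟩
  rw [← hX]
  -- `X` normalizes `P`
  have hXP : ∀ n ∈ X, ∀ x ∈ P, n * x * n⁻¹ ∈ P := by
    intro n hn x hx
    rw [hX] at hn
    rw [← hsup] at hx
    rw [Subgroup.sup_eq_closure] at hx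
    induction hx using Subgroup.closure_induction with
    | mem y hy =>
      rcases hy with hy | hy
      · exact hEaP ((Subgroup.mem_normalizer_iff.mp hn.1 y).mp hy)
      · exact hEbP ((Subgroup.mem_normalizer_iff.mp hn.2 y).mp hy)
    | one => simp
    | mul y z _ _ hy hz =>
      have : n * (y * z) * n⁻¹ = (n * y * n⁻¹) * (n * z * n⁻¹) := by group
      rw [this]; exact P.mul_mem hy hz
    | inv y _ hy =>
      have : n * y⁻¹ * n⁻¹ = (n * y * n⁻¹)⁻¹ := by group
      rw [this]; exact P.inv_mem hy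
  -- `X` normalizes `⟨u⟩`
  have hXu : ∀ n ∈ X, n * u * n⁻¹ ∈ Subgroup.zpowers u := by
    intro n hn
    apply hz _ (hXP n hn u huP)
    intro y hy
    have hy' : n⁻¹ * y * n ∈ P := by
      have := hXP n⁻¹ (X.inv_mem hn) y hy
      rwa [inv_inv] at this
    have hc := hcommP _ hy'
    calc n * u * n⁻¹ * y = n * (u * (n⁻¹ * y * n)) * n⁻¹ := by group
      _ = n * ((n⁻¹ * y * n) * u) * n⁻¹ := by rw [hc]
      _ = y * (n * u * n⁻¹) := by group
  -- upper bound
  let _ : Fintype X := Fintype.ofFinite _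
  let _ : Fintype (Subgroup.zpowers u) := Fintype.ofFinite _
  let _ : Fintype (Subgroup.centralizer ({u} : Set G)) := Fintype.ofFinite _
  have hcu3 : Fintype.card (Subgroup.zpowers u) = 3 := by
    rw [← Nat.card_eq_fintype_card, Nat.card_zpowers, h.ou]
  have hcC : Fintype.card (Subgroup.centralizer ({u} : Set G)) = 54 := by
    rw [← Nat.card_eq_fintype_card, h.cardCentU, hP27]
  obtain ⟨φ, hφ⟩ : ∃ φ : X → Subgroup.zpowers u, ∀ n : X, ((φ n : Subgroup.zpowers u) : G)
      = (n : G) * u * (n : G)⁻¹ :=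
    ⟨fun n => ⟨(n : G) * u * (n : G)⁻¹, hXu n n.2⟩, fun n => rfl⟩
  have hfib : ∀ p ∈ (Finset.univ : Finset X).image φ,
      ((Finset.univ : Finset X).filter (fun n => φ n = p)).card ≤ 54 := by
    intro p hp
    obtain ⟨n₀, _, rfl⟩ := Finset.mem_image.mp hp
    have hmem : ∀ n : X, φ n = φ n₀ → (n₀ : G)⁻¹ * (n : G) ∈ Subgroup.centralizer ({u} : Set G) := by
      intro n hn
      have e1 : (n : G) * u * (n : G)⁻¹ = (n₀ : G) * u * (n₀ : G)⁻¹ := by
        rw [← hφ n, ← hφ n₀, hn]
      rw [Subgroup.mem_centralizer_singleton_iff]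
      calc (n₀ : G)⁻¹ * (n : G) * u = (n₀ : G)⁻¹ * ((n : G) * u * (n : G)⁻¹) * (n : G) := by group
        _ = (n₀ : G)⁻¹ * ((n₀ : G) * u * (n₀ : G)⁻¹) * (n : G) := by rw [e1]
        _ = u * ((n₀ : G)⁻¹ * (n : G)) := by group
    have hle : ((Finset.univ : Finset X).filter (fun n => φ n = φ n₀)).card
        ≤ (Finset.univ : Finset (Subgroup.centralizer ({u} : Set G))).card := by
      apply Finset.card_le_card_of_injOn
        (fun n : X => if hn : (n₀ : G)⁻¹ * (n : G) ∈ Subgroup.centralizer ({u} : Set G)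
          then (⟨(n₀ : G)⁻¹ * (n : G), hn⟩ : Subgroup.centralizer ({u} : Set G)) else 1)
      · intro n _
        exact Finset.mem_univ _
      · intro n hn n' hn' heq
        have hn1 := hmem n (Finset.mem_filter.mp hn).2
        have hn2 := hmem n' (Finset.mem_filter.mp hn').2
        simp only [dif_pos hn1, dif_pos hn2] at heq
        have : (n₀ : G)⁻¹ * (n : G) = (n₀ : G)⁻¹ * (n' : G) := congrArg Subtype.val heq
        exact Subtype.ext (mul_left_cancel this)
    rw [Finset.card_univ, hcC] at hle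
    exact hle
  have himg : ((Finset.univ : Finset X).image φ).card ≤ 2 := by
    have hsub : (Finset.univ : Finset X).image φ ⊆ (Finset.univ : Finset (Subgroup.zpowers u)).erase 1 := by
      intro p hp
      obtain ⟨n, _, rfl⟩ := Finset.mem_image.mp hp
      rw [Finset.mem_erase]
      refine ⟨?_, Finset.mem_univ _⟩
      intro h1
      apply hu1
      have h2 : (n : G) * u * (n : G)⁻¹ = 1 := by
        rw [← hφ n, h1]; rfl
      calc u = (n : G)⁻¹ * ((n : G) * u * (n : G)⁻¹) * (n : G) := by group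
        _ = 1 := by rw [h2]; group
    have := Finset.card_le_card hsub
    rw [Finset.card_erase_of_mem (Finset.mem_univ _), Finset.card_univ, hcu3] at this
    exact this
  have hupper : Nat.card X ≤ 108 := by
    have hfin := Finset.card_le_mul_card_image (Finset.univ : Finset X) 54 hfib
    rw [Nat.card_eq_fintype_card, ← Finset.card_univ]
    calc (Finset.univ : Finset X).card ≤ 54 * ((Finset.univ : Finset X).image φ).card := hfin
      _ ≤ 54 * 2 := Nat.mul_le_mul_left 54 himg
      _ = 108 := by norm_num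
  -- `P ≤ X`
  have hPX : P ≤ X := by
    intro p hp
    rw [hX]
    have hna := c9_normal_in_P hP27 hEa9 hEaP
    have hnb := c9_normal_in_P hP27 hEb9 hEbP
    refine Subgroup.mem_inf.mpr ⟨?_, ?_⟩
    · rw [Subgroup.mem_normalizer_iff]
      intro x
      refine ⟨hna p hp x, fun hx => ?_⟩
      have := hna p⁻¹ (P.inv_mem hp) _ hx
      have e : p⁻¹ * (p * x * p⁻¹) * p⁻¹⁻¹ = x := by group
      rwa [e] at this
    · rw [Subgroup.mem_normalizer_iff]
      intro x
      refine ⟨hnb p hp x, fun hx => ?_⟩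
      have := hnb p⁻¹ (P.inv_mem hp) _ hx
      have e : p⁻¹ * (p * x * p⁻¹) * p⁻¹⁻¹ = x := by group
      rwa [e] at this
  -- `t, s ∈ X`
  have htX : t ∈ X := by
    rw [hX]
    constructor
    · apply c9_mem_normalizer_of_invol htt
      rw [hEa]
      apply c9_conj_closure
      · have : t * u * t⁻¹ = u := by rw [h.tu]; group
        rw [this, ← hEa]; exact huEa
      · rw [h.ta, ← hEa]; exact Ea.inv_mem haEa
    · apply c9_mem_normalizer_of_invol htt
      rw [hEb]
      apply c9_conj_closure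
      · have : t * u * t⁻¹ = u := by rw [h.tu]; group
        rw [this, ← hEb]; exact huEb
      · rw [h.tb, ← hEb]; exact Eb.inv_mem hbEb
  have hsX : s ∈ X := by
    rw [hX]
    constructor
    · apply c9_mem_normalizer_of_invol hss
      rw [hEa]
      apply c9_conj_closure
      · rw [h.su, ← hEa]; exact Ea.inv_mem huEa
      · rw [h.sa, ← hEa]; exact haEa
    · apply c9_mem_normalizer_of_invol hss
      rw [hEb]
      apply c9_conj_closure
      · rw [h.su, ← hEb]; exact Eb.inv_mem huEb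
      · rw [h.sb, ← hEb]; exact Eb.inv_mem hbEb
  -- a four-group inside `X`
  have hts : t ≠ s := by
    intro hts
    have h1 : t * u * t⁻¹ = u := by rw [h.tu]; group
    have h2 := h.su
    rw [← hts, h1] at h2
    -- `u = u⁻¹`
    have h3 : u * u = 1 := by
      calc u * u = u * u⁻¹ := by rw [← h2]
        _ = 1 := mul_inv_cancel u
    apply hu1
    calc u = u ^ 3 * (u * u)⁻¹ := by group
      _ = 1 := by rw [hu3, h3]; group
  have hinf : Subgroup.zpowers t ⊓ Subgroup.zpowers s = ⊥ := by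
    rw [Subgroup.eq_bot_iff_forall]
    intro y hy
    rcases c9_zpowers_invol htt hy.1 with h1 | h1
    · exact h1
    · rcases c9_zpowers_invol hss hy.2 with h2 | h2
      · exact h2
      · exact absurd (h1.symm.trans h2) hts
  have hcomm : ∀ n ∈ Subgroup.zpowers t, ∀ k ∈ Subgroup.zpowers s, n * k = k * n := by
    intro n hn k hk
    obtain ⟨i, rfl⟩ := Subgroup.mem_zpowers_iff.mp hn
    obtain ⟨j, rfl⟩ := Subgroup.mem_zpowers_iff.mp hk
    have : Commute t s := h.ts
    exact (this.zpow_zpow i j).eq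
  have hV4 : Nat.card ↥(Subgroup.zpowers t ⊔ Subgroup.zpowers s) = 4 := by
    rw [c8a_card_sup hcomm hinf, Nat.card_zpowers, Nat.card_zpowers, h.ot, h.os]
  have hVX : Subgroup.zpowers t ⊔ Subgroup.zpowers s ≤ X :=
    sup_le ((Subgroup.zpowers_le).mpr htX) ((Subgroup.zpowers_le).mpr hsX)
  have hd4 : 4 ∣ Nat.card X := by rw [← hV4]; exact Subgroup.card_dvd_of_le hVX
  have hd27 : 27 ∣ Nat.card X := by rw [← hP27]; exact Subgroup.card_dvd_of_le hPX
  have hd108 : 108 ∣ Nat.card X := by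
    have hcop : Nat.Coprime 4 27 := by norm_num
    exact hcop.mul_dvd_of_dvd_of_dvd hd4 hd27
  have hpos : 0 < Nat.card X := Nat.card_pos
  exact le_antisymm hupper (Nat.le_of_dvd hpos hd108)

end C

end Cfsg.Agent.Helper26.L33
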