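import Mathlib
import Cfsg.Agent.Lib.Helper18.LevDefs

/-!
# S2522 (Lev), piece LEV-CHILDB (helper15): `finrank_A1_le`, `child_rank_of_exists`,
`child_rank_of_forall`.  Auxiliary lemmas are prefixed `childb_`.
-/

set_option autoImplicit false

namespace Cfsg.Agent.Helper18.Lev

open Module

universe u v

variable {K : Type u} [Field K] {V : Type v} [AddCommGroup V] [Module K V]

theorem childb_finrank_span_singleton_le (v : V) : finrank K (Submodule.span K {v}) ≤ 1 := by
  have := finrank_span_le_card (R := K) ({v} : Set V)
  simpa using this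

/-- dimension formula for a preimage: `dim f⁻¹(S) = dim (f (f⁻¹ S)) + dim ker f`. -/
theorem childb_finrank_comap [FiniteDimensional K V] (f : V →ₗ[K] V) (S : Submodule K V) :
    finrank K (Submodule.comap f S) =
      finrank K ((Submodule.comap f S).map f) + finrank K (LinearMap.ker f) := by
  have h := LinearMap.finrank_range_add_finrank_ker (f.domRestrict (Submodule.comap f S))
  rw [LinearMap.range_domRestrict, LinearMap.ker_domRestrict] at h
  have hle : LinearMap.ker f ≤ Submodule.comap f S := by
    intro x hx
    rw [Submodule.mem_comap, LinearMap.mem_ker.mp hx]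
    exact S.zero_mem
  rw [(Submodule.comapSubtypeEquivOfLe hle).finrank_eq] at h
  exact h.symm

/-- PIECE LEV-CHILDB (1). `A₁ = (g-1)⁻¹ (K g e)` has dimension at most `dim V - 2`. -/
theorem finrank_A1_le [FiniteDimensional K V] (g : V →ₗ[K] V) (e : V)
    (hr : 2 ≤ finrank K (LinearMap.range (g - LinearMap.id)))
    (hI : finrank K (LinearMap.range (g - LinearMap.id)) = 2 →
      e ∉ LinearMap.range (g - LinearMap.id)) :
    finrank K (Submodule.comap (g - LinearMap.id) (Submodule.span K {g e})) + 2 ≤ finrank K V := by
  set N : V →ₗ[K] V := g - LinearMap.id with hN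
  have hdim := childb_finrank_comap N (Submodule.span K {g e})
  have hrk := LinearMap.finrank_range_add_finrank_ker N
  have hmap_le : (Submodule.comap N (Submodule.span K {g e})).map N ≤ Submodule.span K {g e} :=
    Submodule.map_comap_le _ _
  have hmap_le' : (Submodule.comap N (Submodule.span K {g e})).map N ≤ LinearMap.range N :=
    LinearMap.map_le_range
  have h1 : finrank K ((Submodule.comap N (Submodule.span K {g e})).map N) ≤ 1 :=
    (Submodule.finrank_mono hmap_le).trans (childb_finrank_span_singleton_le (g e))
  rcases Nat.lt_or_ge 2 (finrank K (LinearMap.range N)) with h3 | h2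
  · omega
  · have h2' : finrank K (LinearMap.range N) = 2 := le_antisymm h2 hr
    have he : e ∉ LinearMap.range N := hI h2'
    have hge : g e ∉ LinearMap.range N := by
      rintro ⟨a, ha⟩
      apply he
      refine ⟨a - e, ?_⟩
      have : N e = g e - e := by simp [hN]
      rw [map_sub, ha, this]
      abel
    have hbot : (Submodule.comap N (Submodule.span K {g e})).map N = ⊥ := by
      rw [eq_bot_iff]
      intro x hx
      have hx1 := hmap_le hx
      have hx2 := hmap_le' hx
      rw [Submodule.mem_span_singleton] at hx1
      obtain ⟨c, rfl⟩ := hx1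
      rw [Submodule.mem_bot]
      by_cases hc : c = 0
      · simp [hc]
      · exfalso
        apply hge
        have := (LinearMap.range N).smul_mem c⁻¹ hx2
        rwa [smul_smul, inv_mul_cancel₀ hc, one_smul] at this
    rw [hbot, finrank_bot] at hdim
    omega

/-- the kernel of `child - 1` embeds in `A₁ ⊓ ker φ`. -/
theorem childb_ker_le [FiniteDimensional K V] (g : V →ₗ[K] V) (e : V) (φ : V →ₗ[K] K)
    (hge : φ (g e) = 1) :
    finrank K (LinearMap.ker (child g e φ - LinearMap.id)) ≤
      finrank K ↥(Submodule.comap (g - LinearMap.id) (Submodule.span K {g e}) ⊓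
        LinearMap.ker φ) := by
  rw [← Submodule.finrank_map_subtype_eq (LinearMap.ker φ)
    (LinearMap.ker (child g e φ - LinearMap.id))]
  apply Submodule.finrank_mono
  rintro x ⟨w, hw, rfl⟩
  have hw' : child g e φ w = w := by
    have := LinearMap.mem_ker.mp hw
    rw [LinearMap.sub_apply, LinearMap.id_apply, sub_eq_zero] at this
    exact this
  have hco := child_coe' g e φ hge w
  rw [hw'] at hco
  refine ⟨show (w : V) ∈ Submodule.comap (g - LinearMap.id) (Submodule.span K {g e}) from ?_, w.2⟩
  rw [Submodule.mem_comap, Submodule.mem_span_singleton]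
  refine ⟨φ (g (w : V)), ?_⟩
  simp only [LinearMap.sub_apply, LinearMap.id_apply]
  rw [eq_sub_iff_add_eq] at hco
  exact (sub_eq_of_eq_add' hco.symm).symm

theorem childb_finrank_ker [FiniteDimensional K V] (e : V) (φ : V →ₗ[K] K) (he : φ e = 1) :
    finrank K (LinearMap.ker φ) + 1 = finrank K V := by
  have hφ : φ ≠ 0 := by
    intro h
    rw [h] at he
    simp at he
  exact Module.Dual.finrank_ker_add_one_of_ne_zero (f := φ) hφ

/-- PIECE LEV-CHILDB (2). -/
theorem child_rank_of_exists [FiniteDimensional K V] (g : V →ₗ[K] V) (e : V) (φ : V →ₗ[K] K)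
    (he : φ e = 1) (hge : φ (g e) = 1)
    (hA : finrank K (Submodule.comap (g - LinearMap.id) (Submodule.span K {g e})) + 2 ≤ finrank K V)
    (a : V) (ha : g a - a ∈ Submodule.span K {g e}) (hφa : φ a ≠ 0) :
    2 ≤ finrank K (LinearMap.range (child g e φ - LinearMap.id)) := by
  have hker := childb_ker_le g e φ hge
  have hW := childb_finrank_ker e φ he
  have hrk := LinearMap.finrank_range_add_finrank_ker (child g e φ - LinearMap.id)
  have hlt : finrank K ↥(Submodule.comap (g - LinearMap.id) (Submodule.span K {g e}) ⊓
        LinearMap.ker φ) <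
      finrank K (Submodule.comap (g - LinearMap.id) (Submodule.span K {g e})) := by
    apply Submodule.finrank_lt_finrank_of_lt
    refine lt_of_le_of_ne inf_le_left ?_
    intro h
    have hmem : a ∈ Submodule.comap (g - LinearMap.id) (Submodule.span K {g e}) := by
      rw [Submodule.mem_comap]
      simpa using ha
    rw [← h] at hmem
    exact hφa (LinearMap.mem_ker.mp hmem.2)
  omega

/-- PIECE LEV-CHILDB (3). -/
theorem child_rank_of_forall [FiniteDimensional K V] (h4 : 4 ≤ finrank K V) (g : V →ₗ[K] V) (e : V)
    (φ : V →ₗ[K] K) (he : φ e = 1) (hge : φ (g e) = 1)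
    (hall : ∀ a : V, g a - a ∈ Submodule.span K {g e} →
      a ∈ Submodule.span K {g e - e}) :
    2 ≤ finrank K (LinearMap.range (child g e φ - LinearMap.id)) := by
  have hker := childb_ker_le g e φ hge
  have hW := childb_finrank_ker e φ he
  have hrk := LinearMap.finrank_range_add_finrank_ker (child g e φ - LinearMap.id)
  have hle : Submodule.comap (g - LinearMap.id) (Submodule.span K {g e}) ⊓ LinearMap.ker φ ≤
      Submodule.span K {g e - e} := by
    intro x hx
    apply hall
    have : x ∈ Submodule.comap (g - LinearMap.id) (Submodule.span K {g e}) := hx.1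
    rw [Submodule.mem_comap] at this
    simpa using this
  have h1 : finrank K ↥(Submodule.comap (g - LinearMap.id) (Submodule.span K {g e}) ⊓
        LinearMap.ker φ) ≤ 1 :=
    (Submodule.finrank_mono hle).trans (childb_finrank_span_singleton_le (g e - e))
  omega

end Cfsg.Agent.Helper18.Lev
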