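import Mathlib
import Cfsg.Agent.Lib.Helper18.LevDefs
import Cfsg.Agent.Lib.Helper15.LEVCHILDB

/-!
# S2522 (Lev), piece LEV-BAD3 (helper15): `child_bad_unique3`.
Coordinate proof in a basis `(e, u, f)`, `u = g e - e`.  Auxiliary lemmas are prefixed `bad3_`.
-/

set_option autoImplicit false

namespace Cfsg.Agent.Helper18.Lev

open Module

universe u v

variable {K : Type u} [Field K] {V : Type v} [AddCommGroup V] [Module K V]

/-- coefficients of a vanishing combination of three independent vectors vanish -/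
theorem bad3_coef {e u f : V} (hli : LinearIndependent K ![e, u, f]) {x1 x2 x3 : K}
    (h : x1 • e + x2 • u + x3 • f = 0) : x1 = 0 ∧ x2 = 0 ∧ x3 = 0 := by
  have := Fintype.linearIndependent_iff.mp hli ![x1, x2, x3]
    (by simpa [Fin.sum_univ_three, add_assoc] using h)
  exact ⟨this 0, this 1, this 2⟩

/-- the coordinate data -/
theorem bad3_setup [FiniteDimensional K V] (h3 : finrank K V = 3) (g : V →ₗ[K] V) (e u : V)
    (hgeu : g e = e + u) (hind : LinearIndependent K ![e, u]) :
    ∃ (f : V) (p q r a b d : K), LinearIndependent K ![e, u, f] ∧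
      g u = p • e + q • u + r • f ∧ g f = a • e + b • u + d • f ∧
      LinearMap.det g = d * (q - p) + r * (a - b) ∧
      (∀ v : V, ∃ x1 x2 x3 : K, v = x1 • e + x2 • u + x3 • f) := by
  obtain ⟨f, hf⟩ := exists_linearIndependent_snoc_of_lt_finrank hind (by omega)
  have hfam : (Fin.snoc ![e, u] f : Fin 3 → V) = ![e, u, f] := by
    funext i
    fin_cases i <;> simp [Fin.snoc]
  rw [hfam] at hf
  let bs : Basis (Fin 3) K V := basisOfLinearIndependentOfCardEqFinrank hf (by simp [h3])
  have hbs : ⇑bs = ![e, u, f] := coe_basisOfLinearIndependentOfCardEqFinrank hf _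
  have hb0 : bs 0 = e := by rw [hbs]; rfl
  have hb1 : bs 1 = u := by rw [hbs]; rfl
  have hb2 : bs 2 = f := by rw [hbs]; rfl
  have hexp : ∀ v : V, v = bs.repr v 0 • e + bs.repr v 1 • u + bs.repr v 2 • f := by
    intro v
    conv_lhs => rw [← bs.sum_repr v]
    rw [Fin.sum_univ_three, hb0, hb1, hb2]
  refine ⟨f, bs.repr (g u) 0, bs.repr (g u) 1, bs.repr (g u) 2, bs.repr (g f) 0,
    bs.repr (g f) 1, bs.repr (g f) 2, hf, hexp (g u), hexp (g f), ?_,
    fun v => ⟨_, _, _, hexp v⟩⟩
  rw [← LinearMap.det_toMatrix bs g, Matrix.det_fin_three]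
  simp only [LinearMap.toMatrix_apply, hb0, hb1, hb2]
  have hre : bs.repr (g e) = Finsupp.single 0 1 + Finsupp.single 1 1 := by
    rw [hgeu, map_add, ← hb0, ← hb1, bs.repr_self, bs.repr_self]
  rw [hre]
  simp
  ring

/-- the scalar case in coordinates -/
theorem bad3_scalar {g : V →ₗ[K] V} {e u f : V} {φ : V →ₗ[K] K} {p q r a b d c : K}
    (hli : LinearIndependent K ![e, u, f]) (hgeu : g e = e + u)
    (hgu : g u = p • e + q • u + r • f) (hgf : g f = a • e + b • u + d • f)
    (he : φ e = 1) (hge : φ (g e) = 1) (hc : child g e φ = c • LinearMap.id) :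
    r = 0 ∧ d = q - p ∧ b - a + (-φ f) * d = 0 := by
  have hφu : φ u = 0 := by
    have := hge
    rw [hgeu, map_add, he] at this
    linear_combination this
  have hφgu : φ (g u) = p + r * φ f := by
    rw [hgu]; simp [he, hφu]
  have hφgf : φ (g f) = a + d * φ f := by
    rw [hgf]; simp [he, hφu]
  -- apply to u
  have hu_mem : u ∈ LinearMap.ker φ := LinearMap.mem_ker.mpr hφu
  have h1 := congrArg (fun T : ↥(LinearMap.ker φ) →ₗ[K] ↥(LinearMap.ker φ) =>
    ((T ⟨u, hu_mem⟩ : ↥(LinearMap.ker φ)) : V)) hc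
  simp only [child_coe' g e φ hge, LinearMap.smul_apply, LinearMap.id_apply,
    Submodule.coe_smul] at h1
  rw [hφgu, hgu, hgeu] at h1
  have k1 : (-(r * φ f)) • e + (q - p - r * φ f - c) • u + r • f = 0 := by
    linear_combination (norm := module) h1
  obtain ⟨k1a, k1b, k1c⟩ := bad3_coef hli k1
  -- apply to f - φ f • e
  have hw_mem : f - φ f • e ∈ LinearMap.ker φ := by
    rw [LinearMap.mem_ker, map_sub, map_smul, he]; simp
  have h2 := congrArg (fun T : ↥(LinearMap.ker φ) →ₗ[K] ↥(LinearMap.ker φ) =>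
    ((T ⟨f - φ f • e, hw_mem⟩ : ↥(LinearMap.ker φ)) : V)) hc
  simp only [child_coe' g e φ hge, LinearMap.smul_apply, LinearMap.id_apply,
    Submodule.coe_smul] at h2
  rw [map_sub, map_smul, map_sub, map_smul, hge, hφgf, hgf, hgeu] at h2
  have k2 : (-(d * φ f) + c * φ f) • e + (b - a - d * φ f) • u + (d - c) • f = 0 := by
    linear_combination (norm := module) h2
  obtain ⟨k2a, k2b, k2c⟩ := bad3_coef hli k2
  refine ⟨k1c, ?_, ?_⟩
  · rw [k1c] at k1b
    linear_combination k2c - k1b
  · linear_combination k2b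

/-- the singular case in coordinates -/
theorem bad3_sing [FiniteDimensional K V] (h3 : finrank K V = 3) {g : V →ₗ[K] V} {e u f : V}
    {φ : V →ₗ[K] K} {p q r a b d : K}
    (hli : LinearIndependent K ![e, u, f])
    (hspan : ∀ v : V, ∃ x1 x2 x3 : K, v = x1 • e + x2 • u + x3 • f)
    (hgeu : g e = e + u)
    (hgu : g u = p • e + q • u + r • f) (hgf : g f = a • e + b • u + d • f)
    (he : φ e = 1) (hge : φ (g e) = 1)
    (hrk : finrank K (LinearMap.range (child g e φ - LinearMap.id)) < 2) :
    (q - p + (-φ f) * r - 1) * (d - 1) - r * (b - a + (-φ f) * d) = 0 := by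
  have hφu : φ u = 0 := by
    have := hge
    rw [hgeu, map_add, he] at this
    linear_combination this
  have hφgu : φ (g u) = p + r * φ f := by
    rw [hgu]; simp [he, hφu]
  have hφgf : φ (g f) = a + d * φ f := by
    rw [hgf]; simp [he, hφu]
  have hW := childb_finrank_ker e φ he
  have hrn := LinearMap.finrank_range_add_finrank_ker (child g e φ - LinearMap.id)
  have hpos : 0 < finrank K (LinearMap.ker (child g e φ - LinearMap.id)) := by omega
  obtain ⟨w, hw0⟩ := Module.finrank_pos_iff_exists_ne_zero.mp hpos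
  have hwk : (child g e φ - (LinearMap.id : ↥(LinearMap.ker φ) →ₗ[K] ↥(LinearMap.ker φ)))
      (w : ↥(LinearMap.ker φ)) = 0 := LinearMap.mem_ker.mp w.2
  have hcw : child g e φ (w : ↥(LinearMap.ker φ)) = w := by
    rw [LinearMap.sub_apply, LinearMap.id_apply, sub_eq_zero] at hwk
    exact hwk
  have hcw' := congrArg (fun x : ↥(LinearMap.ker φ) => (x : V)) hcw
  simp only [child_coe' g e φ hge] at hcw'
  obtain ⟨x1, x2, x3, hx⟩ := hspan ((w : ↥(LinearMap.ker φ)) : V)
  have hφw : φ ((w : ↥(LinearMap.ker φ)) : V) = 0 := LinearMap.mem_ker.mp (w : ↥(LinearMap.ker φ)).2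
  have hx1 : x1 + x3 * φ f = 0 := by
    rw [hx] at hφw
    simpa [he, hφu] using hφw
  have hgw : g ((w : ↥(LinearMap.ker φ)) : V) =
      x1 • (e + u) + x2 • (p • e + q • u + r • f) + x3 • (a • e + b • u + d • f) := by
    rw [hx, map_add, map_add, map_smul, map_smul, map_smul, hgeu, hgu, hgf]
  have hφgw : φ (g ((w : ↥(LinearMap.ker φ)) : V)) =
      x1 + x2 * (p + r * φ f) + x3 * (a + d * φ f) := by
    rw [hx]
    simp only [map_add, map_smul, hge, hφgu, hφgf, smul_eq_mul]
    ring
  rw [hφgw, hgw, hgeu] at hcw'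
  rw [hx] at hcw'
  have k : (x2 * p + x3 * a - (x1 + x2 * (p + r * φ f) + x3 * (a + d * φ f)) + x1 - x1) • e +
      (x1 + x2 * q + x3 * b - (x1 + x2 * (p + r * φ f) + x3 * (a + d * φ f)) - x2) • u +
      (x2 * r + x3 * d - x3) • f = 0 := by
    linear_combination (norm := module) hcw'
  obtain ⟨ka, kb, kc⟩ := bad3_coef hli k
  have hne : x2 ≠ 0 ∨ x3 ≠ 0 := by
    by_contra hcon
    obtain ⟨h2n, h3n⟩ := not_or.mp hcon
    have h2 : x2 = 0 := not_not.mp h2n
    have h3' : x3 = 0 := not_not.mp h3n
    have h1 : x1 = 0 := by rw [h3'] at hx1; simpa using hx1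
    apply hw0
    apply Subtype.ext
    apply Subtype.ext
    rw [hx, h1, h2, h3']
    simp
  have e1 : (q - p + (-φ f) * r - 1) * x2 + (b - a + (-φ f) * d) * x3 = 0 := by
    linear_combination kb
  have e2 : r * x2 + (d - 1) * x3 = 0 := by
    linear_combination kc
  rcases hne with h | h
  · have : ((q - p + (-φ f) * r - 1) * (d - 1) - r * (b - a + (-φ f) * d)) * x2 = 0 := by
      linear_combination (d - 1) * e1 - (b - a + (-φ f) * d) * e2
    exact (mul_eq_zero.mp this).resolve_right h
  · have : ((q - p + (-φ f) * r - 1) * (d - 1) - r * (b - a + (-φ f) * d)) * x3 = 0 := by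
      linear_combination (q - p + (-φ f) * r - 1) * e2 - r * e1
    exact (mul_eq_zero.mp this).resolve_right h

/-- `r = 0`, `d = 1` contradicts the rank hypotheses -/
theorem bad3_range [FiniteDimensional K V] {g : V →ₗ[K] V} {e u f : V}
    {p q a b : K} (hind : LinearIndependent K ![e, u])
    (hspan : ∀ v : V, ∃ x1 x2 x3 : K, v = x1 • e + x2 • u + x3 • f)
    (hgeu : g e = e + u)
    (hgu : g u = p • e + q • u) (hgf : g f = a • e + b • u + f)
    (hr : 2 ≤ finrank K (LinearMap.range (g - LinearMap.id)))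
    (hI : finrank K (LinearMap.range (g - LinearMap.id)) < 3 →
      e ∉ LinearMap.range (g - LinearMap.id)) : False := by
  have hP : finrank K (Submodule.span K (Set.range ![e, u])) = 2 := by
    rw [finrank_span_eq_card hind]; simp
  have heP : e ∈ Submodule.span K (Set.range ![e, u]) :=
    Submodule.subset_span ⟨0, rfl⟩
  have huP : u ∈ Submodule.span K (Set.range ![e, u]) :=
    Submodule.subset_span ⟨1, rfl⟩
  have hle : LinearMap.range (g - LinearMap.id) ≤ Submodule.span K (Set.range ![e, u]) := by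
    rintro _ ⟨v, rfl⟩
    obtain ⟨x1, x2, x3, rfl⟩ := hspan v
    have : (g - (LinearMap.id : V →ₗ[K] V)) (x1 • e + x2 • u + x3 • f) =
        (x2 * p + x3 * a) • e + (x1 + x2 * (q - 1) + x3 * b) • u := by
      simp only [LinearMap.sub_apply, LinearMap.id_apply, map_add, map_smul, hgeu, hgu, hgf]
      module
    rw [this]
    exact Submodule.add_mem _ (Submodule.smul_mem _ _ heP) (Submodule.smul_mem _ _ huP)
  have heq : LinearMap.range (g - LinearMap.id) = Submodule.span K (Set.range ![e, u]) :=
    Submodule.eq_of_le_of_finrank_le hle (by rw [hP]; exact hr)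
  have hlt : finrank K (LinearMap.range (g - LinearMap.id)) < 3 := by
    rw [heq, hP]; norm_num
  exact hI hlt (heq ▸ heP)

/-- PIECE LEV-BAD3 (alternative coordinate proof; the official name `child_bad_unique3` is
in `Lib/Helper18/LEVBAD3.lean`; this copy is renamed so both files can be imported). -/
theorem bad3_child_bad_unique3_h15 [FiniteDimensional K V] (h3 : finrank K V = 3) (g : V →ₗ[K] V)
    (hdet : LinearMap.det g = 1) (e : V)
    (hind : LinearIndependent K ![e, g e - e])
    (hr : 2 ≤ finrank K (LinearMap.range (g - LinearMap.id)))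
    (hI : finrank K (LinearMap.range (g - LinearMap.id)) < 3 →
      e ∉ LinearMap.range (g - LinearMap.id))
    (φ φ' : V →ₗ[K] K) (he : φ e = 1) (hge : φ (g e) = 1)
    (he' : φ' e = 1) (hge' : φ' (g e) = 1)
    (hbad : ¬ HH (child g e φ)) (hbad' : ¬ HH (child g e φ')) : φ = φ' := by
  have hgeu : g e = e + (g e - e) := by abel
  obtain ⟨f, p, q, r, a, b, d, hli, hgu, hgf, hdetf, hspan⟩ :=
    bad3_setup h3 g e (g e - e) hgeu hind
  rw [hdet] at hdetf
  -- the two alternatives for a bad functional
  have halt : ∀ ψ : V →ₗ[K] K, ψ e = 1 → ψ (g e) = 1 → ¬ HH (child g e ψ) →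
      (r = 0 ∧ d = q - p ∧ b - a + (-ψ f) * d = 0) ∨
      ((q - p + (-ψ f) * r - 1) * (d - 1) - r * (b - a + (-ψ f) * d) = 0) := by
    intro ψ hψe hψge hψ
    by_cases hsc : ∃ c : K, child g e ψ = c • LinearMap.id
    · obtain ⟨c, hc⟩ := hsc
      exact Or.inl (bad3_scalar hli hgeu hgu hgf hψe hψge hc)
    · right
      have hrk : finrank K (LinearMap.range (child g e ψ - LinearMap.id)) < 2 := by
        by_contra hcon
        apply hψ
        exact ⟨fun c hc => hsc ⟨c, hc⟩, not_lt.mp hcon⟩
      exact bad3_sing h3 hli hspan hgeu hgu hgf hψe hψge hrk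
  -- the functional is determined by its value at f
  have hφu : φ (g e - e) = 0 := by rw [map_sub, hge, he]; simp
  have hφu' : φ' (g e - e) = 0 := by rw [map_sub, hge', he']; simp
  suffices hs : φ f = φ' f by
    apply LinearMap.ext
    intro v
    obtain ⟨x1, x2, x3, rfl⟩ := hspan v
    simp only [map_add, map_smul, he, he', hφu, hφu', hs]
  have h1 := halt φ he hge hbad
  have h2 := halt φ' he' hge' hbad'
  by_cases hr0 : r = 0
  · -- P is invariant
    have hd1 : d ≠ 1 := by
      intro hd
      refine bad3_range (p := p) (q := q) (a := a) (b := b) hind hspan hgeu ?_ ?_ hr hI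
      · rw [hgu, hr0]; simp
      · rw [hgf, hd]; simp
    have hdm : d * (q - p) = 1 := by
      rw [hr0] at hdetf
      linear_combination -hdetf
    have hd0 : d ≠ 0 := by
      intro h0
      rw [h0] at hdm
      simp at hdm
    have hD : (q - p - 1) * (d - 1) ≠ 0 := by
      intro hD
      rcases mul_eq_zero.mp hD with h | h
      · apply hd1
        have hm : q - p = 1 := by linear_combination h
        rw [hm] at hdm
        linear_combination hdm
      · exact hd1 (by linear_combination h)
    have key : ∀ ψ : V →ₗ[K] K,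
        ((r = 0 ∧ d = q - p ∧ b - a + (-ψ f) * d = 0) ∨
        ((q - p + (-ψ f) * r - 1) * (d - 1) - r * (b - a + (-ψ f) * d) = 0)) →
        b - a + (-ψ f) * d = 0 := by
      intro ψ h
      rcases h with h | h
      · exact h.2.2
      · exfalso
        apply hD
        rw [hr0] at h
        linear_combination h
    have k1 := key φ h1
    have k2 := key φ' h2
    have : (φ f - φ' f) * d = 0 := by linear_combination k2 - k1
    have := (mul_eq_zero.mp this).resolve_right hd0
    linear_combination this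
  · -- r ≠ 0: only the singular alternative, linear in the parameter with slope -r
    have key : ∀ ψ : V →ₗ[K] K,
        ((r = 0 ∧ d = q - p ∧ b - a + (-ψ f) * d = 0) ∨
        ((q - p + (-ψ f) * r - 1) * (d - 1) - r * (b - a + (-ψ f) * d) = 0)) →
        (q - p - 1) * (d - 1) - r * (b - a) + ψ f * r = 0 := by
      intro ψ h
      rcases h with h | h
      · exact absurd h.1 hr0
      · linear_combination h
    have k1 := key φ h1
    have k2 := key φ' h2
    have : (φ f - φ' f) * r = 0 := by linear_combination k1 - k2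
    have := (mul_eq_zero.mp this).resolve_right hr0
    linear_combination this

end Cfsg.Agent.Helper18.Lev
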