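import Mathlib
import Cfsg.Prelude.Def_Solvable
import Cfsg.Agent.Lib.Helper15.Basic
import Cfsg.Agent.Lib.Helper15.SylowIn
import Cfsg.Agent.Lib.Helper14.Basic

set_option autoImplicit false
set_option linter.unusedSectionVars false

/-!
# The L-Lemma, part 1: `T`-minimal groups and the conjugates of the maximal subgroup

`H` is `T`-minimal with unique maximal subgroup `M ⊇ T`.  The conjugates of `M` are the "points";
a Sylow `p`-subgroup lies in exactly one of them.
-/

namespace Cfsg.Agent.Helper15.LLem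

open Subgroup Cfsg Cfsg.Agent.Helper15

variable {H : Type*} [Group H]

/-- the conjugate `g K g⁻¹` -/
abbrev cj (g : H) (K : Subgroup H) : Subgroup H := K.map (MulAut.conj g).toMonoidHom

/-- `K` is a conjugate of `M` -/
def IsPt (M K : Subgroup H) : Prop := ∃ g : H, K = cj g M

theorem isPt_self (M : Subgroup H) : IsPt M M := ⟨1, (map_conj_one M).symm⟩

theorem IsPt.cj {M K : Subgroup H} (h : IsPt M K) (x : H) : IsPt M (cj x K) := by
  obtain ⟨g, rfl⟩ := h
  exact ⟨x * g, map_conj_map_conj M x g⟩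

variable [Finite H] {p : ℕ} [Fact p.Prime]

/-- `H` is `T`-minimal with the maximal subgroup `M`. -/
structure TMin (T : Sylow p H) (M : Subgroup H) : Prop where
  coatom : IsCoatom M
  le : (T : Subgroup H) ≤ M
  uniq : ∀ M' : Subgroup H, IsCoatom M' → (T : Subgroup H) ≤ M' → M' = M
  nc : Subgroup.normalClosure ((T : Subgroup H) : Set H) = ⊤

theorem isCoatom_cj {M : Subgroup H} (hM : IsCoatom M) (g : H) : IsCoatom (cj g M) := by
  refine ⟨?_, ?_⟩
  · intro h
    apply hM.1
    have := congrArg (cj g⁻¹) h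
    simp only [cj] at this
    rw [map_conj_inv_map_conj] at this
    rw [this]
    exact map_conj_eq_self_of_mem (Subgroup.mem_top _)
  · intro b hb
    have h1 : M < cj g⁻¹ b := by
      have h2 : M = cj g⁻¹ (cj g M) := (map_conj_inv_map_conj M g).symm
      rw [h2]
      refine lt_of_le_of_ne (map_conj_mono hb.le g⁻¹) ?_
      intro h3
      apply hb.ne
      have := congrArg (cj g) h3
      simp only [cj] at this
      rwa [map_conj_map_conj_inv, map_conj_map_conj_inv] at this
    have h4 := hM.2 _ h1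
    have := congrArg (cj g) h4
    simp only [cj] at this
    rw [map_conj_map_conj_inv] at this
    rw [this]
    exact map_conj_eq_self_of_mem (Subgroup.mem_top _)

theorem IsPt.isCoatom {M K : Subgroup H} (hM : IsCoatom M) (h : IsPt M K) : IsCoatom K := by
  obtain ⟨g, rfl⟩ := h
  exact isCoatom_cj hM g

theorem sylow_eq_cj (T P : Sylow p H) : ∃ g : H, (P : Subgroup H) = cj g (T : Subgroup H) := by
  obtain ⟨g, hg⟩ := MulAction.exists_smul_eq H T P
  refine ⟨g, ?_⟩
  rw [← hg]
  rfl

namespace TMin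

variable {T : Sylow p H} {M : Subgroup H}

theorem le_or_eq_top (h : TMin T M) {Y : Subgroup H} (hTY : (T : Subgroup H) ≤ Y) :
    Y ≤ M ∨ Y = ⊤ := by
  rcases eq_top_or_exists_le_coatom Y with h1 | ⟨M', hM', hY⟩
  · exact Or.inr h1
  · left
    rw [← h.uniq M' hM' (hTY.trans hY)]
    exact hY

theorem cj_le_or_eq_top (h : TMin T M) (g : H) {Y : Subgroup H}
    (hTY : cj g (T : Subgroup H) ≤ Y) : Y ≤ cj g M ∨ Y = ⊤ := by
  have h1 : (T : Subgroup H) ≤ cj g⁻¹ Y := by
    have := map_conj_mono hTY g⁻¹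
    rwa [map_conj_inv_map_conj] at this
  rcases h.le_or_eq_top h1 with h2 | h2
  · left
    have := map_conj_mono h2 g
    rwa [map_conj_map_conj_inv] at this
  · right
    have := congrArg (cj g) h2
    simp only [cj] at this
    rw [map_conj_map_conj_inv] at this
    rw [this]
    exact map_conj_eq_self_of_mem (Subgroup.mem_top _)

/-- A subgroup containing a Sylow `p`-subgroup lying in the point `K` is in `K` or everything. -/
theorem sylow_le_or_top (h : TMin T M) (P : Sylow p H) {K : Subgroup H} (hK : IsPt M K)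
    (hPK : (P : Subgroup H) ≤ K) {Y : Subgroup H} (hPY : (P : Subgroup H) ≤ Y) :
    Y ≤ K ∨ Y = ⊤ := by
  obtain ⟨g, hg⟩ := sylow_eq_cj T P
  have hKc := hK.isCoatom h.coatom
  have h1 : K = cj g M := by
    rcases h.cj_le_or_eq_top g (hg ▸ hPK) with h2 | h2
    · rcases (hKc.le_iff).1 h2 with h3 | h3
      · exact absurd h3 (isCoatom_cj h.coatom g).1
      · exact h3.symm
    · exact absurd h2 hKc.1
  rw [h1]
  exact h.cj_le_or_eq_top g (hg ▸ hPY)

theorem pt_unique_of_sylow (h : TMin T M) (P : Sylow p H) {K₁ K₂ : Subgroup H}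
    (hK₁ : IsPt M K₁) (hK₂ : IsPt M K₂) (h₁ : (P : Subgroup H) ≤ K₁)
    (h₂ : (P : Subgroup H) ≤ K₂) : K₁ = K₂ := by
  have hc₁ := hK₁.isCoatom h.coatom
  have hc₂ := hK₂.isCoatom h.coatom
  rcases h.sylow_le_or_top P hK₁ h₁ h₂ with h3 | h3
  · rcases (hc₂.le_iff).1 h3 with h4 | h4
    · exact absurd h4 hc₁.1
    · exact h4
  · exact absurd h3 hc₂.1

theorem sylow_le_pt (h : TMin T M) (P : Sylow p H) :
    ∃ K, IsPt M K ∧ (P : Subgroup H) ≤ K := by
  obtain ⟨g, hg⟩ := sylow_eq_cj T P
  exact ⟨cj g M, ⟨g, rfl⟩, hg ▸ map_conj_mono h.le g⟩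

theorem exists_pt_of_isPGroup (h : TMin T M) {R : Subgroup H} (hR : IsPGroup p R) :
    ∃ K, IsPt M K ∧ R ≤ K := by
  obtain ⟨P, hP⟩ := hR.exists_le_sylow
  obtain ⟨K, hK, hPK⟩ := h.sylow_le_pt P
  exact ⟨K, hK, hP.trans hPK⟩

theorem exists_sylow_between (h : TMin T M) {R K : Subgroup H} (hR : IsPGroup p R)
    (hK : IsPt M K) (hRK : R ≤ K) :
    ∃ P : Sylow p H, R ≤ (P : Subgroup H) ∧ (P : Subgroup H) ≤ K := by
  obtain ⟨g, rfl⟩ := hK
  have h1 : ((g • T : Sylow p H) : Subgroup H) ≤ cj g M := map_conj_mono h.le g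
  exact exists_sylow_le_of_sylow_le (g • T) h1 hR hRK

theorem pCore_le_pt (h : TMin T M) {K : Subgroup H} (hK : IsPt M K) : pCore p H ≤ K := by
  obtain ⟨P, -, hP⟩ := h.exists_sylow_between (Cfsg.Agent.Helper14.pCore_isPGroup p H) hK
    (by
      obtain ⟨g, rfl⟩ := hK
      exact (Cfsg.Agent.Helper14.pCore_le_sylow (g • T)).trans (map_conj_mono h.le g))
  exact (Cfsg.Agent.Helper14.pCore_le_sylow P).trans hP

theorem normalizer_eq (h : TMin T M) : Subgroup.normalizer (M : Set H) = M := by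
  rcases (h.coatom.le_iff).1 (Subgroup.le_normalizer (H := M)) with h1 | h1
  · exfalso
    have hn : M.Normal := Subgroup.normalizer_eq_top_iff.1 h1
    have h2 : Subgroup.normalClosure ((T : Subgroup H) : Set H) ≤ M :=
      Subgroup.normalClosure_le_normal h.le
    rw [h.nc] at h2
    exact h.coatom.1 (top_le_iff.1 h2)
  · exact h1

/-- the points are self-normalizing -/
theorem mem_of_cj_eq (h : TMin T M) {K : Subgroup H} (hK : IsPt M K) {x : H}
    (hx : cj x K = K) : x ∈ K := by
  obtain ⟨g, rfl⟩ := hK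
  have h1 : cj (g⁻¹ * x * g) M = M := by
    have := congrArg (cj g⁻¹) hx
    simp only [cj] at this
    rw [map_conj_map_conj, map_conj_map_conj, map_conj_map_conj, inv_mul_cancel, map_conj_one]
      at this
    exact this
  have h2 : g⁻¹ * x * g ∈ Subgroup.normalizer (M : Set H) := mem_normalizer_of_map_conj_eq h1
  rw [h.normalizer_eq] at h2
  exact mem_map_conj_iff.2 h2

theorem pt_ne_top (h : TMin T M) {K : Subgroup H} (hK : IsPt M K) : K ≠ ⊤ :=
  (hK.isCoatom h.coatom).1

end TMin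

end Cfsg.Agent.Helper15.LLem
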