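import Mathlib
import Cfsg.Agent.Lib.Helper15.LLemma1

set_option autoImplicit false
set_option linter.unusedSectionVars false

/-!
# The L-Lemma, part 2: `p`-subgroups fixing at least two points
-/

namespace Cfsg.Agent.Helper15.LLem

open Subgroup Cfsg Cfsg.Agent.Helper15

variable {H : Type*} [Group H] [Finite H] {p : ℕ} [Fact p.Prime]

/-- the `p`-subgroups containing `O_p(H)` and lying in two different conjugates of `M` -/
def TwoPt (p : ℕ) (M : Subgroup H) : Set (Subgroup H) :=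
  {R | IsPGroup p R ∧ pCore p H ≤ R ∧
    ∃ K₁ K₂, IsPt M K₁ ∧ IsPt M K₂ ∧ K₁ ≠ K₂ ∧ R ≤ K₁ ∧ R ≤ K₂}

/-- maximal members of `TwoPt` -/
def RMax (p : ℕ) (M : Subgroup H) (R : Subgroup H) : Prop :=
  Maximal (fun x => x ∈ TwoPt p M) R

theorem exists_rMax_ge {M R : Subgroup H} (hR : R ∈ TwoPt p M) :
    ∃ R', R ≤ R' ∧ RMax p M R' :=
  (Set.toFinite (TwoPt p M)).exists_le_maximal hR

theorem RMax.mem {M R : Subgroup H} (h : RMax p M R) : R ∈ TwoPt p M := h.1

theorem RMax.isPGroup {M R : Subgroup H} (h : RMax p M R) : IsPGroup p R := h.1.1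

theorem RMax.pCore_le {M R : Subgroup H} (h : RMax p M R) : pCore p H ≤ R := h.1.2.1

/-- a `p`-subgroup properly containing a maximal two-point subgroup lies in one point only -/
theorem RMax.unique_pt {M R : Subgroup H} (h : RMax p M R) {R' : Subgroup H}
    (hR' : IsPGroup p R') (hle : R ≤ R') (hne : R' ≠ R) {K₁ K₂ : Subgroup H}
    (hK₁ : IsPt M K₁) (hK₂ : IsPt M K₂) (h₁ : R' ≤ K₁) (h₂ : R' ≤ K₂) : K₁ = K₂ := by
  by_contra hK
  have hmem : R' ∈ TwoPt p M := ⟨hR', h.pCore_le.trans hle, K₁, K₂, hK₁, hK₂, hK, h₁, h₂⟩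
  exact hne (le_antisymm (h.2 hmem hle) hle)

variable {T : Sylow p H} {M : Subgroup H}

/-- the normalizer of a maximal two-point subgroup fixes none of its points -/
theorem RMax.normalizer_not_le (hT : TMin T M) {R : Subgroup H} (h : RMax p M R)
    {K : Subgroup H} (hK : IsPt M K) (hRK : R ≤ K) :
    ¬ Subgroup.normalizer (R : Set H) ≤ K := by
  intro hN
  obtain ⟨hRp, hRc, K₁, K₂, hK₁, hK₂, hne, h₁, h₂⟩ := h.mem
  -- a point `K'` of `R` different from `K`
  obtain ⟨K', hK', hne', hRK'⟩ : ∃ K', IsPt M K' ∧ K' ≠ K ∧ R ≤ K' := by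
    by_cases h3 : K₁ = K
    · exact ⟨K₂, hK₂, fun h4 => hne (h3.trans h4.symm), h₂⟩
    · exact ⟨K₁, hK₁, h3, h₁⟩
  obtain ⟨P, hRP, hPK'⟩ := hT.exists_sylow_between hRp hK' hRK'
  have hPR : (P : Subgroup H) ≠ R := by
    intro h4
    exact hne' (hT.pt_unique_of_sylow P hK' hK hPK' (h4 ▸ hRK))
  set R' := (P : Subgroup H) ⊓ Subgroup.normalizer (R : Set H) with hR'
  have hRR' : R ≤ R' := le_inf hRP Subgroup.le_normalizer
  have hR'ne : R' ≠ R := fun h4 => hPR (eq_of_inf_normalizer_eq P.isPGroup' hRP h4)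
  have hR'p : IsPGroup p R' := P.isPGroup'.to_le inf_le_left
  exact hne' (h.unique_pt hR'p hRR' hR'ne hK' hK (inf_le_left.trans hPK')
    (inf_le_right.trans hN))

/-- the join of a `p`-subgroup normalizing a maximal two-point subgroup `R` but not inside `R`
with `R` lies in exactly one point -/
theorem RMax.sup_unique_pt (hT : TMin T M) {R : Subgroup H} (h : RMax p M R)
    {A : Subgroup H} (hA : IsPGroup p A) (hAN : A ≤ Subgroup.normalizer (R : Set H))
    (hAR : ¬ A ≤ R) :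
    ∃ K, IsPt M K ∧ A ⊔ R ≤ K ∧ ∀ K', IsPt M K' → A ⊔ R ≤ K' → K' = K := by
  have hp : IsPGroup p (A ⊔ R : Subgroup H) := hA.to_sup_of_normal_right' h.isPGroup hAN
  obtain ⟨K, hK, hle⟩ := hT.exists_pt_of_isPGroup hp
  refine ⟨K, hK, hle, ?_⟩
  intro K' hK' hle'
  refine h.unique_pt hp le_sup_right ?_ hK' hK hle' hle
  intro h4
  exact hAR (h4 ▸ le_sup_left)

end Cfsg.Agent.Helper15.LLem
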