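import Mathlib
import Cfsg.Prelude.Def_CaseTheorems
import Cfsg.Agent.Lib.Helper15.LLemma2

set_option autoImplicit false
set_option linter.unusedSectionVars false

/-!
# The L-Lemma, part 3: existence of a valid configuration
-/

namespace Cfsg.Agent.Helper15.LLem

open Subgroup Cfsg Cfsg.Agent.Helper15

variable {H : Type*} [Group H]

/-- a valid configuration for `A`: a `p`-subgroup `X ⊇ O_p(H)` normalized by `A` such that `A X`
lies in exactly one conjugate `K` of `M`, and `N_H(X)` is not inside `K`. -/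
def Valid (p : ℕ) (M A : Subgroup H) : Prop :=
  ∃ X K : Subgroup H, IsPGroup p X ∧ pCore p H ≤ X ∧ A ≤ Subgroup.normalizer (X : Set H) ∧
    IsPt M K ∧ A ⊔ X ≤ K ∧ ¬ Subgroup.normalizer (X : Set H) ≤ K ∧
    ∀ K', IsPt M K' → A ⊔ X ≤ K' → K' = K

/-- `O_p(H)` together with the conjugates of `A` inside `R` -/
def wc (p : ℕ) (A R : Subgroup H) : Subgroup H :=
  pCore p H ⊔ ⨆ g : {g : H // cj g A ≤ R}, cj (g : H) A

theorem le_wc_core (p : ℕ) (A R : Subgroup H) : pCore p H ≤ wc p A R := le_sup_left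

theorem cj_le_wc {p : ℕ} {A R : Subgroup H} {g : H} (hg : cj g A ≤ R) : cj g A ≤ wc p A R := by
  refine le_trans ?_ le_sup_right
  exact le_iSup (fun g : {g : H // cj g A ≤ R} => cj (g : H) A) ⟨g, hg⟩

theorem wc_le_of {p : ℕ} {A R Y : Subgroup H} (h1 : pCore p H ≤ Y)
    (h2 : ∀ g : H, cj g A ≤ R → cj g A ≤ Y) : wc p A R ≤ Y := by
  refine sup_le h1 (iSup_le ?_)
  rintro ⟨g, hg⟩
  exact h2 g hg

theorem wc_le {p : ℕ} {A R : Subgroup H} (h1 : pCore p H ≤ R) : wc p A R ≤ R :=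
  wc_le_of h1 (fun _ hg => hg)

theorem cj_pCore (p : ℕ) (x : H) : cj x (pCore p H) = pCore p H := by
  apply map_conj_eq_of_mem_normalizer
  rw [Subgroup.normalizer_eq_top_iff.2 (Cfsg.pCore_normal p H)]
  exact Subgroup.mem_top x

/-- conjugating `wc`: it suffices to control the conjugates of the generators -/
theorem cj_wc_le_of {p : ℕ} {A R Y : Subgroup H} (x : H) (h1 : pCore p H ≤ Y)
    (h2 : ∀ g : H, cj g A ≤ R → cj (x * g) A ≤ Y) : cj x (wc p A R) ≤ Y := by
  unfold wc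
  simp only [cj]
  rw [Subgroup.map_sup, Subgroup.map_iSup]
  refine sup_le ?_ (iSup_le ?_)
  · have := cj_pCore p x
    simp only [cj] at this
    rw [this]
    exact h1
  · rintro ⟨g, hg⟩
    have := h2 g hg
    simp only [cj] at this
    rw [map_conj_map_conj]
    exact this

variable [Finite H] {p : ℕ} [Fact p.Prime] {T : Sylow p H} {M : Subgroup H}

theorem exists_valid (hT : TMin T M) {A : Subgroup H} (hAT : A ≤ (T : Subgroup H))
    (hA : ¬ A ≤ pCore p H) : ∃ g : H, Valid p M (cj g A) := by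
  by_contra hNV
  push Not at hNV
  have hAp : IsPGroup p A := T.isPGroup'.to_le hAT
  have hQp : IsPGroup p (pCore p H) := Cfsg.Agent.Helper14.pCore_isPGroup p H
  have hQT : pCore p H ≤ (T : Subgroup H) := Cfsg.Agent.Helper14.pCore_le_sylow T
  -- Step 0: `A O_p(H)` lies in two points
  have h0 : ∃ K', IsPt M K' ∧ A ⊔ pCore p H ≤ K' ∧ K' ≠ M := by
    by_contra hcon
    push Not at hcon
    apply hNV 1
    have h1 : cj 1 A = A := map_conj_one A
    rw [h1]
    refine ⟨pCore p H, M, hQp, le_rfl, ?_, isPt_self M,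
      sup_le (hAT.trans hT.le) (hQT.trans hT.le), ?_, fun K' hK' hle => hcon K' hK' hle⟩
    · rw [Subgroup.normalizer_eq_top_iff.2 (Cfsg.pCore_normal p H)]
      exact le_top
    · rw [Subgroup.normalizer_eq_top_iff.2 (Cfsg.pCore_normal p H)]
      intro h2
      exact hT.coatom.1 (top_le_iff.1 h2)
  -- Step 1: conjugates of `A` normalizing a maximal two-point subgroup lie in it
  have hyp : ∀ (g : H) (R : Subgroup H), RMax p M R →
      cj g A ≤ Subgroup.normalizer (R : Set H) → cj g A ≤ R := by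
    intro g R hR hN
    by_contra hnot
    obtain ⟨K, hK, hle, huniq⟩ := hR.sup_unique_pt hT (isPGroup_map_conj hAp g) hN hnot
    exact hNV g ⟨R, K, hR.isPGroup, hR.pCore_le, hN, hK, hle,
      hR.normalizer_not_le hT hK (le_sup_right.trans hle), huniq⟩
  -- Step 2: choose `R₁` with `wc` of largest order
  obtain ⟨K₀, hK₀, hle₀, hne₀⟩ := h0
  have hmem0 : A ⊔ pCore p H ∈ TwoPt p M :=
    ⟨T.isPGroup'.to_le (sup_le hAT hQT), le_sup_right, K₀, M, hK₀, isPt_self M, hne₀, hle₀,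
      sup_le (hAT.trans hT.le) (hQT.trans hT.le)⟩
  obtain ⟨R₀, hR₀le, hR₀⟩ := exists_rMax_ge hmem0
  obtain ⟨R₁, hR₁, hmax⟩ := Set.exists_max_image {R : Subgroup H | RMax p M R}
    (fun R => Nat.card (wc p A R)) (Set.toFinite _) ⟨R₀, hR₀⟩
  have hR₁ : RMax p M R₁ := hR₁
  have hmax : ∀ R, RMax p M R → Nat.card (wc p A R) ≤ Nat.card (wc p A R₁) := hmax
  set W := wc p A R₁ with hW
  have hWR : W ≤ R₁ := wc_le hR₁.pCore_le
  have hWp : IsPGroup p W := hR₁.isPGroup.to_le hWR
  -- Step 3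
  have hGN : Subgroup.normalizer (R₁ : Set H) ≤ Subgroup.normalizer (W : Set H) := by
    intro x hx
    have hx' : x⁻¹ ∈ Subgroup.normalizer (R₁ : Set H) := Subgroup.inv_mem _ hx
    apply mem_normalizer_of_map_conj_le
    · refine cj_wc_le_of x (le_wc_core p A R₁) (fun g hg => cj_le_wc ?_)
      have := map_conj_mono hg x
      rwa [map_conj_map_conj, map_conj_eq_of_mem_normalizer hx] at this
    · refine cj_wc_le_of x⁻¹ (le_wc_core p A R₁) (fun g hg => cj_le_wc ?_)
      have := map_conj_mono hg x⁻¹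
      rwa [map_conj_map_conj, map_conj_eq_of_mem_normalizer hx'] at this
  -- Step 4
  have key : ∀ K, IsPt M K → R₁ ≤ K → ∀ P : Sylow p H, R₁ ≤ (P : Subgroup H) →
      (P : Subgroup H) ≤ K → (P : Subgroup H) ≤ Subgroup.normalizer (W : Set H) := by
    intro K hK hRK P hRP hPK
    by_contra hPN
    set D := (P : Subgroup H) ⊓ Subgroup.normalizer (W : Set H) with hD
    have hDP : D ≤ (P : Subgroup H) := inf_le_left
    have hDne : D ≠ (P : Subgroup H) := fun h => hPN (h ▸ inf_le_right)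
    have h1 : (P : Subgroup H) ⊓ Subgroup.normalizer (D : Set H) ≠ D :=
      fun h => hDne (eq_of_inf_normalizer_eq P.isPGroup' hDP h).symm
    obtain ⟨n, hn, hnD⟩ : ∃ n ∈ (P : Subgroup H) ⊓ Subgroup.normalizer (D : Set H), n ∉ D := by
      by_contra hcon
      push Not at hcon
      exact h1 (le_antisymm hcon (le_inf hDP Subgroup.le_normalizer))
    have hnP : n ∈ (P : Subgroup H) := (Subgroup.mem_inf.1 hn).1
    have hnND : n ∈ Subgroup.normalizer (D : Set H) := (Subgroup.mem_inf.1 hn).2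
    have hnN : n ∉ Subgroup.normalizer (W : Set H) := fun h => hnD (Subgroup.mem_inf.2 ⟨hnP, h⟩)
    have hWD : W ≤ D := le_inf (hWR.trans hRP) Subgroup.le_normalizer
    have hWnD : cj n W ≤ D := by
      have := map_conj_mono hWD n
      rwa [map_conj_eq_of_mem_normalizer hnND] at this
    have hnot : ¬ cj n W ≤ W :=
      fun h => hnN (mem_normalizer_of_map_conj_eq (map_conj_eq_iff_le.2 h))
    obtain ⟨g, hgR, hgW⟩ : ∃ g : H, cj g A ≤ R₁ ∧ ¬ cj (n * g) A ≤ W := by
      by_contra hcon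
      push Not at hcon
      exact hnot (cj_wc_le_of n (le_wc_core p A R₁) hcon)
    set A'' := cj (n * g) A with hA''
    have hA''W : A'' ≤ cj n W := by
      have := map_conj_mono (cj_le_wc (p := p) hgR) n
      rwa [map_conj_map_conj] at this
    have hA''D : A'' ≤ D := hA''W.trans hWnD
    have hex : ∃ K', IsPt M K' ∧ A'' ⊔ W ≤ K' ∧ K' ≠ K := by
      by_contra hcon
      push Not at hcon
      apply hNV (n * g)
      refine ⟨W, K, hWp, le_wc_core p A R₁, hA''D.trans inf_le_right, hK,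
        sup_le ((hA''D.trans hDP).trans hPK) ((hWR.trans hRP).trans hPK), ?_,
        fun K' hK' hle => hcon K' hK' hle⟩
      intro hNK
      exact hR₁.normalizer_not_le hT hK hRK (hGN.trans hNK)
    obtain ⟨K', hK', hle', hne'⟩ := hex
    have hY : A'' ⊔ W ∈ TwoPt p M :=
      ⟨P.isPGroup'.to_le (sup_le (hA''D.trans hDP) (hWR.trans hRP)),
        (le_wc_core p A R₁).trans le_sup_right, K', K, hK', hK, hne', hle',
        sup_le ((hA''D.trans hDP).trans hPK) ((hWR.trans hRP).trans hPK)⟩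
    obtain ⟨R₂, hYR₂, hR₂⟩ := exists_rMax_ge hY
    have hW2 : W ≤ wc p A R₂ :=
      wc_le_of (le_wc_core p A R₂)
        (fun g' hg' => cj_le_wc (((cj_le_wc hg').trans le_sup_right).trans hYR₂))
    have hA2 : A'' ≤ wc p A R₂ := cj_le_wc (le_sup_left.trans hYR₂)
    have hne2 : W ≠ wc p A R₂ := fun h => hgW (h ▸ hA2)
    have hcard : Nat.card W < Nat.card (wc p A R₂) := by
      by_contra hcon
      exact hne2 (Subgroup.eq_of_le_of_card_ge hW2 (not_lt.1 hcon))
    exact absurd (hmax R₂ hR₂) (not_le.2 hcard)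
  -- Step 5
  obtain ⟨-, -, K₁, K₂, hK₁, hK₂, hne, h₁, h₂⟩ := hR₁.mem
  obtain ⟨P₁, hRP₁, hPK₁⟩ := hT.exists_sylow_between hR₁.isPGroup hK₁ h₁
  obtain ⟨P₂, hRP₂, hPK₂⟩ := hT.exists_sylow_between hR₁.isPGroup hK₂ h₂
  have hN1 := key K₁ hK₁ h₁ P₁ hRP₁ hPK₁
  have hN2 := key K₂ hK₂ h₂ P₂ hRP₂ hPK₂
  have hNtop : Subgroup.normalizer (W : Set H) = ⊤ := by
    rcases hT.sylow_le_or_top P₁ hK₁ hPK₁ hN1 with h | h
    · exfalso
      exact hne (hT.pt_unique_of_sylow P₂ hK₁ hK₂ (hN2.trans h) hPK₂)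
    · exact h
  have hWn : W.Normal := Subgroup.normalizer_eq_top_iff.1 hNtop
  have hWQ : W ≤ pCore p H := Cfsg.Agent.Helper14.le_pCore hWn hWp
  have hc1 := hmax R₀ hR₀
  have hA0 : A ≤ wc p A R₀ := by
    have h2 : cj 1 A = A := map_conj_one A
    have := cj_le_wc (p := p) (g := 1) (A := A) (R := R₀) (by rw [h2]; exact le_sup_left.trans hR₀le)
    rwa [h2] at this
  have heq : pCore p H = wc p A R₀ :=
    Subgroup.eq_of_le_of_card_ge (le_wc_core p A R₀) (hc1.trans (Subgroup.card_le_of_le hWQ))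
  exact hA (heq ▸ hA0)

end Cfsg.Agent.Helper15.LLem
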