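import Mathlib
import Cfsg.Prelude.Def_Amalgam
import Cfsg.Agent.Lib.Helper15.LLemma3
import Cfsg.Agent.Lib.Helper14.Ambient

set_option autoImplicit false
set_option linter.unusedSectionVars false

/-!
# The L-Lemma, part 4: from a valid configuration to the subgroup `L`
-/

namespace Cfsg.Agent.Helper15.LLem

open Subgroup Cfsg Cfsg.Agent.Helper15

variable {H : Type*} [Group H]

theorem cj_normalizer_le (g : H) (X : Subgroup H) :
    cj g (Subgroup.normalizer (X : Set H)) ≤ Subgroup.normalizer ((cj g X : Subgroup H) : Set H) := by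
  rintro _ ⟨x, hx, rfl⟩
  apply mem_normalizer_of_map_conj_eq
  have h1 : (MulAut.conj g).toMonoidHom x = g * x * g⁻¹ := by
    simp [MulAut.conj_apply]
  rw [h1, map_conj_map_conj]
  have h2 : g * x * g⁻¹ * g = g * x := by group
  rw [h2, ← map_conj_map_conj, map_conj_eq_of_mem_normalizer hx]

theorem valid_conj {p : ℕ} {M A : Subgroup H} (h : Valid p M A) (g : H) :
    Valid p M (cj g A) := by
  obtain ⟨X, K, hXp, hQX, hAN, hK, hle, hNK, huniq⟩ := h
  refine ⟨cj g X, cj g K, isPGroup_map_conj hXp g, ?_, ?_, hK.cj g, ?_, ?_, ?_⟩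
  · rw [← cj_pCore p g]
    exact map_conj_mono hQX g
  · exact (map_conj_mono hAN g).trans (cj_normalizer_le g X)
  · exact sup_le (map_conj_mono (le_sup_left.trans hle) g) (map_conj_mono (le_sup_right.trans hle) g)
  · intro hcon
    apply hNK
    intro x hx
    have h1 : g * x * g⁻¹ ∈ cj g K :=
      hcon (cj_normalizer_le g X (conj_mem_map_conj g hx))
    have h2 := mem_map_conj_iff.1 h1
    have h3 : g⁻¹ * (g * x * g⁻¹) * g = x := by group
    rwa [h3] at h2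
  · intro K' hK' hle'
    have h1 : A ⊔ X ≤ cj g⁻¹ K' := by
      have hA1 := map_conj_mono (le_sup_left.trans hle') g⁻¹
      have hX1 := map_conj_mono (le_sup_right.trans hle') g⁻¹
      rw [map_conj_inv_map_conj] at hA1 hX1
      exact sup_le hA1 hX1
    have h2 := huniq _ (hK'.cj g⁻¹) h1
    rw [← h2]
    exact (map_conj_map_conj_inv K' g).symm

variable [Finite H] {p : ℕ} [Fact p.Prime] {T : Sylow p H} {M : Subgroup H}

theorem valid_of_tMin (hT : TMin T M) {A : Subgroup H} (hAT : A ≤ (T : Subgroup H))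
    (hA : ¬ A ≤ pCore p H) : Valid p M A := by
  obtain ⟨g, hg⟩ := exists_valid hT hAT hA
  have h1 := valid_conj hg g⁻¹
  have h2 : cj g⁻¹ (cj g A) = A := map_conj_inv_map_conj A g
  rwa [h2] at h1

/-- The L-Lemma. -/
theorem l_lemma (hT : TMin T M) {A : Subgroup H} (hAT : A ≤ (T : Subgroup H))
    (hA : ¬ A ≤ pCore p H) :
    ∃ L : Subgroup H, A ⊔ pCore p H ≤ L ∧ ∃ L₀ : Subgroup H, A ⊔ pCoreOf p L ≤ L₀ ∧ L₀ < L ∧
      (∀ X : Subgroup H, A ⊔ pCoreOf p L ≤ X → X < L → X ≤ L₀) ∧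
      (∃ g : H, L₀ = L ⊓ cj g M) ∧
      ∀ x ∈ L, x ∉ L₀ → (A ⊔ cj x A) ⊔ pCoreOf p L = L := by
  obtain ⟨X, K, hXp, hQX, hAN, hK, hle, hNK, huniq⟩ := valid_of_tMin hT hAT hA
  have hAp : IsPGroup p A := T.isPGroup'.to_le hAT
  -- minimal `L`
  set S : Set (Subgroup H) :=
    {L | A ⊔ X ≤ L ∧ L ≤ Subgroup.normalizer (X : Set H) ∧ ¬ L ≤ K} with hS
  have hNS : Subgroup.normalizer (X : Set H) ∈ S :=
    ⟨sup_le hAN Subgroup.le_normalizer, le_rfl, hNK⟩
  obtain ⟨L, -, hLmin⟩ := (Set.toFinite S).exists_le_minimal hNS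
  obtain ⟨hAXL, hLN, hLK⟩ := hLmin.1
  have hAL : A ≤ L := le_sup_left.trans hAXL
  have hXL : X ≤ L := le_sup_right.trans hAXL
  have hXO : X ≤ pCoreOf p L := Cfsg.Agent.Helper14.le_pCoreOf hXL hLN hXp
  have hOL : pCoreOf p L ≤ L := Cfsg.Agent.Helper14.pCoreOf_le p L
  have hOp : IsPGroup p (pCoreOf p L) := Cfsg.Agent.Helper14.pCoreOf_isPGroup p L
  have hK' : ∃ g : H, K = cj g M := hK
  -- `A O_p(L)` is a `p`-group, hence lies in `K`
  have hAOK : A ⊔ pCoreOf p L ≤ K := by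
    have hp : IsPGroup p (A ⊔ pCoreOf p L : Subgroup H) :=
      hAp.to_sup_of_normal_right' hOp (hAL.trans (Cfsg.Agent.Helper14.le_normalizer_pCoreOf p L))
    obtain ⟨K₁, hK₁, hle₁⟩ := hT.exists_pt_of_isPGroup hp
    have := huniq K₁ hK₁ (sup_le (le_sup_left.trans hle₁) ((hXO.trans le_sup_right).trans hle₁))
    rwa [this] at hle₁
  -- uniqueness of the maximal subgroup
  have huni : ∀ Y : Subgroup H, A ⊔ pCoreOf p L ≤ Y → Y < L → Y ≤ L ⊓ K := by
    intro Y hY hYL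
    refine le_inf hYL.le ?_
    by_contra hYK
    have hYS : Y ∈ S :=
      ⟨sup_le (le_sup_left.trans hY) ((hXO.trans le_sup_right).trans hY), hYL.le.trans hLN, hYK⟩
    exact absurd (hLmin.2 hYS hYL.le) (not_le_of_gt hYL)
  refine ⟨L, sup_le hAL (hQX.trans hXL), L ⊓ K, le_inf (sup_le hAL hOL) hAOK, ?_, huni, ?_, ?_⟩
  · exact lt_of_le_of_ne inf_le_left (fun h => hLK (h ▸ inf_le_right))
  · obtain ⟨g, hg⟩ := hK'
    exact ⟨g, by rw [hg]⟩
  · intro x hxL hx0
    by_contra hne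
    have hAxL : cj x A ≤ L := map_conj_le_of_mem hAL hxL
    have hYL : (A ⊔ cj x A) ⊔ pCoreOf p L ≤ L := sup_le (sup_le hAL hAxL) hOL
    have hlt : (A ⊔ cj x A) ⊔ pCoreOf p L < L := lt_of_le_of_ne hYL hne
    have hYK : (A ⊔ cj x A) ⊔ pCoreOf p L ≤ L ⊓ K :=
      huni _ (sup_le (le_sup_left.trans le_sup_left) le_sup_right) hlt
    have hAxK : cj x A ≤ K := ((le_sup_right.trans le_sup_left).trans hYK).trans inf_le_right
    have hXK : X ≤ K := le_sup_right.trans hle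
    -- `A X ≤ x⁻¹ K x`
    have h1 : A ≤ cj x⁻¹ K := by
      have := map_conj_mono hAxK x⁻¹
      rwa [map_conj_inv_map_conj] at this
    have hx' : x⁻¹ ∈ Subgroup.normalizer (X : Set H) := Subgroup.inv_mem _ (hLN hxL)
    have h2 : X ≤ cj x⁻¹ K := by
      have := map_conj_mono hXK x⁻¹
      rwa [map_conj_eq_of_mem_normalizer hx'] at this
    have h3 : cj x⁻¹ K = K := huniq _ (hK.cj x⁻¹) (sup_le h1 h2)
    have h4 : x⁻¹ ∈ K := hT.mem_of_cj_eq hK h3
    have h5 : x ∈ K := by simpa using K.inv_mem h4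
    exact hx0 (Subgroup.mem_inf.2 ⟨hxL, h5⟩)

end Cfsg.Agent.Helper15.LLem
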