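import Mathlib
import Cfsg.Prelude.Def_Blocks
import Cfsg.Agent.Lib.Helper17.M11Defs
import Cfsg.Agent.Lib.Helper24.CharComplete

/-!
# S0420 piece ALPHA11 (helper15): the degree-11 character vanishes at the elements of order 11
-/

set_option autoImplicit false
set_option linter.unusedSectionVars false
set_option linter.unusedVariables false

namespace Cfsg.Agent.Helper27.M11U

open Cfsg Cfsg.Agent.Helper24 Cfsg.Agent.Helper17.M11

open scoped Pointwise

universe u v

section Abstract

variable {G : Type u} [Group G] [Fintype G]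

/-- an element of prime order `p` is conjugate into any given Sylow `p`-subgroup -/
theorem ALPHA11.exists_conj_mem {p : ℕ} [Fact p.Prime] (P : Sylow p G) {a : G}
    (ha : orderOf a = p) : ∃ g : G, g * a * g⁻¹ ∈ (P : Subgroup G) ∧ g * a * g⁻¹ ≠ 1 := by
  have hp : p.Prime := Fact.out
  have hpg : IsPGroup p (Subgroup.zpowers a) :=
    IsPGroup.of_card (n := 1) (by rw [Nat.card_zpowers, ha, pow_one])
  obtain ⟨P', hP'⟩ := hpg.exists_le_sylow
  obtain ⟨g, hg⟩ := MulAction.exists_smul_eq G P' P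
  have haP' : a ∈ (P' : Subgroup G) := hP' (Subgroup.mem_zpowers a)
  refine ⟨g, ?_, ?_⟩
  · rw [← hg, Sylow.coe_subgroup_smul]
    refine (Subgroup.mem_smul_pointwise_iff_exists _ _ _).mpr ⟨a, haP', ?_⟩
    simp [MulAut.smul_def]
  · intro h
    have h1 : a = 1 := by
      have := congrArg (fun y => g⁻¹ * y * g) h
      simpa [mul_assoc] using this
    rw [h1, orderOf_one] at ha
    exact hp.one_lt.ne ha

/-- PIECE ALPHA11: the character of degree `11` vanishes at every element of order `11`. -/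
theorem alpha_eleven (hs : IsSimpleGroup G) (hG : Nat.card G = 7920) (P : Sylow 11 G) (Q : Sylow 5 G)
    (T : CT (P : Subgroup G) (Q : Subgroup G)) {a : G} (ha : orderOf a = 11) :
    (T.α : G → ℂ) a = 0 := by
  obtain ⟨g, hgP, hg1⟩ := ALPHA11.exists_conj_mem P ha
  have hnot : T.α ∉ [principalChar G, T.b.χ1, T.b.χ2, T.b.χ3, T.b.χ4, T.b.θ, T.b.θ'] := by
    have hnd := T.nodup
    intro hmem
    have hsplit : [principalChar G, T.b.χ1, T.b.χ2, T.b.χ3, T.b.χ4, T.b.θ, T.b.θ', T.α, T.β, T.γ] =
        [principalChar G, T.b.χ1, T.b.χ2, T.b.χ3, T.b.χ4, T.b.θ, T.b.θ'] ++ [T.α, T.β, T.γ] := rfl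
    rw [hsplit] at hnd
    exact List.disjoint_of_nodup_append hnd hmem (List.mem_cons_self ..)
  have h0 := T.b.rest T.α hnot (g * a * g⁻¹) hgP hg1
  have hcf := isClassFunction_of_isIrrCharacter T.α.2 a g
  rw [← hcf]
  exact h0

end Abstract

end Cfsg.Agent.Helper27.M11U
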