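import Mathlib

/-!
# S3341 piece GRPB (helper15): `|N_G(P) : P|` divides 8
-/

set_option autoImplicit false
set_option linter.unusedSectionVars false
set_option linter.unusedVariables false

namespace Cfsg.Agent.Helper16.SSC

open Cfsg

universe u

namespace GRPB

variable {G : Type u} [Group G] (P : Subgroup G)

/-- the nonidentity elements of `P` -/
abbrev X : Type u := {a : G // a ∈ P ∧ a ≠ 1}

/-- conjugation action of the normalizer on the nonidentity elements -/
instance act : MulAction (Subgroup.normalizer (P : Set G)) (X P) where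
  smul n a := ⟨(n : G) * a.1 * (n : G)⁻¹, (Subgroup.mem_normalizer_iff.mp n.2 a.1).mp a.2.1,
    fun h => a.2.2 (by simpa using h)⟩
  one_smul a := by
    apply Subtype.ext
    change ((1 : Subgroup.normalizer (P : Set G)) : G) * a.1 *
      ((1 : Subgroup.normalizer (P : Set G)) : G)⁻¹ = a.1
    simp
  mul_smul m n a := by
    apply Subtype.ext
    change ((m * n : Subgroup.normalizer (P : Set G)) : G) * a.1 *
      ((m * n : Subgroup.normalizer (P : Set G)) : G)⁻¹ =
      (m : G) * ((n : G) * a.1 * (n : G)⁻¹) * (m : G)⁻¹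
    simp [mul_assoc]

theorem smul_val (n : Subgroup.normalizer (P : Set G)) (a : X P) :
    (n • a).1 = (n : G) * a.1 * (n : G)⁻¹ := rfl

theorem card_X [Finite G] (hcard : Nat.card P = 9) : Nat.card (X P) = 8 := by
  have h1 : Nat.card (X P) = Set.ncard ((P : Set G) \ {1}) := by
    rw [← Nat.card_coe_set_eq]
    rfl
  rw [h1, Set.ncard_sdiff_singleton_of_mem (show (1 : G) ∈ (P : Set G) from P.one_mem)]
  have h2 : Set.ncard (P : Set G) = Nat.card P := by
    rw [← Nat.card_coe_set_eq]
    rfl
  rw [h2, hcard]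

theorem stabilizer_eq
    (hcent : ∀ s ∈ P, s ≠ 1 → Subgroup.centralizer ({s} : Set G) = P) (a : X P) :
    MulAction.stabilizer (Subgroup.normalizer (P : Set G)) a =
      P.subgroupOf (Subgroup.normalizer (P : Set G)) := by
  ext n
  have hc := hcent a.1 a.2.1 a.2.2
  have key : (n : G) ∈ P ↔ (n : G) ∈ Subgroup.centralizer ({a.1} : Set G) := by rw [hc]
  rw [MulAction.mem_stabilizer_iff, Subgroup.mem_subgroupOf, key, Subgroup.mem_centralizer_iff]
  constructor
  · intro h x hx
    rw [Set.mem_singleton_iff] at hx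
    subst hx
    have h' : (n : G) * a.1 * (n : G)⁻¹ = a.1 := congrArg Subtype.val h
    calc a.1 * (n : G) = ((n : G) * a.1 * (n : G)⁻¹) * (n : G) := by rw [h']
      _ = (n : G) * a.1 := by group
  · intro h
    apply Subtype.ext
    rw [smul_val]
    have := h a.1 (Set.mem_singleton _)
    calc (n : G) * a.1 * (n : G)⁻¹ = (a.1 * (n : G)) * (n : G)⁻¹ := by rw [this]
      _ = a.1 := by group

end GRPB

section Grp

variable {G : Type u} [Group G] [Finite G] (P : Sylow 3 G)

/-- PIECE GRPB -/
theorem relIndex_dvd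
    (hcomm : ∀ x y : (P : Subgroup G), x * y = y * x)
    (hcard : Nat.card (P : Subgroup G) = 9)
    (hcent : ∀ s ∈ (P : Subgroup G), s ≠ 1 →
      Subgroup.centralizer ({s} : Set G) = (P : Subgroup G)) :
    (P : Subgroup G).relIndex (Subgroup.normalizer ((P : Subgroup G) : Set G)) ∣ 8 := by
  classical
  have e := MulAction.selfEquivSigmaOrbitsQuotientStabilizer
    (Subgroup.normalizer ((P : Subgroup G) : Set G)) (GRPB.X (P : Subgroup G))
  have h1 := Nat.card_congr e
  have : Fintype (Quotient (MulAction.orbitRel (Subgroup.normalizer ((P : Subgroup G) : Set G))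
      (GRPB.X (P : Subgroup G)))) := Fintype.ofFinite _
  rw [GRPB.card_X (P : Subgroup G) hcard, Nat.card_sigma] at h1
  have h2 : ∀ ω : Quotient (MulAction.orbitRel (Subgroup.normalizer ((P : Subgroup G) : Set G))
      (GRPB.X (P : Subgroup G))),
      Nat.card (Subgroup.normalizer ((P : Subgroup G) : Set G) ⧸
        MulAction.stabilizer (Subgroup.normalizer ((P : Subgroup G) : Set G)) ω.out) =
      (P : Subgroup G).relIndex (Subgroup.normalizer ((P : Subgroup G) : Set G)) := by
    intro ω
    rw [GRPB.stabilizer_eq (P : Subgroup G) hcent]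
    rfl
  rw [Finset.sum_congr rfl (fun ω _ => h2 ω), Finset.sum_const, smul_eq_mul] at h1
  exact ⟨_, h1.trans (mul_comm _ _)⟩

end Grp

end Cfsg.Agent.Helper16.SSC
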