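import Mathlib
import Cfsg.Prelude.Def_Blocks
import Cfsg.Agent.Lib.Helper17.M11Defs
import Cfsg.Agent.Lib.Helper17.M11Asm
import Cfsg.Agent.Lib.Helper15.SSCGRPB

/-!
# S0420 piece FRAME (helper15): generators `x`, `u`, `s` of orders 11, 5, 4 with `u x u⁻¹ = x ^ 3`,
`s u s⁻¹ = u ^ 2`
-/

set_option autoImplicit false
set_option linter.unusedSectionVars false
set_option linter.unusedVariables false

namespace Cfsg.Agent.Helper27.M11U

open Cfsg Cfsg.Agent.Helper24 Cfsg.Agent.Helper17.M11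

universe u v

namespace FRAME

variable {G : Type u} [Group G]

/-- iterating a conjugation that acts as a power map -/
theorem conj_pow_eq {v x : G} {k : ℕ} (h : v * x * v⁻¹ = x ^ k) (j : ℕ) :
    v ^ j * x * (v ^ j)⁻¹ = x ^ (k ^ j) := by
  induction j with
  | zero => simp
  | succ j ih =>
    have h1 : v ^ (j + 1) * x * (v ^ (j + 1))⁻¹ = v * (v ^ j * x * (v ^ j)⁻¹) * v⁻¹ := by
      rw [pow_succ']; group
    rw [h1, ih, ← conj_pow, h, ← pow_mul, pow_succ']

/-- conjugation acting as a power map on `x` acts the same way on the powers of `x` -/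
theorem conj_pow_pow {v x : G} {k : ℕ} (h : v * x * v⁻¹ = x ^ k) (m : ℕ) :
    v * x ^ m * v⁻¹ = (x ^ m) ^ k := by
  rw [← conj_pow, h, ← pow_mul, ← pow_mul, mul_comm]

/-- an element of `zpowers x` is a power with exponent below the order -/
theorem exists_pow_lt [Finite G] {x y : G} (hy : y ∈ Subgroup.zpowers x) :
    ∃ k : ℕ, k < orderOf x ∧ x ^ k = y := by
  have hy' : y ∈ Submonoid.powers x := (mem_powers_iff_mem_zpowers).mpr hy
  obtain ⟨n, hn⟩ := (Submonoid.mem_powers_iff y x).mp hy'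
  refine ⟨n % orderOf x, Nat.mod_lt _ (orderOf_pos x), ?_⟩
  rw [pow_mod_orderOf, hn]

/-- the centralizer of a generator is the centralizer of the cyclic group -/
theorem centralizer_singleton_eq (x : G) :
    Subgroup.centralizer ({x} : Set G) = Subgroup.centralizer ((Subgroup.zpowers x : Subgroup G) : Set G) := by
  apply le_antisymm
  · intro g hg
    rw [Subgroup.mem_centralizer_iff] at hg ⊢
    intro y hy
    obtain ⟨n, rfl⟩ := Subgroup.mem_zpowers_iff.mp hy
    have hc : Commute x g := hg x (Set.mem_singleton x)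
    exact (hc.zpow_left n).eq
  · exact Subgroup.centralizer_le (Set.singleton_subset_iff.mpr (Subgroup.mem_zpowers x))

/-- in a group of prime order `p`, a nonidentity element generates -/
theorem zpowers_eq_of_prime [Finite G] {p : ℕ} [hp : Fact p.Prime] {Q : Subgroup G}
    (hQ : Nat.card Q = p) {s : G} (hs : s ∈ Q) (hs1 : s ≠ 1) : Subgroup.zpowers s = Q := by
  apply Subgroup.eq_of_le_of_card_ge ((Subgroup.zpowers_le).mpr hs)
  rw [hQ, Nat.card_zpowers]
  have hdvd : orderOf s ∣ p := by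
    have := Subgroup.orderOf_dvd_natCard Q hs
    rwa [hQ] at this
  rcases (Nat.dvd_prime hp.out).mp hdvd with h | h
  · exact (hs1 (orderOf_eq_one_iff.mp h)).elim
  · exact h.ge

/-- `|N| = |C| * |N : C|` for `C ≤ N` -/
theorem card_eq_mul_relIndex [Finite G] {C N : Subgroup G} (h : C ≤ N) :
    Nat.card N = Nat.card C * C.relIndex N := by
  rw [← Subgroup.card_mul_index (C.subgroupOf N)]
  congr 1
  exact Nat.card_congr (Subgroup.subgroupOfEquivOfLe h).toEquiv

end FRAME

section Abstract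

variable {G : Type u} [Group G] [Fintype G]

/-- the part of the frame at the prime `11` -/
theorem FRAME.exists_x_u (P : Sylow 11 G) (hP : Nat.card (P : Subgroup G) = 11)
    (hC : Subgroup.centralizer ((P : Subgroup G) : Set G) = (P : Subgroup G))
    (hN : Nat.card (Subgroup.normalizer ((P : Subgroup G) : Set G)) = 55) :
    ∃ x u : G, (P : Subgroup G) = Subgroup.zpowers x ∧ orderOf x = 11 ∧ orderOf u = 5 ∧
      u * x * u⁻¹ = x ^ 3 := by
  -- a generator of `P`
  have hnt : ∃ x ∈ (P : Subgroup G), x ≠ 1 := by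
    by_contra hne
    push Not at hne
    have hbot : (P : Subgroup G) = ⊥ := (Subgroup.eq_bot_iff_forall _).mpr hne
    rw [hbot, Subgroup.card_bot] at hP
    omega
  obtain ⟨x, hxP, hx1⟩ := hnt
  have hgen : Subgroup.zpowers x = (P : Subgroup G) := FRAME.zpowers_eq_of_prime hP hxP hx1
  have hox : orderOf x = 11 := by rw [← Nat.card_zpowers, hgen, hP]
  -- an element of order `5` of the normalizer
  have h5 : 5 ∣ Nat.card (Subgroup.normalizer ((P : Subgroup G) : Set G)) := by rw [hN]; norm_num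
  obtain ⟨v', hv'⟩ := exists_prime_orderOf_dvd_card' 5 h5
  have hov : orderOf (v' : G) = 5 := by rw [Subgroup.orderOf_coe]; exact hv'
  set v : G := (v' : G) with hvdef
  have hvN : v ∈ Subgroup.normalizer ((P : Subgroup G) : Set G) := v'.2
  have hvx : v * x * v⁻¹ ∈ Subgroup.zpowers x := by
    rw [hgen]; exact (Subgroup.mem_normalizer_iff.mp hvN x).mp hxP
  obtain ⟨k, hk, hkx⟩ := FRAME.exists_pow_lt hvx
  rw [hox] at hk
  have hconj : v * x * v⁻¹ = x ^ k := hkx.symm
  -- `k ^ 5 ≡ 1 mod 11`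
  have h5' := FRAME.conj_pow_eq hconj 5
  have hv5 : v ^ 5 = 1 := by rw [← hov]; exact pow_orderOf_eq_one v
  rw [hv5] at h5'
  have hmod : k ^ 5 ≡ 1 [MOD 11] := by
    have : x ^ (k ^ 5) = x ^ 1 := by rw [← h5']; simp
    rw [pow_eq_pow_iff_modEq, hox] at this
    exact this
  -- `k ≠ 1`
  have hk1 : k ≠ 1 := by
    intro h1
    rw [h1, pow_one] at hconj
    have hcomm : v * x = x * v := by
      calc v * x = (v * x * v⁻¹) * v := by group
        _ = x * v := by rw [hconj]
    have hvC : v ∈ Subgroup.centralizer ((P : Subgroup G) : Set G) := by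
      rw [← hgen, ← FRAME.centralizer_singleton_eq, Subgroup.mem_centralizer_iff]
      intro y hy
      rw [Set.mem_singleton_iff] at hy
      subst hy
      exact hcomm.symm
    rw [hC] at hvC
    have hdvd := Subgroup.orderOf_dvd_natCard (P : Subgroup G) hvC
    rw [hP, hov] at hdvd
    omega
  -- choose the exponent
  have hcases : k = 3 ∨ k = 4 ∨ k = 5 ∨ k = 9 := by
    interval_cases k <;>
      first
        | exact absurd rfl hk1
        | omega
        | (exfalso; revert hmod; decide)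
  have hpow : ∀ j : ℕ, Nat.Coprime j 5 → k ^ j ≡ 3 [MOD 11] →
      orderOf (v ^ j) = 5 ∧ (v ^ j) * x * (v ^ j)⁻¹ = x ^ 3 := by
    intro j hj hmodj
    refine ⟨?_, ?_⟩
    · rw [Nat.Coprime.orderOf_pow (by rw [hov]; exact hj.symm), hov]
    · rw [FRAME.conj_pow_eq hconj j, pow_eq_pow_iff_modEq, hox]
      exact hmodj
  rcases hcases with h | h | h | h
  · obtain ⟨h1, h2⟩ := hpow 1 (by norm_num) (by rw [h]; decide)
    exact ⟨x, v ^ 1, hgen.symm, hox, h1, h2⟩
  · obtain ⟨h1, h2⟩ := hpow 4 (by norm_num) (by rw [h]; decide)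
    exact ⟨x, v ^ 4, hgen.symm, hox, h1, h2⟩
  · obtain ⟨h1, h2⟩ := hpow 2 (by norm_num) (by rw [h]; decide)
    exact ⟨x, v ^ 2, hgen.symm, hox, h1, h2⟩
  · obtain ⟨h1, h2⟩ := hpow 3 (by norm_num) (by rw [h]; decide)
    exact ⟨x, v ^ 3, hgen.symm, hox, h1, h2⟩

/-- the part of the frame at the prime `5` -/
theorem FRAME.exists_s (Q : Sylow 5 G) {u : G} (hQu : (Q : Subgroup G) = Subgroup.zpowers u)
    (hou : orderOf u = 5)
    (hC : Subgroup.centralizer ((Q : Subgroup G) : Set G) = (Q : Subgroup G))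
    (hN : Nat.card (Subgroup.normalizer ((Q : Subgroup G) : Set G)) = 20) :
    ∃ s : G, orderOf s = 4 ∧ s * u * s⁻¹ = u ^ 2 := by
  classical
  have hQ : Nat.card (Q : Subgroup G) = 5 := by rw [hQu, Nat.card_zpowers, hou]
  have huQ : u ∈ (Q : Subgroup G) := by rw [hQu]; exact Subgroup.mem_zpowers u
  have hu1 : u ≠ 1 := by
    intro h; rw [h, orderOf_one] at hou; omega
  have hu2 : u ^ 2 ≠ 1 := by
    intro h
    have := orderOf_dvd_of_pow_eq_one h
    rw [hou] at this; omega
  have hcent : ∀ s ∈ (Q : Subgroup G), s ≠ 1 →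
      Subgroup.centralizer ({s} : Set G) = (Q : Subgroup G) := by
    intro s hs hs1
    rw [FRAME.centralizer_singleton_eq, FRAME.zpowers_eq_of_prime hQ hs hs1, hC]
  -- the orbit of `u` under the normalizer is all of `Q ∖ 1`
  let N := Subgroup.normalizer ((Q : Subgroup G) : Set G)
  let X := Cfsg.Agent.Helper16.SSC.GRPB.X (Q : Subgroup G)
  let a : X := ⟨u, huQ, hu1⟩
  let b : X := ⟨u ^ 2, (Q : Subgroup G).pow_mem huQ 2, hu2⟩
  have hcardX : Nat.card X = 4 := by
    have h1 : Nat.card X = Set.ncard (((Q : Subgroup G) : Set G) \ {1}) := by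
      rw [← Nat.card_coe_set_eq]
      rfl
    rw [h1, Set.ncard_sdiff_singleton_of_mem (show (1 : G) ∈ ((Q : Subgroup G) : Set G) from
      (Q : Subgroup G).one_mem)]
    have h2 : Set.ncard ((Q : Subgroup G) : Set G) = Nat.card (Q : Subgroup G) := by
      rw [← Nat.card_coe_set_eq]
      rfl
    rw [h2, hQ]
  have hstab := Cfsg.Agent.Helper16.SSC.GRPB.stabilizer_eq (Q : Subgroup G) hcent a
  have hrel : (Q : Subgroup G).relIndex N = 4 := by
    have h := FRAME.card_eq_mul_relIndex (C := (Q : Subgroup G)) (N := N) Subgroup.le_normalizer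
    rw [hN, hQ] at h
    omega
  have horb : (MulAction.orbit N a).ncard = 4 := by
    have h := MulAction.index_stabilizer (G := N) (x := a)
    rw [hstab] at h
    rw [← h]
    exact hrel
  have htop : MulAction.orbit N a = Set.univ := by
    apply Set.eq_of_subset_of_ncard_le (Set.subset_univ _)
    rw [Set.ncard_univ, hcardX, horb]
  have hb : b ∈ MulAction.orbit N a := by rw [htop]; exact Set.mem_univ b
  obtain ⟨w, hw⟩ := hb
  have hwu : (w : G) * u * (w : G)⁻¹ = u ^ 2 := congrArg Subtype.val hw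
  refine ⟨(w : G), ?_, hwu⟩
  -- the order of `w`
  set s : G := (w : G) with hsdef
  have hs4 : s ^ 4 * u * (s ^ 4)⁻¹ = u := by
    rw [FRAME.conj_pow_eq hwu 4]
    have : u ^ (2 ^ 4) = u ^ 1 := by
      rw [pow_eq_pow_iff_modEq, hou]; decide
    rw [this, pow_one]
  -- `s ^ 4` centralizes `u`, so lies in `Q`
  have hs4Q : s ^ 4 ∈ (Q : Subgroup G) := by
    rw [← hcent u huQ hu1, Subgroup.mem_centralizer_iff]
    intro y hy
    rw [Set.mem_singleton_iff] at hy
    subst hy
    calc y * s ^ 4 = (s ^ 4 * y * (s ^ 4)⁻¹) * s ^ 4 := by rw [hs4]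
      _ = s ^ 4 * y := by group
  -- `s ^ 4` is fixed by `s` and squared by `s`
  have hs4one : s ^ 4 = 1 := by
    rw [hQu] at hs4Q
    obtain ⟨m, hm, hmx⟩ := FRAME.exists_pow_lt hs4Q
    have h1 : s * (u ^ m) * s⁻¹ = (u ^ m) ^ 2 := FRAME.conj_pow_pow hwu m
    rw [hmx] at h1
    have h2 : s * s ^ 4 * s⁻¹ = s ^ 4 := by group
    rw [h2] at h1
    -- `y = y ^ 2` gives `y = 1`
    have : s ^ 4 * 1 = s ^ 4 * s ^ 4 := by rw [mul_one, ← pow_two]; exact h1
    exact (mul_left_cancel this).symm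
  have hs2 : ¬ s ^ 2 ^ 1 = 1 := by
    intro h
    rw [pow_one] at h
    have h3 := FRAME.conj_pow_eq hwu 2
    rw [h] at h3
    have : u ^ 1 = u ^ (2 ^ 2) := by rw [← h3]; simp
    rw [pow_eq_pow_iff_modEq, hou] at this
    exact absurd this (by decide)
  have := orderOf_eq_prime_pow (p := 2) (n := 1) hs2 (by simpa using hs4one)
  simpa using this

/-- PIECE FRAME: a generator `x` of a Sylow `11`-subgroup, `u` of order `5` cubing `x`, `s` of order `4`
squaring `u`. -/
theorem exists_frame (hs : IsSimpleGroup G) (hG : Nat.card G = 7920) :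
    ∃ (P : Sylow 11 G) (Q : Sylow 5 G) (x u s : G),
      (P : Subgroup G) = Subgroup.zpowers x ∧ (Q : Subgroup G) = Subgroup.zpowers u ∧
      orderOf x = 11 ∧ orderOf u = 5 ∧ orderOf s = 4 ∧
      u * x * u⁻¹ = x ^ 3 ∧ s * u * s⁻¹ = u ^ 2 ∧
      Nat.card (Subgroup.normalizer ((P : Subgroup G) : Set G)) = 55 ∧
      Nat.card (Subgroup.normalizer ((Q : Subgroup G) : Set G)) = 20 := by
  obtain ⟨P⟩ : Nonempty (Sylow 11 G) := inferInstance
  obtain ⟨hP, hCP, hwP⟩ := syl11 hs hG P
  have hNP : Nat.card (Subgroup.normalizer ((P : Subgroup G) : Set G)) = 55 := by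
    have hle : Subgroup.centralizer ((P : Subgroup G) : Set G) ≤
        Subgroup.normalizer ((P : Subgroup G) : Set G) := by
      rw [hCP]; exact Subgroup.le_normalizer
    rw [FRAME.card_eq_mul_relIndex hle, hwP, hCP, hP]
  obtain ⟨x, u, hPx, hox, hou, hux⟩ := FRAME.exists_x_u P hP hCP hNP
  -- the Sylow `5`-subgroup generated by `u`
  have hpg : IsPGroup 5 (Subgroup.zpowers u) :=
    IsPGroup.of_card (n := 1) (by rw [Nat.card_zpowers, hou, pow_one])
  obtain ⟨Q, hQle⟩ := hpg.exists_le_sylow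
  obtain ⟨hQ, hCQ, hwQ⟩ := syl5_all hs hG Q
  have hQu : (Q : Subgroup G) = Subgroup.zpowers u := by
    symm
    apply Subgroup.eq_of_le_of_card_ge hQle
    rw [hQ, Nat.card_zpowers, hou]
  have hNQ : Nat.card (Subgroup.normalizer ((Q : Subgroup G) : Set G)) = 20 := by
    have hle : Subgroup.centralizer ((Q : Subgroup G) : Set G) ≤
        Subgroup.normalizer ((Q : Subgroup G) : Set G) := by
      rw [hCQ]; exact Subgroup.le_normalizer
    rw [FRAME.card_eq_mul_relIndex hle, hwQ, hCQ, hQ]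
  obtain ⟨s, hos, hsu⟩ := FRAME.exists_s Q hQu hou hCQ hNQ
  exact ⟨P, Q, x, u, s, hPx, hQu, hox, hou, hos, hux, hsu, hNP, hNQ⟩

end Abstract

end Cfsg.Agent.Helper27.M11U
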