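import Mathlib
import Cfsg.Agent.Lib.Helper26.MHDefs
import Cfsg.Agent.Lib.Helper26.MHBW

/-!
# S4221 piece P3DICH (helper15): the dichotomy of section 4 (uses `bw_ratio`)

`H = St4 p q r s`, `V = {1,a,ac,c}` with fixed-point configuration `Omega3`.  Either `H` fixes `w`, or the orbit of `w`
under `C_H(c)` is `{w,k,k'}` and `|H : H_w| = |C_H(c) : C_{H_w}(c)| = 3`.
-/

set_option autoImplicit false
set_option linter.style.haveILetI false

namespace Cfsg.Agent.Helper26.MH

open MulAction Cfsg.Agent.Helper22.SharpFour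

namespace P3DICH

variable {G : Type*} [Group G] {α : Type*} [MulAction G α]

theorem tyA_inv {a : G} {p q r s : α} (hA : TyA a p q r s) : TyA a⁻¹ p q r s := by
  obtain ⟨h1, h2, h3, h4⟩ := hA
  refine ⟨?_, ?_, ?_, ?_⟩
  · rw [inv_smul_eq_iff]; exact h2.symm
  · rw [inv_smul_eq_iff]; exact h1.symm
  · rw [inv_smul_eq_iff]; exact h3.symm
  · rw [inv_smul_eq_iff]; exact h4.symm

theorem tyC_inv {c : G} {p q r s : α} (hC : TyC c p q r s) : TyC c⁻¹ p q r s := by
  obtain ⟨h1, h2, h3, h4⟩ := hC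
  refine ⟨?_, ?_, ?_, ?_⟩
  · rw [inv_smul_eq_iff]; exact h2.symm
  · rw [inv_smul_eq_iff]; exact h1.symm
  · rw [inv_smul_eq_iff]; exact h4.symm
  · rw [inv_smul_eq_iff]; exact h3.symm

theorem tyA_conj {a g : G} {p q r s : α} (hA : TyA a p q r s) (hg : g ∈ St4 G p q r s) :
    a * g * a⁻¹ ∈ St4 G p q r s := by
  obtain ⟨i1, i2, i3, i4⟩ := tyA_inv hA
  obtain ⟨h1, h2, h3, h4⟩ := hA
  rw [mem_St4] at hg ⊢
  obtain ⟨g1, g2, g3, g4⟩ := hg
  refine ⟨?_, ?_, ?_, ?_⟩
  · rw [mul_smul, mul_smul, i1, g2, h2]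
  · rw [mul_smul, mul_smul, i2, g1, h1]
  · rw [mul_smul, mul_smul, i3, g3, h3]
  · rw [mul_smul, mul_smul, i4, g4, h4]

theorem tyC_conj {c g : G} {p q r s : α} (hC : TyC c p q r s) (hg : g ∈ St4 G p q r s) :
    c * g * c⁻¹ ∈ St4 G p q r s := by
  obtain ⟨i1, i2, i3, i4⟩ := tyC_inv hC
  obtain ⟨h1, h2, h3, h4⟩ := hC
  rw [mem_St4] at hg ⊢
  obtain ⟨g1, g2, g3, g4⟩ := hg
  refine ⟨?_, ?_, ?_, ?_⟩
  · rw [mul_smul, mul_smul, i1, g2, h2]
  · rw [mul_smul, mul_smul, i2, g1, h1]
  · rw [mul_smul, mul_smul, i3, g4, h4]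
  · rw [mul_smul, mul_smul, i4, g3, h3]

theorem mem_normalizer_of_conj {H : Subgroup G} {t : G} (h1 : ∀ g ∈ H, t * g * t⁻¹ ∈ H)
    (h2 : ∀ g ∈ H, t⁻¹ * g * t⁻¹⁻¹ ∈ H) : t ∈ Subgroup.normalizer (H : Set G) := by
  rw [Subgroup.mem_normalizer_iff]
  intro g
  constructor
  · exact h1 g
  · intro hg
    have h := h2 _ hg
    have e : t⁻¹ * (t * g * t⁻¹) * t⁻¹⁻¹ = g := by group
    rwa [e] at h

theorem tyA_normalizer {a : G} {p q r s : α} (hA : TyA a p q r s) :
    a ∈ Subgroup.normalizer (St4 G p q r s : Set G) :=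
  mem_normalizer_of_conj (fun _ hg => tyA_conj hA hg) (fun _ hg => tyA_conj (tyA_inv hA) hg)

theorem tyC_normalizer {c : G} {p q r s : α} (hC : TyC c p q r s) :
    c ∈ Subgroup.normalizer (St4 G p q r s : Set G) :=
  mem_normalizer_of_conj (fun _ hg => tyC_conj hC hg) (fun _ hg => tyC_conj (tyC_inv hC) hg)

/-- an element normalizing `H` and fixing `w` normalizes `H ⊓ stabilizer w` -/
theorem normalizer_inf_stab {H : Subgroup G} {t : G} {w : α}
    (ht : t ∈ Subgroup.normalizer (H : Set G)) (hw : t • w = w) :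
    t ∈ Subgroup.normalizer ((H ⊓ stabilizer G w : Subgroup G) : Set G) := by
  have hw' : t⁻¹ • w = w := by rw [inv_smul_eq_iff]; exact hw.symm
  have hti : t⁻¹ ∈ Subgroup.normalizer (H : Set G) := inv_mem ht
  refine mem_normalizer_of_conj ?_ ?_
  · intro g hg
    rw [Subgroup.mem_inf, mem_stabilizer_iff] at hg ⊢
    refine ⟨(Subgroup.mem_normalizer_iff.mp ht g).mp hg.1, ?_⟩
    rw [mul_smul, mul_smul, hw', hg.2, hw]
  · intro g hg
    rw [Subgroup.mem_inf, mem_stabilizer_iff] at hg ⊢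
    refine ⟨(Subgroup.mem_normalizer_iff.mp hti g).mp hg.1, ?_⟩
    rw [mul_smul, mul_smul, inv_inv, hw, hg.2, hw']

end P3DICH

variable {G : Type*} [Group G] [Finite G] {α : Type*} [Fintype α] [DecidableEq α] [MulAction G α]

theorem dichotomy (h : Hall G α) (h8 : 8 ≤ Fintype.card α)
    (hphi : ∀ t : G, IsInv t → (fixF α t).card = 3) {p q r s : α} {a c : G} (hV : VData p q r s a c)
    {w k k' : α} (hO : Omega3 p q r s a c w k k') :
    (∀ g ∈ St4 G p q r s, g • w = w) ∨
      (3 * Nat.card (St4 G p q r s ⊓ stabilizer G w : Subgroup G) = Nat.card (St4 G p q r s) ∧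
        3 * Nat.card (cen (St4 G p q r s ⊓ stabilizer G w) c) = Nat.card (cen (St4 G p q r s) c) ∧
        ∃ g ∈ St4 G p q r s, g • w = k) := by
  classical
  set H : Subgroup G := St4 G p q r s with hH
  set Hw : Subgroup G := H ⊓ stabilizer G w with hHw
  have hodd : Odd (Nat.card H) := h.odd p q r s hV.d
  have hle : Hw ≤ H := inf_le_left
  obtain ⟨a1, a2, a3, a4⟩ := hV.ta
  obtain ⟨c1, c2, c3, c4⟩ := hV.tc
  -- `w` is none of `p q r s`
  have hwr : w ≠ r := by
    intro e
    have := hO.cw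
    rw [e, c3] at this
    exact hV.d.cd this.symm
  have hws : w ≠ s := by
    intro e
    have := hO.cw
    rw [e, c4] at this
    exact hV.d.cd this
  have hwp : w ≠ p := by
    intro e
    have := hO.aw
    rw [e, a1] at this
    exact hV.d.ab this.symm
  have hwq : w ≠ q := by
    intro e
    have := hO.aw
    rw [e, a2] at this
    exact hV.d.ab this
  have hne : a ≠ c := by
    intro e
    have := a3
    rw [e, c3] at this
    exact hV.d.cd this.symm
  have haN : a ∈ Subgroup.normalizer (H : Set G) := P3DICH.tyA_normalizer hV.ta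
  have hcN : c ∈ Subgroup.normalizer (H : Set G) := P3DICH.tyC_normalizer hV.tc
  have haNw : a ∈ Subgroup.normalizer (Hw : Set G) := P3DICH.normalizer_inf_stab haN hO.aw
  have hcNw : c ∈ Subgroup.normalizer (Hw : Set G) := P3DICH.normalizer_inf_stab hcN hO.cw
  have hacw : (a * c) • w = w := by rw [mul_smul, hO.cw, hO.aw]
  have h1 : cen H a ≤ Hw := by
    intro x hx
    rw [mem_cen] at hx
    obtain ⟨hxH, hxa⟩ := hx
    have hxH' := hxH
    rw [hH, mem_St4] at hxH'
    obtain ⟨x1, x2, x3, x4⟩ := hxH'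
    refine Subgroup.mem_inf.mpr ⟨hxH, ?_⟩
    rw [mem_stabilizer_iff]
    have hfix : a • (x • w) = x • w := by
      rw [← mul_smul, ← hxa, mul_smul, hO.aw]
    rcases hO.fa _ hfix with e | e | e
    · exact absurd (smul_left_cancel x (e.trans x3.symm)) hwr
    · exact absurd (smul_left_cancel x (e.trans x4.symm)) hws
    · exact e
  have h2 : cen H (a * c) ≤ Hw := by
    intro x hx
    rw [mem_cen] at hx
    obtain ⟨hxH, hxa⟩ := hx
    have hxH' := hxH
    rw [hH, mem_St4] at hxH'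
    obtain ⟨x1, x2, x3, x4⟩ := hxH'
    refine Subgroup.mem_inf.mpr ⟨hxH, ?_⟩
    rw [mem_stabilizer_iff]
    have hfix : (a * c) • (x • w) = x • w := by
      rw [← mul_smul, ← hxa, mul_smul, hacw]
    rcases hO.fb _ hfix with e | e | e
    · exact absurd (smul_left_cancel x (e.trans x1.symm)) hwp
    · exact absurd (smul_left_cancel x (e.trans x2.symm)) hwq
    · exact e
  have hratio : Nat.card H * Nat.card (cen Hw c) = Nat.card Hw * Nat.card (cen H c) :=
    bw_ratio H Hw hodd hle a c hV.ia hV.ic hV.comm hne haN hcN haNw hcNw h1 h2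
  -- orbit-stabilizer for `Hc = C_H(c)` acting on `w`
  set Hc : Subgroup G := cen H c with hHc
  have hHcle : Hc ≤ H := inf_le_left
  have hHcodd : Odd (Nat.card Hc) := by
    obtain ⟨m, hm⟩ := Subgroup.card_dvd_of_le hHcle
    rw [hm] at hodd
    exact (Nat.odd_mul.mp hodd).1
  have hstab : Nat.card (stabilizer Hc w) = Nat.card (cen Hw c) := by
    have e : (stabilizer Hc w).map Hc.subtype = cen Hw c := by
      ext y
      simp only [Subgroup.mem_map, mem_stabilizer_iff, Subgroup.subtype_apply]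
      constructor
      · rintro ⟨x, hx, rfl⟩
        have hxc : (x : G) ∈ cen H c := x.2
        rw [mem_cen] at hxc
        rw [mem_cen]
        refine ⟨Subgroup.mem_inf.mpr ⟨hxc.1, ?_⟩, hxc.2⟩
        rw [mem_stabilizer_iff]
        exact hx
      · intro hy
        rw [mem_cen] at hy
        obtain ⟨hy1, hy2⟩ := hy
        rw [hHw, Subgroup.mem_inf, mem_stabilizer_iff] at hy1
        have hyc : y ∈ cen H c := mem_cen.mpr ⟨hy1.1, hy2⟩
        exact ⟨⟨y, hyc⟩, hy1.2, rfl⟩
    rw [← Subgroup.card_map_of_injective (Subgroup.subtype_injective Hc), e]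
  have horb : Nat.card (stabilizer Hc w) * (orbit Hc w).ncard = Nat.card Hc := by
    rw [← MulAction.index_stabilizer]
    exact Subgroup.card_mul_index _
  set o := (orbit Hc w).ncard with ho
  have hsub : orbit Hc w ⊆ ({w, k, k'} : Set α) := by
    rintro _ ⟨x, rfl⟩
    have hxc : (x : G) ∈ cen H c := x.2
    rw [mem_cen] at hxc
    have hfix : c • ((x : G) • w) = (x : G) • w := by
      rw [← mul_smul, ← hxc.2, mul_smul, hO.cw]
    have : x • w = (x : G) • w := rfl
    rw [Set.mem_insert_iff, Set.mem_insert_iff, Set.mem_singleton_iff]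
    exact hO.fc _ hfix
  have hfin : ({w, k, k'} : Set α).Finite := Set.toFinite _
  have h3card : ({w, k, k'} : Set α).ncard = 3 := by
    rw [Set.ncard_eq_three]
    exact ⟨w, k, k', hO.wk, hO.wk', hO.kk', rfl⟩
  have hole : o ≤ 3 := by
    rw [← h3card]
    exact Set.ncard_le_ncard hsub hfin
  have hopos : 0 < o := by
    rw [ho, Set.ncard_pos (Set.toFinite _)]
    exact ⟨w, mem_orbit_self w⟩
  have hoodd : Odd o := by
    rw [← horb] at hHcodd
    exact (Nat.odd_mul.mp hHcodd).2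
  have hcpos : 0 < Nat.card (cen Hw c) := Nat.card_pos
  have hHHw : Nat.card H = Nat.card Hw * o := by
    have e : Nat.card H * Nat.card (cen Hw c) = Nat.card Hw * o * Nat.card (cen Hw c) := by
      rw [hratio, ← horb, hstab]
      ring
    exact Nat.eq_of_mul_eq_mul_right hcpos e
  have ho13 : o = 1 ∨ o = 3 := by
    obtain ⟨m, hm⟩ := hoodd
    omega
  rcases ho13 with ho1 | ho3
  · left
    rw [ho1, mul_one] at hHHw
    have heq : Hw = H := Subgroup.eq_of_le_of_card_ge hle hHHw.le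
    intro g hg
    rw [← heq] at hg
    exact mem_stabilizer_iff.mp (Subgroup.mem_inf.mp hg).2
  · right
    refine ⟨?_, ?_, ?_⟩
    · rw [hHHw, ho3, mul_comm]
    · rw [← horb, hstab, ho3, mul_comm]
    · have heq : orbit Hc w = ({w, k, k'} : Set α) :=
        Set.eq_of_subset_of_ncard_le hsub (by rw [h3card, ← ho, ho3]) hfin
      have hk : k ∈ orbit Hc w := by rw [heq]; simp
      obtain ⟨x, hx⟩ := hk
      exact ⟨(x : G), hHcle x.2, hx⟩

end Cfsg.Agent.Helper26.MH
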