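import Mathlib
import Cfsg.Agent.Lib.Helper8.MXDefs

/-!
# S4756, piece CONV2 (helper15, for helper8's skeleton)

In the structure, an element `g ∉ P` has a power `h` of prime order `q ≠ p`; `h` lies in a Sylow
`q`-subgroup of `G`, which is conjugate to one inside `A`, so `h = k⁻¹ a k` with `1 ≠ a ∈ A` and
`C_D(g) ≤ C_D(h) = 1`.
-/

set_option autoImplicit false
set_option linter.unusedSectionVars false
set_option linter.unusedVariables false
set_option linter.style.haveILetI false

namespace Cfsg.Agent.Helper8.MX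

open Cfsg
open scoped Pointwise

universe u

variable {G : Type u} [Group G] [Finite G]

/-- an element outside a normal Sylow `p`-subgroup has order divisible by a prime `q ≠ p` -/
theorem conv2_exists_prime (p : ℕ) [Fact p.Prime] (P : Sylow p G) (hPn : (P : Subgroup G).Normal)
    (g : G) (hg : g ∉ (P : Subgroup G)) : ∃ q : ℕ, q.Prime ∧ q ≠ p ∧ q ∣ orderOf g := by
  by_contra hno
  apply hg
  have hpow : orderOf g = p ^ (orderOf g).primeFactorsList.length :=
    Nat.eq_prime_pow_of_unique_prime_dvd (orderOf_pos g).ne' (fun {d} hd hdn => by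
      by_contra hdp; exact hno ⟨d, hd, hdp, hdn⟩)
  have hpg : IsPGroup p (Subgroup.zpowers g) :=
    IsPGroup.of_card (n := (orderOf g).primeFactorsList.length) (by rw [Nat.card_zpowers, ← hpow])
  obtain ⟨Q, hQ⟩ := hpg.exists_le_sylow
  haveI := Sylow.unique_of_normal P hPn
  have hQP : Q = P := Subsingleton.elim _ _
  rw [← hQP]
  exact hQ (Subgroup.mem_zpowers g)

/-- an element of prime order `q ≠ p` is conjugate into the complement `A` of the normal
Sylow `p`-subgroup -/
theorem conv2_conj_mem (p : ℕ) [Fact p.Prime] (P : Sylow p G) (hPn : (P : Subgroup G).Normal)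
    (A : Subgroup G) (hcop : (Nat.card ↥A).Coprime p) (hAP : A ⊔ (P : Subgroup G) = ⊤)
    (q : ℕ) (hq : q.Prime) (hqp : q ≠ p) (h : G) (hh : orderOf h = q) :
    ∃ k : G, k * h * k⁻¹ ∈ A := by
  classical
  haveI : Fact q.Prime := ⟨hq⟩
  have hp : p.Prime := Fact.out
  haveI := hPn
  -- `P` and `A` are complements
  obtain ⟨n, hn⟩ := P.isPGroup'.exists_card_eq
  have hdisj : Disjoint (P : Subgroup G) A := by
    apply Subgroup.disjoint_of_coprime_natCard
    rw [hn]
    exact (Nat.Coprime.pow_right n hcop).symm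
  have hmul : ((P : Subgroup G) : Set G) * (A : Set G) = Set.univ := by
    rw [← Subgroup.normal_mul, sup_comm, hAP, Subgroup.coe_top]
  have hcompl : Subgroup.IsComplement' (P : Subgroup G) A :=
    Subgroup.isComplement'_of_disjoint_and_mul_eq_univ hdisj hmul
  have hidx : A.index = p ^ n := by rw [hcompl.index_eq_card, hn]
  -- a Sylow `q`-subgroup of `A` is a Sylow `q`-subgroup of `G`
  obtain ⟨R⟩ : Nonempty (Sylow q A) := inferInstance
  have hR1 : IsPGroup q ((R : Subgroup A).map A.subtype) := R.isPGroup'.map A.subtype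
  have hR2 : ¬ q ∣ ((R : Subgroup A).map A.subtype).index := by
    rw [Subgroup.index_map_subtype, hidx]
    intro hdvd
    rcases (Nat.Prime.dvd_mul hq).1 hdvd with h1 | h1
    · exact R.not_dvd_index h1
    · exact hqp ((Nat.prime_dvd_prime_iff_eq hq hp).1 (hq.dvd_of_dvd_pow h1))
  -- `h` lies in a Sylow `q`-subgroup
  have hhg : IsPGroup q (Subgroup.zpowers h) :=
    IsPGroup.of_card (n := 1) (by rw [Nat.card_zpowers, hh, pow_one])
  obtain ⟨Q, hQ⟩ := hhg.exists_le_sylow
  obtain ⟨k, hk⟩ := MulAction.exists_smul_eq G Q (hR1.toSylow hR2)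
  refine ⟨k, ?_⟩
  have h1 : h ∈ (Q : Subgroup G) := hQ (Subgroup.mem_zpowers h)
  have h2 : MulAut.conj k • h ∈ MulAut.conj k • (Q : Subgroup G) :=
    Subgroup.smul_mem_pointwise_smul _ _ _ h1
  have h3 : MulAut.conj k • (Q : Subgroup G) = ((hR1.toSylow hR2 : Sylow q G) : Subgroup G) := by
    rw [← hk]; rfl
  rw [h3, IsPGroup.toSylow_coe] at h2
  obtain ⟨a, _, ha⟩ := h2
  have h4 : k * h * k⁻¹ = (a : G) := by
    rw [← MulAut.conj_apply, ← MulAut.smul_def]
    exact ha.symm
  rw [h4]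
  exact a.2

/-- PIECE CONV2. -/
theorem fpf_of_struct (p : ℕ) [Fact p.Prime] (P : Sylow p G) (A : Subgroup G)
    (hS : Struct G p P A) (g : G) (hg : g ∉ (P : Subgroup G)) :
    ∀ d ∈ ⁅A, (P : Subgroup G)⁆, g * d = d * g → d = 1 := by
  classical
  obtain ⟨hPn, hAc, hAne, hcop, hAP, hCc, hDn, hCD, hCDbot, hfpf⟩ := hS
  obtain ⟨q, hq, hqp, hqg⟩ := conv2_exists_prime p P hPn g hg
  have hho : orderOf (g ^ (orderOf g / q)) = q :=
    orderOf_pow_orderOf_div (orderOf_pos g).ne' hqg
  obtain ⟨k, hk⟩ := conv2_conj_mem p P hPn A hcop hAP q hq hqp _ hho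
  intro d hd hgd
  -- `h = g ^ m` commutes with `d`
  have hcomm : Commute (g ^ (orderOf g / q)) d := (Commute.pow_left hgd (orderOf g / q))
  have hne : k * g ^ (orderOf g / q) * k⁻¹ ≠ 1 := by
    intro h1
    have h2 : g ^ (orderOf g / q) = 1 := by
      have : g ^ (orderOf g / q) = k⁻¹ * (k * g ^ (orderOf g / q) * k⁻¹) * k := by group
      rw [this, h1]; group
    rw [h2, orderOf_one] at hho
    exact hq.one_lt.ne hho
  have hdk : k * d * k⁻¹ ∈ ⁅A, (P : Subgroup G)⁆ := hDn.conj_mem d hd k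
  have h3 : (k * g ^ (orderOf g / q) * k⁻¹) * (k * d * k⁻¹) =
      (k * d * k⁻¹) * (k * g ^ (orderOf g / q) * k⁻¹) := by
    have : g ^ (orderOf g / q) * d = d * g ^ (orderOf g / q) := hcomm.eq
    calc (k * g ^ (orderOf g / q) * k⁻¹) * (k * d * k⁻¹)
        = k * (g ^ (orderOf g / q) * d) * k⁻¹ := by group
      _ = k * (d * g ^ (orderOf g / q)) * k⁻¹ := by rw [this]
      _ = (k * d * k⁻¹) * (k * g ^ (orderOf g / q) * k⁻¹) := by group
  have h4 := hfpf _ hk hne _ hdk h3
  have : d = k⁻¹ * (k * d * k⁻¹) * k := by group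
  rw [this, h4]; group

end Cfsg.Agent.Helper8.MX
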