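import Mathlib
import Cfsg.Agent.Lib.Helper8.MXDefs

/-!
# S4756, piece CONV3 (helper15, for helper8's skeleton)

In the structure `G = ⟨A, C, D⟩` with `A`, `C` abelian and commuting with each other, so `G/D` is
abelian.
-/

set_option autoImplicit false
set_option linter.unusedSectionVars false
set_option linter.unusedVariables false
set_option linter.style.haveILetI false

namespace Cfsg.Agent.Helper8.MX

open Cfsg

universe u

variable {G : Type u} [Group G] [Finite G]

/-- PIECE CONV3. -/
theorem commutator_le_of_struct (p : ℕ) [Fact p.Prime] (P : Sylow p G) (A : Subgroup G)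
    (hS : Struct G p P A) : commutator G ≤ ⁅A, (P : Subgroup G)⁆ := by
  obtain ⟨hPn, hAc, hAne, hcop, hAP, hCc, hDn, hCD, hCDbot, hfpf⟩ := hS
  haveI := hDn
  haveI := hAc
  have hAA : ∀ a ∈ A, ∀ b ∈ A, a * b = b * a := by
    intro a ha b hb
    have hc : IsMulCommutative A := IsCyclic.isMulCommutative
    exact congrArg Subtype.val (isMulCommutative_iff.mp hc ⟨a, ha⟩ ⟨b, hb⟩)
  have hCC : ∀ a ∈ (P : Subgroup G) ⊓ Subgroup.centralizer (A : Set G),
      ∀ b ∈ (P : Subgroup G) ⊓ Subgroup.centralizer (A : Set G), a * b = b * a := by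
    intro a ha b hb
    exact congrArg Subtype.val (isMulCommutative_iff.mp hCc ⟨a, ha⟩ ⟨b, hb⟩)
  have hAC : ∀ a ∈ A, ∀ c ∈ (P : Subgroup G) ⊓ Subgroup.centralizer (A : Set G),
      a * c = c * a := by
    intro a ha c hc
    exact (Subgroup.mem_centralizer_iff.1 hc.2) a ha
  have hcomm : ∀ x ∈ ((A : Set G) ∪
      (((P : Subgroup G) ⊓ Subgroup.centralizer (A : Set G) : Subgroup G) : Set G)),
      ∀ y ∈ ((A : Set G) ∪
      (((P : Subgroup G) ⊓ Subgroup.centralizer (A : Set G) : Subgroup G) : Set G)),
      x * y = y * x := by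
    rintro x (hx | hx) y (hy | hy)
    · exact hAA x hx y hy
    · exact hAC x hx y hy
    · exact (hAC y hy x hx).symm
    · exact hCC x hx y hy
  have hH := Subgroup.isMulCommutative_closure hcomm
  refine Subgroup.Normal.commutator_le_of_self_sup_commutative_eq_top
    (H := Subgroup.closure ((A : Set G) ∪
      (((P : Subgroup G) ⊓ Subgroup.centralizer (A : Set G) : Subgroup G) : Set G))) ?_ hH
  rw [Subgroup.closure_union, Subgroup.closure_eq, Subgroup.closure_eq]
  rw [← hAP]
  conv_rhs => rw [← hCD]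
  simp only [sup_comm, sup_left_comm]

end Cfsg.Agent.Helper8.MX
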