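import Mathlib
import Cfsg.Agent.Lib.Helper15.SylGen4

set_option autoImplicit false

/-!
# The point stabiliser of the McLaughlin group is `PSU₄(3)`: the permutation group of degree 112
(helper15)

Data produced by an external search; everything is re-checked by the kernel.
-/

namespace Cfsg.Agent.Helper15.McLU4

open SylGen

def t1L : List ℕ := [25, 106, 6, 7, 79, 69, 78, 86, 71, 85, 1, 52, 57, 60, 49, 61, 59, 51, 56, 19, 32, 42, 21, 14, 13, 15, 39, 16, 29, 45, 43, 20, 36, 31, 22, 28, 33, 44, 38, 10, 55, 35, 47, 12, 17, 41, 48, 34, 40, 108, 111, 101, 98, 104, 102, 103, 96, 100, 97, 110, 109, 94, 4, 5, 9, 8, 2, 3, 76, 75, 87, 89, 63, 65, 80, 72, 77, 74, 91, 81, 68, 90, 84, 92, 70, 83, 93, 88, 82, 73, 62, 66, 64, 67, 0, 24, 54, 50, 53, 58, 30, 37, 18, 46, 11, 23, 26, 27, 105, 95, 107, 99]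

def t2L : List ℕ := [95, 94, 16, 31, 102, 104, 97, 103, 98, 96, 49, 37, 35, 77, 80, 83, 2, 17, 18, 27, 92, 21, 29, 23, 24, 25, 38, 19, 28, 22, 30, 3, 84, 81, 34, 12, 88, 11, 26, 90, 71, 110, 70, 72, 68, 73, 108, 109, 69, 10, 65, 64, 62, 107, 105, 106, 66, 67, 63, 101, 99, 100, 52, 58, 51, 50, 56, 57, 44, 48, 42, 40, 43, 45, 74, 87, 76, 13, 85, 79, 14, 33, 91, 15, 32, 78, 86, 75, 36, 89, 39, 82, 20, 93, 1, 0, 9, 6, 8, 60, 61, 59, 4, 7, 5, 54, 55, 53, 46, 47, 41, 111]

def t1iL : List ℕ := [94, 10, 66, 67, 62, 63, 2, 3, 65, 64, 39, 104, 43, 24, 23, 25, 27, 44, 102, 19, 31, 22, 34, 105, 95, 0, 106, 107, 35, 28, 100, 33, 20, 36, 47, 41, 32, 101, 38, 26, 48, 45, 21, 30, 37, 29, 103, 42, 46, 14, 97, 17, 11, 98, 96, 40, 18, 12, 99, 16, 13, 15, 90, 72, 92, 73, 91, 93, 80, 5, 84, 8, 75, 89, 77, 69, 68, 76, 6, 4, 74, 79, 88, 85, 82, 9, 7, 70, 87, 71, 81, 78, 83, 86, 61, 109, 56, 58, 52, 111, 57, 51, 54, 55, 53, 108, 1, 110, 49, 60, 59, 50]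

def t2iL : List ℕ := [95, 94, 16, 31, 102, 104, 97, 103, 98, 96, 49, 37, 35, 77, 80, 83, 2, 17, 18, 27, 92, 21, 29, 23, 24, 25, 38, 19, 28, 22, 30, 3, 84, 81, 34, 12, 88, 11, 26, 90, 71, 110, 70, 72, 68, 73, 108, 109, 69, 10, 65, 64, 62, 107, 105, 106, 66, 67, 63, 101, 99, 100, 52, 58, 51, 50, 56, 57, 44, 48, 42, 40, 43, 45, 74, 87, 76, 13, 85, 79, 14, 33, 91, 15, 32, 78, 86, 75, 36, 89, 39, 82, 20, 93, 1, 0, 9, 6, 8, 60, 61, 59, 4, 7, 5, 54, 55, 53, 46, 47, 41, 111]

/-- the two generating permutations as raw functions (`true` is the first). -/
def tf (b : Bool) (x : Fin 112) : Fin 112 := Fin.ofNat 112 ((if b then t1L else t2L).getD x.val 0)

def tfi (b : Bool) (x : Fin 112) : Fin 112 := Fin.ofNat 112 ((if b then t1iL else t2iL).getD x.val 0)

set_option maxRecDepth 100000 in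
lemma tfi_tf : ∀ (b : Bool) (x : Fin 112), tfi b (tf b x) = x := by decide +kernel

set_option maxRecDepth 100000 in
lemma tf_tfi : ∀ (b : Bool) (x : Fin 112), tf b (tfi b x) = x := by decide +kernel

def tg (b : Bool) : Equiv.Perm (Fin 112) where
  toFun := tf b
  invFun := tfi b
  left_inv := tfi_tf b
  right_inv := tf_tfi b

lemma tg_apply (b : Bool) (x : Fin 112) : tg b x = tf b x := rfl

/-- the permutation group of degree 112. -/
abbrev RU : Subgroup (Equiv.Perm (Fin 112)) :=
  Subgroup.closure ({tg true, tg false} : Set (Equiv.Perm (Fin 112)))

def cW0 : List (List Bool) := [[],
  [false, true, true, true, true],
  [true, true, true, false, true, true, true, true, false, true, true],
  [true, false, true, true, true, true, false, true, true, true],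
  [false, true, true, false, true, true, true, false, true, true],
  [true, false, true, false, true, true, true, false],
  [false, true, true, false, true, true, true, false],
  [false, true, false, true, false, true, true, true, true],
  [true, false, true, true, true, false, true, true, true, false],
  [true, true, true, false, true, true],
  [true, true, true, true, false, true, true, true, true],
  [false, true, true, false, true, true, false, true, true],
  [true, true, true, false, true, true, true],
  [true, true, false],
  [false, true, true, false, true, true, false],
  [true, true],
  [false, true, true, true, false, true, true, true, true, false, true, true],
  [true, false, true, true, true, false, true, true, false],
  [true, true, true, false, true, true, true, false, true, true],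
  [false, true, true, true, false, true, false, true, true, false, true, true],
  [false, true, false, true, true],
  [true, true, true, false, true, true, true, true, false],
  [true, true, false, true, true, true, true, false],
  [true, false, true, false, true, true, true, false, true, true],
  [true, false],
  [true],
  [true, true, false, true, true, true, true],
  [true, true, true, false, true, false, true, true, false, true, true],
  [true, false, true, true, true, false, true, true, true],
  [false, true, true, false, true, true, true, true, false],
  [true, false, true, true, true],
  [true, true, true, true, false, true, false, true, true],
  [true, false, true, false, true, true],
  [true, true, true, false, true, false, true, true],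
  [true, false, true, true, true, true, false],
  [false, true, true, true, false, true, true, true],
  [true, true, false, true, false, true, true],
  [true, true, false, true, true, false, true, true],
  [false, true, true, false, true, true, true, true],
  [true, true, true, false, true, true, true, true],
  [true, true, true, true, false, true, false, true, true, true, true],
  [false, true, false, true, false, true, true, false, true, true],
  [false, true, false, true, false, true, false, true, true],
  [true, true, false, true, true, true],
  [false, true, true, true, false, true, true, false],
  [true, false, true, true, false, true, true, true, true, false],
  [true, true, false, true, false, true, true, true, true],
  [false, true, true, true, true, false],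
  [true, true, true, false, true, false, true, true, true, true],
  [true, false, true, true, false, true, true, false],
  [true, true, true, false, true, true, true, false],
  [false, true, true, false, true, true],
  [true, false, true, true, false, true, true, false, true, true],
  [false, true, true, false, true, false, true, true, false, true, true],
  [true, false, true, true, true, false, true, true],
  [false, true, false, true, true, true, true],
  [false, true, true, false, true, true, true, true, false, true, true],
  [true, true, true, true, false, true, true, true],
  [true, false, true, true, true, false],
  [false, true, false, true, true, false, true, true],
  [true, true, true, false],
  [true, true, true],
  [true, false, true, true, true, false, true, true, true, true],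
  [false, true, false, true, true, true, false],
  [true, true, false, true, true],
  [false, true, true, true, false, true, true, true, false],
  [true, true, false, true, true, true, true, false, true, true],
  [false, true, true, true, true, false, true, true, true],
  [true, true, true, false, true, true, false],
  [true, true, false, true, false, true, true, true, false],
  [true, false, true, false, true, false, true, true],
  [true, true, false, true, true, true, false, true, true, true, false],
  [false, true, true, false, true, true, true],
  [false, true, false, true, true, false, true, true, true, true, false],
  [true, false, true, true, false],
  [false, true, true, false, true, false, true, false, true, true],
  [true, true, true, true, false, true, true, false],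
  [false, true, true, false],
  [false, true, true, true, true, false, true, true],
  [true, false, true, true, false, true, true, true, false, true, true],
  [true, true, false, true, true, false],
  [false, true, true, true, false, true, false, true, true],
  [true, false, true, true, false, true, false, true, true],
  [false, true, true],
  [false, true, false, true, false, true, true],
  [true, true, true, true, false, true, true],
  [true, false, true, false, true, false, true, true, true, true],
  [true, true, false, true, false, true, false, true, true],
  [false, true, true, false, true, false, true, true],
  [true, true, true, false, true, true, true, false, true, true, true, false],
  [false, true, true, true, false, true, true, true, true],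
  [true, false, true, true, true, true, false, true, true],
  [true, false, true, true],
  [true, true, false, true, false, true, false, true, true, true, true],
  [true, true, true, true],
  [false],
  [false, true, true, true, false, true, true],
  [true, true, false, true, true, true, false],
  [true, true, false, true, true, false, true, true, false, true, true],
  [false, true, true, true, false],
  [false, true, true, true],
  [true, false, true, true, false, true, true],
  [true, true, false, true, true, true, false, true, true],
  [true, false, true, false, true, true, true, true],
  [false, true, false, true, false, true, true, true, false],
  [false, true, false, true, true, true, false, true, true],
  [true, false, true, true, true, true],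
  [true, true, false, true, false, true, true, false, true, true],
  [true, true, false, true, true, false, true, true, false],
  [true, true, true, true, false],
  [true, false, true, false, true, true, false, true, true],
  [true, true, true, true, false, true, true, true, false]]

set_option maxRecDepth 100000 in
lemma cfix0 : ∀ w ∈ cW0, ∀ b ∈ ([] : List (Fin 112)), evf tf w b = b := by decide +kernel

set_option maxRecDepth 100000 in
lemma cnd0 : (cW0.map (fun w => evf tf w (0 : Fin 112))).Nodup := by decide +kernel

lemma clen0 : cW0.length = 112 := by decide +kernel

def cW1 : List (List Bool) := [[],
  [false, true, false, true, true, true, false, true, false, true, true, false, true, false, true, false, true, true, false, true, true],
  [true, true, false, true, true, true, false, true, true, true, true, false, true, false, true, true, true, false],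
  [false, true, false, true, true, false, true, false, true, true, false, true, true, true, false, true, true, true],
  [false, true, false, true, true, true, false, true, false, true, false, true, true, false, true, false, true, true, false, true],
  [false, true, false, true, false, true, true, true, false, true, true, false, true, false, true, false, true],
  [false, true, false, true, true, true, false, true, true, false, true, true, true, false, true, true, true],
  [false, true, true, false, true, true, false, true, false, true, true, false, true, false, true, true, true, false, true, true, true],
  [false, true, false, true, true, false, true, false, true, true, false, true, true, false, true, false, true, true, false, true],
  [true, false, true, true, true, false, true, false, true, true, false, true, true, true, true],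
  [true, false, true, false, true, false, true, true, false, true, false, true, false],
  [false, true, false, true, true, true, false, true, false, true, false, true, true, false, true, false, true, true, true],
  [false, true, true, true, false, true, true, true, true, false, true, false, true, false, true, false],
  [true, true, true, false, true, false, true, false, true, true, false, true, true, false, true, false],
  [false, true, true, true, false, true, true, true, true, false, true, false, true, true, false],
  [true, true, false, true, true, true, true, false, true, false, true, true, true],
  [false, true, true, false, true, false, true, true, true, false, true, false, true, false, true, false, true, true, true],
  [true, false, true, false, true, true, false, true, false, true, false, true, true, true, false, true, true],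
  [true, false, true, false, true, false, true, true, false, true, true, false, true, true, true, true, false, true],
  [false, true, false, true, true, false, true, true, true, false, true, true, true, true, false],
  [true, false, true, false, true, true, false, true, true, true, false, true, true, true, true, false, true, true, true, true],
  [true, false, true, true, true, false, true, true, false, true, true, false, true, true, true, true],
  [true, false, true, true, false, true, false, true, true, true, true, false, true, false, true, true, true, true, false, true, true, true],
  [true, false, true, true, false, true, true, true, true, false, true, true, false, true, false, true, false, true, true, true, false],
  [true, false, true, false, true, true, true, true, false, true, true, false, true, false, true, true, true, true],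
  [false, true, true, true, false, true, true, true, false, true, false, true, false, true, false, true, true, true, false, true, true],
  [true, true, true, false, true, false, true, false, true, true, false, true, true, true, false],
  [true, true, true, false, true, true, true, false, true, true, false, true, true, true, false, true, false, true, false],
  [true, false, true, false, true, true, true, false, true, false, true, true, true, false, true, true],
  [true, false, true, true, true, false, true, true, true, true, false, true, true, false, true, true, true, true],
  [false, true, true, false, true, true, true, true, false, true, false, true, true, false, true, true, true],
  [false, true, false, true, true, false, true, false, true, true, false, true, true, true, false, true, true, false, true],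
  [false, true, false, true, true, true, true, false, true, false, true, true, true, false, true, false],
  [true, true, false, true, false, true, true, true, false, true, false, true, false, true, true, true, false, true],
  [false, true, false, true, true, false, true, true, false, true, false, true, true, true, false, true, false],
  [true, false, true, false, true, true, false, true, false, true, false, true, true, true, false, true, false, true],
  [true, true, true, true, false, true],
  [true, false, true, true, false, true, true, false, true, false, true, true, false, true, true, true, false, true, true],
  [false, true, true, false, true, false, true, true, true, true, false, true, true, true, false],
  [false, true, true, false, true, true, true, true, false, true, false, true, false, true, false, true, true, true],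
  [false, true, false, true, false, true, true, true, false, true, true, false, true, false, true, true],
  [true, true, false, true, false, true, false, true, true, false, true, false, true, false, true, true, true, true],
  [true, false, true, true, false, true, true, true, false, true, true, false, true, true, true, false, true, false, true],
  [false, true, true, true, true, false, true, false],
  [false, true, true, true, true, false, true, true, true, false, true, false, true, true, true, true, false, true, true, true, false],
  [false, true, true, false, true, true, false, true, false, true, true, true, false, true, true, true, false, true, true, true],
  [true, true, true, true, false, true, false, true, true, true, false, true, true, true, true, false, true, false, true, true, false],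
  [false, true, false, true, false, true, true, true, true, false, true, false, true, true, true, false, true, false, true, true, true, true],
  [true, true, true, true, false, true, true, false, true, false, true, false, true, true, false, true, true, false],
  [true, false, true, true, false, true, false, true, true, true, false, true, false, true, false, true],
  [false, true, false, true, true, true, false, true, true, true, false, true, false, true, false, true, true, false, true, false, true],
  [true, false, true, true, false, true, false, true, false, true, true, true, false, true, false, true, false, true, false, true],
  [false, true, false, true, true, true, false, true, false, true, false, true, true, true, false, true, true, true],
  [false, true, true, true, false, true, true, false, true, true, true, false, true, true, false, true, false, true],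
  [true, false, true, false, true, false, true, true, true, false, true, true, true, false, true, false, true, true, false],
  [false, true, false, true, true, false, true, false, true, true, false, true, true, false, true, false, true, true, true],
  [true, false, true, false, true, true, true, true, false, true, true, false, true, false, true, true, true, false, true],
  [false, true, false, true, true, true, false, true, false, true, false, true, true, true, false, true, true, false, true],
  [true, false, true, false, true, false, true, true, false, true, true, false],
  [false, true, false, true, true, false, true, true, true, true, false, true, false, true, false, true, false, true, true],
  [true, false, true, true, true, false, true, false, true, true, false, true, true, true, false, true],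
  [false, true, false, true, false, true, true, false, true, false, true, true, true, true, false, true, true],
  [true, false, true, false, true, true, false, true, true, true, true, false, true, false, true, false, true, true, false],
  [true, false, true, true, false, true, false, true, true, true, false, true, false, true, true],
  [true, true, true, false, true, false, true, true, true, false, true, false, true, true, true, false, true, true, true, false, true, true],
  [true, true, false, true, false, true, true, false, true, true, false, true, true, true, true, false, true, false, true, true],
  [true, true, false, true, false, true, true, false, true, false, true, true, true, false, true, true, false, true, false, true, true, true, false],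
  [true, true, true, false, true, true, false, true, true, false, true, true, true, false, true, true, true, false, true, false, true],
  [false, true, false, true, true, false, true, false, true, false, true, false, true, true, true, false, true, true, false, true],
  [true, true, false, true, true, true, true, false, true, false, true, true, false, true],
  [false, true, false, true, true, true, false, true, true, false, true, true, false, true, false, true, true, false, true],
  [false, true, false, true, true, false, true, false, true, false, true, false, true, true, true, false, true, true, true],
  [true, true, false, true, false, true, true, false, true, false, true, false, true, false, true, true, true, false, true],
  [true, true, true, true, false, true, true, false, true, false, true, false, true, true, false, true, false, true, false],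
  [true, true, false, true, false, true, true, true, false, true, false, true, false, true, true, true, true],
  [true, false, true, false, true, true, true, false, true, false, true, true, true, false, true, false, true],
  [true, false, true, true, true, false, true, true, false, true, true, false, true, true, true, false, true],
  [true, true, true, false, true, true, false, true, true, true, false, true, false, true, false, true, true, false, true, true, false, true, false, true],
  [true, false, true, false, true, true, false, true, true, true, true, false, true, true, false, true, true, false],
  [false, true, false, true, true, false, true, true, true, false, true, true, true, false, true, false],
  [true, true, false, true, true, true, false, true, false, true, true, true, true, false, true, true, false, true, false, true, true]]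

set_option maxRecDepth 100000 in
lemma cfix1 : ∀ w ∈ cW1, ∀ b ∈ ([0] : List (Fin 112)), evf tf w b = b := by decide +kernel

set_option maxRecDepth 100000 in
lemma cnd1 : (cW1.map (fun w => evf tf w (1 : Fin 112))).Nodup := by decide +kernel

lemma clen1 : cW1.length = 81 := by decide +kernel

def cW2 : List (List Bool) := [[],
  [false, true, true, false, true, true, true, false, true, true, true, false, true, true, true, false, true, false, true, true, true, false, true, true, true, false, true, false],
  [false, true, true, false, true, true, false, true, true, false, true, true, true, false, true, true, true, false, true, true, true, false],
  [false, true, false, true, true, true, true, false, true, false, true, true, true, true, false],
  [true, false, true, true, false, true, true, true, false, true, true, false, true, true, true, false, true, true],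
  [false, true, true, true, false, true, false, true, true, true, true, false, true, false, true, false],
  [true, true, true, false, true, true, true, false, true, true, true, false, true, false, true, false, true, false, true, true, false, true, false],
  [true, false, true, true, true, false, true, false, true, false, true, true, true, false, true, true, false, true, false, true, false, true, true, false, true, true, true, true, false, true],
  [false, true, true, true, true, false, true, true, true, false, true, true, false, true, false, true, true, true, true, false, true, false, true, false, true, true, false, true, true],
  [true, false, true, false, true, false, true, false, true, true, false, true, true, true, true, false, true, true, false],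
  [true, true, true, true, false, true, false, true, true, true, true, false, true, false, true, true, true, true, false, true],
  [false, true, false, true, true, true, false, true, true, true, false, true, false, true, true, false, true, false, true, true, false, true, false, true, true, false],
  [true, false, true, false, true, false, true, true, true, false, true, true, false, true, false, true, true, false, true, true, false, true, false, true, true, true, false, true],
  [false, true, true, true, true, false, true, true, true, false, true, false, true, true, true, true, false, true, true, false, true, false],
  [true, true, false, true, false, true, false, true, false, true, true, false, true, true, true, false, true, false, true, false, true, true, true, true, false, true, true],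
  [false, true, true, true, false, true, false, true, true, false, true, true, false, true, false, true, false, true, true, false, true, true, true, false, true, false, true, false],
  [false, true, true, false, true, true, true, false, true, false, true, true, true, false, true, true, true, false, true, true, false, true, false, true, false, true, true, false, true, true],
  [false, true, true, true, false, true, false, true, true, true, true, false, true, false, true, true, false, true, true, true, true, false, true, false, true, true, true, true, false],
  [true, false, true, false, true, true, true, false, true, false, true, true, true, true, false, true, false, true, false, true, false, true, true, false, true, true, false, true],
  [false, true, false, true, true, true, true, false, true, false, true, true, true, false, true, true, true, true, false, true, false, true, true, true, true, false, true, true, false],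
  [false, true, false, true, false, true, true, true, false, true, true, true, false, true, false, true, true, true, false, true, false, true, true, true],
  [true, false, true, true, true, false, true, false, true, false, true, true, false, true, true, false, true, false, true, true, false, true, false],
  [true, false, true, false, true, false, true, false, true, true, false, true, false, true, true, true, false, true, true, false, true, true],
  [true, false, true, false, true, false, true, true, true, true, false, true, true, true, false, true, false, true, false, true, false, true, true, true, true, false, true, true, true],
  [false, true, true, false, true, false, true, true, false, true, true, true, false, true, true, true, false, true, false, true, true, true, false, true, true, true, true, false],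
  [false, true, false, true, false, true, false, true, false, true, true, true, true, false, true, false, true, true, true, true, false, true, true, false, true, false, true],
  [false, true, false, true, true, true, true, false, true, false, true, true, false, true, false, true, true, true, true, false, true, false, true, false],
  [false, true, true, true, false, true, false, true, false, true, true, true, true, false, true, true, false, true, false, true, false, true, false, true, true, true, false],
  [false, true, true, false, true, false, true, true, false, true, true, false, true, false, true, false, true, true, false, true, true, true, false, true, true, true, false, true],
  [true, true, false, true, true, false, true, false, true, false, true, true, true, false, true, true, false, true, false, true, false, true, false]]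

set_option maxRecDepth 100000 in
lemma cfix2 : ∀ w ∈ cW2, ∀ b ∈ ([0, 1] : List (Fin 112)), evf tf w b = b := by decide +kernel

set_option maxRecDepth 100000 in
lemma cnd2 : (cW2.map (fun w => evf tf w (2 : Fin 112))).Nodup := by decide +kernel

lemma clen2 : cW2.length = 30 := by decide +kernel

def cW3 : List (List Bool) := [[],
  [false, true, false, true, true, false, true, true, false, true, true, false, true, false, true, false, true, true, true, true, false, true, true, false, true, true, false, true, false, true, true, false],
  [false, true, false, true, true, true, true, false, true, false, true, true, false, true, true, false, true, true, true, false, true, true, false, true, true],
  [true, true, true, false, true, true, true, true, false, true, false, true, false, true, true, false, true, true, false, true, false, true, true, false, true, true, false, true, true, false]]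

set_option maxRecDepth 100000 in
lemma cfix3 : ∀ w ∈ cW3, ∀ b ∈ ([0, 1, 2] : List (Fin 112)), evf tf w b = b := by decide +kernel

set_option maxRecDepth 100000 in
lemma cnd3 : (cW3.map (fun w => evf tf w (3 : Fin 112))).Nodup := by decide +kernel

lemma clen3 : cW3.length = 4 := by decide +kernel

def cW4 : List (List Bool) := [[],
  [true, true, true, true, false, true, true, false, true, true, true, false, true, true, false, true, false, true, true, true, true, false, true, true, false, true, true, true, true, false, true, true, true],
  [true, true, false, true, false, true, true, true, false, true, false, true, true, true, true, false, true, true, true, false, true, true, false, true, true, true, false, true]]

set_option maxRecDepth 100000 in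
lemma cfix4 : ∀ w ∈ cW4, ∀ b ∈ ([0, 1, 2, 3] : List (Fin 112)), evf tf w b = b := by decide +kernel

set_option maxRecDepth 100000 in
lemma cnd4 : (cW4.map (fun w => evf tf w (4 : Fin 112))).Nodup := by decide +kernel

lemma clen4 : cW4.length = 3 := by decide +kernel

set_option maxRecDepth 100000 in
lemma trans0 : ∀ i : Fin 112, ∃ w ∈ cW0, evf tf w 0 = i := by decide +kernel

theorem card_RU_ge : 3265920 ≤ Nat.card RU := by
  have h0 := chain_step tg tf tg_apply [] 0 cW0 cfix0 cnd0
  rw [clen0] at h0
  have h1 := chain_step tg tf tg_apply [0] 1 cW1 cfix1 cnd1
  rw [clen1] at h1
  have h2 := chain_step tg tf tg_apply [0, 1] 2 cW2 cfix2 cnd2
  rw [clen2] at h2
  have h3 := chain_step tg tf tg_apply [0, 1, 2] 3 cW3 cfix3 cnd3
  rw [clen3] at h3
  have h4 := chain_step tg tf tg_apply [0, 1, 2, 3] 4 cW4 cfix4 cnd4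
  rw [clen4] at h4
  have hlast := one_le_card_fixList (Subgroup.closure ({tg true, tg false} : Set (Equiv.Perm (Fin 112)))) [0, 1, 2, 3, 4]
  change 3265920 ≤ Nat.card (Subgroup.closure ({tg true, tg false} : Set (Equiv.Perm (Fin 112))))
  rw [fixList_nil] at h0
  simp only [List.nil_append, List.cons_append] at h0 h1 h2 h3 h4
  omega

end Cfsg.Agent.Helper15.McLU4
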