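import Mathlib
import Cfsg.Prelude.Def_Classical
import Cfsg.Agent.Lib.Helper15.U43c
import Cfsg.Agent.Lib.Helper15.McLU4a

set_option autoImplicit false

/-!
# The point stabiliser of the McLaughlin group is `PSU₄(3)`: the unitary side (helper15)

`SU₄(3)` permutes the 112 totally isotropic lines of its natural module.
Data produced by an external search; everything is re-checked by the kernel.
-/

namespace Cfsg.Agent.Helper15.McLU4

open Matrix SylGen Psl27 U43

/-- a base-9 digit of a code as an element of `R9`: a digit `d` stands for `d % 3 + (d / 3) i`. -/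
def d9 (c k : ℕ) : R9 := ⟨((c / 9 ^ k % 9 % 3 : ℕ) : ZMod 3), ((c / 9 ^ k % 9 / 3 : ℕ) : ZMod 3)⟩

def mat42 (c : ℕ) : Matrix (Fin 4) (Fin 2) R9 := fun i j => d9 c (2 * i.val + j.val)

def mat24 (c : ℕ) : Matrix (Fin 2) (Fin 4) R9 := fun i j => d9 c (4 * i.val + j.val)

/-- codes of bases of the 112 totally isotropic lines. -/
def LBC : List ℕ := [19191250, 23974462, 38323450, 5912191, 17735113, 6561730, 30686527, 11003527, 19178533, 31959361, 8333200, 2598886, 11318455, 19191331, 33540400, 16068619, 5531653, 4016062, 15071347, 13122730, 29328400, 6515803, 38310409, 15550300, 33514318, 29951695, 30424087, 23941819, 2953180, 2539837, 4547503, 10294939, 38290726, 33534001, 19165411, 2362690, 11239723, 29413693, 17931943, 10229329, 33507757, 3071278, 4193209, 16016131, 4488454, 33540481, 15779935, 10846063, 12853729, 15510934, 2894131, 23968063, 8051077, 30122281, 5689117, 4724650, 32011849, 38323207, 4134160, 10163719, 5977801, 15038542, 19185094, 23961502, 14959810, 29918890, 23974300, 5439799, 8129809, 15241933, 12939022, 6745438, 33540157, 16160473, 38297287,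 32103703, 11351260, 10754209, 5387311, 29367766, 16317937, 29840158, 30489697, 33540238, 29597401, 38323126, 23948380, 23974543, 38316970, 12893095, 6240241, 17603893, 11521846, 8162614, 32261167, 10701721, 23974219, 17669503, 4665601, 10491769, 3957013, 6043411, 30358477, 19191493, 3130327, 38323369, 15596227, 6476437, 19158850, 19191574, 33527440, 2421739]

/-- codes of left inverses of the bases. -/
def LLC : List ℕ := [531442, 531442, 531442, 59050, 59050, 59050, 59050, 59050, 59050, 59050, 59050, 59050, 59050, 531442, 531442, 59050, 59050, 59050, 59050, 59050, 59050, 59050, 59050, 59050, 59050, 59050, 59050, 59050, 59050, 59050, 59050, 59050, 59050, 59050, 59050, 59050, 59050, 59050, 59050, 59050, 59050, 59050, 59050, 59050, 59050, 531442, 59050, 59050, 59050, 59050, 59050, 59050, 59050, 59050, 59050, 59050, 59050, 531442, 59050, 59050, 59050, 59050, 59050, 59050, 59050, 59050, 531442, 59050, 59050, 59050, 59050, 59050, 531442, 59050, 59050, 59050, 59050, 59050, 59050, 59050, 59050, 59050, 59050, 531442, 59050, 531442, 59050, 531442, 59050, 59050, 59050, 59050,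 59050, 59050, 59050, 59050, 531442, 59050, 59050, 59050, 59050, 59050, 59050, 531442, 59050, 531442, 59050, 59050, 59050, 531442, 59050, 59050]

/-- the basis of the `i`-th line, as a `4 × 2` matrix. -/
def LB (i : Fin 112) : Matrix (Fin 4) (Fin 2) R9 := mat42 (LBC.getD i.val 0)

/-- a left inverse of it. -/
def LL (i : Fin 112) : Matrix (Fin 2) (Fin 4) R9 := mat24 (LLC.getD i.val 0)

def yC (b : Bool) : ℕ := if b then 199297115550711 else 205894147563397

def yiC (b : Bool) : ℕ := if b then 187423675257033 else 205894147563397

/-- the two generators of `SU₄(3)`. -/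
def yM (b : Bool) : Matrix (Fin 4) (Fin 4) R9 := mat94 (yC b)

/-- their inverses. -/
def yMi (b : Bool) : Matrix (Fin 4) (Fin 4) R9 := mat94 (yiC b)

set_option maxRecDepth 100000 in
lemma yM_det : ∀ b : Bool, (yM b).det = 1 := by decide +kernel

set_option maxRecDepth 100000 in
lemma yM_unitary : ∀ b : Bool, (yM b)ᵀ * (yM b).map (fun x => x ^ 3) = 1 := by decide +kernel

set_option maxRecDepth 100000 in
lemma yM_inv : ∀ b : Bool, yM b * yMi b = 1 := by decide +kernel

set_option maxRecDepth 100000 in
lemma LL_LB : ∀ i : Fin 112, LL i * LB i = 1 := by decide +kernel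

set_option maxRecDepth 100000 in
lemma rel1 : ∀ (b : Bool) (i : Fin 112),
    yM b * LB i = LB (tf b i) * (LL (tf b i) * (yM b * LB i)) := by decide +kernel

set_option maxRecDepth 100000 in
lemma rel2 : ∀ (b : Bool) (i : Fin 112),
    yMi b * LB (tf b i) = LB i * (LL i * (yMi b * LB (tf b i))) := by decide +kernel

set_option maxRecDepth 100000 in
lemma LB_inj0 : ∀ j : Fin 112, LB j * (LL j * LB 0) = LB 0 → j = 0 := by decide +kernel

end Cfsg.Agent.Helper15.McLU4
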