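import Mathlib
import Cfsg.Prelude.Def_Classical
import Cfsg.Agent.Lib.Helper15.U43c
import Cfsg.Agent.Lib.Helper15.McLU4b

set_option autoImplicit false

/-!
# The point stabiliser of the McLaughlin group is `PSU₄(3)`: `PSU₄(3)` as a permutation group
of degree 112 (helper15)
-/

namespace Cfsg.Agent.Helper15.McLU4

open Matrix SylGen Psl27 U43

/-- injectivity of an equivariant family from transitivity and one base point. -/
theorem inj_of_trans {M X : Type*} (act : M → X → X) {m : ℕ} (Ω : Fin m → X) (A : Bool → M)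
    (s si : Bool → Fin m → Fin m) (hs : ∀ b x, s b (si b x) = x)
    (hrel : ∀ b i, act (A b) (Ω i) = Ω (s b i))
    (hinj : ∀ b, Function.Injective (act (A b)))
    (x0 : Fin m) (W : List (List Bool)) (hW : ∀ i : Fin m, ∃ w ∈ W, evf s w x0 = i)
    (h0 : ∀ j, Ω x0 = Ω j → j = x0) : Function.Injective Ω := by
  have key : ∀ (w : List Bool) (j : Fin m), Ω (evf s w x0) = Ω j → evf s w x0 = j := by
    intro w
    induction w with
    | nil => intro j h; exact (h0 j h).symm
    | cons b w ih =>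
      intro j h
      change Ω (s b (evf s w x0)) = Ω j at h
      change s b (evf s w x0) = j
      rw [← hs b j, ← hrel, ← hrel] at h
      rw [ih (si b j) (hinj b h), hs]
  intro i j h
  obtain ⟨w, -, rfl⟩ := hW i
  exact key w j h

variable {K : Type*} [Field K]

/-- the image of a set of vectors under a matrix. -/
def actS (A : Matrix (Fin 4) (Fin 4) K) (S : Set (Fin 4 → K)) : Set (Fin 4 → K) :=
  (fun v => A *ᵥ v) '' S

lemma actS_one (S : Set (Fin 4 → K)) : actS 1 S = S := by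
  unfold actS
  simp

lemma actS_mul (A B : Matrix (Fin 4) (Fin 4) K) (S : Set (Fin 4 → K)) :
    actS (A * B) S = actS A (actS B S) := by
  unfold actS
  rw [Set.image_image]
  simp only [Matrix.mulVec_mulVec]

/-- the column space of a `4 × 2` matrix. -/
def colSp (B : Matrix (Fin 4) (Fin 2) K) : Set (Fin 4 → K) :=
  Set.range (fun c : Fin 2 → K => B *ᵥ c)

lemma actS_colSp (A Ai : Matrix (Fin 4) (Fin 4) K) (B B' : Matrix (Fin 4) (Fin 2) K)
    (C D : Matrix (Fin 2) (Fin 2) K) (hA : A * Ai = 1) (h1 : A * B = B' * C)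
    (h2 : Ai * B' = B * D) : actS A (colSp B) = colSp B' := by
  unfold actS colSp
  ext w
  constructor
  · rintro ⟨v, ⟨c, rfl⟩, rfl⟩
    refine ⟨C *ᵥ c, ?_⟩
    simp only [Matrix.mulVec_mulVec, h1]
  · rintro ⟨c, rfl⟩
    refine ⟨B *ᵥ (D *ᵥ c), ⟨D *ᵥ c, rfl⟩, ?_⟩
    simp only [Matrix.mulVec_mulVec]
    rw [← h2, ← Matrix.mul_assoc, hA, Matrix.one_mul]

lemma actS_injective (A Ai : Matrix (Fin 4) (Fin 4) K) (hA : Ai * A = 1) :
    Function.Injective (actS A) := by
  apply Set.image_injective.mpr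
  intro v w h
  have := congrArg (fun x => Ai *ᵥ x) h
  simpa only [Matrix.mulVec_mulVec, hA, Matrix.one_mulVec] using this

lemma actS_smul_colSp (c : K) (hc : c ≠ 0) (B : Matrix (Fin 4) (Fin 2) K) :
    actS (c • (1 : Matrix (Fin 4) (Fin 4) K)) (colSp B) = colSp B := by
  apply actS_colSp (c • (1 : Matrix (Fin 4) (Fin 4) K)) (c⁻¹ • (1 : Matrix (Fin 4) (Fin 4) K)) B B
    (c • (1 : Matrix (Fin 2) (Fin 2) K)) (c⁻¹ • (1 : Matrix (Fin 2) (Fin 2) K))
  · rw [smul_mul_smul_comm, mul_inv_cancel₀ hc, one_smul, Matrix.one_mul]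
  · rw [Matrix.smul_mul, Matrix.one_mul, Matrix.mul_smul, Matrix.mul_one]
  · rw [Matrix.smul_mul, Matrix.one_mul, Matrix.mul_smul, Matrix.mul_one]

lemma colSp_eq {B B' : Matrix (Fin 4) (Fin 2) K} (L' : Matrix (Fin 2) (Fin 4) K)
    (hL : L' * B' = 1) (h : colSp B = colSp B') : B' * (L' * B) = B := by
  ext i j
  have hmem : B *ᵥ (Pi.single j 1) ∈ colSp B' := by
    rw [← h]; exact ⟨_, rfl⟩
  obtain ⟨c, hc⟩ := hmem
  change B' *ᵥ c = B *ᵥ Pi.single j 1 at hc
  have h1 : c = L' *ᵥ (B *ᵥ Pi.single j 1) := by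
    rw [← hc, Matrix.mulVec_mulVec, hL, Matrix.one_mulVec]
  have h2 : (B' * (L' * B)) *ᵥ Pi.single j 1 = B *ᵥ Pi.single j 1 := by
    rw [← Matrix.mulVec_mulVec, ← Matrix.mulVec_mulVec, ← h1]
    exact hc
  have h3 := congrFun h2 i
  simpa only [Matrix.mulVec_single_one, Matrix.col_apply] using h3

section main

variable [Fintype K] (hK : Fintype.card K = 9) (ρ : R9 →+* K)

/-- the `i`-th line over `K`. -/
def lineK (i : Fin 112) : Set (Fin 4 → K) := colSp ((LB i).map ρ)

/-- the generators in `SU₄(K, 3)`. -/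
noncomputable def yG (b : Bool) : Cfsg.SU 4 K 3 := mkS hK ρ (yM b) (yM_det b) (yM_unitary b)

lemma toM_yG (b : Bool) : toM (yG hK ρ b) = (yM b).map ρ := rfl

omit [Fintype K] in
lemma yMi_yM (b : Bool) : (yMi b).map ρ * (yM b).map ρ = 1 := by
  rw [← Matrix.map_mul, mul_eq_one_comm.mp (yM_inv b)]
  exact Matrix.map_one ρ (map_zero ρ) (map_one ρ)

omit [Fintype K] in
lemma yM_yMi (b : Bool) : (yM b).map ρ * (yMi b).map ρ = 1 := by
  rw [← Matrix.map_mul, yM_inv b]
  exact Matrix.map_one ρ (map_zero ρ) (map_one ρ)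

omit [Fintype K] in
lemma rel_map (b : Bool) (i : Fin 112) :
    actS ((yM b).map ρ) (lineK ρ i) = lineK ρ (tf b i) := by
  unfold lineK
  apply actS_colSp ((yM b).map ρ) ((yMi b).map ρ) _ _ ((LL (tf b i) * (yM b * LB i)).map ρ)
    ((LL i * (yMi b * LB (tf b i))).map ρ) (yM_yMi ρ b)
  · rw [← Matrix.map_mul, ← Matrix.map_mul, ← rel1]
  · rw [← Matrix.map_mul, ← Matrix.map_mul, ← rel2]

omit [Fintype K] in
lemma lineK_injective (hρ : Function.Injective ρ) : Function.Injective (lineK ρ) := by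
  apply inj_of_trans actS (lineK ρ) (fun b => (yM b).map ρ) tf tfi tf_tfi (rel_map ρ)
    (fun b => actS_injective _ _ (yMi_yM ρ b)) 0 cW0 trans0
  intro j h
  apply LB_inj0 j
  have hL : (LL j).map ρ * (LB j).map ρ = 1 := by
    rw [← Matrix.map_mul, LL_LB]
    exact Matrix.map_one ρ (map_zero ρ) (map_one ρ)
  have h2 := colSp_eq ((LL j).map ρ) hL h
  rw [← Matrix.map_mul, ← Matrix.map_mul] at h2
  exact Matrix.map_injective hρ h2

/-- `PSU₄(K, 3)` for any field with nine elements is the permutation group of degree 112. -/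
theorem psu_equiv (hK : Fintype.card K = 9) : Nonempty (Cfsg.PSU 4 K 3 ≃* RU) := by
  obtain ⟨ρ, hρ⟩ := exists_ringHom9 hK
  have hZ : ∀ z ∈ Subgroup.center (Cfsg.SU 4 K 3), ∀ i,
      actS (toM z) (lineK ρ i) = lineK ρ i := by
    intro z hz i
    have h1 := Cfsg.Agent.Helper11.Herm.center_SU_scalar (hK' hK) 4 0 z hz
    have hc : (toM z) 0 0 ≠ 0 := by
      intro h0
      have hd := toM_det z
      have h2 : toM z = 0 := by
        change toM z = (toM z) 0 0 • (1 : Matrix (Fin 4) (Fin 4) K) at h1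
        rw [h1, h0, zero_smul]
      rw [h2, Matrix.det_zero] at hd
      exact zero_ne_one hd
    change toM z = (toM z) 0 0 • (1 : Matrix (Fin 4) (Fin 4) K) at h1
    rw [h1]
    exact actS_smul_colSp _ hc _
  have hc : Nat.card (Cfsg.SU 4 K 3) ≤ Nat.card (Subgroup.center (Cfsg.SU 4 K 3)) *
      Nat.card (Subgroup.closure ({tg true, tg false} : Set (Equiv.Perm (Fin 112)))) := by
    rw [card_SU hK, card_center hK]
    have h : 3265920 ≤ Nat.card (Subgroup.closure ({tg true, tg false} :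
      Set (Equiv.Perm (Fin 112)))) := card_RU_ge
    omega
  exact (quot_equiv_closure_act (toM (K := K)) actS actS_one actS_mul (lineK ρ)
    (lineK_injective ρ hρ.1) (yG hK ρ true) (yG hK ρ false) (tg true) (tg false)
    (fun i => rel_map ρ true i) (fun i => rel_map ρ false i)
    (Subgroup.center (Cfsg.SU 4 K 3)) hZ hc).2

end main

end Cfsg.Agent.Helper15.McLU4
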