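import Mathlib
import Cfsg.Prelude.Def_BaumannBlocks
import Cfsg.Agent.Lib.Helper15.CentrallyLarge

set_option autoImplicit false

namespace Cfsg.Agent.Helper15

open scoped Pointwise commutatorElement

variable {G : Type*} [Group G]

theorem IsMinimalCentrallyLarge.isCentrallyLarge {Q : Subgroup G}
    (h : Cfsg.IsMinimalCentrallyLarge Q) : Cfsg.IsCentrallyLarge Q := h.1

/-- for minimal centrally large `Q`, `R`: `Q = (Q ∩ R) Z(Q)` -/
theorem IsMinimalCentrallyLarge.inf_sup_centralizer [Finite G] {Q R : Subgroup G}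
    (hQ : Cfsg.IsMinimalCentrallyLarge Q) (hR : Cfsg.IsCentrallyLarge R) :
    (Q ⊓ R) ⊔ Subgroup.centralizer (Q : Set G) = Q := by
  have hQcl := hQ.1
  have hQcd := IsCentrallyLarge.isCentralizerLarge hQcl
  have hRcd := IsCentrallyLarge.isCentralizerLarge hR
  have hZQ := IsCentrallyLarge.centralizer_le hQcl
  have hZR := IsCentrallyLarge.centralizer_le hR
  have hD := IsCentralizerLarge.inf hQcd hRcd
  have hCQ := IsCentralizerLarge.centralizer hQcd
  apply hQ.2 _ (sup_le inf_le_left hZQ)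
  rw [isCentrallyLarge_iff]
  refine ⟨IsCentralizerLarge.sup hD hCQ, ?_⟩
  rw [centralizer_sup, IsCentralizerLarge.centralizer_centralizer hQcd,
    IsCentralizerLarge.centralizer_inf hQcd hRcd]
  intro x hx
  obtain ⟨hx1, hxQ⟩ := hx
  have hx1' : x ∈ ((Subgroup.centralizer (Q : Set G) ⊔ Subgroup.centralizer (R : Set G) : Subgroup G) : Set G) := hx1
  rw [IsCentralizerLarge.coe_centralizer_sup hQcd hRcd] at hx1'
  obtain ⟨z₁, hz₁, z₂, hz₂, rfl⟩ := Set.mem_mul.1 hx1'
  have hz₂Q : z₂ ∈ Q := by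
    have : z₂ = z₁⁻¹ * (z₁ * z₂) := by group
    rw [this]
    exact Q.mul_mem (Q.inv_mem (hZQ hz₁)) hxQ
  have hz₂D : z₂ ∈ Q ⊓ R := ⟨hz₂Q, hZR hz₂⟩
  have : z₁ * z₂ ∈ Subgroup.centralizer (Q : Set G) ⊔ (Q ⊓ R) := Subgroup.mul_mem_sup hz₁ hz₂D
  rwa [sup_comm] at this

theorem commElt_mul_right_of_commute_cl {a b z : G} (hz : Commute z a) :
    ⁅a, b * z⁆ = ⁅a, b⁆ := by
  rw [commutatorElement_def, commutatorElement_def]
  have h1 : z * a⁻¹ = a⁻¹ * z := hz.inv_right.eq
  calc a * (b * z) * a⁻¹ * (b * z)⁻¹ = a * b * (z * a⁻¹) * z⁻¹ * b⁻¹ := by group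
    _ = a * b * (a⁻¹ * z) * z⁻¹ * b⁻¹ := by rw [h1]
    _ = a * b * a⁻¹ * b⁻¹ := by group

theorem commElt_mul_left_of_commute_cl {a b z : G} (hz : Commute z b) :
    ⁅a * z, b⁆ = ⁅a, b⁆ := by
  rw [commutatorElement_def, commutatorElement_def]
  have h1 : z * b = b * z := hz.eq
  calc a * z * b * (a * z)⁻¹ * b⁻¹ = a * (z * b) * z⁻¹ * a⁻¹ * b⁻¹ := by group
    _ = a * (b * z) * z⁻¹ * a⁻¹ * b⁻¹ := by rw [h1]
    _ = a * b * a⁻¹ * b⁻¹ := by group

/-- if `Q = D Z` with `Z` central in `Q`, then `[Q,Q] = [D,D]` -/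
theorem commutator_eq_of_sup_central {Q D Z : Subgroup G}
    (hset : ((D ⊔ Z : Subgroup G) : Set G) = (D : Set G) * (Z : Set G)) (hQ : D ⊔ Z = Q)
    (hZ : Z ≤ Subgroup.centralizer (Q : Set G)) : ⁅Q, Q⁆ = ⁅D, D⁆ := by
  have hDQ : D ≤ Q := by rw [← hQ]; exact le_sup_left
  have hZQ : Z ≤ Q := by rw [← hQ]; exact le_sup_right
  apply le_antisymm
  · rw [Subgroup.commutator_le]
    intro a ha b hb
    have ha' : a ∈ ((D ⊔ Z : Subgroup G) : Set G) := by rw [hQ]; exact ha
    have hb' : b ∈ ((D ⊔ Z : Subgroup G) : Set G) := by rw [hQ]; exact hb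
    rw [hset] at ha' hb'
    obtain ⟨d₁, hd₁, z₁, hz₁, rfl⟩ := Set.mem_mul.1 ha'
    obtain ⟨d₂, hd₂, z₂, hz₂, rfl⟩ := Set.mem_mul.1 hb'
    have c1 : Commute z₁ (d₂ * z₂) := (Subgroup.mem_centralizer_iff.1 (hZ hz₁) _ hb).symm
    have c2 : Commute z₂ d₁ := (Subgroup.mem_centralizer_iff.1 (hZ hz₂) _ (hDQ hd₁)).symm
    rw [commElt_mul_left_of_commute_cl c1, commElt_mul_right_of_commute_cl c2]
    exact Subgroup.commutator_mem_commutator hd₁ hd₂
  · exact Subgroup.commutator_mono hDQ hDQ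

theorem IsMinimalCentrallyLarge.commutator_eq [Finite G] {Q R : Subgroup G}
    (hQ : Cfsg.IsMinimalCentrallyLarge Q) (hR : Cfsg.IsCentrallyLarge R) :
    ⁅Q, Q⁆ = ⁅Q ⊓ R, Q ⊓ R⁆ := by
  have hQcd := IsCentrallyLarge.isCentralizerLarge hQ.1
  have hRcd := IsCentrallyLarge.isCentralizerLarge hR
  apply commutator_eq_of_sup_central _ (IsMinimalCentrallyLarge.inf_sup_centralizer hQ hR) le_rfl
  exact IsCentralizerLarge.coe_sup (IsCentralizerLarge.inf hQcd hRcd)
    (IsCentralizerLarge.centralizer hQcd)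

/-- the numerical coincidences for two minimal centrally large subgroups -/
theorem IsMinimalCentrallyLarge.card_eq [Finite G] {Q R : Subgroup G}
    (hQ : Cfsg.IsMinimalCentrallyLarge Q) (hR : Cfsg.IsMinimalCentrallyLarge R) :
    Nat.card Q = Nat.card R ∧
      Nat.card ↥(Subgroup.centralizer (Q : Set G)) = Nat.card ↥(Subgroup.centralizer (R : Set G)) := by
  have hQcd := IsCentrallyLarge.isCentralizerLarge hQ.1
  have hRcd := IsCentrallyLarge.isCentralizerLarge hR.1
  have hZQ := IsCentrallyLarge.centralizer_le hQ.1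
  have hZR := IsCentrallyLarge.centralizer_le hR.1
  have hD := IsCentralizerLarge.inf hQcd hRcd
  have hCQ := IsCentralizerLarge.centralizer hQcd
  have hCR := IsCentralizerLarge.centralizer hRcd
  -- (1) |Q| |D ∩ Z(Q)| = |D| |Z(Q)|
  have e1 := card_mul_card_eq_of_coe_sup_eq_mul (IsCentralizerLarge.coe_sup hD hCQ)
  rw [IsMinimalCentrallyLarge.inf_sup_centralizer hQ hR.1] at e1
  have hD' : Cfsg.IsCentralizerLarge (R ⊓ Q) := by rw [inf_comm]; exact hD
  have e2 := card_mul_card_eq_of_coe_sup_eq_mul (IsCentralizerLarge.coe_sup hD' hCR)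
  rw [IsMinimalCentrallyLarge.inf_sup_centralizer hR hQ.1] at e2
  have i1 : (Q ⊓ R) ⊓ Subgroup.centralizer (Q : Set G) = R ⊓ Subgroup.centralizer (Q : Set G) := by
    rw [inf_comm Q R, inf_assoc, inf_eq_right.2 hZQ]
  have i2 : (R ⊓ Q) ⊓ Subgroup.centralizer (R : Set G) = Q ⊓ Subgroup.centralizer (R : Set G) := by
    rw [inf_comm R Q, inf_assoc, inf_eq_right.2 hZR]
  rw [i1] at e1
  rw [i2, inf_comm R Q] at e2
  -- (3) |D| |C(D)| = f₁
  have e3 : cdMeasure (Q ⊓ R) = cdMeasure Q := by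
    rw [isCentralizerLarge_iff.1 hD, isCentralizerLarge_iff.1 hQcd]
  have e3' : cdMeasure Q = cdMeasure R := by
    rw [isCentralizerLarge_iff.1 hRcd, isCentralizerLarge_iff.1 hQcd]
  unfold cdMeasure at e3 e3'
  rw [IsCentralizerLarge.centralizer_inf hQcd hRcd] at e3
  have e4 := card_mul_card_eq_of_coe_sup_eq_mul (IsCentralizerLarge.coe_centralizer_sup hQcd hRcd)
  have l1 : Nat.card ↥(Subgroup.centralizer (Q : Set G) ⊓ Subgroup.centralizer (R : Set G) : Subgroup G)
      ≤ Nat.card ↥(R ⊓ Subgroup.centralizer (Q : Set G) : Subgroup G) := by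
    apply Nat.card_mono (Set.toFinite _)
    exact SetLike.coe_subset_coe.2 (le_inf (inf_le_right.trans hZR) inf_le_left)
  have l2 : Nat.card ↥(Subgroup.centralizer (Q : Set G) ⊓ Subgroup.centralizer (R : Set G) : Subgroup G)
      ≤ Nat.card ↥(Q ⊓ Subgroup.centralizer (R : Set G) : Subgroup G) := by
    apply Nat.card_mono (Set.toFinite _)
    exact SetLike.coe_subset_coe.2 (le_inf (inf_le_left.trans hZQ) inf_le_right)
  set q := Nat.card Q
  set r := Nat.card R
  set zq := Nat.card ↥(Subgroup.centralizer (Q : Set G))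
  set zr := Nat.card ↥(Subgroup.centralizer (R : Set G))
  set d := Nat.card ↥(Q ⊓ R : Subgroup G)
  set a := Nat.card ↥(R ⊓ Subgroup.centralizer (Q : Set G) : Subgroup G)
  set b := Nat.card ↥(Q ⊓ Subgroup.centralizer (R : Set G) : Subgroup G)
  set c := Nat.card ↥(Subgroup.centralizer (Q : Set G) ⊓ Subgroup.centralizer (R : Set G) : Subgroup G)
  set e := Nat.card ↥(Subgroup.centralizer (Q : Set G) ⊔ Subgroup.centralizer (R : Set G) : Subgroup G)
  have hq : 0 < q := Nat.card_pos
  have hr : 0 < r := Nat.card_pos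
  have hzq : 0 < zq := Nat.card_pos
  have hzr : 0 < zr := Nat.card_pos
  have hd : 0 < d := Nat.card_pos
  have ha : 0 < a := Nat.card_pos
  have hb : 0 < b := Nat.card_pos
  have hc : 0 < c := Nat.card_pos
  have he : 0 < e := Nat.card_pos
  -- e1 : d * zq = q * a, e2 : d * zr = r * b, e3 : d * e = q * zq, e3' : q * zq = r * zr, e4 : zq * zr = e * c
  have g1 : e * a = zq * zq := by
    have : d * (e * a) = d * (zq * zq) := by
      calc d * (e * a) = (d * e) * a := by ring
        _ = q * zq * a := by rw [e3]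
        _ = (q * a) * zq := by ring
        _ = d * zq * zq := by rw [← e1]
        _ = d * (zq * zq) := by ring
    exact Nat.eq_of_mul_eq_mul_left hd this
  have g2 : e * b = zr * zr := by
    have : d * (e * b) = d * (zr * zr) := by
      calc d * (e * b) = (d * e) * b := by ring
        _ = r * zr * b := by rw [e3, e3']
        _ = (r * b) * zr := by ring
        _ = d * zr * zr := by rw [← e2]
        _ = d * (zr * zr) := by ring
    exact Nat.eq_of_mul_eq_mul_left hd this
  have g3 : zr * a = zq * c := by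
    have : (e * zq) * (zr * a) = (e * zq) * (zq * c) := by
      calc (e * zq) * (zr * a) = (e * a) * (zq * zr) := by ring
        _ = (zq * zq) * (e * c) := by rw [g1, e4]
        _ = (e * zq) * (zq * c) := by ring
    exact Nat.eq_of_mul_eq_mul_left (Nat.mul_pos he hzq) this
  have g4 : zq * b = zr * c := by
    have : (e * zr) * (zq * b) = (e * zr) * (zr * c) := by
      calc (e * zr) * (zq * b) = (e * b) * (zq * zr) := by ring
        _ = (zr * zr) * (e * c) := by rw [g2, e4]
        _ = (e * zr) * (zr * c) := by ring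
    exact Nat.eq_of_mul_eq_mul_left (Nat.mul_pos he hzr) this
  have g5 : a * b = c * c := by
    have : (zq * zr) * (a * b) = (zq * zr) * (c * c) := by
      calc (zq * zr) * (a * b) = (zr * a) * (zq * b) := by ring
        _ = (zq * c) * (zr * c) := by rw [g3, g4]
        _ = (zq * zr) * (c * c) := by ring
    exact Nat.eq_of_mul_eq_mul_left (Nat.mul_pos hzq hzr) this
  have g6 : a = c := by
    by_contra hne
    have hlt : c < a := lt_of_le_of_ne l1 (Ne.symm hne)
    have : c * c < a * b := Nat.mul_lt_mul_of_lt_of_le hlt l2 hb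
    omega
  have g7 : zr = zq := by
    rw [g6] at g3
    exact Nat.eq_of_mul_eq_mul_right hc g3
  refine ⟨?_, g7.symm⟩
  rw [g7] at e3'
  exact Nat.eq_of_mul_eq_mul_right hzq e3'

/-- if some minimal centrally large subgroup is abelian, the minimal centrally large subgroups are
exactly the abelian subgroups of largest order -/
theorem isMinimalCentrallyLarge_iff_maxAbelian [Finite G] {Q : Subgroup G}
    (hQ : Cfsg.IsMinimalCentrallyLarge Q) (hab : IsMulCommutative ↥Q) (X : Subgroup G) :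
    Cfsg.IsMinimalCentrallyLarge X ↔ X ∈ Cfsg.maxAbelianSubgroups G := by
  have hQcd := IsCentrallyLarge.isCentralizerLarge hQ.1
  have hCQ : Subgroup.centralizer (Q : Set G) = Q :=
    le_antisymm (IsCentrallyLarge.centralizer_le hQ.1) (Subgroup.le_centralizer_iff_isMulCommutative.2 hab)
  have hf : Cfsg.maxCentralizerProduct G = Nat.card Q * Nat.card Q := by
    rw [← isCentralizerLarge_iff.1 hQcd]
    unfold cdMeasure
    rw [hCQ]
  constructor
  · intro hX
    obtain ⟨h1, h2⟩ := IsMinimalCentrallyLarge.card_eq hX hQ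
    rw [hCQ] at h2
    have hCX : Subgroup.centralizer (X : Set G) = X :=
      Subgroup.eq_of_le_of_card_ge (IsCentrallyLarge.centralizer_le hX.1) (by rw [h2, h1])
    refine ⟨Subgroup.le_centralizer_iff_isMulCommutative.1 hCX.ge, fun B hB => ?_⟩
    have hB' : B ≤ Subgroup.centralizer (B : Set G) := Subgroup.le_centralizer_iff_isMulCommutative.2 hB
    have h3 : Nat.card B * Nat.card B ≤ Nat.card Q * Nat.card Q := by
      rw [← hf]
      refine le_trans ?_ (cdMeasure_le_max B)
      unfold cdMeasure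
      exact Nat.mul_le_mul_left _ (Nat.card_mono (Set.toFinite _) hB')
    rw [h1]
    exact Nat.mul_self_le_mul_self_iff.1 h3
  · intro hX
    have hCX := MaxAbelian.centralizer_eq hX
    have hle : Nat.card Q ≤ Nat.card X := hX.2 Q hab
    have hXcd : Cfsg.IsCentralizerLarge X := by
      rw [isCentralizerLarge_iff]
      apply le_antisymm (cdMeasure_le_max X)
      rw [hf]
      unfold cdMeasure
      rw [hCX]
      exact Nat.mul_le_mul hle hle
    have hXcl : Cfsg.IsCentrallyLarge X := isCentrallyLarge_iff.2 ⟨hXcd, hCX.le⟩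
    refine ⟨hXcl, fun X' hX'X hX' => ?_⟩
    have h1 : X' ≤ Subgroup.centralizer (X' : Set G) :=
      hX'X.trans (hCX.ge.trans (Subgroup.centralizer_le (SetLike.coe_subset_coe.2 hX'X)))
    have hCX' : Subgroup.centralizer (X' : Set G) = X' :=
      le_antisymm (IsCentrallyLarge.centralizer_le hX') h1
    have h2 : cdMeasure X' = cdMeasure X := by
      rw [isCentralizerLarge_iff.1 hXcd,
        isCentralizerLarge_iff.1 (IsCentrallyLarge.isCentralizerLarge hX')]
    unfold cdMeasure at h2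
    rw [hCX, hCX'] at h2
    have h3 : Nat.card X' = Nat.card X := by
      have := Nat.mul_self_le_mul_self_iff.1 h2.le
      have := Nat.mul_self_le_mul_self_iff.1 h2.ge
      omega
    exact Subgroup.eq_of_le_of_card_ge hX'X h3.ge

end Cfsg.Agent.Helper15
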