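import Mathlib
import Cfsg.Prelude.Def_LocalStructure
import Cfsg.Agent.Lib.Helper15.NPCDefs
import Cfsg.Agent.Lib.Helper25.NPCSUP
import Cfsg.Agent.Lib.Helper1.NPCNS1
import Cfsg.Agent.Lib.Helper3.NPCNS2
import Cfsg.Agent.Lib.Helper19.NPCSIMPLE
import Cfsg.Agent.Lib.Helper12.NPCFROB
import Cfsg.Agent.Lib.Helper12.NPCPSL

/-!
# S3875: the least order of a non-`p`-closed group  (helper15)   ASSEMBLY

Pieces: SUP (helper25), NS1 (helper1), NS2 (helper3), SIMPLE (helper19), FROB + PSL (helper12).
-/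

set_option autoImplicit false
set_option linter.style.haveILetI false
open Cfsg

namespace Cfsg.Agent.Helper15.NPC

/-! ## the non-simple minimal non-`p`-closed groups (assembled from NS1 + NS2) -/

theorem card_of_not_simple {G : Type*} [Group G] [Finite G] {p : ℕ} [Fact p.Prime]
    (hnc : ¬ IsPClosed p G) (hsub : ∀ H : Subgroup G, H ≠ ⊤ → IsPClosed p ↥H)
    (hquo : ∀ (N : Subgroup G) [N.Normal], N ≠ ⊥ → IsPClosed p (G ⧸ N))
    (hns : ¬ IsSimpleGroup G) :
    ∃ k : ℕ, IsPrimePow k ∧ k % p = 1 ∧ Nat.card G = p * k := by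
  obtain ⟨P⟩ : Nonempty (Sylow p G) := inferInstance
  obtain ⟨N, r, hNn, hr, hrp, hN, hN1, hPN, hmin⟩ := exists_normal_complement hnc hsub hquo hns P
  obtain ⟨hPc, hNc⟩ := card_of_complement hnc hsub hquo P N r hNn hr hrp hN hN1 hPN hmin
  haveI := hNn
  haveI : Fact r.Prime := ⟨hr⟩
  obtain ⟨a, ha⟩ := (IsPGroup.iff_card (p := r)).mp hN
  have ha0 : a ≠ 0 := by
    rintro rfl
    rw [pow_zero] at ha
    exact hN1 ((Subgroup.card_eq_one).mp ha)
  refine ⟨Nat.card ↥N, ?_, hNc, ?_⟩
  · rw [ha]
    exact ⟨r, a, hr.prime, Nat.pos_of_ne_zero ha0, rfl⟩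
  · -- `|G| = |P| |N|` since `P ⊓ N = ⊥` (coprime orders) and `P ⊔ N = ⊤`
    have hcop : Nat.Coprime (Nat.card ↥(P : Subgroup G)) (Nat.card ↥N) := by
      rw [hPc, ha]
      exact Nat.Coprime.pow_right a ((Nat.coprime_primes Fact.out hr).mpr (Ne.symm hrp))
    have hdisj : Disjoint (P : Subgroup G) N := Subgroup.disjoint_of_coprime_natCard hcop
    have hcompl : Subgroup.IsComplement' (P : Subgroup G) N :=
      Subgroup.isComplement'_of_disjoint_and_mul_eq_univ hdisj (by
        rw [← Subgroup.mul_normal, hPN, Subgroup.coe_top])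
    rw [← hcompl.card_mul_card, hPc]

/-! ## Assembly (helper15) -/

theorem isPClosed_of_card_lt (h999 : Hyp999) (p : ℕ) [Fact p.Prime] (hp : p ≠ 2) (m : ℕ)
    (hleast : ∀ k : ℕ, IsPrimePow k → k % p = 1 → m ≤ k) :
    ∀ (n : ℕ) (H : Type) [Group H] [Finite H], Nat.card H = n → ¬ IsPClosed p H →
      min (p * m) (p * (p ^ 2 - 1) / 2) ≤ n := by
  intro n
  induction n using Nat.strong_induction_on with
  | _ n ih =>
    intro H _ _ hcard hnc
    by_cases hsub : ∀ K : Subgroup H, K ≠ ⊤ → IsPClosed p ↥K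
    · by_cases hquo : ∀ (N : Subgroup H) [N.Normal], N ≠ ⊥ → IsPClosed p (H ⧸ N)
      · by_cases hs : IsSimpleGroup H
        · haveI := hs
          have := card_of_simple h999 p hp hnc
          rw [hcard] at this
          exact (min_le_right _ _).trans this
        · obtain ⟨k, hk, hk1, hHk⟩ := card_of_not_simple hnc hsub hquo hs
          have hmk := hleast k hk hk1
          rw [hcard] at hHk
          rw [hHk]
          exact (min_le_left _ _).trans (Nat.mul_le_mul_left p hmk)
      · push Not at hquo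
        obtain ⟨N, hNn, hN1, hNnc⟩ := hquo
        haveI := hNn
        have hlt : Nat.card (H ⧸ N) < n := by
          rw [← hcard]
          have h1 := Subgroup.card_eq_card_quotient_mul_card_subgroup N
          have h2 : 1 < Nat.card N := by
            rw [Subgroup.one_lt_card_iff_ne_bot]
            exact hN1
          have h3 : 0 < Nat.card (H ⧸ N) := Nat.card_pos
          nlinarith
        exact (ih _ hlt (H ⧸ N) rfl hNnc).trans hlt.le
    · push Not at hsub
      obtain ⟨K, hK1, hKnc⟩ := hsub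
      have hlt : Nat.card K < n := by
        rw [← hcard]
        rcases lt_or_eq_of_le (Subgroup.card_le_card_group K) with h | h
        · exact h
        · exact absurd (Subgroup.card_eq_iff_eq_top K |>.mp h) hK1
      exact (ih _ hlt K rfl hKnc).trans hlt.le

theorem main (h999 : Hyp999) (p : ℕ) [Fact p.Prime] (hp : p ≠ 2) (m : ℕ) (hm : IsPrimePow m)
    (hm1 : m % p = 1) (hleast : ∀ k : ℕ, IsPrimePow k → k % p = 1 → m ≤ k) :
    (∀ (H : Type) [Group H] [Finite H], ¬ Cfsg.IsPClosed p H →
        min (p * m) (p * (p ^ 2 - 1) / 2) ≤ Nat.card H) ∧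
      ∃ (H : Type) (_ : Group H) (_ : Finite H),
        Nat.card H = min (p * m) (p * (p ^ 2 - 1) / 2) ∧ ¬ Cfsg.IsPClosed p H := by
  refine ⟨fun H _ _ hnc => isPClosed_of_card_lt h999 p hp m hleast _ H rfl hnc, ?_⟩
  by_cases hle : p * m ≤ p * (p ^ 2 - 1) / 2
  · rw [min_eq_left hle]
    exact exists_frobenius p m hm hm1
  · rw [min_eq_right (not_le.mp hle).le]
    apply exists_psl
    -- `p ≥ 5`: for `p = 3` we have `m ≤ 4`
    have hp2 := (Fact.out : p.Prime).two_le
    by_contra h5
    have hp3 : p = 3 := by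
      have hlt : p < 5 := by omega
      have hpr := (Fact.out : p.Prime)
      interval_cases p
      · exact absurd rfl hp
      · rfl
      · exact absurd hpr (by decide)
    subst hp3
    have h4 : m ≤ 4 := hleast 4 ⟨2, 2, Nat.prime_two.prime, by norm_num, by norm_num⟩ (by norm_num)
    apply hle
    norm_num
    omega

end Cfsg.Agent.Helper15.NPC
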