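import Mathlib
import Cfsg.Agent.Lib.Helper25.OInvDefs
import Cfsg.Agent.Lib.Helper13.InvNAsmA
import Cfsg.Agent.Lib.Helper13.InvNTableH
import Cfsg.Agent.Lib.Helper6.ChevLSL2
import Cfsg.Agent.Lib.Helper15.InvNNACT
import Cfsg.Agent.Lib.Lead.ChevCore

/-!
# OINV-S1 piece SWAPN (helper15 for helper25): the elements `h n_y` of `N` swap `X_β`, `X_{-β}` when `y β = -β`,
and the effect of a left factor `h_r(v)` on the factor of the swap.
-/

set_option autoImplicit false
set_option linter.unusedSectionVars false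
set_option linter.unusedVariables false

namespace Cfsg.Agent.Helper25.OInv

open Cfsg Cfsg.Lie Cfsg.Agent.Lead.Chev Cfsg.Agent.Helper13.InvN Cfsg.Agent.Helper6.ChevL
  Cfsg.Agent.Helper6.SL2Hom Matrix

variable {F : Type*} [Field F] {D : ChevalleyDatum} (hF : ChevFacts D F)
include hF

/-- conjugation of a root element by `h n_y`, `h = T(c)` -/
theorem swapn_conj (c : ℕ → F) (hc : ∀ i < D.rank, c i ≠ 0) (h : GL D.Idx F)
    (hhc : (h : Matrix D.Idx D.Idx F) = Tmat D c) (y : List ℕ) (hy : WOK D y) (s : ℕ) (hs : s < D.nroots)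
    (u : F) :
    (h * nWordGL D hF.xadd y) * xGL D hF.xadd s u * (h * nWordGL D hF.xadd y)⁻¹ =
      xGL D hF.xadd (reflWord D y s)
        (chi D c (reflWord D y s) * (((signWord D (etaOf D) y s : ℤ) : F) * u)) := by
  have hlt : reflWord D y s < D.nroots := reflWord_lt D (etaOf D) hF.facts y hy s hs
  have e : (h * nWordGL D hF.xadd y) * xGL D hF.xadd s u * (h * nWordGL D hF.xadd y)⁻¹ =
      h * (nWordGL D hF.xadd y * xGL D hF.xadd s u * (nWordGL D hF.xadd y)⁻¹) * h⁻¹ := by group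
  rw [e, nWordGL_conj D hF.xadd (etaOf D) hF.nsimple y hy s hs u,
    hF.Tmat_conj_xGL h c hc hhc _ hlt]

/-- SWAPN (1) -/
theorem swap_of_N (c : ℕ → F) (hc : ∀ i < D.rank, c i ≠ 0) (h : GL D.Idx F)
    (hhc : (h : Matrix D.Idx D.Idx F) = Tmat D c) (y : List ℕ) (hy : WOK D y) (β : ℕ) (hβ : β < D.nroots)
    (hneg : reflWord D y β = D.neg β) :
    Swap hF (h * nWordGL D hF.xadd y) β (chi D c (D.neg β) * ((signWord D (etaOf D) y β : ℤ) : F)) ∧
      chi D c (D.neg β) * ((signWord D (etaOf D) y β : ℤ) : F) ≠ 0 := by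
  have hnβ : D.neg β < D.nroots := hF.sign.neg_lt β hβ
  have hσ : signWord D (etaOf D) y β = 1 ∨ signWord D (etaOf D) y β = -1 :=
    signWord_sq D (etaOf D) y (fun j hj s => (hF.nsimple j (hy j hj)).sign s) β
  have hχ : chi D c (D.neg β) ≠ 0 := chi_ne_zero D c hc _
  have hχn : chi D c (D.neg β) = (chi D c β)⁻¹ := chi_neg D hF.cartan_neg c β hβ
  have hχβ : chi D c β ≠ 0 := chi_ne_zero D c hc _
  refine ⟨⟨?_, ?_⟩, ?_⟩
  · intro u
    rw [swapn_conj hF c hc h hhc y hy β hβ u, hneg, mul_assoc]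
  · intro u
    rw [swapn_conj hF c hc h hhc y hy (D.neg β) hnβ u,
      reflWord_neg D (etaOf D) hF.facts y hy β hβ, hneg, hF.sign.neg_neg β hβ,
      signWord_neg hF y hy β hβ]
    congr 1
    rw [hχn]
    rcases hσ with h1 | h1 <;> rw [h1] <;> field_simp <;> push_cast <;> ring
  · rcases hσ with h1 | h1 <;> rw [h1]
    · simpa using hχ
    · simpa using hχ

/-- the character of `h_r(v)`: `χ(s) = v ^ corSum r s` -/
theorem swapn_chi_pow (r : ℕ) (v : F) (hv : v ≠ 0) (s : ℕ) :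
    chi D (fun i => v ^ ((D.coroot.getD r #[]).getD i 0)) s = v ^ corSum D r s := by
  simp only [corSum, chi]
  rw [zpow_list_sum v hv]
  congr 1
  apply List.map_congr_left
  intro i _
  rw [← _root_.zpow_mul]

/-- `corSum r (-β) = - corSum r β` -/
theorem swapn_corSum_neg (r : ℕ) (β : ℕ) (hβ : β < D.nroots) :
    corSum D r (D.neg β) = - corSum D r β := by
  simp only [corSum]
  have h1 : (List.range D.rank).map (fun i => (D.coroot.getD r #[]).getD i 0 * D.cartan i (D.neg β)) =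
      (List.range D.rank).map (fun i => -((D.coroot.getD r #[]).getD i 0 * D.cartan i β)) := by
    apply List.map_congr_left
    intro i hi
    rw [hF.cartan_neg i (List.mem_range.1 hi) β hβ, mul_neg]
  rw [h1]
  generalize (List.range D.rank) = l
  induction l with
  | nil => simp
  | cons a l ih => rw [List.map_cons, List.sum_cons, ih, List.map_cons, List.sum_cons, neg_add]

/-- SWAPN (2) -/
theorem swap_hGLt (t : GL D.Idx F) (β : ℕ) (hβ : β < D.nroots) (γ : F) (hsw : Swap hF t β γ) (r : ℕ)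
    (hr : r < D.nroots) (v : F) (hv : v ≠ 0) :
    Swap hF (hGLt D hF.xadd r v * t) β (v ^ corSum D r (D.neg β) * γ) := by
  have hnβ : D.neg β < D.nroots := hF.sign.neg_lt β hβ
  have hk : ((hGLt D hF.xadd r v : GL D.Idx F) : Matrix D.Idx D.Idx F) =
      Tmat D (fun i => v ^ ((D.coroot.getD r #[]).getD i 0)) := by
    rw [hGLt_val, hMat_eq_Tmat D hF.hall r hr v hv]
  have hc' : ∀ i < D.rank, (fun i => v ^ ((D.coroot.getD r #[]).getD i 0)) i ≠ 0 :=
    fun i _ => zpow_ne_zero _ hv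
  have hconj : ∀ (s : ℕ), s < D.nroots → ∀ u : F,
      hGLt D hF.xadd r v * xGL D hF.xadd s u * (hGLt D hF.xadd r v)⁻¹ =
        xGL D hF.xadd s (v ^ corSum D r s * u) := by
    intro s hs u
    rw [hF.Tmat_conj_xGL _ _ hc' hk s hs u, swapn_chi_pow hF r v hv s]
  obtain ⟨h1, h2⟩ := hsw
  refine ⟨?_, ?_⟩
  · intro u
    have e : hGLt D hF.xadd r v * t * xGL D hF.xadd β u * (hGLt D hF.xadd r v * t)⁻¹ =
        hGLt D hF.xadd r v * (t * xGL D hF.xadd β u * t⁻¹) * (hGLt D hF.xadd r v)⁻¹ := by group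
    rw [e, h1 u, hconj _ hnβ, mul_assoc]
  · intro u
    have e : hGLt D hF.xadd r v * t * xGL D hF.xadd (D.neg β) u * (hGLt D hF.xadd r v * t)⁻¹ =
        hGLt D hF.xadd r v * (t * xGL D hF.xadd (D.neg β) u * t⁻¹) * (hGLt D hF.xadd r v)⁻¹ := by group
    rw [e, h2 u, hconj _ hβ, swapn_corSum_neg hF r β hβ, _root_.zpow_neg, mul_inv, inv_inv, mul_assoc]

end Cfsg.Agent.Helper25.OInv
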