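import Mathlib
import Cfsg.Agent.Lib.Helper25.OInvDefs
import Cfsg.Agent.Lib.Helper13.InvNAsmA
import Cfsg.Agent.Lib.Helper13.InvNTableH
import Cfsg.Agent.Lib.Helper6.ChevLSL2
import Cfsg.Agent.Lib.Helper15.InvNNACT
import Cfsg.Agent.Lib.Helper15.OInvSWAPN

/-!
# OINV-S1 piece SQB (helper15 for helper25): the involution constraint at a root `s` forces the factor of `β` to be
a square (type B frames).
-/

set_option autoImplicit false
set_option linter.unusedSectionVars false
set_option linter.unusedVariables false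

namespace Cfsg.Agent.Helper25.OInv

open Cfsg Cfsg.Lie Cfsg.Agent.Lead.Chev Cfsg.Agent.Helper13.InvN Cfsg.Agent.Helper6.ChevL
  Cfsg.Agent.Helper6.SL2Hom Matrix

/-- parity lemma: exponent vectors congruent mod 2 give character values that differ by a nonzero square -/
theorem sqb_parity {F : Type*} [Field F] (c : ℕ → F) (l : List ℕ) (hc : ∀ i ∈ l, c i ≠ 0) (A B C : ℕ → ℤ)
    (hpar : ∀ i ∈ l, (A i + B i - C i) % 2 = 0) :
    ∃ z : F, z ≠ 0 ∧ (l.map fun i => c i ^ A i).prod * (l.map fun i => c i ^ B i).prod =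
      z * z * (l.map fun i => c i ^ C i).prod := by
  induction l with
  | nil => exact ⟨1, one_ne_zero, by simp⟩
  | cons a l ih =>
    obtain ⟨z, hz, hzz⟩ := ih (fun i hi => hc i (List.mem_cons_of_mem _ hi))
      (fun i hi => hpar i (List.mem_cons_of_mem _ hi))
    have ha : c a ≠ 0 := hc a List.mem_cons_self
    obtain ⟨k, hk⟩ := Int.dvd_of_emod_eq_zero (hpar a List.mem_cons_self)
    have hAB : A a + B a = C a + (k + k) := by omega
    refine ⟨c a ^ k * z, mul_ne_zero (zpow_ne_zero _ ha) hz, ?_⟩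
    rw [List.map_cons, List.prod_cons, List.map_cons, List.prod_cons, List.map_cons, List.prod_cons]
    have e1 : c a ^ A a * c a ^ B a = c a ^ C a * (c a ^ k * c a ^ k) := by
      rw [← zpow_add₀ ha, ← zpow_add₀ ha, ← zpow_add₀ ha, hAB]
    calc c a ^ A a * (l.map fun i => c i ^ A i).prod * (c a ^ B a * (l.map fun i => c i ^ B i).prod)
        = (c a ^ A a * c a ^ B a) * ((l.map fun i => c i ^ A i).prod * (l.map fun i => c i ^ B i).prod) := by
          ring
      _ = c a ^ k * z * (c a ^ k * z) * (c a ^ C a * (l.map fun i => c i ^ C i).prod) := by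
          rw [e1, hzz]; ring

variable {F : Type*} [Field F] {D : ChevalleyDatum} (hF : ChevFacts D F)
include hF

/-- injectivity of the parameter of a root element -/
theorem sqb_xGL_inj (hxi : XInj D F) (s : ℕ) (hs : s < D.nroots) (a b : F)
    (hab : xGL D hF.xadd s a = xGL D hF.xadd s b) : a = b := by
  have h1 : xGL D hF.xadd s (a + -b) = 1 := by
    rw [← xGL_mul, ← xGL_inv, hab, mul_inv_cancel]
  have h2 : D.x F s (a + -b) = 1 := by
    have := congrArg (fun g : GL D.Idx F => (g : Matrix D.Idx D.Idx F)) h1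
    simpa using this
  have h3 := hxi s hs _ h2
  linear_combination h3

/-- SQB -/
theorem typeB_square (hxi : XInj D F) (c : ℕ → F) (hc : ∀ i < D.rank, c i ≠ 0) (h : GL D.Idx F)
    (hhc : (h : Matrix D.Idx D.Idx F) = Tmat D c) (y : List ℕ) (hy : WOK D y)
    (htt : (h * nWordGL D hF.xadd y) * (h * nWordGL D hF.xadd y) = 1)
    (β : ℕ) (hβ : β < D.nroots) (s : ℕ) (hs : s < D.nroots) (hyy : reflWord D y (reflWord D y s) = s)
    (hpar : ∀ i < D.rank, (D.cartan i s + D.cartan i (reflWord D y s) - D.cartan i (D.neg β)) % 2 = 0)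
    (hsign : signWord D (etaOf D) y s * signWord D (etaOf D) y (reflWord D y s) *
      signWord D (etaOf D) y β = 1) :
    IsSquare (chi D c (D.neg β) * ((signWord D (etaOf D) y β : ℤ) : F)) := by
  set t := h * nWordGL D hF.xadd y with ht
  have hys : reflWord D y s < D.nroots := reflWord_lt D (etaOf D) hF.facts y hy s hs
  have hsq : ∀ r, signWord D (etaOf D) y r = 1 ∨ signWord D (etaOf D) y r = -1 :=
    fun r => signWord_sq D (etaOf D) y (fun j hj s => (hF.nsimple j (hy j hj)).sign s) r
  -- the involution constraint at `s`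
  have hinv : t⁻¹ = t := inv_eq_of_mul_eq_one_right htt
  have c1 := swapn_conj hF c hc h hhc y hy s hs 1
  have c2 := swapn_conj hF c hc h hhc y hy (reflWord D y s) hys
    (chi D c (reflWord D y s) * (((signWord D (etaOf D) y s : ℤ) : F) * 1))
  rw [← c1, hyy] at c2
  have c3 : t * (t * xGL D hF.xadd s 1 * t⁻¹) * t⁻¹ = xGL D hF.xadd s 1 := by
    have : t * (t * xGL D hF.xadd s 1 * t⁻¹) * t⁻¹ = (t * t) * xGL D hF.xadd s 1 * (t * t)⁻¹ := by group
    rw [this, htt]
    group
  rw [c3] at c2
  have hcon := sqb_xGL_inj hF hxi s hs _ _ c2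
  -- parity
  obtain ⟨z, hz, hzz⟩ := sqb_parity c (List.range D.rank)
    (fun i hi => hc i (List.mem_range.1 hi)) (fun i => D.cartan i s) (fun i => D.cartan i (reflWord D y s))
    (fun i => D.cartan i (D.neg β)) (fun i hi => hpar i (List.mem_range.1 hi))
  have hzz' : chi D c s * chi D c (reflWord D y s) = z * z * chi D c (D.neg β) := hzz
  refine ⟨z⁻¹, ?_⟩
  have hχ : chi D c (D.neg β) = z⁻¹ * z⁻¹ * (chi D c s * chi D c (reflWord D y s)) := by
    rw [hzz']
    field_simp
  rw [hχ]
  -- signs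
  have hsignF : ((signWord D (etaOf D) y s : ℤ) : F) * ((signWord D (etaOf D) y (reflWord D y s) : ℤ) : F) *
      ((signWord D (etaOf D) y β : ℤ) : F) = 1 := by
    have := congrArg (fun n : ℤ => (n : F)) hsign
    simpa using this
  have hβ2 : ((signWord D (etaOf D) y β : ℤ) : F) * ((signWord D (etaOf D) y β : ℤ) : F) = 1 := by
    rcases hsq β with h1 | h1 <;> rw [h1] <;> simp
  have hs2 : ((signWord D (etaOf D) y s : ℤ) : F) * ((signWord D (etaOf D) y s : ℤ) : F) = 1 := by
    rcases hsq s with h1 | h1 <;> rw [h1] <;> simp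
  have hy2 : ((signWord D (etaOf D) y (reflWord D y s) : ℤ) : F) *
      ((signWord D (etaOf D) y (reflWord D y s) : ℤ) : F) = 1 := by
    rcases hsq (reflWord D y s) with h1 | h1 <;> rw [h1] <;> simp
  -- `1 = χ(s) σ(y, ys) χ(ys) σ(y, s)`
  have hcon' : chi D c s * chi D c (reflWord D y s) *
      (((signWord D (etaOf D) y s : ℤ) : F) * ((signWord D (etaOf D) y (reflWord D y s) : ℤ) : F)) = 1 := by
    rw [hcon]
    ring
  have key : chi D c s * chi D c (reflWord D y s) * ((signWord D (etaOf D) y β : ℤ) : F) = 1 := by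
    have e : ((signWord D (etaOf D) y β : ℤ) : F) =
        ((signWord D (etaOf D) y s : ℤ) : F) * ((signWord D (etaOf D) y (reflWord D y s) : ℤ) : F) := by
      linear_combination (((signWord D (etaOf D) y s : ℤ) : F) *
        ((signWord D (etaOf D) y (reflWord D y s) : ℤ) : F)) * hsignF -
        ((signWord D (etaOf D) y β : ℤ) : F) * ((signWord D (etaOf D) y (reflWord D y s) : ℤ) : F) *
          ((signWord D (etaOf D) y (reflWord D y s) : ℤ) : F) * hs2 -
        ((signWord D (etaOf D) y β : ℤ) : F) * hy2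
    rw [e]
    exact hcon'
  calc z⁻¹ * z⁻¹ * (chi D c s * chi D c (reflWord D y s)) * ((signWord D (etaOf D) y β : ℤ) : F)
      = z⁻¹ * z⁻¹ * (chi D c s * chi D c (reflWord D y s) * ((signWord D (etaOf D) y β : ℤ) : F)) := by ring
    _ = z⁻¹ * z⁻¹ := by rw [key, mul_one]

end Cfsg.Agent.Helper25.OInv
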