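import Mathlib
import Cfsg.Agent.Lib.Helper2.OTDefs
import Cfsg.Agent.S0034

/-!
# S3999 piece N5 (helper15; skeleton by helper2): the number of Sylow `p`-subgroups of a Frobenius
group for a prime `p` dividing the order of the complement `C` is `[F : C] * n_p(C)`.
-/

set_option autoImplicit false
set_option linter.style.haveILetI false

namespace Cfsg.Agent.Helper2.OT

open Cfsg
open scoped Pointwise

namespace N5

/-- the index and the order of a Frobenius complement are coprime -/
theorem coprime_index_card {F : Type*} [Group F] [Finite F] (C : Subgroup F)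
    (hC : IsFrobeniusComplement C) : Nat.Coprime C.index (Nat.card C) := by
  have h := (Cfsg.Agent.S0034.result C hC).2
  have h1 : C.index ≡ 1 [MOD Nat.card C] := h
  have h2 := Nat.ModEq.gcd_eq h1
  rw [Nat.Coprime, h2]
  exact Nat.gcd_one_left _

end N5

/-- PIECE N5. -/
theorem frob_card_sylow {F : Type*} [Group F] [Finite F] (C : Subgroup F)
    (hC : IsFrobeniusComplement C) (p : ℕ) [Fact p.Prime] (hp : p ∣ Nat.card C) :
    Nat.card (Sylow p F) = C.index * Nat.card (Sylow p C) := by
  have hpp : p.Prime := Fact.out
  have hcop := N5.coprime_index_card C hC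
  have hpi : ¬ p ∣ C.index := by
    intro h
    have := Nat.dvd_gcd h hp
    rw [hcop] at this
    exact hpp.one_lt.ne' (Nat.dvd_one.1 this)
  obtain ⟨Q⟩ : Nonempty (Sylow p C) := inferInstance
  -- the image of `Q` in `F` is a Sylow subgroup
  have hp0 : IsPGroup p ((Q : Subgroup C).map C.subtype) := Q.isPGroup'.map _
  obtain ⟨P, hP⟩ := hp0.exists_le_sylow
  have hfac : (Nat.card F).factorization p = (Nat.card C).factorization p := by
    rw [← Subgroup.card_mul_index C, Nat.factorization_mul Nat.card_pos.ne'
      Subgroup.index_ne_zero_of_finite, Finsupp.add_apply,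
      Nat.factorization_eq_zero_of_not_dvd hpi, add_zero]
  have hcard : Nat.card (P : Subgroup F) = Nat.card ((Q : Subgroup C).map C.subtype) := by
    rw [Subgroup.card_map_of_injective C.subtype_injective, Sylow.card_eq_multiplicity,
      Sylow.card_eq_multiplicity, hfac]
  have hPe : (Q : Subgroup C).map C.subtype = (P : Subgroup F) :=
    Subgroup.eq_of_le_of_card_ge hP hcard.le
  have hPC : (P : Subgroup F) ≤ C := by
    rw [← hPe]; exact Subgroup.map_subtype_le _
  -- `P` is not trivial
  have hP1 : (P : Subgroup F) ≠ ⊥ := by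
    intro hb
    have h1 : Nat.card (P : Subgroup F) = 1 := by rw [hb, Subgroup.card_bot]
    rw [Sylow.card_eq_multiplicity, hfac] at h1
    have hpos : 0 < (Nat.card C).factorization p :=
      hpp.factorization_pos_of_dvd Nat.card_pos.ne' hp
    have : 1 < p ^ (Nat.card C).factorization p := Nat.one_lt_pow hpos.ne' hpp.one_lt
    omega
  -- the normalizer of `P` lies in `C`
  have hN : Subgroup.normalizer ((P : Subgroup F) : Set F) ≤ C := by
    intro g hg
    by_contra hgC
    apply hP1
    have h0 := hC.2.2 g hgC
    have hgP : g • P = P := Sylow.smul_eq_iff_mem_normalizer.2 hg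
    have h2 : (P : Subgroup F) ≤ MulAut.conj g • C := by
      have e : ((g • P : Sylow p F) : Subgroup F) = MulAut.conj g • (P : Subgroup F) :=
        Sylow.coe_subgroup_smul
      rw [hgP] at e
      rw [e]
      exact Subgroup.pointwise_smul_le_pointwise_smul_iff.2 hPC
    rw [eq_bot_iff, ← h0]
    exact le_inf hPC h2
  have e1 : Nat.card (Sylow p F) = (Subgroup.normalizer ((P : Subgroup F) : Set F)).index :=
    Sylow.card_eq_index_normalizer P
  have e2 : Nat.card (Sylow p C) =
      (Subgroup.normalizer (((P.subtype hPC : Sylow p C) : Subgroup C) : Set C)).index :=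
    Sylow.card_eq_index_normalizer _
  rw [e1, ← Subgroup.relIndex_mul_index hN, mul_comm, e2, Sylow.coe_subtype,
    ← Subgroup.subgroupOf_normalizer_eq hPC]
  rfl

end Cfsg.Agent.Helper2.OT
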