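import Mathlib
import Cfsg.Agent.Lib.Helper2.OTDefs

/-!
# S3999 piece TRANSPORT (helper15; skeleton by helper2): a Frobenius complement is (isomorphic to) a
Frobenius complement in a finite group living in `Type`.
-/

set_option autoImplicit false
set_option linter.style.haveILetI false

namespace Cfsg.Agent.Helper2.OT

open Cfsg
open scoped Pointwise

namespace TRANSPORT

/-- a copy of `Fin n` carrying no algebraic structure -/
structure Model (n : ℕ) : Type where
  /-- the underlying element -/
  val : Fin n

/-- `Model n` is `Fin n` -/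
def modelEquiv (n : ℕ) : Model n ≃ Fin n where
  toFun x := x.val
  invFun i := ⟨i⟩
  left_inv _ := rfl
  right_inv _ := rfl

instance (n : ℕ) : Finite (Model n) := Finite.of_equiv _ (modelEquiv n).symm

/-- being a Frobenius complement is invariant under group isomorphisms -/
theorem isFrobeniusComplement_map {F L : Type*} [Group F] [Group L] (φ : F ≃* L) (C : Subgroup F)
    (hC : IsFrobeniusComplement C) : IsFrobeniusComplement (C.map (φ : F →* L)) := by
  obtain ⟨h1, h2, h3⟩ := hC
  refine ⟨?_, ?_, ?_⟩
  · intro h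
    apply h1
    rwa [Subgroup.map_eq_bot_iff_of_injective _ φ.injective] at h
  · intro h
    apply h2
    rw [eq_top_iff] at h ⊢
    intro x _
    obtain ⟨y, hy, hxy⟩ := h (Subgroup.mem_top (φ x))
    have e : y = x := φ.injective hxy
    rwa [← e]
  · intro g hg
    obtain ⟨g', rfl⟩ := φ.surjective g
    have hg' : g' ∉ C := fun h => hg (Subgroup.mem_map_of_mem _ h)
    have h0 := h3 g' hg'
    rw [eq_bot_iff]
    rintro x ⟨hx1, hx2⟩
    obtain ⟨y, hy, rfl⟩ := hx1
    have hx2' : (φ g')⁻¹ * φ y * φ g' ∈ C.map (φ : F →* L) := by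
      have := (Subgroup.mem_pointwise_smul_iff_inv_smul_mem).1 hx2
      simpa [MulAut.smul_def] using this
    obtain ⟨z, hz, hzy⟩ := hx2'
    have e : z = g'⁻¹ * y * g' := by
      apply φ.injective
      have : (φ : F →* L) z = φ z := rfl
      rw [← this, hzy]
      simp
    have hy2 : y ∈ MulAut.conj g' • C := by
      rw [Subgroup.mem_pointwise_smul_iff_inv_smul_mem]
      have : (MulAut.conj g')⁻¹ • y = g'⁻¹ * y * g' := by simp [MulAut.smul_def]
      rw [this, ← e]
      exact hz
    have hy1 : y ∈ C ⊓ MulAut.conj g' • C := ⟨hy, hy2⟩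
    rw [h0, Subgroup.mem_bot] at hy1
    rw [Subgroup.mem_bot, hy1]
    simp

end TRANSPORT

/-- PIECE TRANSPORT. -/
theorem exists_small_model {F : Type*} [Group F] [Finite F] (C : Subgroup F)
    (hC : IsFrobeniusComplement C) :
    ∃ (L : Type) (_ : Group L) (_ : Finite L) (H : Subgroup L),
      IsFrobeniusComplement H ∧ Nonempty (C ≃* H) := by
  let e : TRANSPORT.Model (Nat.card F) ≃ F :=
    (TRANSPORT.modelEquiv (Nat.card F)).trans (Finite.equivFin F).symm
  letI : Group (TRANSPORT.Model (Nat.card F)) := e.group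
  let φ : F ≃* TRANSPORT.Model (Nat.card F) := (e.mulEquiv).symm
  exact ⟨TRANSPORT.Model (Nat.card F), inferInstance, inferInstance,
    C.map (φ : F →* TRANSPORT.Model (Nat.card F)),
    TRANSPORT.isFrobeniusComplement_map φ C hC, ⟨φ.subgroupMap C⟩⟩

end Cfsg.Agent.Helper2.OT
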