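import Mathlib
import Cfsg.Agent.Lib.Helper15.AmbMaschke
import Cfsg.Agent.Lib.Helper15.StronglyEmbedded
import Cfsg.Agent.Lib.Helper15.ConjAut

set_option autoImplicit false

/-!
# Groups of order 162 with a wreath-like Sylow 3-subgroup (helper15)
Group-theoretic part: a core-free subgroup of index 9 and a central element of order 3.
-/

namespace Cfsg.Agent.Helper15.Ord162

open Subgroup

variable {G : Type*} [Group G] [Finite G]

lemma fact162_three : (162 : ℕ).factorization 3 = 4 := by
  have h : (162 : ℕ) = 3 ^ 4 * 2 := by norm_num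
  rw [h, Nat.factorization_mul (by norm_num) (by norm_num),
    Nat.Prime.factorization_pow Nat.prime_three]
  simp [Nat.factorization_eq_zero_of_not_dvd]

lemma fact162_two : (162 : ℕ).factorization 2 = 1 := by
  have h : (162 : ℕ) = 2 ^ 1 * 81 := by norm_num
  rw [h, Nat.factorization_mul (by norm_num) (by norm_num),
    Nat.Prime.factorization_pow Nat.prime_two]
  simp [Nat.factorization_eq_zero_of_not_dvd]

lemma card_S (hG : Nat.card G = 162) (S : Sylow 3 G) : Nat.card S = 81 := by
  have h := S.card_eq_multiplicity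
  rw [hG, fact162_three] at h
  rw [h]; norm_num

lemma card_T (hG : Nat.card G = 162) (T : Sylow 2 G) : Nat.card T = 2 := by
  have h := T.card_eq_multiplicity
  rw [hG, fact162_two] at h
  rw [h]; norm_num

lemma sup_eq_top (hG : Nat.card G = 162) (S : Sylow 3 G) (T : Sylow 2 G) :
    (S : Subgroup G) ⊔ (T : Subgroup G) = ⊤ := by
  apply Subgroup.eq_top_of_card_eq
  have h1 : Nat.card (S : Subgroup G) ∣ Nat.card ((S : Subgroup G) ⊔ (T : Subgroup G) : Subgroup G) :=
    Subgroup.card_dvd_of_le le_sup_left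
  have h2 : Nat.card (T : Subgroup G) ∣ Nat.card ((S : Subgroup G) ⊔ (T : Subgroup G) : Subgroup G) :=
    Subgroup.card_dvd_of_le le_sup_right
  rw [card_S hG S] at h1
  rw [card_T hG T] at h2
  have h3 : Nat.card ((S : Subgroup G) ⊔ (T : Subgroup G) : Subgroup G) ∣ 162 := by
    rw [← hG]; exact Subgroup.card_subgroup_dvd_card _
  have h4 : 162 ∣ Nat.card ((S : Subgroup G) ⊔ (T : Subgroup G) : Subgroup G) := by
    have : (162 : ℕ) = 81 * 2 := by norm_num
    rw [this]
    exact Nat.Coprime.mul_dvd_of_dvd_of_dvd (by norm_num) h1 h2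
  rw [hG]
  exact Nat.dvd_antisymm h3 h4

/-- a nontrivial subgroup normalized by the `p`-group `S`, meeting `S`, contains a nontrivial
element of `S ∩ C(S)`. -/
lemma exists_central_mem {p : ℕ} [Fact p.Prime] (S N : Subgroup G) (hS : IsPGroup p S)
    (hN : S ≤ normalizer (N : Set G)) (hne : N ⊓ S ≠ ⊥) :
    ∃ x ∈ N ⊓ S, x ≠ 1 ∧ x ∈ centralizer (S : Set G) := by
  have : (N.subgroupOf S).Normal := Subgroup.normal_subgroupOf_of_le_normalizer hN
  have hne' : N.subgroupOf S ≠ ⊥ := by
    intro h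
    apply hne
    rw [eq_bot_iff]
    intro x hx
    have hx1 : (⟨x, hx.2⟩ : S) ∈ N.subgroupOf S := by
      rw [Subgroup.mem_subgroupOf]; exact hx.1
    rw [h, Subgroup.mem_bot] at hx1
    rw [Subgroup.mem_bot]
    exact congrArg Subtype.val hx1
  have h1 := Cfsg.Agent.Helper15.normal_inf_center_ne_bot' hS (N.subgroupOf S) hne'
  obtain ⟨⟨x, hxx⟩, hx1⟩ := (Subgroup.ne_bot_iff_exists_ne_one).mp h1
  rw [Subgroup.mem_inf, Subgroup.mem_subgroupOf, Subgroup.mem_center_iff] at hxx
  obtain ⟨hxN, hxc⟩ := hxx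
  refine ⟨(x : G), ⟨hxN, x.2⟩, ?_, ?_⟩
  · intro h
    apply hx1
    apply Subtype.ext
    apply Subtype.ext
    exact h
  · rw [Subgroup.mem_centralizer_iff]
    intro s hs
    have := hxc ⟨s, hs⟩
    exact congrArg Subtype.val this

end Cfsg.Agent.Helper15.Ord162
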