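import Mathlib
import Cfsg.Agent.Lib.Helper15.Ord162a

set_option autoImplicit false

namespace Cfsg.Agent.Helper15.Ord162

open Subgroup

variable {G : Type*} [Group G] [Finite G]

/-- The hypotheses of the order 162 statement. -/
structure Hyp (G : Type*) [Group G] [Finite G] where
  hG : Nat.card G = 162
  S : Sylow 3 G
  T : Sylow 2 G
  J : Subgroup G
  hJn : J.Normal
  hJcomm : IsMulCommutative J
  hJexp : ∀ a ∈ J, a ^ 3 = 1
  hJcard : Nat.card J = 27
  Z : Subgroup G
  hZ : Z = (S : Subgroup G) ⊓ Subgroup.centralizer ((S : Subgroup G) : Set G)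
  hZcard : Nat.card Z = 3
  hZT : Z ≤ Subgroup.centralizer ((T : Subgroup G) : Set G)
  hST : (S : Subgroup G) ⊓ Subgroup.centralizer ((T : Subgroup G) : Set G) ≠ S

namespace Hyp

variable (D : Hyp G)

lemma Z_central (z : G) (hz : z ∈ D.Z) (g : G) : g * z = z * g := by
  have hg : g ∈ (D.S : Subgroup G) ⊔ (D.T : Subgroup G) := by
    rw [sup_eq_top D.hG D.S D.T]; trivial
  have hle : (D.S : Subgroup G) ⊔ (D.T : Subgroup G) ≤ centralizer {z} := by
    apply sup_le
    · intro s hs
      rw [Subgroup.mem_centralizer_singleton_iff]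
      have hz' : z ∈ centralizer ((D.S : Subgroup G) : Set G) := by
        have := hz
        rw [D.hZ] at this
        exact this.2
      rw [Subgroup.mem_centralizer_iff] at hz'
      exact hz' s hs
    · intro t ht
      rw [Subgroup.mem_centralizer_singleton_iff]
      have hz' := D.hZT hz
      rw [Subgroup.mem_centralizer_iff] at hz'
      exact hz' t ht
  have := hle hg
  rw [Subgroup.mem_centralizer_singleton_iff] at this
  exact this

lemma Z_le_S : D.Z ≤ (D.S : Subgroup G) := by
  rw [D.hZ]; exact inf_le_left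

/-- `Z` is generated by any of its nonidentity elements. -/
lemma Z_le_of_mem {N : Subgroup G} {x : G} (hx : x ∈ D.Z) (hx1 : x ≠ 1) (hxN : x ∈ N) : D.Z ≤ N := by
  have : Fact (Nat.Prime 3) := ⟨Nat.prime_three⟩
  have h1 : Subgroup.zpowers x ≤ D.Z := by
    rw [Subgroup.zpowers_le]; exact hx
  have h2 : Subgroup.zpowers x = D.Z := by
    apply Subgroup.eq_of_le_of_card_ge h1
    rw [D.hZcard, Nat.card_zpowers]
    have hdvd : orderOf x ∣ 3 := by
      have : orderOf (⟨x, hx⟩ : D.Z) ∣ Nat.card D.Z := orderOf_dvd_natCard _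
      rw [D.hZcard] at this
      rwa [← Subgroup.orderOf_coe] at this
    rcases (Nat.dvd_prime Nat.prime_three).mp hdvd with h | h
    · exact absurd (orderOf_eq_one_iff.mp h) hx1
    · rw [h]
  rw [← h2, Subgroup.zpowers_le]
  exact hxN

/-- a nontrivial normal subgroup meeting `S` contains `Z`. -/
lemma Z_le_of_normal_of_inf (N : Subgroup G) (hN : N.Normal) (hne : N ⊓ (D.S : Subgroup G) ≠ ⊥) :
    D.Z ≤ N := by
  have : Fact (Nat.Prime 3) := ⟨Nat.prime_three⟩
  have hS : IsPGroup 3 (D.S : Subgroup G) := D.S.isPGroup'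
  have hle : (D.S : Subgroup G) ≤ normalizer (N : Set G) := by
    rw [Subgroup.normalizer_eq_top]; exact le_top
  obtain ⟨x, hx, hx1, hxc⟩ := exists_central_mem (D.S : Subgroup G) N hS hle hne
  have hxZ : x ∈ D.Z := by
    rw [D.hZ]; exact ⟨hx.2, hxc⟩
  exact D.Z_le_of_mem hxZ hx1 hx.1

lemma J_le_S : D.J ≤ (D.S : Subgroup G) := by
  have : Fact (Nat.Prime 3) := ⟨Nat.prime_three⟩
  have hJ : IsPGroup 3 D.J := IsPGroup.of_card (n := 3) (by rw [D.hJcard]; norm_num)
  obtain ⟨Q, hQ⟩ := hJ.exists_le_sylow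
  obtain ⟨g, hg⟩ := MulAction.exists_smul_eq G Q D.S
  have : D.J ≤ ((g • Q : Sylow 3 G) : Subgroup G) := by
    intro x hx
    rw [Sylow.smul_def, Sylow.pointwise_smul_def, Subgroup.mem_pointwise_smul_iff_inv_smul_mem]
    apply hQ
    have := D.hJn.conj_mem x hx g⁻¹
    simpa [MulAut.smul_def] using this
  rw [hg] at this
  exact this

end Hyp

end Cfsg.Agent.Helper15.Ord162
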