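import Mathlib
import Cfsg.Agent.Lib.Helper15.Ord162b

set_option autoImplicit false

namespace Cfsg.Agent.Helper15.Ord162

open Subgroup

variable {G : Type*} [Group G] [Finite G]

namespace Hyp

variable (D : Hyp G)

lemma J_ne_bot : D.J ≠ ⊥ := by
  intro h
  have := D.hJcard
  rw [h, Subgroup.card_bot] at this
  norm_num at this

lemma Z_ne_bot : D.Z ≠ ⊥ := by
  intro h
  have := D.hZcard
  rw [h, Subgroup.card_bot] at this
  norm_num at this

lemma Z_le_J : D.Z ≤ D.J := by
  apply D.Z_le_of_normal_of_inf D.J D.hJn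
  rw [inf_eq_left.mpr D.J_le_S]
  exact D.J_ne_bot

/-- every nontrivial normal subgroup contains `Z`. -/
lemma Z_le_of_normal (N : Subgroup G) (hN : N.Normal) (hne : N ≠ ⊥) : D.Z ≤ N := by
  by_cases h : N ⊓ (D.S : Subgroup G) = ⊥
  · exfalso
    -- |N| ≤ 2
    have hcard := Cfsg.Agent.Helper15.ConjAut.card_sup_of_le_normalizer (D.S : Subgroup G) N
      (by rw [Subgroup.normalizer_eq_top]; exact le_top) (by rw [inf_comm]; exact h)
    have hdvd : Nat.card ((D.S : Subgroup G) ⊔ N : Subgroup G) ∣ 162 := by
      rw [← D.hG]; exact Subgroup.card_subgroup_dvd_card _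
    rw [hcard, card_S D.hG D.S] at hdvd
    have hN2 : Nat.card N ∣ 2 := by
      have : (162 : ℕ) = 81 * 2 := by norm_num
      rw [this] at hdvd
      exact Nat.dvd_of_mul_dvd_mul_left (by norm_num) hdvd
    have hN1 : Nat.card N ≠ 1 := by
      intro h1
      exact hne (Subgroup.eq_bot_of_card_eq N h1)
    have hN2' : Nat.card N = 2 := by
      rcases (Nat.dvd_prime Nat.prime_two).mp hN2 with h1 | h1
      · exact absurd h1 hN1
      · exact h1
    -- N is a Sylow 2-subgroup, hence equals T
    have : Fact (Nat.Prime 2) := ⟨Nat.prime_two⟩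
    have hNp : IsPGroup 2 N := IsPGroup.of_card (n := 1) (by rw [hN2']; norm_num)
    obtain ⟨Q, hQ⟩ := hNp.exists_le_sylow
    have hQc : Nat.card Q = 2 := card_T D.hG Q
    have hNQ : N = (Q : Subgroup G) := by
      apply Subgroup.eq_of_le_of_card_ge hQ
      rw [hQc, hN2']
    obtain ⟨g, hg⟩ := MulAction.exists_smul_eq G Q D.T
    have hNT : N = (D.T : Subgroup G) := by
      rw [← hg, Sylow.smul_def, Sylow.pointwise_smul_def, ← hNQ]
      ext x
      rw [Subgroup.mem_pointwise_smul_iff_inv_smul_mem]
      constructor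
      · intro hx
        have := hN.conj_mem x hx g⁻¹
        simpa [MulAut.smul_def] using this
      · intro hx
        have := hN.conj_mem _ hx g
        simpa [MulAut.smul_def, mul_assoc] using this
    -- N normal of order 2 is central
    apply D.hST
    rw [inf_eq_left]
    intro s hs
    rw [Subgroup.mem_centralizer_iff]
    intro t ht
    -- t ∈ T = N; s t s⁻¹ ∈ N of order... N = {1, t}
    rw [SetLike.mem_coe, ← hNT] at ht
    by_cases ht1 : t = 1
    · rw [ht1]; simp
    have hconj : s * t * s⁻¹ ∈ N := hN.conj_mem t ht s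
    have hcard2 : ∀ a b : N, a ≠ 1 → b ≠ 1 → a = b := by
      intro a b ha hb
      have hfin : Fintype N := Fintype.ofFinite N
      have hc : Fintype.card N = 2 := by rw [← Nat.card_eq_fintype_card]; exact hN2'
      by_contra hab
      have h3 : 2 < Fintype.card N := by
        rw [Fintype.two_lt_card_iff]
        exact ⟨1, a, b, fun h => ha h.symm, fun h => hb h.symm, hab⟩
      omega
    have hne1 : (⟨s * t * s⁻¹, hconj⟩ : N) ≠ 1 := by
      intro h
      apply ht1
      have := congrArg Subtype.val h
      simp only [Subgroup.coe_one] at this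
      have h2 : t = s⁻¹ * (s * t * s⁻¹) * s := by group
      rw [h2, this]; group
    have hne2 : (⟨t, ht⟩ : N) ≠ 1 := by
      intro h
      exact ht1 (congrArg Subtype.val h)
    have := congrArg Subtype.val (hcard2 _ _ hne1 hne2)
    simp only at this
    symm
    calc s * t = s * t * s⁻¹ * s := by group
      _ = t * s := by rw [this]
  · exact D.Z_le_of_normal_of_inf N hN h

end Hyp

end Cfsg.Agent.Helper15.Ord162
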