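import Mathlib
import Cfsg.Agent.Lib.Helper15.Ord162c

set_option autoImplicit false

namespace Cfsg.Agent.Helper15.Ord162

open Subgroup

variable {G : Type*} [Group G] [Finite G]

namespace Hyp

variable (D : Hyp G)

/-- a `T`-invariant complement of `Z` in `J`. -/
lemma exists_compl : ∃ K : Subgroup G, K ≤ D.J ∧ (D.T : Subgroup G) ≤ normalizer (K : Set G) ∧
    D.Z ⊓ K = ⊥ ∧ D.Z ⊔ K = D.J := by
  have : Fact (Nat.Prime 3) := ⟨Nat.prime_three⟩
  have hTZ : (D.T : Subgroup G) ≤ normalizer (D.Z : Set G) := by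
    intro t ht
    rw [Subgroup.mem_normalizer_iff]
    intro z
    have key : ∀ z ∈ D.Z, t * z * t⁻¹ = z := by
      intro z hz
      have := D.Z_central z hz t
      rw [this]; group
    constructor
    · intro hz
      rw [key z hz]; exact hz
    · intro hz
      have h2 := key _ hz
      have h3 : t * z * t⁻¹ = t * (t * z * t⁻¹) * t⁻¹ := h2.symm
      have h4 : z = t * z * t⁻¹ := by
        have := congrArg (fun w => t⁻¹ * w * t) h3
        calc z = t⁻¹ * (t * z * t⁻¹) * t := by group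
          _ = t⁻¹ * (t * (t * z * t⁻¹) * t⁻¹) * t := this
          _ = t * z * t⁻¹ := by group
      rw [h4]; exact hz
  have hTJ : (D.T : Subgroup G) ≤ normalizer (D.J : Set G) := by
    have := D.hJn
    rw [Subgroup.normalizer_eq_top]; exact le_top
  obtain ⟨W, _, hWJ, hTW, hZW, hZW'⟩ := Cfsg.Agent.Helper15.AmbMaschke.amb_maschke (r := 3)
    (T := (D.T : Subgroup G)) (D := ⊥) (M := D.Z) (Y := D.J)
    bot_le D.Z_le_J (by rw [Subgroup.normalizer_eq_top]; exact le_top) hTZ hTJ
    (by rw [Subgroup.normalizer_eq_top]; exact le_top)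
    (by
      rw [Subgroup.commutator_le]
      intro a ha b hb
      rw [Subgroup.mem_bot]
      have := D.hJcomm
      have hc : (⟨a, ha⟩ : D.J) * ⟨b, hb⟩ = ⟨b, hb⟩ * ⟨a, ha⟩ := this.is_comm.comm _ _
      have hc' : a * b = b * a := congrArg Subtype.val hc
      rw [commutatorElement_def, hc']; group)
    (by
      intro y hy
      rw [Subgroup.mem_bot]
      exact D.hJexp y hy)
    (by rw [card_T D.hG D.T]; norm_num)
  exact ⟨W, hWJ, hTW, hZW, hZW'⟩

/-- a core-free subgroup of index 9. -/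
lemma exists_H : ∃ H : Subgroup G, H.index = 9 ∧ D.Z ⊓ H = ⊥ ∧ H.normalCore = ⊥ := by
  obtain ⟨K, hKJ, hTK, hZK, hZK'⟩ := D.exists_compl
  have hcomm : ∀ a ∈ D.J, ∀ b ∈ D.J, a * b = b * a := by
    intro a ha b hb
    have := D.hJcomm
    have hc : (⟨a, ha⟩ : D.J) * ⟨b, hb⟩ = ⟨b, hb⟩ * ⟨a, ha⟩ := this.is_comm.comm _ _
    exact congrArg Subtype.val hc
  have hZnK : D.Z ≤ normalizer (K : Set G) := by
    intro z hz
    rw [Subgroup.mem_normalizer_iff]
    intro k
    constructor
    · intro hk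
      have : z * k * z⁻¹ = k := by
        rw [hcomm z (D.Z_le_J hz) k (hKJ hk)]; group
      rw [this]; exact hk
    · intro hk
      have h1 : z * k * z⁻¹ ∈ D.J := hKJ hk
      have h2 : k ∈ D.J := by
        have := D.J.mul_mem (D.J.mul_mem (D.J.inv_mem (D.Z_le_J hz)) h1) (D.Z_le_J hz)
        have e : z⁻¹ * (z * k * z⁻¹) * z = k := by group
        rwa [e] at this
      have : z * k * z⁻¹ = k := by
        rw [hcomm z (D.Z_le_J hz) k h2]; group
      rw [← this]; exact hk
  have hKcard : Nat.card K = 9 := by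
    have h := Cfsg.Agent.Helper15.ConjAut.card_sup_of_le_normalizer D.Z K hZnK hZK
    rw [hZK', D.hJcard, D.hZcard] at h
    omega
  have hTKbot : (D.T : Subgroup G) ⊓ K = ⊥ := by
    apply Disjoint.eq_bot
    apply Subgroup.disjoint_of_coprime_natCard
    rw [card_T D.hG D.T, hKcard]; norm_num
  set H : Subgroup G := (D.T : Subgroup G) ⊔ K with hH
  have hHcard : Nat.card H = 18 := by
    rw [hH, Cfsg.Agent.Helper15.ConjAut.card_sup_of_le_normalizer (D.T : Subgroup G) K hTK hTKbot,
      card_T D.hG D.T, hKcard]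
  have hindex : H.index = 9 := by
    have := Subgroup.card_mul_index H
    rw [hHcard, D.hG] at this
    omega
  have hZH : D.Z ⊓ H = ⊥ := by
    by_contra hne
    obtain ⟨⟨x, hx⟩, hx1⟩ := (Subgroup.ne_bot_iff_exists_ne_one).mp hne
    have hx1' : x ≠ 1 := fun h => hx1 (Subtype.ext h)
    have hZleH : D.Z ≤ H := D.Z_le_of_mem hx.1 hx1' hx.2
    have hJH : D.J ≤ H := by
      rw [← hZK']
      exact sup_le hZleH le_sup_right
    have := Subgroup.card_dvd_of_le hJH
    rw [D.hJcard, hHcard] at this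
    norm_num at this
  refine ⟨H, hindex, hZH, ?_⟩
  by_contra hne
  have hle := D.Z_le_of_normal H.normalCore (Subgroup.normalCore_normal H) hne
  have hZleH : D.Z ≤ H := hle.trans (Subgroup.normalCore_le H)
  rw [inf_eq_left.mpr hZleH] at hZH
  exact D.Z_ne_bot hZH

end Hyp

end Cfsg.Agent.Helper15.Ord162
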