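import Mathlib

set_option autoImplicit false

/-!
# Embedding into the centralizer of a (3,3,3)-permutation (helper15)
-/

namespace Cfsg.Agent.Helper15.Ord162

open Subgroup Equiv

/-- the reference permutation. -/
def σ₀ : Perm (Fin 9) :=
  Equiv.swap (0 : Fin 9) 1 * Equiv.swap 1 2 * Equiv.swap 3 4 * Equiv.swap 4 5 * Equiv.swap 6 7 * Equiv.swap 7 8

lemma σ₀_pow : σ₀ ^ 3 = 1 := by decide

lemma σ₀_fpf : ∀ i : Fin 9, σ₀ i ≠ i := by decide

lemma cycleType_of_fpf (τ : Perm (Fin 9)) (h3 : τ ^ 3 = 1) (hf : ∀ i, τ i ≠ i) :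
    τ.cycleType = Multiset.replicate 3 3 := by
  have h1 : τ ≠ 1 := by
    intro h
    apply hf 0
    rw [h]; rfl
  have ho : orderOf τ = 3 := orderOf_eq_prime h3 h1
  have hp : (orderOf τ).Prime := by rw [ho]; exact Nat.prime_three
  obtain ⟨n, hn⟩ := Equiv.Perm.cycleType_prime_order hp
  rw [ho] at hn
  have hs : τ.cycleType.sum = 9 := by
    rw [Equiv.Perm.sum_cycleType]
    have : τ.support = Finset.univ := by
      ext i
      simp only [Equiv.Perm.mem_support, Finset.mem_univ, iff_true]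
      exact hf i
    rw [this]; rfl
  rw [hn, Multiset.sum_replicate] at hs
  have : n = 2 := by
    simp only [smul_eq_mul] at hs
    omega
  rw [hn, this]

lemma card_centralizer_σ₀ : Nat.card (centralizer ({σ₀} : Set (Perm (Fin 9)))) = 162 := by
  rw [Equiv.Perm.nat_card_centralizer, cycleType_of_fpf σ₀ σ₀_pow σ₀_fpf]
  simp
  decide

end Cfsg.Agent.Helper15.Ord162
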