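import Mathlib
import Cfsg.Agent.Lib.Helper15.Ord162d
import Cfsg.Agent.Lib.Helper15.Ord162e

set_option autoImplicit false

namespace Cfsg.Agent.Helper15.Ord162

open Subgroup Equiv

theorem perm_embed {G : Type*} [Group G] [Finite G] (hG : Nat.card G = 162) (H : Subgroup G)
    (hidx : H.index = 9) (hcore : H.normalCore = ⊥) (z : G) (hz : ∀ g : G, g * z = z * g)
    (hz3 : z ^ 3 = 1) (hzH : z ∉ H) :
    Nonempty (G ≃* centralizer ({σ₀} : Set (Perm (Fin 9)))) := by
  -- the coset action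
  set φ : G →* Perm (G ⧸ H) := MulAction.toPermHom G (G ⧸ H) with hφ
  have hφinj : Function.Injective φ := by
    rw [← MonoidHom.ker_eq_bot_iff, hφ, ← Subgroup.normalCore_eq_ker]
    exact hcore
  have hcard : Nat.card (G ⧸ H) = 9 := by
    rw [← Subgroup.index_eq_card]; exact hidx
  have hfin : Finite (G ⧸ H) := Nat.finite_of_card_ne_zero (by rw [hcard]; norm_num)
  let e : G ⧸ H ≃ Fin 9 := Finite.equivFinOfCardEq hcard
  set ψ : G →* Perm (Fin 9) := (Equiv.permCongrHom e).toMonoidHom.comp φ with hψ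
  have hψinj : Function.Injective ψ := by
    rw [hψ]
    exact (Equiv.permCongrHom e).injective.comp hφinj
  have hψapp : ∀ (g : G) (i : Fin 9), ψ g i = e (g • e.symm i) := by
    intro g i
    rfl
  set ζ : Perm (Fin 9) := ψ z with hζ
  have hζ3 : ζ ^ 3 = 1 := by
    rw [hζ, ← map_pow, hz3, map_one]
  have hζf : ∀ i, ζ i ≠ i := by
    intro i hi
    rw [hζ, hψapp] at hi
    have h2 : z • e.symm i = e.symm i := by
      apply e.injective
      rw [hi, Equiv.apply_symm_apply]
    obtain ⟨g, hg⟩ := QuotientGroup.mk_surjective (e.symm i)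
    rw [← hg] at h2
    have h3 : ((z * g : G) : G ⧸ H) = (g : G ⧸ H) := h2
    rw [QuotientGroup.eq] at h3
    apply hzH
    have h4 : (z * g)⁻¹ * g = z⁻¹ := by
      rw [← hz g]; group
    rw [h4] at h3
    exact (Subgroup.inv_mem_iff H).mp h3
  have hct : ζ.cycleType = σ₀.cycleType := by
    rw [cycleType_of_fpf ζ hζ3 hζf, cycleType_of_fpf σ₀ σ₀_pow σ₀_fpf]
  obtain ⟨c, hc⟩ := isConj_iff.mp (Equiv.Perm.isConj_iff_cycleType_eq.mpr hct)
  -- the twisted embedding
  set θ : G →* Perm (Fin 9) := (MulAut.conj c).toMonoidHom.comp ψ with hθ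
  have hθinj : Function.Injective θ := by
    rw [hθ]
    exact (MulAut.conj c).injective.comp hψinj
  have hθmem : ∀ g, θ g ∈ centralizer ({σ₀} : Set (Perm (Fin 9))) := by
    intro g
    rw [Subgroup.mem_centralizer_singleton_iff]
    have h1 : θ g = c * ψ g * c⁻¹ := rfl
    have h2 : ψ g * ζ = ζ * ψ g := by
      rw [hζ, ← map_mul, ← map_mul, hz g]
    rw [h1, ← hc]
    calc c * ψ g * c⁻¹ * (c * ζ * c⁻¹) = c * (ψ g * ζ) * c⁻¹ := by group
      _ = c * (ζ * ψ g) * c⁻¹ := by rw [h2]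
      _ = c * ζ * c⁻¹ * (c * ψ g * c⁻¹) := by group
  set θ' : G →* centralizer ({σ₀} : Set (Perm (Fin 9))) := θ.codRestrict _ hθmem with hθ'
  have hθ'inj : Function.Injective θ' := by
    intro a b hab
    apply hθinj
    exact congrArg Subtype.val hab
  have hbij : Function.Bijective θ' := by
    apply Function.Injective.bijective_of_nat_card_le hθ'inj
    rw [card_centralizer_σ₀, hG]
  exact ⟨MulEquiv.ofBijective θ' hbij⟩

theorem main {G : Type*} [Group G] [Finite G] (D : Hyp G) :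
    Nonempty (G ≃* centralizer ({σ₀} : Set (Perm (Fin 9)))) := by
  obtain ⟨H, hidx, hZH, hcore⟩ := D.exists_H
  obtain ⟨⟨z, hz⟩, hz1⟩ := (Subgroup.ne_bot_iff_exists_ne_one).mp D.Z_ne_bot
  have hz1' : z ≠ 1 := fun h => hz1 (Subtype.ext h)
  refine perm_embed D.hG H hidx hcore z (D.Z_central z hz) (D.hJexp z (D.Z_le_J hz)) ?_
  intro hzH
  have : z ∈ D.Z ⊓ H := ⟨hz, hzH⟩
  rw [hZH, Subgroup.mem_bot] at this
  exact hz1' this

end Cfsg.Agent.Helper15.Ord162
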