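import Mathlib
import Cfsg.Agent.Lib.Helper3.SmallOrd
import Cfsg.Agent.Lib.Lead.PermTools
import Cfsg.Agent.Lib.Helper27.SylowSieve

set_option autoImplicit false

/-!
# No simple group of order 3780 (piece S0983-ORD3780 of helper10's S0983)

`3780 = 2^2 * 3^3 * 5 * 7`.  `n_7 = 540` dies by Burnside transfer, `n_7 = 15` by the fixed-point
sieve, and for `n_7 = 36` the centralizer of a Sylow 7-subgroup has order 35, which gives a Sylow
5-subgroup whose normalizer has order divisible by 7; this is incompatible with the Sylow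
5-count.
-/

namespace Cfsg.Agent.Helper3.SmallOrd

variable {G : Type*} [Group G] [Finite G] [IsSimpleGroup G]

omit [Finite G] [IsSimpleGroup G] in
/-- if a subgroup `P` is centralized by an element `y`, then `P` normalizes the cyclic group
generated by `y` -/
theorem o3780_le_normalizer_zpowers (P : Subgroup G) {y : G}
    (hy : y ∈ Subgroup.centralizer (P : Set G)) :
    P ≤ Subgroup.normalizer ((Subgroup.zpowers y : Subgroup G) : Set G) := by
  intro x hx
  have hxy : x * y = y * x := (Subgroup.mem_centralizer_iff.1 hy) x hx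
  have hxC : x ∈ Subgroup.centralizer ((Subgroup.zpowers y : Subgroup G) : Set G) := by
    rw [Subgroup.mem_centralizer_iff]
    intro z hz
    obtain ⟨k, rfl⟩ := Subgroup.mem_zpowers_iff.1 hz
    exact ((Commute.zpow_left (show Commute y x from hxy.symm) k)).eq
  exact Subgroup.centralizer_le_normalizer _ hxC

theorem no_simple_3780 (h : Nat.card G = 3780) : False := by
  have hG : ∃ x y : G, x * y ≠ y * x :=
    Cfsg.Agent.Lead.nonabelian_of_not_prime (by rw [h]; norm_num)
  have hG2 : 2 < Nat.card G := by rw [h]; norm_num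
  have : Fact (Nat.Prime 7) := ⟨by norm_num⟩
  have : Fact (Nat.Prime 5) := ⟨by norm_num⟩
  obtain ⟨h7d, h7m, h7n, h7f, h7P⟩ :=
    basic hG (p := 7) (a := 1) (m := 540) Nat.one_pos (by rw [h]; norm_num) (by norm_num)
  obtain ⟨h5d, h5m, h5n, h5f, h5P⟩ :=
    basic hG (p := 5) (a := 1) (m := 756) Nat.one_pos (by rw [h]; norm_num) (by norm_num)
  have hpc7 := prime_case hG (p := 7) (m := 540) (by rw [h]) (by norm_num)
  have hpc5 := prime_case hG (p := 5) (m := 756) (by rw [h]) (by norm_num)
  have hP7' : ∀ R : Sylow 7 G, Nat.card (R : Subgroup G) = 7 := fun R => by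
    have := (h7P R).1
    rwa [pow_one] at this
  have hP5' : ∀ R : Sylow 5 G, Nat.card (R : Subgroup G) = 5 := fun R => by
    have := (h5P R).1
    rwa [pow_one] at this
  obtain ⟨P⟩ : Nonempty (Sylow 7 G) := inferInstance
  obtain ⟨k, c, hk, hk1, hck, hq⟩ :=
    Cfsg.Agent.Helper27.Sieve.sylow_sieve hG hG2 (by rw [h]; norm_num) P hP7'
  have hkd := Cfsg.Agent.Lead.relIndex_centralizer_normalizer_dvd P (hP7' P)
  have hcr := Cfsg.Agent.Helper27.Ord.card_centralizer_mul_relIndex (P : Subgroup G)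
  have hNP := (h7P P).2
  obtain ⟨n, hn⟩ : ∃ n, n = Nat.card (Sylow 7 G) := ⟨_, rfl⟩
  rw [← hn] at h7d h7m h7n h7f hpc7 hNP hq
  rw [h] at hNP h7f
  have hcases : n = 15 ∨ n = 36 ∨ n = 540 := by
    have hmem : n ∈ Nat.divisors 540 := Nat.mem_divisors.2 ⟨h7d, by norm_num⟩
    simp only [Nat.divisors_ofNat] at hmem
    simp only [Finset.mem_insert, Finset.mem_singleton] at hmem
    omega
  rcases hcases with rfl | rfl | rfl
  · -- `n_7 = 15`: the fixed-point sieve with `q = 3`
    have hN : Nat.card (Subgroup.normalizer ((P : Subgroup G) : Set G)) = 252 := by omega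
    rw [hN] at hck
    have hk' : k ≤ 6 := Nat.le_of_dvd (by norm_num) hk
    have hqc : 3 ∣ c := by
      interval_cases k <;> omega
    obtain ⟨f, hf1, hf2, hf3, -⟩ := hq 3 (by norm_num) hqc
    omega
  · -- `n_7 = 36`
    have hN : Nat.card (Subgroup.normalizer ((P : Subgroup G) : Set G)) = 105 := by omega
    rw [hN] at hcr
    obtain ⟨k', hk'⟩ : ∃ k', k' = (Subgroup.centralizer ((P : Subgroup G) : Set G)).relIndex
        (Subgroup.normalizer ((P : Subgroup G) : Set G)) := ⟨_, rfl⟩
    rw [← hk'] at hkd hcr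
    have hk1' : k' ≠ 1 := by
      intro h1
      rw [h1] at hk'
      exact Cfsg.Agent.S0073.not_normalizer_le_centralizer hG P (by rw [h]; norm_num)
        (Subgroup.relIndex_eq_one.1 hk'.symm)
    have hk6 : k' ≤ 6 := Nat.le_of_dvd (by norm_num) hkd
    have h5c : 5 ∣ Nat.card (Subgroup.centralizer ((P : Subgroup G) : Set G)) := by
      interval_cases k' <;> omega
    obtain ⟨y, hy⟩ := exists_prime_orderOf_dvd_card'
      (G := Subgroup.centralizer ((P : Subgroup G) : Set G)) 5 h5c
    have hy5 : orderOf (y : G) = 5 := by rw [Subgroup.orderOf_coe]; exact hy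
    have hQc : Nat.card (Subgroup.zpowers (y : G)) = 5 := by
      rw [Nat.card_zpowers, hy5]
    have hle := o3780_le_normalizer_zpowers (P : Subgroup G) y.2
    have h7N := Subgroup.card_dvd_of_le hle
    rw [hP7' P] at h7N
    -- the Sylow 5-subgroup generated by `y`
    have hQsyl : ∃ Q : Sylow 5 G, (Q : Subgroup G) = Subgroup.zpowers (y : G) := by
      have hp5 : IsPGroup 5 (Subgroup.zpowers (y : G)) := IsPGroup.of_card (n := 1) (by rw [hQc]; norm_num)
      obtain ⟨Q, hQ⟩ := hp5.exists_le_sylow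
      refine ⟨Q, (Subgroup.eq_of_le_of_card_ge hQ ?_).symm⟩
      rw [hQc, hP5' Q]
    obtain ⟨Q, hQ⟩ := hQsyl
    have hNQ := (h5P Q).2
    rw [hQ, h] at hNQ
    obtain ⟨n5, hn5⟩ : ∃ n5, n5 = Nat.card (Sylow 5 G) := ⟨_, rfl⟩
    rw [← hn5] at h5d h5m h5n h5f hpc5 hNQ
    rw [h] at h5f
    obtain ⟨t, ht⟩ := h7N
    rw [ht] at hNQ
    have hd540 : n5 ∣ 540 := by
      refine ⟨t, ?_⟩
      have e : 7 * 540 = 7 * (n5 * t) := by
        rw [show 7 * (n5 * t) = n5 * (7 * t) by ring, hNQ]
      exact Nat.eq_of_mul_eq_mul_left (show 0 < 7 by norm_num) e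
    have hd108 : n5 ∣ 108 := Nat.dvd_gcd hd540 h5d
    have hcases5 : n5 = 6 ∨ n5 = 36 := by
      have hmem : n5 ∈ Nat.divisors 108 := Nat.mem_divisors.2 ⟨hd108, by norm_num⟩
      simp only [Nat.divisors_ofNat] at hmem
      simp only [Finset.mem_insert, Finset.mem_singleton] at hmem
      omega
    rcases hcases5 with rfl | rfl
    · revert h5f; decide
    · apply hpc5; norm_num
  · -- `n_7 = 540`: Burnside transfer
    apply hpc7; norm_num

end Cfsg.Agent.Helper3.SmallOrd
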