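import Mathlib

set_option autoImplicit false

/-!
# Tools for the order 4200 (piece S0983-ORD4200 of helper10's S0983)

* `o4200_count`: a family of finite sets through a common point, pairwise meeting only in that
  point.
* `o4200_conj_le_of_fixed`: if a Sylow `p`-subgroup `R` fixes the coset `g N(D)` of the normalizer
  of a `p`-subgroup `D`, then `g D g⁻¹ ≤ R`.
-/

namespace Cfsg.Agent.Helper3.SmallOrd

theorem o4200_count {X ι : Type*} [Fintype X] [Fintype ι] [DecidableEq X] (x₀ : X)
    (A : ι → Finset X) (c : ℕ) (hc : ∀ i, c + 1 ≤ (A i).card) (hx : ∀ i, x₀ ∈ A i)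
    (hd : ∀ i j, i ≠ j → ∀ x ∈ A i, x ∈ A j → x = x₀) :
    Fintype.card ι * c + 1 ≤ Fintype.card X := by
  classical
  have hB : ∀ i, c ≤ ((A i).erase x₀).card := by
    intro i
    rw [Finset.card_erase_of_mem (hx i)]
    have := hc i
    omega
  have hdisj : ∀ i ∈ (Finset.univ : Finset ι), ∀ j ∈ (Finset.univ : Finset ι), i ≠ j →
      Disjoint ((A i).erase x₀) ((A j).erase x₀) := by
    intro i _ j _ hij
    rw [Finset.disjoint_left]
    intro x hxi hxj
    rw [Finset.mem_erase] at hxi hxj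
    exact hxi.1 (hd i j hij x hxi.2 hxj.2)
  have h1 : ((Finset.univ : Finset ι).biUnion (fun i => (A i).erase x₀)).card =
      ∑ i : ι, ((A i).erase x₀).card := Finset.card_biUnion hdisj
  have h2 : Fintype.card ι * c ≤ ∑ i : ι, ((A i).erase x₀).card := by
    have := Finset.card_nsmul_le_sum (Finset.univ : Finset ι) (fun i => ((A i).erase x₀).card) c
      (fun i _ => hB i)
    simpa [Finset.card_univ, smul_eq_mul] using this
  have h3 : ((Finset.univ : Finset ι).biUnion (fun i => (A i).erase x₀)) ⊆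
      (Finset.univ : Finset X).erase x₀ := by
    intro x hx'
    rw [Finset.mem_biUnion] at hx'
    obtain ⟨i, -, hxi⟩ := hx'
    rw [Finset.mem_erase] at hxi ⊢
    exact ⟨hxi.1, Finset.mem_univ x⟩
  have h4 := Finset.card_le_card h3
  rw [Finset.card_erase_of_mem (Finset.mem_univ x₀), Finset.card_univ, h1] at h4
  have h5 : 0 < Fintype.card X := Fintype.card_pos_iff.2 ⟨x₀⟩
  omega

variable {G : Type*} [Group G] [Finite G]

/-- if the conjugate `g⁻¹ R g` of a Sylow `p`-subgroup `R` lies in the normalizer of the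
`p`-subgroup `D`, then `g D g⁻¹ ≤ R` -/
theorem o4200_conj_le_of_fixed {p : ℕ} [Fact p.Prime] (D : Subgroup G) (hD : IsPGroup p D)
    (R : Sylow p G) (g : G)
    (h : ∀ r ∈ (R : Subgroup G), g⁻¹ * r * g ∈ Subgroup.normalizer (D : Set G)) :
    ∀ d ∈ D, g * d * g⁻¹ ∈ (R : Subgroup G) := by
  -- the conjugate Sylow subgroup
  have hR' : ((g⁻¹ • R : Sylow p G) : Subgroup G) ≤ Subgroup.normalizer (D : Set G) := by
    intro x hx
    rw [Sylow.coe_subgroup_smul, Subgroup.mem_pointwise_smul_iff_inv_smul_mem] at hx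
    have hx' : g * x * g⁻¹ ∈ (R : Subgroup G) := by
      simpa [MulAut.smul_def] using hx
    have := h _ hx'
    have e : g⁻¹ * (g * x * g⁻¹) * g = x := by group
    rwa [e] at this
  have hsup : IsPGroup p (D ⊔ ((g⁻¹ • R : Sylow p G) : Subgroup G) : Subgroup G) :=
    IsPGroup.to_sup_of_normal_left' hD (g⁻¹ • R : Sylow p G).isPGroup' hR'
  have hmax := (g⁻¹ • R : Sylow p G).is_maximal' hsup le_sup_right
  have hDle : D ≤ ((g⁻¹ • R : Sylow p G) : Subgroup G) := by
    rw [← hmax]; exact le_sup_left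
  intro d hd
  have hx := hDle hd
  rw [Sylow.coe_subgroup_smul, Subgroup.mem_pointwise_smul_iff_inv_smul_mem] at hx
  simpa [MulAut.smul_def] using hx

end Cfsg.Agent.Helper3.SmallOrd
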