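import Mathlib
import Cfsg.Agent.Lib.Helper3.SmallOrd
import Cfsg.Agent.Lib.Lead.PermTools
import Cfsg.Agent.S0985
import Cfsg.Agent.Lib.Helper15.Ord4200a
import Cfsg.Agent.Lib.Helper19.Ord150

set_option autoImplicit false
set_option linter.style.haveILetI false

/-!
# No simple group of order 4200 (piece S0983-ORD4200 of helper10's S0983)

`4200 = 2^3 * 3 * 5^2 * 7`.  Only Sylow 5-subgroups are used.  `n_5 ∈ {21, 56}` is not `1` modulo
`25`, so there are Sylow 5-subgroups `P ≠ Q` meeting in a subgroup `D` of order `5`.  Its normalizer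
`H` has order `300` and six Sylow 5-subgroups (order `150` is impossible: such a group has a unique
Sylow 5-subgroup).  Every Sylow 5-subgroup of `G` fixes at least four of the `14` cosets of `H`, and
the fixed cosets of two different Sylow 5-subgroups of `H` meet only in the coset `H`: this needs
`1 + 6 * 3 = 19` cosets.
-/

namespace Cfsg.Agent.Helper3.SmallOrd

variable {G : Type*} [Group G] [Finite G]

omit [Finite G] in
/-- a commutative subgroup normalizes each of its subgroups -/
theorem o4200_le_normalizer_of_comm (P D : Subgroup G) (hDP : D ≤ P)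
    (hc : ∀ x ∈ P, ∀ y ∈ P, x * y = y * x) : P ≤ Subgroup.normalizer (D : Set G) := by
  intro x hx
  apply Subgroup.centralizer_le_normalizer
  rw [Subgroup.mem_centralizer_iff]
  intro d hd
  exact hc d (hDP hd) x hx

/-- the arithmetic of the normalizer of the intersection -/
theorem o4200_arith (m i n : ℕ) (hmi : m * i = 168) (hnm : n ∣ m) (hn5 : n % 5 = 1)
    (hn1 : 1 < n) (hf : 8400 ∣ i.factorial) : (m = 6 ∨ m = 12) ∧ n = 6 := by
  have hm168 : m ∣ 168 := ⟨i, hmi.symm⟩
  have hm : m ∈ Nat.divisors 168 := Nat.mem_divisors.2 ⟨hm168, by norm_num⟩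
  have hn : n ∈ Nat.divisors 168 := Nat.mem_divisors.2 ⟨hnm.trans hm168, by norm_num⟩
  simp only [Nat.divisors_ofNat, Finset.mem_insert, Finset.mem_singleton] at hm hn
  have hn' : n = 6 ∨ n = 21 ∨ n = 56 := by omega
  rcases hn' with rfl | rfl | rfl <;>
  rcases hm with rfl | rfl | rfl | rfl | rfl | rfl | rfl | rfl | rfl | rfl | rfl | rfl | rfl |
    rfl | rfl | rfl
  all_goals first
    | omega
    | (exfalso
       have hi : i = 28 ∨ i = 14 ∨ i = 7 ∨ i = 4 ∨ i = 2 ∨ i = 1 ∨ i = 8 ∨ i = 3 := by omega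
       rcases hi with rfl | rfl | rfl | rfl | rfl | rfl | rfl | rfl <;>
         first | omega | (revert hf; decide))

theorem no_simple_4200 [IsSimpleGroup G] (h : Nat.card G = 4200) : False := by
  classical
  have hG : ∃ x y : G, x * y ≠ y * x :=
    Cfsg.Agent.Lead.nonabelian_of_not_prime (by rw [h]; norm_num)
  haveI : Fact (Nat.Prime 5) := ⟨by norm_num⟩
  obtain ⟨h5d, h5m, h5n, h5f, h5P⟩ :=
    basic hG (p := 5) (a := 2) (m := 168) (by norm_num) (by rw [h]; norm_num) (by norm_num)
  have hP25 : ∀ R : Sylow 5 G, Nat.card (R : Subgroup G) = 25 := fun R => by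
    have := (h5P R).1
    norm_num at this
    exact this
  -- `n_5` is not `1` modulo `25`
  have hn5 : ¬ Nat.card (Sylow 5 G) ≡ 1 [MOD 5 ^ 2] := by
    obtain ⟨n, hn⟩ : ∃ n, n = Nat.card (Sylow 5 G) := ⟨_, rfl⟩
    rw [← hn] at h5d h5m h5n h5f ⊢
    rw [h] at h5f
    have hmem : n ∈ Nat.divisors 168 := Nat.mem_divisors.2 ⟨h5d, by norm_num⟩
    simp only [Nat.divisors_ofNat, Finset.mem_insert, Finset.mem_singleton] at hmem
    have hc : n = 6 ∨ n = 21 ∨ n = 56 := by omega
    rcases hc with rfl | rfl | rfl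
    · exfalso; revert h5f; decide
    · decide
    · decide
  obtain ⟨P, Q, hPQ, hidx⟩ := Cfsg.Agent.S0985.result 5 2 hn5
  -- the intersection `D`
  obtain ⟨D, hD⟩ : ∃ D : Subgroup G, D = (P : Subgroup G) ⊓ (Q : Subgroup G) := ⟨_, rfl⟩
  have hDP : D ≤ (P : Subgroup G) := hD ▸ inf_le_left
  have hDQ : D ≤ (Q : Subgroup G) := hD ▸ inf_le_right
  have hDcard : Nat.card D = 5 := by
    have h1 : Nat.card D * D.relIndex (P : Subgroup G) = 25 := by
      have := Subgroup.relIndex_mul_relIndex (H := (⊥ : Subgroup G)) (K := D)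
        (L := (P : Subgroup G)) bot_le hDP
      rw [Subgroup.relIndex_bot_left, Subgroup.relIndex_bot_left, hP25 P] at this
      exact this
    have h2 : D.relIndex (P : Subgroup G) = (Q : Subgroup G).relIndex (P : Subgroup G) := by
      rw [hD]; exact Subgroup.inf_relIndex_left (H := (P : Subgroup G)) (K := (Q : Subgroup G))
    have h3 : (Q : Subgroup G).relIndex (P : Subgroup G) ≤ 5 := by
      have := hidx
      norm_num at this
      exact this
    rw [h2] at h1
    have h4 : Nat.card D ≠ 25 := by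
      intro h25
      apply hPQ
      have e1 : D = (P : Subgroup G) :=
        Subgroup.eq_of_le_of_card_ge hDP (by rw [h25, hP25 P])
      have hPQ' : (P : Subgroup G) ≤ (Q : Subgroup G) := e1 ▸ hDQ
      exact Sylow.ext (Subgroup.eq_of_le_of_card_ge hPQ' (by rw [hP25 P, hP25 Q]))
    have h5 : Nat.card D ∣ 25 := Dvd.intro _ h1
    have h6 : Nat.card D ∈ Nat.divisors 25 := Nat.mem_divisors.2 ⟨h5, by norm_num⟩
    simp only [Nat.divisors_ofNat, Finset.mem_insert, Finset.mem_singleton] at h6
    rcases h6 with e | e | e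
    · rw [e] at h1; omega
    · exact e
    · exact absurd e h4
  -- Sylow 5-subgroups are commutative, so `P, Q ≤ N(D)`
  have hcomm : ∀ R : Sylow 5 G, ∀ x ∈ (R : Subgroup G), ∀ y ∈ (R : Subgroup G), x * y = y * x := by
    intro R x hx y hy
    have hc : IsMulCommutative (R : Subgroup G) :=
      IsPGroup.isMulCommutative_of_card_eq_prime_sq (p := 5) (by rw [hP25 R]; norm_num)
    exact congrArg Subtype.val (hc.is_comm.comm ⟨x, hx⟩ ⟨y, hy⟩)
  obtain ⟨H, hH⟩ : ∃ H : Subgroup G, H = Subgroup.normalizer (D : Set G) := ⟨_, rfl⟩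
  have hPH : (P : Subgroup G) ≤ H := hH ▸ o4200_le_normalizer_of_comm _ D hDP (hcomm P)
  have hQH : (Q : Subgroup G) ≤ H := hH ▸ o4200_le_normalizer_of_comm _ D hDQ (hcomm Q)
  have hDH : D ≤ H := hDP.trans hPH
  have hDp : IsPGroup 5 D := IsPGroup.of_card (n := 1) (by rw [hDcard]; norm_num)
  have hHtop : H ≠ ⊤ := by
    intro htop
    rw [hH, Subgroup.normalizer_eq_top_iff] at htop
    rcases htop.eq_bot_or_eq_top with hb | ht
    · rw [hb, Subgroup.card_bot] at hDcard; omega
    · rw [ht, Subgroup.card_top, h] at hDcard; omega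
  have hfac := two_mul_card_dvd_factorial_index hG H hHtop
  have hci := Subgroup.card_mul_index H
  rw [h] at hfac hci
  -- Sylow 5-subgroups of `H`
  have hS0c : Nat.card ((P.subtype hPH : Sylow 5 H) : Subgroup H) = 25 := by
    rw [Sylow.coe_subtype, Nat.card_congr (Subgroup.subgroupOfEquivOfLe hPH).toEquiv, hP25 P]
  have hScard : ∀ S : Sylow 5 H, Nat.card (S : Subgroup H) = 25 := by
    intro S
    rw [Sylow.card_eq_multiplicity S, ← Sylow.card_eq_multiplicity (P.subtype hPH), hS0c]
  have hS01 : P.subtype hPH ≠ Q.subtype hQH := fun e => hPQ (Sylow.subtype_injective e)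
  have hn1 : 1 < Nat.card (Sylow 5 H) :=
    Finite.one_lt_card_iff_nontrivial.2 ⟨⟨_, _, hS01⟩⟩
  have hnm : Nat.card (Sylow 5 H) % 5 = 1 := by
    have := card_sylow_modEq_one 5 H
    exact this
  have hnd : Nat.card (Sylow 5 H) ∣ ((P.subtype hPH : Sylow 5 H) : Subgroup H).index :=
    Sylow.card_dvd_index _
  have hmi := Subgroup.card_mul_index ((P.subtype hPH : Sylow 5 H) : Subgroup H)
  rw [hS0c] at hmi
  obtain ⟨m, hm⟩ : ∃ m, m = ((P.subtype hPH : Sylow 5 H) : Subgroup H).index := ⟨_, rfl⟩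
  obtain ⟨n, hn⟩ : ∃ n, n = Nat.card (Sylow 5 H) := ⟨_, rfl⟩
  rw [← hm] at hmi hnd
  rw [← hn] at hn1 hnm hnd
  rw [← hmi] at hci
  have hmi' : m * H.index = 168 := by
    have : 25 * (m * H.index) = 25 * 168 := by rw [← mul_assoc, hci]
    exact Nat.eq_of_mul_eq_mul_left (by norm_num) this
  obtain ⟨hm612, hn6⟩ := o4200_arith m H.index n hmi' hnd hnm hn1 (by norm_num at hfac; exact hfac)
  subst hn6
  rcases hm612 with rfl | rfl
  · -- `|H| = 150`
    have := card_sylow_five_of_card_150 (H := H) (by rw [← hmi])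
    omega
  -- `|H| = 300`, index `14`
  have hidx14 : H.index = 14 := by omega
  -- the Sylow 5-subgroups of `G` coming from those of `H`
  have hex : ∀ S : Sylow 5 H, ∃ R : Sylow 5 G,
      (R : Subgroup G) = (S : Subgroup H).map H.subtype := by
    intro S
    have hc : Nat.card ((S : Subgroup H).map H.subtype) = 25 := by
      rw [Subgroup.card_map_of_injective H.subtype_injective, hScard S]
    have hp : IsPGroup 5 ((S : Subgroup H).map H.subtype) :=
      IsPGroup.of_card (n := 2) (by rw [hc]; norm_num)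
    obtain ⟨R, hR⟩ := hp.exists_le_sylow
    exact ⟨R, (Subgroup.eq_of_le_of_card_ge hR (by rw [hc, hP25 R])).symm⟩
  choose RS hRS using hex
  have hRSH : ∀ S, (RS S : Subgroup G) ≤ H := fun S => by
    rw [hRS S]; exact Subgroup.map_subtype_le _
  have hRSinj : ∀ S T, (RS S : Subgroup G) = (RS T : Subgroup G) → S = T := by
    intro S T e
    rw [hRS S, hRS T] at e
    exact Sylow.ext (Subgroup.map_injective H.subtype_injective e)
  have hDRS : ∀ S, D ≤ (RS S : Subgroup G) := by
    intro S
    haveI : (D.subgroupOf H).Normal := by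
      subst hH
      exact Subgroup.normal_in_normalizer
    have hp : IsPGroup 5 (D.subgroupOf H) :=
      hDp.of_equiv (Subgroup.subgroupOfEquivOfLe hDH).symm
    have hle : D.subgroupOf H ≤ (S : Subgroup H) := hp.le_sylow_of_normal S
    have := Subgroup.map_mono (f := H.subtype) hle
    rwa [Subgroup.map_subgroupOf_eq_of_le hDH, ← hRS S] at this
  have hinf : ∀ S T, S ≠ T → (RS S : Subgroup G) ⊓ (RS T : Subgroup G) = D := by
    intro S T hST
    have hle : D ≤ (RS S : Subgroup G) ⊓ (RS T : Subgroup G) := le_inf (hDRS S) (hDRS T)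
    have hdvd : Nat.card ((RS S : Subgroup G) ⊓ (RS T : Subgroup G) : Subgroup G) ∣ 25 := by
      have := Subgroup.card_dvd_of_le (inf_le_left : (RS S : Subgroup G) ⊓ (RS T : Subgroup G) ≤ _)
      rwa [hP25] at this
    have hge := Subgroup.card_le_of_le hle
    rw [hDcard] at hge
    have hne : Nat.card ((RS S : Subgroup G) ⊓ (RS T : Subgroup G) : Subgroup G) ≠ 25 := by
      intro h25
      apply hST
      apply hRSinj
      have e1 : (RS S : Subgroup G) ⊓ (RS T : Subgroup G) = (RS S : Subgroup G) :=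
        Subgroup.eq_of_le_of_card_ge inf_le_left (by rw [h25, hP25])
      have hle' : (RS S : Subgroup G) ≤ (RS T : Subgroup G) := e1 ▸ inf_le_right
      exact Subgroup.eq_of_le_of_card_ge hle' (by rw [hP25, hP25])
    have h6 : Nat.card ((RS S : Subgroup G) ⊓ (RS T : Subgroup G) : Subgroup G) ∈
        Nat.divisors 25 := Nat.mem_divisors.2 ⟨hdvd, by norm_num⟩
    simp only [Nat.divisors_ofNat, Finset.mem_insert, Finset.mem_singleton] at h6
    have h5 : Nat.card ((RS S : Subgroup G) ⊓ (RS T : Subgroup G) : Subgroup G) = 5 := by omega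
    exact (Subgroup.eq_of_le_of_card_ge hle (by rw [h5, hDcard])).symm
  -- the fixed cosets
  haveI : Fintype (G ⧸ H) := Fintype.ofFinite _
  haveI : Fintype (Sylow 5 H) := Fintype.ofFinite _
  let A : Sylow 5 H → Finset (G ⧸ H) := fun S =>
    Finset.univ.filter (fun q : G ⧸ H => ∀ r ∈ (RS S : Subgroup G), r • q = q)
  have hAmem : ∀ S q, q ∈ A S ↔ ∀ r ∈ (RS S : Subgroup G), r • q = q := by
    intro S q
    simp [A]
  have hx0 : ∀ S, ((1 : G) : G ⧸ H) ∈ A S := by
    intro S
    rw [hAmem]
    intro r hr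
    change ((r * 1 : G) : G ⧸ H) = ((1 : G) : G ⧸ H)
    rw [QuotientGroup.eq]
    simpa using H.inv_mem (hRSH S hr)
  have hAcard : ∀ S, 3 + 1 ≤ (A S).card := by
    intro S
    have hmod := (RS S).isPGroup'.card_modEq_card_fixedPoints (G ⧸ H)
    have hcard : Nat.card (MulAction.fixedPoints (RS S : Subgroup G) (G ⧸ H)) = (A S).card := by
      apply Nat.subtype_card
      intro q
      rw [hAmem, MulAction.mem_fixedPoints]
      constructor
      · intro hq r
        exact hq r.1 r.2
      · intro hq r hr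
        exact hq ⟨r, hr⟩
    rw [hcard] at hmod
    have h14 : Nat.card (G ⧸ H) = 14 := hidx14
    rw [h14] at hmod
    have : (A S).card % 5 = 4 := by
      have := hmod.symm
      exact this
    omega
  have hAdisj : ∀ S T, S ≠ T → ∀ q ∈ A S, q ∈ A T → q = ((1 : G) : G ⧸ H) := by
    intro S T hST q hqS hqT
    obtain ⟨g, rfl⟩ := QuotientGroup.mk_surjective q
    rw [hAmem] at hqS hqT
    have hfix : ∀ U, (∀ r ∈ (RS U : Subgroup G), r • ((g : G) : G ⧸ H) = ((g : G) : G ⧸ H)) →
        ∀ r ∈ (RS U : Subgroup G), g⁻¹ * r * g ∈ Subgroup.normalizer (D : Set G) := by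
      intro U hU r hr
      have h1 := hU r⁻¹ ((RS U : Subgroup G).inv_mem hr)
      change ((r⁻¹ * g : G) : G ⧸ H) = ((g : G) : G ⧸ H) at h1
      rw [QuotientGroup.eq] at h1
      rw [← hH]
      have e : (r⁻¹ * g)⁻¹ * g = g⁻¹ * r * g := by group
      rwa [e] at h1
    have hS := o4200_conj_le_of_fixed D hDp (RS S) g (hfix S hqS)
    have hT := o4200_conj_le_of_fixed D hDp (RS T) g (hfix T hqT)
    have hgD : ∀ d ∈ D, g * d * g⁻¹ ∈ D := by
      intro d hd
      rw [← hinf S T hST]
      exact ⟨hS d hd, hT d hd⟩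
    have hgN : g ∈ H := by
      rw [hH, Subgroup.mem_normalizer_iff_map_conj_eq]
      apply Subgroup.eq_of_le_of_card_ge
      · rintro _ ⟨d, hd, rfl⟩
        exact hgD d hd
      · rw [Subgroup.card_map_of_injective (MulAut.conj g).injective]
    rw [QuotientGroup.eq]
    simpa using H.inv_mem hgN
  have hcount := o4200_count ((1 : G) : G ⧸ H) A 3 hAcard hx0 hAdisj
  have h14 : Fintype.card (G ⧸ H) = 14 := by
    rw [Fintype.card_eq_nat_card]; exact hidx14
  have h6 : Fintype.card (Sylow 5 H) = 6 := by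
    rw [Fintype.card_eq_nat_card]; exact hn.symm
  rw [h14, h6] at hcount
  omega

end Cfsg.Agent.Helper3.SmallOrd
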