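import Mathlib
import Cfsg.Prelude.Def_Sporadic_a
import Cfsg.Agent.Lib.Helper27.P13Defs
import Cfsg.Agent.Lib.Helper27.Steiner

/-!
# S2916 part (D), piece BASIC (helper15 for helper27): an `S(2,4,13)` has 13 lines and two distinct
lines meet in exactly one point.
-/

set_option autoImplicit false
set_option linter.unusedVariables false
set_option linter.unusedSectionVars false

namespace Cfsg.Agent.Helper27.P13

open Finset

section Plane

variable {α : Type*} [Fintype α] [DecidableEq α]

/-- PIECE BASIC (1).  There are 13 lines. -/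
theorem card_lines (Bf : Finset (Finset α)) (hL : Cfsg.IsSteinerSystem 2 4 (Bf : Set (Finset α)))
    (hα : Fintype.card α = 13) : Bf.card = 13 := by
  have := Cfsg.Agent.Helper27.steiner_lambda Bf hL ∅ (by simp)
  rw [hα] at this
  simp only [card_empty, empty_subset, filter_true] at this
  norm_num [Nat.choose] at this
  have h2 : Bf.filter (fun _ => True) = Bf := filter_true_of_mem (fun _ _ => trivial)
  omega

/-- Finset form of BASIC (2) -/
theorem basic_meet_finset (Bf : Finset (Finset α)) (hL : Cfsg.IsSteinerSystem 2 4 (Bf : Set (Finset α)))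
    (hα : Fintype.card α = 13) {l m : Finset α} (hl : l ∈ Bf) (hm : m ∈ Bf) (hlm : l ≠ m) :
    (l ∩ m).card = 1 := by
  have e0 := Cfsg.Agent.Helper27.steiner_inter_eq Bf hL m hm 0 (by norm_num)
  have e1 := Cfsg.Agent.Helper27.steiner_inter_eq Bf hL m hm 1 (by norm_num)
  have n2 := Cfsg.Agent.Helper27.steiner_inter_card_eq_zero Bf hL m hm 2 (by norm_num) (by norm_num)
  have n3 := Cfsg.Agent.Helper27.steiner_inter_card_eq_zero Bf hL m hm 3 (by norm_num) (by norm_num)
  have n4 := Cfsg.Agent.Helper27.steiner_inter_card_eq_one Bf hL m hm (by norm_num)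
  obtain ⟨n0, hn0⟩ : ∃ n0, n0 = (Bf.filter (fun c => (c ∩ m).card = 0)).card := ⟨_, rfl⟩
  rw [hα] at e0 e1
  simp only [sum_range_succ, range_zero, sum_empty, n2, n3, n4] at e0 e1
  rw [← hn0] at e0 e1
  norm_num [Nat.choose] at e0 e1
  have hle : (l ∩ m).card ≤ 1 := by
    by_contra h
    exact hlm (Cfsg.Agent.Helper27.steiner_eq_of_le_card_inter hL (by exact_mod_cast hl)
      (by exact_mod_cast hm) (by omega))
  have h0 : (l ∩ m).card ≠ 0 := by
    intro h
    have : l ∈ Bf.filter (fun c => (c ∩ m).card = 0) := mem_filter.mpr ⟨hl, h⟩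
    have := card_pos.mpr ⟨l, this⟩
    rw [← hn0] at this
    omega
  omega

/-- PIECE BASIC (2).  Two distinct lines meet in exactly one point. -/
theorem lines_meet_card {L : Set (Finset α)} (hL : Cfsg.IsSteinerSystem 2 4 L)
    (hα : Fintype.card α = 13) {l m : Finset α} (hl : l ∈ L) (hm : m ∈ L) (hlm : l ≠ m) :
    (l ∩ m).card = 1 := by
  obtain ⟨Bf, rfl⟩ := Cfsg.Agent.Helper27.exists_finset_blocks L
  exact basic_meet_finset Bf hL hα (by exact_mod_cast hl) (by exact_mod_cast hm) hlm

end Plane

end Cfsg.Agent.Helper27.P13
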