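import Mathlib
import Cfsg.Prelude.Def_Sporadic_a
import Cfsg.Agent.Lib.Helper27.P13Defs

/-!
# S2916 part (D), piece QUADEX (helper15 for helper27): an `S(2,4,13)` contains a quadrangle.
-/

set_option autoImplicit false
set_option linter.unusedVariables false
set_option linter.unusedSectionVars false

namespace Cfsg.Agent.Helper27.P13

open Finset

section Plane

variable {α : Type*} [Fintype α] [DecidableEq α]

/-- the line through two distinct points -/
theorem quadex_line {L : Set (Finset α)} (hL : Cfsg.IsSteinerSystem 2 4 L) {a b : α} (hab : a ≠ b) :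
    ∃ l ∈ L, a ∈ l ∧ b ∈ l ∧ l.card = 4 ∧ ∀ m ∈ L, a ∈ m → b ∈ m → m = l := by
  obtain ⟨l, ⟨hlL, hsub⟩, hu⟩ := hL.2 {a, b} (card_pair hab)
  refine ⟨l, hlL, hsub (by simp), hsub (by simp), hL.1 l hlL, ?_⟩
  intro m hm ha hb
  apply hu m ⟨hm, ?_⟩
  intro x hx
  rcases mem_insert.mp hx with rfl | hx
  · exact ha
  · rw [mem_singleton.mp hx]; exact hb

/-- a point outside a small set -/
theorem quadex_outside (hα : Fintype.card α = 13) (S : Finset α) (hS : S.card < 13) :
    ∃ x : α, x ∉ S := by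
  by_contra h
  push Not at h
  have : S = univ := eq_univ_iff_forall.mpr h
  rw [this, card_univ, hα] at hS
  omega

theorem quadex_inj {a b c d : α} (hab : a ≠ b) (hac : a ≠ c) (had : a ≠ d) (hbc : b ≠ c)
    (hbd : b ≠ d) (hcd : c ≠ d) : Function.Injective ![a, b, c, d] := by
  intro i j hij
  fin_cases i <;> fin_cases j <;> simp_all

theorem quadex_count {p0 p1 p2 p3 : Prop} [Decidable p0] [Decidable p1] [Decidable p2] [Decidable p3]
    (h1 : ¬ (p0 ∧ p1 ∧ p2)) (h2 : ¬ (p0 ∧ p1 ∧ p3)) (h3 : ¬ (p0 ∧ p2 ∧ p3)) (h4 : ¬ (p1 ∧ p2 ∧ p3)) :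
    (if p0 then 1 else 0) + (if p1 then 1 else 0) + (if p2 then 1 else 0) + (if p3 then 1 else 0) ≤ 2 := by
  by_cases k0 : p0 <;> by_cases k1 : p1 <;> by_cases k2 : p2 <;> by_cases k3 : p3 <;> simp_all

/-- PIECE QUADEX.  A quadrangle exists. -/
theorem exists_quad {L : Set (Finset α)} (hL : Cfsg.IsSteinerSystem 2 4 L)
    (hα : Fintype.card α = 13) : ∃ q : Fin 4 → α, IsQuad L q := by
  obtain ⟨a, _⟩ := quadex_outside hα (∅ : Finset α) (by simp)
  obtain ⟨b, hb⟩ := quadex_outside hα ({a} : Finset α) (by simp)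
  have hab : a ≠ b := by
    intro h; apply hb; rw [h]; simp
  obtain ⟨lab, hlab, ha1, hb1, hc1, hu1⟩ := quadex_line hL hab
  obtain ⟨c, hc⟩ := quadex_outside hα lab (by omega)
  have hac : a ≠ c := by
    intro h; apply hc; rw [← h]; exact ha1
  have hbc : b ≠ c := by
    intro h; apply hc; rw [← h]; exact hb1
  obtain ⟨lac, hlac, ha2, hc2, hc2', hu2⟩ := quadex_line hL hac
  obtain ⟨lbc, hlbc, hb3, hc3, hc3', hu3⟩ := quadex_line hL hbc
  obtain ⟨d, hd⟩ := quadex_outside hα (lab ∪ lac ∪ lbc) (by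
    have h1 := card_union_le (lab ∪ lac) lbc
    have h2 := card_union_le lab lac
    omega)
  have hd1 : d ∉ lab := fun h => hd (by simp [h])
  have hd2 : d ∉ lac := fun h => hd (by simp [h])
  have hd3 : d ∉ lbc := fun h => hd (by simp [h])
  have had : a ≠ d := by
    intro h; apply hd1; rw [← h]; exact ha1
  have hbd : b ≠ d := by
    intro h; apply hd1; rw [← h]; exact hb1
  have hcd : c ≠ d := by
    intro h; apply hd2; rw [← h]; exact hc2
  refine ⟨![a, b, c, d], ?_, ?_⟩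
  · exact quadex_inj hab hac had hbc hbd hcd
  · intro l hl
    have h1 : ¬ (a ∈ l ∧ b ∈ l ∧ c ∈ l) := by
      rintro ⟨h1, h2, h3⟩
      rw [hu1 l hl h1 h2] at h3
      exact hc h3
    have h2 : ¬ (a ∈ l ∧ b ∈ l ∧ d ∈ l) := by
      rintro ⟨h1, h2, h3⟩
      rw [hu1 l hl h1 h2] at h3
      exact hd1 h3
    have h3 : ¬ (a ∈ l ∧ c ∈ l ∧ d ∈ l) := by
      rintro ⟨h1, h2, h3⟩
      rw [hu2 l hl h1 h2] at h3
      exact hd2 h3
    have h4 : ¬ (b ∈ l ∧ c ∈ l ∧ d ∈ l) := by
      rintro ⟨h1, h2, h3⟩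
      rw [hu3 l hl h1 h2] at h3
      exact hd3 h3
    rw [card_filter, Fin.sum_univ_four]
    exact quadex_count h1 h2 h3 h4

end Plane

end Cfsg.Agent.Helper27.P13
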