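import Mathlib
import Cfsg.Agent.Lib.Helper15.PSLkDefs
import Cfsg.Agent.Lib.Helper19.PSLkKERCYC
import Cfsg.Agent.Lib.Helper19.PSLkKERPI
import Cfsg.Agent.Lib.Helper21.PSLkUCOMB
import Cfsg.Agent.Lib.Helper4.PSLkAEVAL
import Cfsg.Agent.Lib.Helper7.PSLkSCIRR
import Cfsg.Agent.Lib.Helper25.PSLkSCISO
import Cfsg.Agent.Lib.Helper21.PSLkTSCALE

/-!
# S2480 assembly, part 1 (helper15): the type tuple is a class function, and the type tuple of a
scalar multiple.
-/

set_option linter.style.haveILetI false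

open Polynomial

/-! ## Assembly (helper15) -/
namespace Cfsg.Agent.Helper15.PSLk
open Cfsg.Agent.Helper17.GLk Cfsg.Agent.Helper17.SLk
universe u
section asm
variable {F : Type u} [Field F]

/-- uniqueness of the type tuple of a decomposition -/
theorem tuple_unique {ι ι' : Type u} [Fintype ι] [Fintype ι'] {p : ι → F[X]} {e : ι → ℕ}
    {p' : ι' → F[X]} {e' : ι' → ℕ}
    (hp : ∀ i, Irreducible (p i)) (hp' : ∀ i, Irreducible (p' i))
    (φ : ((i : ι) → F[X] ⧸ Ideal.span {p i ^ e i}) ≃ₗ[F[X]]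
      ((i : ι') → F[X] ⧸ Ideal.span {p' i ^ e' i}))
    (j : ℕ) (hj : 1 ≤ j) : tupleOfDecomp p e j = tupleOfDecomp p' e' j :=
  tuple_eq_of_sum_min hp hp'
    (fun P hP k => sum_min_eq_of_equiv finrank_ker_mulQ_pow hp hp' φ P hP k) j hj

/-- the type tuple can be computed from ANY decomposition -/
theorem typeTuple_eq_of_decomp {n : ℕ} (A : Matrix.GeneralLinearGroup (Fin n) F)
    {ι : Type u} [Fintype ι] {p : ι → F[X]} {e : ι → ℕ} (hp : ∀ i, Irreducible (p i))
    (h : Nonempty (Module.AEval' (endOf A) ≃ₗ[F[X]] ((i : ι) → F[X] ⧸ Ideal.span {p i ^ e i})))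
    (j : Fin n) : typeTuple A j = tupleOfDecomp p e ((j : ℕ) + 1) := by
  obtain ⟨χ⟩ := h
  let d := decompData (endOf A)
  letI := d.inst
  obtain ⟨φ⟩ := d.h.2.2
  exact tuple_unique d.h.1 hp (φ.symm ≪≫ₗ χ) ((j : ℕ) + 1) (by omega)

/-- the type tuple is a class function -/
theorem typeTuple_conj {n : ℕ} (A B : Matrix.GeneralLinearGroup (Fin n) F) (h : IsConj A B) :
    typeTuple A = typeTuple B := by
  obtain ⟨c, hc⟩ := isConj_iff.1 h
  have h1 : (c : Matrix (Fin n) (Fin n) F) * ((c⁻¹ : Matrix.GeneralLinearGroup (Fin n) F) :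
      Matrix (Fin n) (Fin n) F) = 1 := by
    rw [← Units.val_mul, mul_inv_cancel]; rfl
  have h2 : ((c⁻¹ : Matrix.GeneralLinearGroup (Fin n) F) : Matrix (Fin n) (Fin n) F) *
      (c : Matrix (Fin n) (Fin n) F) = 1 := by
    rw [← Units.val_mul, inv_mul_cancel]; rfl
  let ψ : (Fin n → F) ≃ₗ[F] (Fin n → F) := Matrix.toLin'OfInv h2 h1
  have hψ : ∀ v, ψ (endOf A v) = endOf B (ψ v) := by
    intro v
    have hcA : (c : Matrix (Fin n) (Fin n) F) * (A : Matrix (Fin n) (Fin n) F) =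
        (B : Matrix (Fin n) (Fin n) F) * (c : Matrix (Fin n) (Fin n) F) := by
      have : c * A = B * c := by rw [← hc]; group
      have := congrArg Units.val this
      simpa using this
    show Matrix.toLin' (c : Matrix (Fin n) (Fin n) F) (Matrix.toLin' (A : Matrix (Fin n) (Fin n) F) v)
      = Matrix.toLin' (B : Matrix (Fin n) (Fin n) F) (Matrix.toLin' (c : Matrix (Fin n) (Fin n) F) v)
    rw [← Matrix.toLin'_mul_apply, ← Matrix.toLin'_mul_apply, hcA]
  obtain ⟨χ⟩ := aeval_equiv_of_intertwine (endOf A) (endOf B) ψ hψ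
  let d := decompData (endOf B)
  letI := d.inst
  obtain ⟨φ⟩ := d.h.2.2
  funext j
  rw [typeTuple_eq_of_decomp A d.h.1 ⟨χ ≪≫ₗ φ⟩ j]
  rfl

/-- the type tuple of a scalar multiple -/
theorem typeTuple_smul {n : ℕ} (A B : Matrix.GeneralLinearGroup (Fin n) F) (ζ : Fˣ)
    (hB : (B : Matrix (Fin n) (Fin n) F) = (ζ : F) • (A : Matrix (Fin n) (Fin n) F)) (j : Fin n) :
    typeTuple B j = scaleRoots (typeTuple A j) (ζ : F) := by
  let d := decompData (endOf A)
  letI := d.inst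
  obtain ⟨φ⟩ := d.h.2.2
  have hB' : endOf B = (ζ : F) • endOf A := by
    show Matrix.toLin' (B : Matrix (Fin n) (Fin n) F) = (ζ : F) • Matrix.toLin' (A : Matrix (Fin n) (Fin n) F)
    rw [hB, map_smul]
  have hχ : Nonempty (Module.AEval' (endOf B) ≃ₗ[F[X]]
      ((i : d.ι) → F[X] ⧸ Ideal.span {scaleRoots (d.p i) (ζ : F) ^ d.e i})) := by
    rw [hB']
    exact exists_equiv_smul (endOf A) (ζ : F) ζ.ne_zero φ
  rw [typeTuple_eq_of_decomp B (fun i => irreducible_scaleRoots (d.p i) (d.h.1 i) (ζ : F) ζ.ne_zero)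
    hχ j, tupleOfDecomp_scaleRoots]
  rfl

end asm
end Cfsg.Agent.Helper15.PSLk
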