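import Mathlib
import Cfsg.Agent.Lib.Helper15.PSLkAsm1
import Cfsg.Agent.Lib.Helper13.PSLkGRPFIX
import Cfsg.Agent.Lib.Helper1.PSLkCENTER
import Cfsg.Agent.Lib.Helper24.PSLkEXPAND
import Cfsg.Agent.Lib.Helper13.PSLkUSR
import Cfsg.Agent.Lib.Helper24.PSLkTHETA
import Cfsg.Agent.Lib.Helper17.SLkAsm

/-!
# S2480 assembly, part 2 (helper15): the number of classes of `SL_n(F)` fixed by a central element.
-/

set_option linter.style.haveILetI false

open Polynomial

namespace Cfsg.Agent.Helper15.PSLk
open Cfsg.Agent.Helper17.GLk Cfsg.Agent.Helper17.SLk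
open Cfsg.Agent.Helper22.CentralQuotClasses
universe u
section asm2
variable {F : Type u} [Field F]

theorem Ksum_mul_le [Fintype F] (n : ℕ) (hn : 1 ≤ n) :
    (Fintype.card F - 1) * Ksum F n ≤ KK (Fintype.card F) n := by
  classical
  have h2 := avg_sum (F := F) n (TupFin n) (mem_TupFin n) scT_mem scT_scT scT_one gam_scT detT_scT
    (fun f hf => card_fiber f (chiT_mul f) (chiT_range pow_gcd_mem f) (detT_eq_pow f hf))
  have h3 := sum_sq_le (F := F) n hn (TupFin n) (mem_TupFin n)
    (fun e he => ncard_dvd_gam_le n e hn he)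
  unfold Ksum
  calc _ = ∑ f ∈ TupFin (F := F) n, Nat.gcd (Fintype.card F - 1) (gam f) ^ 2 := by
        rw [← h2]
    _ ≤ _ := h3

theorem tt_injective {n : ℕ} :
    Function.Injective (fun c : ConjClasses (Matrix.GeneralLinearGroup (Fin n) F) =>
      typeTuple (Quotient.out c)) := by
  intro c c' hcc
  have h2 := isConj_of_typeTuple_eq _ _ hcc
  have h3 : ConjClasses.mk (Quotient.out c) = ConjClasses.mk (Quotient.out c') :=
    ConjClasses.mk_eq_mk_iff_isConj.mpr h2
  have e1 : ConjClasses.mk (Quotient.out c) = c := Quotient.out_eq c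
  have e2 : ConjClasses.mk (Quotient.out c') = c' := Quotient.out_eq c'
  rw [← e1, ← e2, h3]

/-- the number of classes of `SL_n` fixed by the central element `z` -/
theorem fix_le [Fintype F] (n : ℕ) (hn : 1 ≤ n)
    (z : Subgroup.center (Matrix.SpecialLinearGroup (Fin n) F)) :
    (Fintype.card F - 1) * Nat.card {C : ConjClasses (Matrix.SpecialLinearGroup (Fin n) F) //
        mulClass (Subgroup.center (Matrix.SpecialLinearGroup (Fin n) F)) le_rfl z C = C} ≤
      KK (Fintype.card F) (n / orderOf z) := by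
  classical
  obtain ⟨ζ, hord, hζn, hmat⟩ := center_scalar n hn z
  rw [← hord]
  have he1 : 1 ≤ orderOf ζ := orderOf_pos ζ
  have hen : orderOf ζ ∣ n := orderOf_dvd_of_pow_eq_one hζn
  have hnm : n = orderOf ζ * (n / orderOf ζ) := (Nat.mul_div_cancel' hen).symm
  have hle : n / orderOf ζ ≤ n := Nat.div_le_self n _
  have hm1 : 1 ≤ n / orderOf ζ := by
    rcases Nat.eq_zero_or_pos (n / orderOf ζ) with h0 | h0
    · rw [h0, mul_zero] at hnm; omega
    · exact h0
  -- the counting lemma
  let tt : ConjClasses (Matrix.GeneralLinearGroup (Fin n) F) → (Fin n → F[X]) :=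
    fun c => typeTuple (Quotient.out c)
  let Γ : (Fin n → F[X]) → Subgroup Fˣ := fun f => (powMonoidHom (gam f) : Fˣ →* Fˣ).range
  have hΓ : ∀ c : ConjClasses (Matrix.GeneralLinearGroup (Fin n) F), ∀ d ∈ Γ (tt c),
      ∃ w : Matrix.GeneralLinearGroup (Fin n) F,
        w * Quotient.out c = Quotient.out c * w ∧ Matrix.GeneralLinearGroup.det w = d := by
    intro c d hd
    obtain ⟨x, rfl⟩ := hd
    exact exists_centralizer_pow (Quotient.out c) x
  let s : Finset (Fin n → F[X]) :=
    (TupFin n).filter (fun f => detT f = 1 ∧ InvT (ζ : F) f)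
  have hker : ∀ g : Matrix.GeneralLinearGroup (Fin n) F, Matrix.GeneralLinearGroup.det g = 1 →
      g ∈ (Matrix.SpecialLinearGroup.toGL : Matrix.SpecialLinearGroup (Fin n) F →* _).range := by
    intro g hg
    have hdet : (g : Matrix (Fin n) (Fin n) F).det = 1 := by
      have := congrArg Units.val hg
      simpa using this
    refine ⟨⟨(g : Matrix (Fin n) (Fin n) F), hdet⟩, ?_⟩
    apply Units.ext
    rfl
  have hδj : ∀ h : Matrix.SpecialLinearGroup (Fin n) F,
      Matrix.GeneralLinearGroup.det (Matrix.SpecialLinearGroup.toGL h) = 1 := by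
    intro h
    exact Matrix.SpecialLinearGroup.coeToGL_det h
  have hs : ∀ r : Matrix.SpecialLinearGroup (Fin n) F,
      mulClass (Subgroup.center (Matrix.SpecialLinearGroup (Fin n) F)) le_rfl z (ConjClasses.mk r)
        = ConjClasses.mk r →
      tt (ConjClasses.mk (Matrix.SpecialLinearGroup.toGL r)) ∈ s := by
    intro r hr
    rw [mulClass_eq_iff] at hr
    -- conjugacy in GL
    have hGL : IsConj (Matrix.SpecialLinearGroup.toGL ((z : Matrix.SpecialLinearGroup (Fin n) F) * r))
        (Matrix.SpecialLinearGroup.toGL r) := by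
      obtain ⟨c, hc⟩ := isConj_iff.1 hr
      refine isConj_iff.2 ⟨Matrix.SpecialLinearGroup.toGL c, ?_⟩
      rw [← map_inv, ← map_mul, ← map_mul, hc]
    have hrep : IsConj (Quotient.out (ConjClasses.mk (Matrix.SpecialLinearGroup.toGL r)))
        (Matrix.SpecialLinearGroup.toGL r) :=
      ConjClasses.mk_eq_mk_iff_isConj.mp (Quotient.out_eq _)
    have htt1 : tt (ConjClasses.mk (Matrix.SpecialLinearGroup.toGL r)) =
        typeTuple (Matrix.SpecialLinearGroup.toGL r) := typeTuple_conj _ _ hrep
    rw [htt1, Finset.mem_filter, mem_TupFin]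
    refine ⟨typeTuple_mem _, ?_, ?_⟩
    · rw [det_typeTuple]
      exact r.2
    · intro j
      have h1 := typeTuple_smul (Matrix.SpecialLinearGroup.toGL r)
        (Matrix.SpecialLinearGroup.toGL ((z : Matrix.SpecialLinearGroup (Fin n) F) * r)) ζ
        (hmat r) j
      rw [typeTuple_conj _ _ hGL] at h1
      exact h1.symm
  have key := card_fixed_classes_le
    (Matrix.SpecialLinearGroup.toGL : Matrix.SpecialLinearGroup (Fin n) F →* _)
    Matrix.SpecialLinearGroup.toGL_injective
    (Matrix.GeneralLinearGroup.det : Matrix.GeneralLinearGroup (Fin n) F →* Fˣ) hker hδj tt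
    tt_injective Γ hΓ
    (fun κ => mulClass (Subgroup.center (Matrix.SpecialLinearGroup (Fin n) F)) le_rfl z κ = κ) s hs
  have hsum : ∑ t ∈ s, (Γ t).index = ∑ t ∈ s, Nat.gcd (Fintype.card F - 1) (gam t) := by
    apply Finset.sum_congr rfl
    intro f _
    have := IsCyclic.index_powMonoidHom_range Fˣ (gam f)
    rw [Nat.card_eq_fintype_card, Fintype.card_units] at this
    exact this
  -- contraction
  obtain ⟨hθ1, hθ2⟩ := theta_facts expand_contract_of_inv uconst_theta_entry ζ he1 hnm hle
  have hle2 : ∑ t ∈ s, Nat.gcd (Fintype.card F - 1) (gam t) ≤ Ksum F (n / orderOf ζ) := by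
    unfold Ksum
    have hinj : Set.InjOn (theta (orderOf ζ) hle) (s : Set (Fin n → F[X])) := by
      intro τ hτ τ' hτ' hh
      rw [Finset.mem_coe, Finset.mem_filter, mem_TupFin] at hτ hτ'
      exact hθ2 τ τ' hτ.1 hτ.2.2 hτ'.1 hτ'.2.2 hh
    calc ∑ t ∈ s, Nat.gcd (Fintype.card F - 1) (gam t)
        = ∑ t ∈ s, Nat.gcd (Fintype.card F - 1) (gam (theta (orderOf ζ) hle t)) := by
          apply Finset.sum_congr rfl
          intro τ hτ
          rw [Finset.mem_filter, mem_TupFin] at hτ
          rw [(hθ1 τ hτ.1 hτ.2.2).2.1]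
      _ = ∑ σ ∈ s.image (theta (orderOf ζ) hle), Nat.gcd (Fintype.card F - 1) (gam σ) := by
          rw [Finset.sum_image hinj]
      _ ≤ _ := by
          apply Finset.sum_le_sum_of_subset
          intro σ hσ
          rw [Finset.mem_image] at hσ
          obtain ⟨τ, hτ, rfl⟩ := hσ
          rw [Finset.mem_filter, mem_TupFin] at hτ
          rw [Finset.mem_filter, mem_TupFin]
          have := hθ1 τ hτ.1 hτ.2.2
          exact ⟨this.1, by rw [this.2.2]; exact hτ.2.1⟩
  calc (Fintype.card F - 1) * Nat.card {C : ConjClasses (Matrix.SpecialLinearGroup (Fin n) F) //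
        mulClass (Subgroup.center (Matrix.SpecialLinearGroup (Fin n) F)) le_rfl z C = C}
      ≤ (Fintype.card F - 1) * Ksum F (n / orderOf ζ) :=
        Nat.mul_le_mul_left _ (le_trans key (le_trans (le_of_eq hsum) hle2))
    _ ≤ _ := Ksum_mul_le _ hm1

end asm2
end Cfsg.Agent.Helper15.PSLk
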