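import Mathlib
import Cfsg.Agent.Lib.Helper15.PSLkAsm2
import Cfsg.Agent.Lib.Helper1.PSLkCYCSUM
import Cfsg.Agent.Lib.Helper9.PSLkNUM
import Cfsg.Agent.Lib.Helper2.CardSL

/-!
# S2480 assembly, part 3 (helper15): Burnside over the centre and the final inequalities.
-/

set_option linter.style.haveILetI false

open Polynomial

namespace Cfsg.Agent.Helper15.PSLk
open Cfsg.Agent.Helper17.GLk Cfsg.Agent.Helper17.SLk
open Cfsg.Agent.Helper22.CentralQuotClasses
universe u
section asm3
variable {F : Type u} [Field F]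

theorem KK_one_le (q : ℕ) (hq : 2 ≤ q) : KK q 1 ≤ q - 1 := by
  have h := KK_le q 1 hq le_rfl
  rw [D_one q (by omega)] at h
  have h0 : (Nat.gcd (q - 1) 1).divisors.filter (fun e => 2 ≤ e) = ∅ := by
    rw [Nat.gcd_one_right]
    decide
  rw [h0, Finset.sum_empty, add_zero] at h
  exact h

theorem KK_two_le (q : ℕ) (hq : 2 ≤ q) :
    KK q 2 ≤ (q ^ 2 - 1) + (if 2 ∣ q - 1 then 3 * (q - 1) else 0) := by
  have h := KK_le q 2 hq (by omega)
  rw [D_two q (by omega)] at h
  refine le_trans h (Nat.add_le_add_left ?_ _)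
  split_ifs with h2
  · have hg : Nat.gcd (q - 1) 2 = 2 := Nat.gcd_eq_right h2
    rw [hg]
    have : (Nat.divisors 2).filter (fun e => 2 ≤ e) = {2} := by decide
    rw [this, Finset.sum_singleton]
    norm_num
    rw [D_one q (by omega)]
  · have hg : Nat.gcd (q - 1) 2 = 1 := by
      have h3 : Nat.gcd (q - 1) 2 ∣ 2 := Nat.gcd_dvd_right _ _
      have h4 : Nat.gcd (q - 1) 2 ≠ 2 := by
        intro h5
        exact h2 (h5 ▸ Nat.gcd_dvd_left (q - 1) 2)
      have h5 : Nat.gcd (q - 1) 2 ≤ 2 := Nat.le_of_dvd (by norm_num) h3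
      have h6 : Nat.gcd (q - 1) 2 ≠ 0 := by
        intro h7
        rw [h7] at h3
        omega
      omega
    rw [hg]
    have : (Nat.divisors 1).filter (fun e => 2 ≤ e) = ∅ := by decide
    rw [this, Finset.sum_empty]

/-- **S2480.** -/
theorem final [Fintype F] (n : ℕ) (hn : 2 ≤ n) :
    Fintype.card F ^ (n - 1) ≤ Nat.gcd n (Fintype.card F - 1) *
        Nat.card (ConjClasses (Matrix.ProjectiveSpecialLinearGroup (Fin n) F)) ∧
      Nat.gcd n (Fintype.card F - 1) *
        Nat.card (ConjClasses (Matrix.ProjectiveSpecialLinearGroup (Fin n) F)) ≤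
        Fintype.card F ^ (n - 1) + 5 * Fintype.card F ^ (n - 2) := by
  classical
  have hq : 2 ≤ Fintype.card F := Fintype.one_lt_card
  set q := Fintype.card F with hqdef
  have hq1 : 0 < q - 1 := by omega
  have hn1 : 1 ≤ n := by omega
  let Z := Subgroup.center (Matrix.SpecialLinearGroup (Fin n) F)
  have hcardZ : Nat.card Z = Nat.gcd n (q - 1) := Cfsg.Agent.Helper2.card_center_SL n hn1
  haveI : Fintype Z := Fintype.ofFinite Z
  haveI : IsCyclic Z := center_isCyclic n hn1
  have hB := card_conjClasses_quotient_mul_card Z (le_refl _)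
  rw [finsum_eq_sum_of_fintype, hcardZ] at hB
  have hPSL : Nat.card (ConjClasses (Matrix.ProjectiveSpecialLinearGroup (Fin n) F)) =
      Nat.card (ConjClasses (Matrix.SpecialLinearGroup (Fin n) F ⧸ Z)) := rfl
  rw [hPSL, mul_comm, hB]
  constructor
  · -- lower bound: the term z = 1
    have h1 : Nat.card {C : ConjClasses (Matrix.SpecialLinearGroup (Fin n) F) //
        mulClass Z (le_refl _) 1 C = C} =
        Nat.card (ConjClasses (Matrix.SpecialLinearGroup (Fin n) F)) := by
      apply Nat.card_congr
      refine (Equiv.subtypeUnivEquiv ?_)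
      intro C
      obtain ⟨g, rfl⟩ := ConjClasses.exists_rep C
      rw [mulClass_mk]
      simp
    have h2 : q ^ (n - 1) < Nat.card (ConjClasses (Matrix.SpecialLinearGroup (Fin n) F)) :=
      (main (F := F) n hn).1
    have h3 : Nat.card {C : ConjClasses (Matrix.SpecialLinearGroup (Fin n) F) //
        mulClass Z (le_refl _) 1 C = C} ≤
        ∑ z : Z, Nat.card {C : ConjClasses (Matrix.SpecialLinearGroup (Fin n) F) //
          mulClass Z (le_refl _) z C = C} :=
      Finset.single_le_sum (f := fun z : Z => Nat.card {C : ConjClasses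
        (Matrix.SpecialLinearGroup (Fin n) F) // mulClass Z (le_refl _) z C = C})
        (fun _ _ => Nat.zero_le _) (Finset.mem_univ (1 : Z))
    rw [h1] at h3
    omega
  · -- upper bound
    have h1 : (q - 1) * ∑ z : Z, Nat.card {C : ConjClasses (Matrix.SpecialLinearGroup (Fin n) F) //
          mulClass Z (le_refl _) z C = C} ≤ ∑ z : Z, KK q (n / orderOf z) := by
      rw [Finset.mul_sum]
      apply Finset.sum_le_sum
      intro z _
      exact fix_le n hn1 z
    have h2 : ∑ z : Z, KK q (n / orderOf z) =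
        ∑ e ∈ (Nat.gcd n (q - 1)).divisors, Nat.totient e * KK q (n / e) := by
      have := sum_orderOf_eq (C := Z) (fun e => KK q (n / e))
      rw [← Nat.card_eq_fintype_card, hcardZ] at this
      exact this
    have hd : Nat.gcd n (q - 1) ≠ 0 := by
      intro h
      have := Nat.eq_zero_of_gcd_eq_zero_left h
      omega
    have h3 : ∑ e ∈ (Nat.gcd n (q - 1)).divisors, Nat.totient e * KK q (n / e) =
        KK q n + ∑ e ∈ (Nat.gcd n (q - 1)).divisors.filter (fun e => 2 ≤ e),
          Nat.totient e * KK q (n / e) := by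
      rw [← Finset.sum_filter_add_sum_filter_not _ (fun e => 2 ≤ e), add_comm]
      congr 1
      have : (Nat.gcd n (q - 1)).divisors.filter (fun e => ¬ 2 ≤ e) = {1} := by
        ext e
        simp only [Finset.mem_filter, Nat.mem_divisors, Finset.mem_singleton]
        constructor
        · rintro ⟨⟨h4, _⟩, h5⟩
          have : e ≠ 0 := by
            rintro rfl
            exact hd (Nat.eq_zero_of_zero_dvd h4)
          omega
        · rintro rfl
          exact ⟨⟨one_dvd _, hd⟩, by norm_num⟩
      rw [this, Finset.sum_singleton]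
      simp
    have h4 := num_final q hq (KK q) (KK_one_le q hq) (KK_two_le q hq)
      (fun m hm => KK_le_three q m hq hm) n hn
    have h5 : (q - 1) * ∑ z : Z, Nat.card {C : ConjClasses (Matrix.SpecialLinearGroup (Fin n) F) //
          mulClass Z (le_refl _) z C = C} ≤ (q - 1) * (q ^ (n - 1) + 5 * q ^ (n - 2)) := by
      rw [h2, h3] at h1
      exact le_trans h1 h4
    exact Nat.le_of_mul_le_mul_left h5 hq1

end asm3
end Cfsg.Agent.Helper15.PSLk
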