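import Mathlib
import Cfsg.Agent.Lib.Helper15.SylGen4

set_option autoImplicit false

/-!
# The minimal index of a proper subgroup of `PSU₃(5)`: the permutation group of degree 126
(helper15)

Data produced by an external search; everything is re-checked by the kernel.
-/

namespace Cfsg.Agent.Helper15.PSU35

open SylGen

def t1L : List ℕ := [6, 4, 74, 37, 84, 119, 54, 21, 67, 125, 7, 110, 41, 20, 71, 55, 16, 34, 78, 64, 45, 123, 62, 77, 1, 13, 30, 19, 117, 35, 22, 107, 25, 99, 0, 15, 27, 72, 114, 8, 97, 120, 57, 14, 48, 32, 89, 86, 94, 81, 5, 101, 66, 85, 17, 80, 40, 9, 111, 90, 124, 49, 69, 83, 70, 52, 100, 82, 106, 26, 36, 59, 87, 47, 28, 12, 39, 79, 56, 96, 29, 58, 76, 53, 102, 122, 68, 112, 65, 31, 43, 23, 103, 46, 118, 2, 91, 18, 33, 60, 88, 11, 24, 113, 51, 75, 73, 93, 121, 44, 104, 61, 3, 38, 92, 10, 42, 95, 109, 108, 105, 50, 63, 115, 98, 116]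

def t2L : List ℕ := [22, 52, 125, 69, 108, 10, 114, 24, 65, 32, 5, 80, 62, 35, 84, 31, 50, 17, 82, 38, 51, 111, 0, 77, 7, 29, 115, 85, 124, 25, 104, 15, 9, 75, 48, 13, 100, 81, 19, 123, 89, 46, 67, 87, 109, 72, 41, 71, 34, 55, 16, 20, 1, 68, 61, 49, 74, 57, 106, 91, 78, 54, 12, 113, 117, 8, 103, 42, 53, 3, 93, 47, 45, 105, 56, 33, 102, 23, 60, 79, 11, 37, 18, 121, 14, 27, 110, 43, 101, 40, 90, 59, 119, 70, 97, 96, 95, 94, 99, 98, 36, 88, 76, 66, 30, 73, 58, 107, 4, 44, 86, 21, 122, 63, 6, 26, 120, 64, 118, 92, 116, 83, 112, 39, 28, 2]

def t1iL : List ℕ := [34, 24, 95, 112, 1, 50, 0, 10, 39, 57, 115, 101, 75, 25, 43, 35, 16, 54, 97, 27, 13, 7, 30, 91, 102, 32, 69, 36, 74, 80, 26, 89, 45, 98, 17, 29, 70, 3, 113, 76, 56, 12, 116, 90, 109, 20, 93, 73, 44, 61, 121, 104, 65, 83, 6, 15, 78, 42, 81, 71, 99, 111, 22, 122, 19, 88, 52, 8, 86, 62, 64, 14, 37, 106, 2, 105, 82, 23, 18, 77, 55, 49, 67, 63, 4, 53, 47, 72, 100, 46, 59, 96, 114, 107, 48, 117, 79, 40, 124, 33, 66, 51, 84, 92, 110, 120, 68, 31, 119, 118, 11, 58, 87, 103, 38, 123, 125, 28, 94, 5, 41, 108, 85, 21, 60, 9]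

def t2iL : List ℕ := [22, 52, 125, 69, 108, 10, 114, 24, 65, 32, 5, 80, 62, 35, 84, 31, 50, 17, 82, 38, 51, 111, 0, 77, 7, 29, 115, 85, 124, 25, 104, 15, 9, 75, 48, 13, 100, 81, 19, 123, 89, 46, 67, 87, 109, 72, 41, 71, 34, 55, 16, 20, 1, 68, 61, 49, 74, 57, 106, 91, 78, 54, 12, 113, 117, 8, 103, 42, 53, 3, 93, 47, 45, 105, 56, 33, 102, 23, 60, 79, 11, 37, 18, 121, 14, 27, 110, 43, 101, 40, 90, 59, 119, 70, 97, 96, 95, 94, 99, 98, 36, 88, 76, 66, 30, 73, 58, 107, 4, 44, 86, 21, 122, 63, 6, 26, 120, 64, 118, 92, 116, 83, 112, 39, 28, 2]

/-- the two generating permutations as raw functions (`true` is the first). -/
def tf (b : Bool) (x : Fin 126) : Fin 126 := Fin.ofNat 126 ((if b then t1L else t2L).getD x.val 0)

def tfi (b : Bool) (x : Fin 126) : Fin 126 := Fin.ofNat 126 ((if b then t1iL else t2iL).getD x.val 0)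

set_option maxRecDepth 100000 in
lemma tfi_tf : ∀ (b : Bool) (x : Fin 126), tfi b (tf b x) = x := by decide +kernel

set_option maxRecDepth 100000 in
lemma tf_tfi : ∀ (b : Bool) (x : Fin 126), tf b (tfi b x) = x := by decide +kernel

def tg (b : Bool) : Equiv.Perm (Fin 126) where
  toFun := tf b
  invFun := tfi b
  left_inv := tfi_tf b
  right_inv := tf_tfi b

lemma tg_apply (b : Bool) (x : Fin 126) : tg b x = tf b x := rfl

/-- the permutation group of degree 126. -/
abbrev RW : Subgroup (Equiv.Perm (Fin 126)) :=
  Subgroup.closure ({tg true, tg false} : Set (Equiv.Perm (Fin 126)))

def cW0 : List (List Bool) := [[],
  [true, false, true, true, false, true, true, true, false],
  [true, true, false, true, false, true, true, true, true, false, true],
  [false, true, true, false],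
  [false, true, false, true, false, true],
  [false, true, false, true, true, true, false],
  [true],
  [true, true, false, true, true, true, false],
  [false, true, true, true, false, true, true, false, true],
  [false, true, false, true, true, false, true, true, false],
  [true, false, true, true, true, false],
  [false, true, false, true, false, true, true],
  [false, true, false],
  [false, true, true, true, false, true, false, true, true],
  [false, true, false, true, false, true, false, true],
  [false, true, true, false, true, false, true, false],
  [false, true, true, true, false, true, false, true],
  [true, true, true],
  [true, false, true, false, true, true, true, true],
  [false, true, true, true, true, false, true],
  [false, true, false, true, true, true, true, false],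
  [false, true, true, true, true, false, true, true],
  [false],
  [true, false, true, true, false, true, false, true, false, true, false, true],
  [false, true, true, false, true, true, true, false],
  [false, true, true, false, true, false, true, true],
  [true, true, true, false],
  [true, false, true, false, true, true, false, true],
  [true, false, true, true, true, false, true, false, true, true, true, true],
  [true, true, false, true, false, true, true],
  [true, true, true, true, false],
  [true, true, false, true, false, true, false],
  [true, false, true, true, false, true, true, false],
  [false, true, true, true, true, false, true, false],
  [true, true, true, true],
  [true, true, true, false, true, false, true, true],
  [false, true, false, true, true, false, true],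
  [true, false, true, true, false],
  [true, true, true, true, false, true],
  [false, true, false, true, true, true, true, false, true, true],
  [false, true, false, true, false, true, false],
  [true, false, true, false],
  [true, false, true, true, false, true, false],
  [false, true, true, true, false, true, true, false],
  [true, true, true, true, false, true, true, true, true],
  [false, true, true, false, true, true, false],
  [false, true, false, true, false],
  [true, false, true, true, true, false, true, false],
  [false, true, true, true, true],
  [true, false, true, true],
  [true, true, true, false, true, false, true],
  [true, false, true, true, true, true, false],
  [true, true, true, true, false, true, true, false, true],
  [true, true, false, true, true, true, false, true],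
  [true, true],
  [false, true, false, true, true],
  [true, true, true, false, true, false, true, true, true, true],
  [true, true, false, true, true, false, true, false],
  [true, true, true, false, true, true],
  [true, true, false, true, false, true, false, true, false, true],
  [false, true, true, false, true, false, true, true, true, true],
  [false, true, true],
  [true, false],
  [false, true, true, true, false, true],
  [true, false, true, true, true, true, false, true],
  [true, true, true, false, true, true, false, true],
  [false, true, true, false, true],
  [false, true, false, true, true, false, true, false],
  [false, true, true, false, true, true, true, false, true],
  [true, true, false],
  [true, true, false, true, true, true, true, false, true],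
  [true, false, true, false, true, false, true, false, true],
  [true, true, false, true, true, false],
  [false, true, true, true, false, true, false],
  [false, true, true, true, false, true, false, true, true, true, true],
  [true, true, true, true, false, true, false],
  [false, true, true, false, true, false, true, false, true],
  [true, true, false, true, true, false, true, false, true, false, true, false, true],
  [true, true, false, true, false, true, true, true, true],
  [true, true, true, false, true, true, false, true, false, true, false, true, false, true],
  [true, false, true, false, true, true],
  [true, true, false, true, true],
  [false, true, false, true, false, true, true, true, true],
  [true, false, true, true, true, false, true],
  [true, false, true, false, true, false, true],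
  [true, true, true, false, true, true, true, false, true],
  [false, true, false, true, false, true, false, true, true],
  [true, true, true, false, true, true, false],
  [true, true, false, true, true, false, true],
  [true, false, true, false, true, false],
  [true, true, true, false, true, false, true, false, true, false, true],
  [false, true, true, false, true, false, true, false, true, false, true],
  [true, false, true],
  [true, true, true, true, false, true, false, true, false],
  [true, false, true, true, true, true],
  [true, false, true, false, true, true, true, true, false, true],
  [false, true, false, true, false, true, true, true, true, false, true],
  [false, true, false, true, true, true, true],
  [false, true, false, true, true, true, true, false, true, false],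
  [true, false, true, true, true, true, false, true, false],
  [true, false, true, true, false, true],
  [false, true, true, false, true, true, false, true],
  [true, true, false, true, false, true, false, true],
  [true, true, false, true],
  [false, true, true, true, true, false],
  [true, true, true, false, true, false],
  [false, true, true, true, false, true, true],
  [true, true, true, false, true, false, true, false],
  [true, false, true, false, true],
  [true, true, true, false, true, true, true, true],
  [true, false, true, false, true, false, true, true],
  [true, true, true, true, false, true, true],
  [true, true, true, true, false, true, true, false],
  [true, true, true, false, true],
  [false, true],
  [false, true, true, true, false],
  [false, true, true, false, true, false],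
  [false, true, false, true, true, true, true, false, true],
  [true, true, false, true, true, true, true],
  [false, true, false, true],
  [true, true, false, true, false],
  [true, true, false, true, false, true],
  [false, true, true, true, true, false, true, true, false],
  [true, false, true, true, true, true, false, true, true],
  [true, false, true, true, false, true, false, true, true, true, true],
  [true, false, true, false, true, true, false, true, true, false]]

set_option maxRecDepth 100000 in
lemma cfix0 : ∀ w ∈ cW0, ∀ b ∈ ([] : List (Fin 126)), evf tf w b = b := by decide +kernel

set_option maxRecDepth 100000 in
lemma cnd0 : (cW0.map (fun w => evf tf w (0 : Fin 126))).Nodup := by decide +kernel

lemma clen0 : cW0.length = 126 := by decide +kernel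

def cW1 : List (List Bool) := [[],
  [false, true, false, true, false, true, true, true, false, true, false, true, false, true, true, false],
  [false, true, false, true, true, false, true, true, false, true, true, false, true, false, true, false],
  [true, false, true, false, true, false, true, true, false, true, true, true, true],
  [true, false, true, true, true, true, false, true, false, true, false, true, false, true, false],
  [true, true, true, false, true, true, false, true, false, true, false, true, true, false, true, false, true],
  [true, false, true, false, true, true, false, true, false, true, false, true, false, true, false],
  [true, true, false, true, true, true],
  [true, true, true, false, true, true, false, true, true, false, true, false, true, false, true, false, true, true],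
  [true, true, false, true, true, false, true, true, false, true, true, true, true, false, true, true, true, false, true, false, true, true, true, false],
  [true, false, true, true, false, true, false, true, false, true, true, true, true, false, true, true, true, true],
  [false, true, true, true, true, false, true, true, false, true, false, true, true, true, false, true, true],
  [false, true, true, true, false, true, false, true, true, false, true, false, true, false, true, false, true, false, true, true],
  [false, true, false, true, true, true, false, true, true, false, true, true, false, true],
  [true, false, true, true, false, true, false, true, false, true, true, false, true, true, false, true, true, true, true],
  [true, true, false, true, false, true, true, true, false, true, false, true, true, false],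
  [true, true, true, false, true, false, true, true, true, false, true, true, true, false],
  [false, true, true, false, true, false, true, true, false, true, false, true, false, true, false, true, true, true],
  [false, true, true, true, true, false, true, true, true, false, true, true, false, true, false, true, true, false, true, true, false],
  [true, true, false, true, true, false, true, true, false, true, true, false, true, false, true, false, true, true, false, true],
  [true, true, false, true, false, true, false, true, true, false, true, true, false, true, false, true, true, true, false, true],
  [true, true, false, true, true, true, true, false, true, false, true, true, false, true, false, true, false, true, false, true, false],
  [true, false, true, true, false, true, false, true, true, false, true, true, false, true, false, true, true, true],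
  [true, true, true, true, false, true, false, true, false, true, true, true, false, true, true, true, false, true],
  [true, false, true, true, false, true, true, false, true, true, false, true, true, true, true],
  [false, true, true, false, true, false, true, true, true, false, true, false, true, true, false, true, false, true, true, false, true, true, true],
  [true, false, true, false, true, false, true, true, false, true, false, true, false, true, true, true, false, true, false, true, true, false],
  [true, true, true, false, true, false, true, false, true, true, false, true, false, true, true, true, false, true, true, false],
  [true, false, true, false, true, true, true, true, false, true, false, true, true, false, true, true, true, true],
  [false, true, false, true, false, true, true, true, false, true, true, true, false, true, true],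
  [true, true, true, true, false, true, false, true, true, false, true, false, true, true, false, true, true, true, false, true, true, true],
  [false, true, true, true, false, true, false, true, true, true, false, true, true, true, false, true, false, true, true, true, false],
  [false, true, true, true, false, true, false, true, true, true, false, true, true, false, true, false, true],
  [true, false, true, false, true, true, false, true, false, true, true, false, true, true, false, true, true, true, true, false, true],
  [true, true, false, true, true, true, false, true, true, false, true, true, false, true, true, true, true, false, true, true],
  [false, true, false, true, false, true, true, true, false, true, false, true, false, true, true, false, true, true, false, true, true, true],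
  [true, true, false, true, true, true, true, false, true, true, false, true, false, true, true, true, true, false, true, true, true, true],
  [true, true, false, true, false, true, false, true, true, false, true, false, true, false, true, true, true, false, true, false, true],
  [true, false, true, true, false, true, true, false, true, true, false, true, false, true, true, true],
  [false, true, false, true, true, true, true, false, true, false, true, false, true, true, false, true, false, true, true, false, true, true],
  [false, true, true, false, true, false, true, false, true, true, false, true, false, true, false, true, true, true, false, true, true, true],
  [false, true, true, false, true, true, true, true, false, true, false, true, false, true, true, true, false, true, false, true],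
  [true, false, true, true, true, false, true, true, true, false, true, true, true, false, true, false, true, true, true],
  [false, true, false, true, true, false, true, false, true, true, false, true, true, false, true, true, true, true, false, true, false, true],
  [true, false, true, true, false, true, false, true, false, true, false, true, true, false, true, true, false, true, false, true, true, true],
  [false, true, true, false, true, false, true, true, true, true, false, true, false, true, true, false, true, true, true, true, false],
  [true, false, true, true, true, false, true, true, true, false, true, true, true, false, true, true, true, true],
  [false, true, true, false, true, false, true, true, false, true, true, false, true, false, true, false, true, false],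
  [true, false, true, false, true, true, true, true, false, true, false, true, true, false, true, false, true, true, true],
  [true, false, true, false, true, true, false, true, true, true, false, true, true, false, true, false, true, false, true, true, true, false, true, true],
  [true, false, true, false, true, true, true, false, true, true, true, true],
  [true, true, true, true, false, true, false, true, true, false, true, false, true, true, false, true],
  [true, false, true, true, true, false, true, true, false, true, false, true, true, true],
  [false, true, false, true, true, false, true, true, true, true, false, true, true, false, true, true, false, true, true, false],
  [true, true, true, false, true, false, true, true, false, true, true, false, true, true, true, false, true, false, true, false, true, true, false, true],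
  [true, true, false, true, true, false, true, true, false, true, true, true, true, false, true, true, false, true, false, true],
  [true, true, true, true, false, true, true, true, true, false, true, false, true, false, true, true, true, false],
  [true, false, true, false, true, true, true, true, false, true, true, true, false, true, true, true, true],
  [false, true, false, true, true, false, true, false, true, false, true, true, true, true, false, true, true, true],
  [false, true, true, false, true, false, true, true, false, true, false, true, false, true, true, true, true],
  [true, false, true, true, false, true, false, true, true, true, false, true, false, true, false, true, false, true, false],
  [false, true, true, true, false, true, true, true, false, true, false, true, false, true, true, true, true, false],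
  [false, true, true, false, true, true, true, true, false, true, true, false, true, false, true, true, true, false, true],
  [true, true, true, true, false, true, true, true, false, true, true, true, false, true, true, false, true, true, true, true, false],
  [true, false, true, false, true, true, false, true, true, false, true, false, true, false, true, false, true, true, false, true, true, false],
  [true, false, true, false, true, true, true, false, true, false, true, true, true],
  [false, true, false, true, true, false, true, false, true, true, true, false, true, false, true, true, false, true, true, true, false, true],
  [true, true, true, false, true, false, true, true, false, true, false, true, true, true, false, true, true, true, false, true, false, true],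
  [false, true, true, false, true, true, true, false, true, true, true, false, true, false, true, false, true],
  [true, true, true, false, true, true, true, false, true, false, true, true, false, true, true, false, true, true, true],
  [false, true, false, true, false, true, false, true, true, false, true, true, true, false, true, true, false],
  [false, true, false, true, true, false, true, false, true, false, true, true],
  [true, false, true, false, true, true, false, true, true, true, false, true, true, false, true, true, true, true, false, true, false],
  [true, false, true, true, false, true, false, true, true, false, true, true, false, true, true, true, true],
  [true, true, false, true, true, false, true, true, true, true, false, true, false, true, false, true, true, true, false],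
  [true, true, false, true, false, true, true, false, true, true, false, true, false, true, false, true, false, true, true],
  [true, true, true, false, true, false, true, true, true, false, true, true, true, false, true, true, false, true, true, true],
  [true, false, true, true, true, false, true, true, false, true, true, true, true],
  [false, true, true, false, true, false, true, false, true, false, true, false, true, true, false, true, true, false, true, true],
  [true, false, true, true, false, true, true, true, true, false, true, false, true, true, true],
  [false, true, true, false, true, true, true, true, false, true, false, true, false, true, false, true, false, true, true, true, false, true],
  [true, true, false, true, true, true, true, false, true, false, true, true, true, false, true, false, true, true, true],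
  [true, false, true, true, false, true, false, true, true, true, true, false, true, true, true, true],
  [true, false, true, true, false, true, true, true, true, false, true, true, true, true],
  [true, false, true, true, false, true, false, true, false, true, true, false, true, true, false, true, false, true, true, true],
  [false, true, true, true, true, false, true, true, false, true, false, true, false, true, false, true, true, false],
  [true, true, true, false, true, true, false, true, true, true, true, false, true, true, true, false, true, false],
  [true, false, true, true, true, false, true, true, true, false, true, false, true, true, false, true, false, true, true, true],
  [false, true, false, true, true, true, false, true, false, true, true, true, false, true, true, true, true, false, true],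
  [false, true, true, true, false, true, false, true, false, true, true, false, true, false, true, true, true, false, true, false, true, false],
  [true, true, true, false, true, false, true, false, true, true, true, false, true, false, true, false, true],
  [true, true, false, true, false, true, true, true, false, true, false, true, true, false, true, true, false, true, true, true],
  [true, true, false, true, true, true, true, false, true, true, false, true, true, true, true, false, true, false, true, true, true],
  [true, false, true, true, false, true, false, true, true, true, true, false, true, false, true, true, true],
  [true, false, true, true, true, false, true, true, true, false, true, false, true, true, false, true, true, true, true],
  [true, true, false, true, false, true, false, true, true, false, true, false, true, true, false, true, true, true, false, true, false, true],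
  [false, true, false, true, false, true, true, false, true, true, true, false, true, false],
  [false, true, true, false, true, false, true, false, true, true, false, true, false, true, false, true],
  [true, false, true, false, true, true, false, true, false, true, false, true, false, true, false, true, true, false, true, true, true],
  [true, false, true, false, true, false, true, true, false, true, false, true, true, true],
  [false, true, true, true, false, true, false, true, false, true, false, true, false, true, true, false, true],
  [false, true, true, false, true, true, true, false, true, true, true, false, true, true, false, true, false, true, true, true, false],
  [true, true, false, true, false, true, false, true, true, true, false, true, true, true, false],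
  [false, true, true, false, true, true, false, true, true, true, true, false, true, true],
  [false, true, true, false, true, false, true, true, true, true, false, true, true, true, false, true, true, false, true],
  [true, true, false, true, true, true, true, false, true, false, true, true, true, false, true, true, true, true],
  [false, true, true, false, true, false, true, true, true, false, true, false, true, true, false, true, false],
  [true, true, true, false, true, false, true, true, false, true, true, false, true, false, true, true, true, false, true],
  [true, true, true, false, true, true, false, true, false, true, true, false, true, true, true, false, true],
  [true, true, false, true, true, false, true, false, true, true, false, true, false, true, true, false, true],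
  [true, true, false, true, false, true, true, false, true, true, true, true, false, true, true, true, false, true, false],
  [true, true, true, false, true, true, true, true, false, true, false, true, true, false, true, false, true, false],
  [false, true, true, true, true, false, true, true, false, true, true, false, true, false, true, true, false, true, false, true],
  [true, false, true, true, false, true, false, true, false, true, false, true, true, true, true, false, true, true, true, true],
  [true, false, true, false, true, true, true, true, false, true, true, true, false, true, false, true, true, true],
  [false, true, false, true, true, true, true, false, true, false, true, false, true, true, true, false, true, false, true, true, true, true, false],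
  [true, true, false, true, true, true, false, true, false, true, false, true, true, false, true, true, true, false, true, false],
  [true, true, false, true, false, true, true, false, true, false, true, false, true, true, false, true, false, true],
  [true, true, true, false, true, true, true, false, true, false, true, true, false],
  [false, true, false, true, false, true, false, true, true, false, true, true, false, true, true, false, true, true],
  [true, false, true, true, false, true, false, true, false, true, true, true, false, true, false, true, false, true, false, true, false],
  [false, true, false, true, true, true, true, false, true, false, true, false, true, true, false, true, true, false, true, true, false],
  [true, true, false, true, true, true, true, false, true, false, true, false, true, true, false, true, true, true, true],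
  [false, true, true, true, false, true, true, true, true, false, true, true, false, true, true],
  [true, false, true, false, true, false, true, true, false, true, true, false, true, false, true, true, true, false, true, true, true, false]]

set_option maxRecDepth 100000 in
lemma cfix1 : ∀ w ∈ cW1, ∀ b ∈ ([0] : List (Fin 126)), evf tf w b = b := by decide +kernel

set_option maxRecDepth 100000 in
lemma cnd1 : (cW1.map (fun w => evf tf w (1 : Fin 126))).Nodup := by decide +kernel

lemma clen1 : cW1.length = 125 := by decide +kernel

def cW2 : List (List Bool) := [[],
  [false, true, true, true, false, true, false, true, false, true, false, true, true, false, true, true, true, true, false, true, true, false, true, false, true, true, true, false],
  [true, false, true, false, true, true, true, false, true, false, true, true, true, true, false, true, false, true, false, true, true, false, true, false, true, true, true],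
  [true, true, false, true, false, true, true, false, true, false, true, false, true, true, true, true, false, true, false, true, true, true, false, true, false, true],
  [true, false, true, false, true, true, false, true, false, true, true, true, true, false, true, false, true, false, true, true, false, true, false, true, true],
  [false, true, true, false, true, true, false, true, false, true, true, false, true, false, true, false, true, true, true, true, false, true, false, true, true, false],
  [true, false, true, true, true, false, true, true, false, true, true, true, false, true, true, false, true, false, true, true, true, false, true, true, false, true, true],
  [true, false, true, true, true, false, true, true, false, true, false, true, false, true, true, false, true, false, true, true, false, true, true, true, false, true]]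

set_option maxRecDepth 100000 in
lemma cfix2 : ∀ w ∈ cW2, ∀ b ∈ ([0, 1] : List (Fin 126)), evf tf w b = b := by decide +kernel

set_option maxRecDepth 100000 in
lemma cnd2 : (cW2.map (fun w => evf tf w (6 : Fin 126))).Nodup := by decide +kernel

lemma clen2 : cW2.length = 8 := by decide +kernel

set_option maxRecDepth 100000 in
lemma trans0 : ∀ i : Fin 126, ∃ w ∈ cW0, evf tf w 0 = i := by decide +kernel

theorem card_RW_ge : 126000 ≤ Nat.card RW := by
  have h0 := chain_step tg tf tg_apply [] 0 cW0 cfix0 cnd0
  rw [clen0] at h0
  have h1 := chain_step tg tf tg_apply [0] 1 cW1 cfix1 cnd1
  rw [clen1] at h1
  have h2 := chain_step tg tf tg_apply [0, 1] 6 cW2 cfix2 cnd2
  rw [clen2] at h2
  have hlast := one_le_card_fixList (Subgroup.closure ({tg true, tg false} : Set (Equiv.Perm (Fin 126)))) [0, 1, 6]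
  change 126000 ≤ Nat.card (Subgroup.closure ({tg true, tg false} : Set (Equiv.Perm (Fin 126))))
  rw [fixList_nil] at h0
  simp only [List.nil_append, List.cons_append] at h0 h1 h2
  omega

end Cfsg.Agent.Helper15.PSU35
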