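import Mathlib
import Cfsg.Agent.Lib.Helper15.HSU3b
import Cfsg.Agent.Lib.Helper15.PSU35a

set_option autoImplicit false

/-!
# The minimal index of a proper subgroup of `PSU₃(5)`: data on the unitary side (helper15)

`SU₃(5)` permutes the 126 isotropic points. The generating matrices are those of `HSU3b`.
Data produced by an external search; everything is re-checked by the kernel.
-/

namespace Cfsg.Agent.Helper15.PSU35

open Matrix SylGen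
open Cfsg.Agent.Helper15.HSU3 (R25 d25 vec253 yM yMi)

/-- codes of the 126 normalised isotropic vectors. -/
def PVC : List ℕ := [1275, 1900, 3775, 5650, 13150, 15025, 1251, 1876, 3751, 5626, 13126, 15001, 3151, 6901, 8776, 10026, 11901, 12526, 51, 76, 3226, 6976, 8851, 10101, 11976, 12601, 751, 2626, 7626, 8251, 10751, 11376, 151, 4551, 5176, 6426, 9551, 13926, 14551, 4576, 5201, 6451, 9576, 13951, 14576, 226, 4626, 5251, 6501, 9626, 14001, 14626, 901, 2776, 7776, 8401, 10901, 11526, 3426, 7176, 9051, 10301, 12176, 12801, 3451, 7201, 9076, 10326, 12201, 12826, 976, 2851, 7851, 8476, 10976, 11601, 4751, 5376, 6626, 9751, 14126, 14751, 1026, 2901, 7901, 8526, 11026, 11651, 3551, 7301, 9176, 10426, 12301, 12926, 3576, 7326, 9201, 10451, 12326, 12951, 1101, 2976, 7976, 8601, 11101, 11726, 1126, 3001, 8001, 8626, 11126, 11751, 526, 4926, 5551, 6801, 9926, 14301,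 14926, 4951, 5576, 6826, 9951, 14326, 14951, 601]

def PV (i : Fin 126) : Fin 3 → R25 := vec253 (PVC.getD i.val 0)

def nu1L : List ℕ := [12, 9, 10, 9, 8, 2, 7, 20, 5, 4, 3, 22, 23, 2, 21, 18, 12, 16, 13, 19, 11, 15, 14, 6, 8, 9, 21, 15, 16, 9, 7, 20, 14, 12, 17, 22, 13, 5, 23, 18, 6, 3, 19, 11, 4, 2, 7, 20, 17, 8, 1, 18, 9, 3, 4, 17, 15, 8, 13, 17, 11, 8, 2, 6, 19, 23, 17, 14, 8, 12, 22, 16, 17, 5, 8, 21, 14, 2, 24, 10, 7, 20, 11, 5, 6, 24, 22, 10, 15, 24, 18, 10, 9, 13, 21, 10, 24, 16, 10, 19, 4, 23, 24, 12, 10, 3, 12, 6, 7, 20, 23, 11, 24, 3, 16, 13, 4, 21, 14, 9, 22, 19, 5, 2, 15, 18]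

def nu2L : List ℕ := [22, 5, 3, 7, 20, 4, 2, 10, 8, 12, 13, 9, 21, 23, 2, 12, 16, 18, 8, 9, 24, 21, 20, 10, 19, 16, 24, 3, 10, 23, 4, 12, 12, 23, 6, 16, 5, 15, 3, 24, 7, 17, 6, 16, 4, 10, 1, 14, 24, 13, 23, 6, 8, 9, 16, 4, 5, 18, 7, 9, 13, 23, 2, 4, 8, 5, 14, 24, 3, 14, 3, 7, 19, 2, 8, 16, 6, 19, 4, 18, 3, 11, 5, 14, 21, 9, 10, 23, 12, 14, 18, 3, 7, 9, 13, 10, 19, 4, 8, 5, 8, 12, 24, 7, 13, 21, 14, 18, 22, 13, 19, 2, 2, 13, 21, 6, 20, 5, 18, 14, 22, 7, 21, 6, 19, 9]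

def nui1L : List ℕ := [17, 6, 20, 6, 14, 3, 11, 10, 15, 4, 2, 16, 19, 3, 24, 13, 17, 22, 18, 23, 7, 5, 8, 9, 14, 6, 24, 5, 22, 6, 11, 10, 8, 17, 12, 16, 18, 15, 19, 13, 9, 2, 23, 7, 4, 3, 11, 10, 12, 14, 1, 13, 6, 2, 4, 12, 5, 14, 18, 12, 7, 14, 3, 9, 23, 19, 12, 8, 14, 17, 16, 22, 12, 15, 14, 24, 8, 3, 21, 20, 11, 10, 7, 15, 9, 21, 16, 20, 5, 21, 13, 20, 6, 18, 24, 20, 21, 22, 20, 23, 4, 19, 21, 17, 20, 2, 17, 9, 11, 10, 19, 7, 21, 2, 22, 18, 4, 24, 8, 6, 16, 23, 15, 3, 5, 13]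

def nui2L : List ℕ := [16, 15, 2, 11, 10, 4, 3, 20, 14, 17, 18, 6, 24, 19, 3, 17, 22, 13, 14, 6, 21, 24, 10, 20, 23, 22, 21, 2, 20, 19, 4, 17, 17, 19, 9, 22, 15, 5, 2, 21, 11, 12, 9, 22, 4, 20, 1, 8, 21, 18, 19, 9, 14, 6, 22, 4, 15, 13, 11, 6, 18, 19, 3, 4, 14, 15, 8, 21, 2, 8, 2, 11, 23, 3, 14, 22, 9, 23, 4, 13, 2, 7, 15, 8, 24, 6, 20, 19, 17, 8, 13, 2, 11, 6, 18, 20, 23, 4, 14, 15, 14, 17, 21, 11, 18, 24, 8, 13, 16, 18, 23, 3, 3, 18, 24, 9, 10, 15, 13, 8, 16, 11, 24, 9, 23, 6]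

/-- the multipliers. -/
def nu (b : Bool) (i : Fin 126) : R25 := d25 ((if b then nu1L else nu2L).getD i.val 0) 0

def nui (b : Bool) (i : Fin 126) : R25 := d25 ((if b then nui1L else nui2L).getD i.val 0) 0

set_option maxRecDepth 100000 in
lemma nu_ne : ∀ (b : Bool) (i : Fin 126), nu b i ≠ 0 ∧ nui b i ≠ 0 := by decide +kernel

set_option maxRecDepth 100000 in
lemma rel1 : ∀ (b : Bool) (i : Fin 126),
    yM b *ᵥ PV i = nu b i • PV (tf b i) := by decide +kernel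

set_option maxRecDepth 100000 in
lemma rel2 : ∀ (b : Bool) (i : Fin 126),
    yMi b *ᵥ PV (tf b i) = nui b i • PV i := by decide +kernel

set_option maxRecDepth 100000 in
lemma PV_inj0 : ∀ (j : Fin 126) (a b : ZMod 5),
    PV 0 = (⟨a, b⟩ : R25) • PV j → j = 0 := by decide +kernel

end Cfsg.Agent.Helper15.PSU35
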