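import Mathlib
import Cfsg.Prelude.Def_Classical
import Cfsg.Agent.Lib.Helper15.UBridge
import Cfsg.Agent.Lib.Helper15.HSU3c
import Cfsg.Agent.Lib.Helper15.PSU35b

set_option autoImplicit false

/-!
# The minimal index of a proper subgroup of `PSU₃(5)`: `PSU₃(5)` as a permutation group of
degree 126 (helper15)
-/

namespace Cfsg.Agent.Helper15.PSU35

open Matrix SylGen UBridge
open Cfsg.Agent.Helper15.HSU3 (R25 yM yMi yM_det yM_unitary yM_inv exists_ringHom25 hK' card_SU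
  card_center yG yMi_yM yM_yMi map_mulVec')

section sets

variable {K : Type*} [Field K] {n : ℕ}

/-- the non-zero multiples of a vector. -/
def lnSp (p : Fin n → K) : Set (Fin n → K) := {u | ∃ ν : K, ν ≠ 0 ∧ u = ν • p}

lemma self_mem_lnSp (p : Fin n → K) : p ∈ lnSp p := ⟨1, one_ne_zero, by rw [one_smul]⟩

lemma actS_lnSp (A Ai : Matrix (Fin n) (Fin n) K) (p p' : Fin n → K) (ν ν' : K) (hν : ν ≠ 0)
    (hν' : ν' ≠ 0) (hA : A * Ai = 1) (h1 : A *ᵥ p = ν • p')
    (h2 : Ai *ᵥ p' = ν' • p) : actS A (lnSp p) = lnSp p' := by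
  unfold actS lnSp
  ext w
  constructor
  · rintro ⟨v, ⟨μ, hμ, rfl⟩, rfl⟩
    refine ⟨μ * ν, mul_ne_zero hμ hν, ?_⟩
    simp only [Matrix.mulVec_smul, h1, smul_smul]
  · rintro ⟨μ, hμ, rfl⟩
    refine ⟨(μ * ν') • p, ⟨μ * ν', mul_ne_zero hμ hν', rfl⟩, ?_⟩
    have h3 : A *ᵥ (Ai *ᵥ p') = p' := by
      rw [Matrix.mulVec_mulVec, hA, Matrix.one_mulVec]
    have h4 : (μ * ν') • p = μ • (Ai *ᵥ p') := by
      rw [h2, smul_smul]
    simp only [h4, Matrix.mulVec_smul, h3]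

lemma actS_smul_lnSp (c : K) (hc : c ≠ 0) (p : Fin n → K) :
    actS (c • (1 : Matrix (Fin n) (Fin n) K)) (lnSp p) = lnSp p := by
  apply actS_lnSp _ (c⁻¹ • (1 : Matrix (Fin n) (Fin n) K)) p p c c⁻¹ hc (inv_ne_zero hc)
  · rw [smul_mul_smul_comm, Matrix.one_mul, mul_inv_cancel₀ hc, one_smul]
  · rw [Matrix.smul_mulVec, Matrix.one_mulVec]
  · rw [Matrix.smul_mulVec, Matrix.one_mulVec]

end sets

variable {K : Type*} [Field K] [Fintype K]

variable (ρ : R25 →+* K)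

/-- the `i`-th isotropic point over `K`. -/
def ptK (i : Fin 126) : Set (Fin 3 → K) := lnSp (ρ ∘ PV i)

omit [Fintype K] in
lemma rel_map (hρ : Function.Injective ρ) (b : Bool) (i : Fin 126) :
    actS ((yM b).map ρ) (ptK ρ i) = ptK ρ (tf b i) := by
  unfold ptK
  have hne := nu_ne b i
  apply actS_lnSp ((yM b).map ρ) ((yMi b).map ρ) _ _ (ρ (nu b i)) (ρ (nui b i))
    (fun h => hne.1 (hρ (by rw [h, map_zero]))) (fun h => hne.2 (hρ (by rw [h, map_zero])))
    (yM_yMi ρ b)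
  · rw [map_mulVec', rel1, HSU3.map_smul']
  · rw [map_mulVec', rel2, HSU3.map_smul']

omit [Fintype K] in
lemma ptK_injective (hρ : Function.Bijective ρ) : Function.Injective (ptK ρ) := by
  apply inj_of_trans actS (ptK ρ) (fun b => (yM b).map ρ) tf tfi tf_tfi (rel_map ρ hρ.1)
    (fun b => actS_injective _ _ (yMi_yM ρ b)) 0 cW0 trans0
  intro j h
  have h1 : ρ ∘ PV 0 ∈ ptK ρ j := by
    rw [← h]; exact self_mem_lnSp _
  obtain ⟨ν, -, hν⟩ := h1
  obtain ⟨ν', rfl⟩ := hρ.2 ν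
  apply PV_inj0 j ν'.re ν'.im
  have h2 : ρ ∘ PV 0 = ρ ∘ (ν' • PV j) := by
    rw [HSU3.map_smul']; exact hν
  funext k
  exact hρ.1 (congrFun h2 k)

/-- `PSU₃(K, 5)` for any field with 25 elements is the permutation group of degree 126. -/
theorem psu_equiv (hK : Fintype.card K = 25) : Nonempty (Cfsg.PSU 3 K 5 ≃* RW) := by
  obtain ⟨ρ, hρ⟩ := exists_ringHom25 hK
  have hZ : ∀ z ∈ Subgroup.center (Cfsg.SU 3 K 5), ∀ i,
      actS (toM z) (ptK ρ i) = ptK ρ i := by
    intro z hz i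
    have h1 := Cfsg.Agent.Helper11.Herm.center_SU_scalar (hK' hK) 3 0 z hz
    change toM z = (toM z) 0 0 • (1 : Matrix (Fin 3) (Fin 3) K) at h1
    set c := (toM z) 0 0 with hc
    have hd := toM_det z
    rw [h1, Matrix.det_smul, Matrix.det_one, mul_one, Fintype.card_fin] at hd
    have hc0 : c ≠ 0 := by
      intro h0
      rw [h0] at hd
      norm_num at hd
    rw [h1]
    exact actS_smul_lnSp c hc0 _
  have hc : Nat.card (Cfsg.SU 3 K 5) ≤ Nat.card (Subgroup.center (Cfsg.SU 3 K 5)) *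
      Nat.card (Subgroup.closure ({tg true, tg false} : Set (Equiv.Perm (Fin 126)))) := by
    rw [card_SU hK, card_center hK]
    have h : 126000 ≤ Nat.card (Subgroup.closure ({tg true, tg false} :
      Set (Equiv.Perm (Fin 126)))) := card_RW_ge
    omega
  exact (quot_equiv_closure_act (toM (K := K) (n := 3) (q := 5)) actS actS_one actS_mul (ptK ρ)
    (ptK_injective ρ hρ) (yG hK ρ true) (yG hK ρ false) (tg true) (tg false)
    (fun i => rel_map ρ hρ.1 true i) (fun i => rel_map ρ hρ.1 false i)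
    (Subgroup.center (Cfsg.SU 3 K 5)) hZ hc).2

end Cfsg.Agent.Helper15.PSU35
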