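import Mathlib
import Cfsg.Agent.Lib.Helper15.PSU35a

set_option autoImplicit false

/-!
# The minimal index of a proper subgroup of `PSU₃(5)`: proper subgroups have index at least 50
(helper15)

A subgroup of index less than 50 has more than `126 * 20` elements, so each of its point
stabilisers on the 126 points has at least 21 elements; every such subgroup of a point stabiliser
`5^{1+2}:8` of the whole group contains the centre of the normal Sylow 5-subgroup; so the subgroup
contains all the conjugates of a non-trivial element, and is everything by simplicity.
This file: the abstract lemmas and the data of the point stabiliser.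
-/

namespace Cfsg.Agent.Helper15.PSU35

open Subgroup MulAction SylGen

/-- orbit-stabiliser inside a subgroup. -/
theorem card_inf_stab {G X : Type*} [Group G] [MulAction G X] (H : Subgroup G) (x : X) :
    (orbit H x).ncard * Nat.card ↥(H ⊓ stabilizer G x) = Nat.card H := by
  have h1 : stabilizer H x = (stabilizer G x).subgroupOf H := by
    ext g; rfl
  have h2 := Subgroup.index_mul_card (stabilizer H x)
  rw [index_stabilizer, h1, ← Subgroup.inf_subgroupOf_left] at h2
  rw [← h2]
  congr 1
  exact (Nat.card_congr (Subgroup.subgroupOfEquivOfLe
    (inf_le_left : H ⊓ stabilizer G x ≤ H)).toEquiv).symm

/-- a subgroup all of whose point stabilisers are large contains every conjugate of `z`. -/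
theorem eq_top_of_card_gt {G Ω : Type*} [Group G] [Finite G] [MulAction G Ω] [IsSimpleGroup G]
    (N M : ℕ) (ω : Ω) (z : G) (hz1 : z ≠ 1)
    (horb : ∀ K : Subgroup G, (orbit K ω).ncard ≤ N)
    (hU : ∀ U : Subgroup G, U ≤ stabilizer G ω → M + 1 ≤ Nat.card U → z ∈ U)
    (H : Subgroup G) (hH : N * M < Nat.card H) : H = ⊤ := by
  have key : ∀ g : G, g * z * g⁻¹ ∈ H := by
    intro g
    set K : Subgroup G := H.map (MulAut.conj g⁻¹).toMonoidHom with hK
    have hcK : Nat.card K = Nat.card H :=
      Subgroup.card_map_of_injective (MulAut.conj g⁻¹).injective
    have h1 := card_inf_stab K ω
    have h2 := horb K
    have h3 : M + 1 ≤ Nat.card ↥(K ⊓ stabilizer G ω) := by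
      by_contra hlt
      rw [not_le] at hlt
      have : (orbit K ω).ncard * Nat.card ↥(K ⊓ stabilizer G ω) ≤ N * M :=
        Nat.mul_le_mul h2 (by omega)
      omega
    have h4 := hU (K ⊓ stabilizer G ω) inf_le_right h3
    have h5 : z ∈ K := h4.1
    rw [hK, Subgroup.mem_map] at h5
    obtain ⟨x, hx, hxz⟩ := h5
    have : x = g * z * g⁻¹ := by
      rw [← hxz]
      simp [mul_assoc]
    rw [← this]; exact hx
  have hn : Subgroup.normalClosure ({z} : Set G) ≤ H := by
    rw [Subgroup.normalClosure]
    rw [Subgroup.closure_le]
    rintro x hx
    rw [Group.mem_conjugatesOfSet_iff] at hx
    obtain ⟨a, ha, hax⟩ := hx
    rw [Set.mem_singleton_iff] at ha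
    subst ha
    rw [isConj_iff] at hax
    obtain ⟨c, rfl⟩ := hax
    exact key c
  rcases IsSimpleGroup.eq_bot_or_eq_top_of_normal _ (Subgroup.normalClosure_normal (s := ({z} : Set G)))
    with h | h
  · exfalso
    have : z ∈ Subgroup.normalClosure ({z} : Set G) :=
      Subgroup.subset_normalClosure (Set.mem_singleton z)
    rw [h, Subgroup.mem_bot] at this
    exact hz1 this
  · rw [h] at hn
    exact top_le_iff.mp hn



set_option maxRecDepth 100000 in
lemma div1000 : ∀ d ∈ Nat.divisors 1000, 21 ≤ d → ¬ 25 ∣ d → d = 40 := by decide +kernel

lemma card_sylow5 {B : Type*} [Group B] [Finite B] (hB : Nat.card B = 1000) [Fact (Nat.Prime 5)]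
    (P : Sylow 5 B) : Nat.card (P : Subgroup B) = 125 := by
  obtain ⟨k, hk⟩ := IsPGroup.iff_card.mp P.isPGroup'
  have hdvd : Nat.card (P : Subgroup B) ∣ 1000 := hB ▸ Subgroup.card_subgroup_dvd_card _
  have hidx := P.not_dvd_index
  have hmul := Subgroup.index_mul_card (P : Subgroup B)
  rw [hB, hk] at hmul
  rw [hk] at hdvd ⊢
  have hk3 : k ≤ 3 := by
    by_contra h
    rw [not_le] at h
    have : 5 ^ 4 ∣ 5 ^ k := pow_dvd_pow 5 h
    have := this.trans hdvd
    norm_num at this
  interval_cases k
  · exfalso; apply hidx; exact ⟨200, by omega⟩
  · exfalso; apply hidx; exact ⟨40, by omega⟩
  · exfalso; apply hidx; exact ⟨8, by omega⟩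
  · norm_num

section

variable {B : Type*} [Group B] [Finite B] (hB : Nat.card B = 1000) [Fact (Nat.Prime 5)]

include hB in
lemma sylow5_subsingleton : Subsingleton (Sylow 5 B) := by
  obtain ⟨P⟩ : Nonempty (Sylow 5 B) := inferInstance
  have h1 := card_sylow_modEq_one 5 B
  have h2 := P.card_dvd_index
  have h3 := Subgroup.index_mul_card (P : Subgroup B)
  rw [card_sylow5 hB P, hB] at h3
  have h4 : (P : Subgroup B).index = 8 := by omega
  rw [h4] at h2
  have h5 : Nat.card (Sylow 5 B) ≤ 8 := Nat.le_of_dvd (by norm_num) h2
  have h6 : Nat.card (Sylow 5 B) = 1 := by
    unfold Nat.ModEq at h1
    interval_cases h : Nat.card (Sylow 5 B) <;> simp_all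
  exact (Nat.card_eq_one_iff_unique.mp h6).1

include hB in
lemma le_sylow5 (P : Sylow 5 B) (V : Subgroup B) (hV : IsPGroup 5 V) : V ≤ P := by
  obtain ⟨Q, hQ⟩ := hV.exists_le_sylow
  have := sylow5_subsingleton hB
  rw [Subsingleton.elim P Q]
  exact hQ

/-- the data of the point stabiliser. -/
structure BData (B : Type*) [Group B] where
  pl : Fin 125 → B
  z0 : B
  c0 : B
  hinj : Function.Injective pl
  h5 : ∀ i, pl i ^ 5 = 1
  hz5 : z0 ^ 5 = 1
  hz1 : z0 ≠ 1
  hzc : ∀ i, z0 * pl i = pl i * z0
  hna : ∃ i j, pl i * pl j ≠ pl j * pl i
  hc : ∀ i, ∀ k : Fin 5, k ≠ 0 → ∀ m : Fin 5,
    c0 * pl i = pl i ^ (k : ℕ) * z0 ^ (m : ℕ) * c0 → ∃ m' : Fin 5, pl i = z0 ^ (m' : ℕ)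

variable (D : BData B)

include hB in
lemma mem_P_iff (P : Sylow 5 B) (y : B) : y ∈ (P : Subgroup B) ↔ ∃ i, D.pl i = y := by
  have hin : ∀ i, D.pl i ∈ (P : Subgroup B) := by
    intro i
    apply le_sylow5 hB P (zpowers (D.pl i)) _ (mem_zpowers _)
    rw [IsPGroup]
    rintro ⟨g, hg⟩
    obtain ⟨k, rfl⟩ := mem_zpowers_iff.mp hg
    refine ⟨1, Subtype.ext ?_⟩
    show (D.pl i ^ k) ^ 5 ^ 1 = 1
    rw [pow_one, ← zpow_natCast, ← zpow_mul, mul_comm, zpow_mul, zpow_natCast, D.h5, one_zpow]
  constructor
  · intro hy
    let f : Fin 125 → (P : Subgroup B) := fun i => ⟨D.pl i, hin i⟩
    have hf : Function.Injective f := fun i j h => D.hinj (congrArg Subtype.val h)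
    have hb := hf.bijective_of_nat_card_le (by rw [card_sylow5 hB P]; simp)
    obtain ⟨i, hi⟩ := hb.2 ⟨y, hy⟩
    exact ⟨i, congrArg Subtype.val hi⟩
  · rintro ⟨i, rfl⟩; exact hin i

include hB in
lemma z0_mem (P : Sylow 5 B) : D.z0 ∈ (P : Subgroup B) := by
  apply le_sylow5 hB P (zpowers D.z0) _ (mem_zpowers _)
  rw [IsPGroup]
  rintro ⟨g, hg⟩
  obtain ⟨k, rfl⟩ := mem_zpowers_iff.mp hg
  refine ⟨1, Subtype.ext ?_⟩
  show (D.z0 ^ k) ^ 5 ^ 1 = 1
  rw [pow_one, ← zpow_natCast, ← zpow_mul, mul_comm, zpow_mul, zpow_natCast, D.hz5, one_zpow]

include hB in
lemma z0_comm (P : Sylow 5 B) (y : B) (hy : y ∈ (P : Subgroup B)) : D.z0 * y = y * D.z0 := by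
  obtain ⟨i, rfl⟩ := (mem_P_iff hB D P y).mp hy
  exact D.hzc i

lemma orderOf_z0 : orderOf D.z0 = 5 := orderOf_eq_prime D.hz5 D.hz1

lemma card_Z : Nat.card (zpowers D.z0) = 5 := by rw [Nat.card_zpowers, orderOf_z0]

/-- a subgroup meeting `⟨z0⟩` non-trivially contains `z0`. -/
lemma z0_mem_of_inf_ne_bot (V : Subgroup B) (h : V ⊓ zpowers D.z0 ≠ ⊥) : D.z0 ∈ V := by
  have h1 : Nat.card ↥(V ⊓ zpowers D.z0) ∣ 5 := by
    rw [← card_Z D]
    exact Subgroup.card_dvd_of_le inf_le_right
  have h2 : Nat.card ↥(V ⊓ zpowers D.z0) ≠ 1 := by
    intro h3
    exact h (Subgroup.card_eq_one.mp h3)
  have h3 : Nat.card ↥(V ⊓ zpowers D.z0) = 5 := by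
    rcases (Nat.dvd_prime Nat.prime_five).mp h1 with h4 | h4
    · exact absurd h4 h2
    · exact h4
  have h4 : V ⊓ zpowers D.z0 = zpowers D.z0 := by
    apply Subgroup.eq_of_le_of_card_ge inf_le_right
    rw [h3, card_Z]
  have : D.z0 ∈ V ⊓ zpowers D.z0 := by rw [h4]; exact mem_zpowers _
  exact this.1

include hB in
/-- subgroups of order 25 of the Sylow 5-subgroup contain `z0`. -/
lemma z0_mem_of_card_25 (P : Sylow 5 B) (V : Subgroup B) (hVP : V ≤ P) (hV : Nat.card V = 25) :
    D.z0 ∈ V := by
  by_contra hz
  have hdisj : V ⊓ zpowers D.z0 = ⊥ := by
    by_contra h
    exact hz (z0_mem_of_inf_ne_bot D V h)
  let f : V × zpowers D.z0 → (P : Subgroup B) := fun x =>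
    ⟨x.1.1 * x.2.1, (P : Subgroup B).mul_mem (hVP x.1.2)
      (le_sylow5 hB P (zpowers D.z0) (by
        have := z0_mem hB D P
        exact IsPGroup.to_le P.isPGroup' (zpowers_le.mpr this)) x.2.2)⟩
  have hf : Function.Injective f := by
    rintro ⟨⟨v, hv⟩, ⟨z, hz'⟩⟩ ⟨⟨v', hv'⟩, ⟨z', hz''⟩⟩ h
    have h0 : v * z = v' * z' := congrArg Subtype.val h
    have h1 : v'⁻¹ * v = z' * z⁻¹ := by
      rw [eq_mul_inv_iff_mul_eq, mul_assoc, h0, inv_mul_cancel_left]
    have h2 : v'⁻¹ * v ∈ V ⊓ zpowers D.z0 :=
      ⟨V.mul_mem (V.inv_mem hv') hv, by rw [h1]; exact (zpowers D.z0).mul_mem hz'' ((zpowers D.z0).inv_mem hz')⟩
    rw [hdisj, mem_bot] at h2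
    have h3 : v = v' := by rw [inv_mul_eq_one] at h2; exact h2.symm
    subst h3
    have h4 : z = z' := mul_left_cancel h0
    subst h4
    rfl
  have hb := hf.bijective_of_nat_card_le (by
    rw [Nat.card_prod, hV, card_Z, card_sylow5 hB P])
  have hcomm : ∀ a b : V, a * b = b * a :=
    IsPGroup.commutative_of_card_eq_prime_sq (p := 5) (by rw [hV]; norm_num)
  obtain ⟨i, j, hij⟩ := D.hna
  have hi : D.pl i ∈ (P : Subgroup B) := (mem_P_iff hB D P _).mpr ⟨i, rfl⟩
  have hj : D.pl j ∈ (P : Subgroup B) := (mem_P_iff hB D P _).mpr ⟨j, rfl⟩
  obtain ⟨⟨⟨v, hv⟩, ⟨z, hz'⟩⟩, h1⟩ := hb.2 ⟨D.pl i, hi⟩
  obtain ⟨⟨⟨v', hv'⟩, ⟨z', hz''⟩⟩, h2⟩ := hb.2 ⟨D.pl j, hj⟩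
  have e1 : v * z = D.pl i := congrArg Subtype.val h1
  have e2 : v' * z' = D.pl j := congrArg Subtype.val h2
  apply hij
  have cz : ∀ w ∈ zpowers D.z0, ∀ y ∈ (P : Subgroup B), w * y = y * w := by
    intro w hw y hy
    obtain ⟨k, rfl⟩ := mem_zpowers_iff.mp hw
    exact ((Commute.zpow_left (z0_comm hB D P y hy) k) : _)
  have hvv : v * v' = v' * v := congrArg Subtype.val (hcomm ⟨v, hv⟩ ⟨v', hv'⟩)
  have hzP : z ∈ (P : Subgroup B) := le_sylow5 hB P (zpowers D.z0)
    (IsPGroup.to_le P.isPGroup' (zpowers_le.mpr (z0_mem hB D P))) hz'
  have hz'P : z' ∈ (P : Subgroup B) := le_sylow5 hB P (zpowers D.z0)
    (IsPGroup.to_le P.isPGroup' (zpowers_le.mpr (z0_mem hB D P))) hz''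
  rw [← e1, ← e2]
  calc v * z * (v' * z') = v * (z * v') * z' := by group
    _ = v * (v' * z) * z' := by rw [cz z hz' v' (hVP hv')]
    _ = (v * v') * (z * z') := by group
    _ = (v' * v) * (z' * z) := by rw [hvv, cz z hz' z' hz'P]
    _ = v' * (v * z') * z := by group
    _ = v' * (z' * v) * z := by rw [cz z' hz'' v (hVP hv)]
    _ = v' * z' * (v * z) := by group

include hB in
/-- conjugation inside the Sylow 5-subgroup moves elements by powers of `z0`. -/
lemma conj_mod_Z (P : Sylow 5 B) (x p : B) (hx : x ∈ (P : Subgroup B))
    (hp : p ∈ (P : Subgroup B)) : ∃ m : Fin 5, p⁻¹ * x * p = x * D.z0 ^ (m : ℕ) := by
  have hZP : zpowers D.z0 ≤ (P : Subgroup B) := zpowers_le.mpr (z0_mem hB D P)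
  set Z' : Subgroup (P : Subgroup B) := (zpowers D.z0).subgroupOf P with hZ'
  have hn : Z'.Normal := by
    constructor
    intro n hn g
    have h1 : (n : B) ∈ zpowers D.z0 := hn
    obtain ⟨k, hk⟩ := mem_zpowers_iff.mp h1
    have h2 : (n : B) * (g : B) = (g : B) * (n : B) := by
      rw [← hk]
      exact Commute.zpow_left (z0_comm hB D P g g.2) k
    have h3 : g * n * g⁻¹ = n := by
      apply Subtype.ext
      show (g : B) * (n : B) * (g : B)⁻¹ = n
      rw [← h2, mul_inv_cancel_right]
    rw [h3]; exact hn
  have hcZ : Nat.card Z' = 5 := by
    rw [Nat.card_congr (Subgroup.subgroupOfEquivOfLe hZP).toEquiv, card_Z]
  have hcard : Nat.card ((P : Subgroup B) ⧸ Z') = 5 ^ 2 := by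
    have h1 := Subgroup.card_eq_card_quotient_mul_card_subgroup Z'
    rw [card_sylow5 hB P, hcZ] at h1
    omega
  have hcomm := IsPGroup.commutative_of_card_eq_prime_sq (p := 5) hcard
  have h1 := hcomm (QuotientGroup.mk ⟨p, hp⟩) (QuotientGroup.mk ⟨x, hx⟩)
  rw [← QuotientGroup.mk_mul, ← QuotientGroup.mk_mul, QuotientGroup.eq] at h1
  have h2 : (p * x)⁻¹ * (x * p) ∈ zpowers D.z0 := h1
  obtain ⟨k, hk⟩ := mem_zpowers_iff.mp h2
  have h3 : D.z0 ^ (k % 5) = D.z0 ^ k := by
    have := zpow_mod_orderOf D.z0 k
    rw [orderOf_z0] at this
    exact_mod_cast this
  have h4 : 0 ≤ k % 5 := Int.emod_nonneg _ (by norm_num)
  have h5 : k % 5 < 5 := Int.emod_lt_of_pos _ (by norm_num)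
  refine ⟨⟨(k % 5).toNat, by omega⟩, ?_⟩
  show p⁻¹ * x * p = x * D.z0 ^ (k % 5).toNat
  rw [← zpow_natCast, Int.toNat_of_nonneg h4, h3, hk]
  group

include hB in
/-- every subgroup of order at least 21 contains `z0`. -/
theorem z0_mem_of_card_ge (U : Subgroup B) (hU : 21 ≤ Nat.card U) : D.z0 ∈ U := by
  obtain ⟨P⟩ : Nonempty (Sylow 5 B) := inferInstance
  have hPn : (P : Subgroup B).Normal := by
    have := sylow5_subsingleton hB
    exact Sylow.normal_of_subsingleton P
  have hdvd : Nat.card U ∣ 1000 := hB ▸ card_subgroup_dvd_card U
  by_cases h25 : 25 ∣ Nat.card U
  · obtain ⟨K, hK⟩ := Sylow.exists_subgroup_card_pow_prime 5 (n := 2) (G := U) (by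
      norm_num; exact h25)
    have hV : Nat.card (K.map U.subtype) = 25 := by
      rw [card_map_of_injective U.subtype_injective, hK]; norm_num
    have hVU : K.map U.subtype ≤ U := map_subtype_le K
    have hVP : K.map U.subtype ≤ P :=
      le_sylow5 hB P _ (IsPGroup.of_card (n := 2) (by rw [hV]; norm_num))
    exact hVU (z0_mem_of_card_25 hB D P _ hVP hV)
  · have h40 : Nat.card U = 40 := div1000 _ (Nat.mem_divisors.mpr ⟨hdvd, by norm_num⟩) hU h25
    let φ : U →* B ⧸ (P : Subgroup B) := (QuotientGroup.mk' (P : Subgroup B)).comp U.subtype
    have hker : ∀ u : U, u ∈ φ.ker ↔ (u : B) ∈ (P : Subgroup B) := by
      intro u
      rw [MonoidHom.mem_ker]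
      exact QuotientGroup.eq_one_iff _
    have hkerW : φ.ker = (U ⊓ (P : Subgroup B)).subgroupOf U := by
      ext u
      rw [hker, mem_subgroupOf, mem_inf]
      exact ⟨fun h => ⟨u.2, h⟩, fun h => h.2⟩
    have hcW : Nat.card φ.ker = Nat.card ↥(U ⊓ (P : Subgroup B)) := by
      rw [hkerW]
      exact Nat.card_congr (Subgroup.subgroupOfEquivOfLe inf_le_left).toEquiv
    have hq : Nat.card (B ⧸ (P : Subgroup B)) = 8 := by
      have h1 := Subgroup.card_eq_card_quotient_mul_card_subgroup (P : Subgroup B)
      rw [card_sylow5 hB P, hB] at h1
      omega
    have hr : Nat.card φ.range ∣ 8 := hq ▸ card_subgroup_dvd_card φ.range
    have hW125 : Nat.card ↥(U ⊓ (P : Subgroup B)) ∣ 125 := by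
      rw [← card_sylow5 hB P]
      exact Subgroup.card_dvd_of_le inf_le_right
    have hmul : Nat.card U = Nat.card φ.range * Nat.card φ.ker := by
      rw [Subgroup.card_eq_card_quotient_mul_card_subgroup φ.ker,
        Nat.card_congr (QuotientGroup.quotientKerEquivRange φ).toEquiv]
    rw [h40, hcW] at hmul
    have hW5 : Nat.card ↥(U ⊓ (P : Subgroup B)) = 5 ∧ Nat.card φ.range = 8 := by
      have h8 : Nat.card φ.range ≤ 8 := Nat.le_of_dvd (by norm_num) hr
      have hw40 : Nat.card ↥(U ⊓ (P : Subgroup B)) ∣ 40 := ⟨Nat.card φ.range, by rw [hmul]; ring⟩
      have hw5 : Nat.card ↥(U ⊓ (P : Subgroup B)) ∣ 5 := by
        have := Nat.dvd_gcd hw40 hW125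
        norm_num at this
        exact this
      rcases (Nat.dvd_prime Nat.prime_five).mp hw5 with h1 | h1
      · rw [h1] at hmul; omega
      · rw [h1] at hmul; exact ⟨h1, by omega⟩
    have hsurj : φ.range = ⊤ := Subgroup.eq_top_of_card_eq _ (by rw [hW5.2, hq])
    obtain ⟨u, hu⟩ : ∃ u : U, φ u = QuotientGroup.mk D.c0 := by
      have : (QuotientGroup.mk D.c0 : B ⧸ (P : Subgroup B)) ∈ φ.range := by rw [hsurj]; trivial
      exact this
    have hp' : (u : B) * D.c0⁻¹ ∈ (P : Subgroup B) := by
      rw [← QuotientGroup.eq_one_iff, QuotientGroup.mk_mul, QuotientGroup.mk_inv]
      have : (QuotientGroup.mk (u : B) : B ⧸ (P : Subgroup B)) = QuotientGroup.mk D.c0 := hu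
      rw [this, mul_inv_cancel]
    -- a non-trivial element of W
    have hWne : U ⊓ (P : Subgroup B) ≠ ⊥ := by
      intro h
      rw [h, Subgroup.card_bot] at hW5
      omega
    obtain ⟨⟨y, hyW⟩, hy1'⟩ := (Subgroup.ne_bot_iff_exists_ne_one.mp hWne)
    have hy1 : y ≠ 1 := fun h => hy1' (Subtype.ext h)
    have hyP : y ∈ (P : Subgroup B) := hyW.2
    obtain ⟨i, hi⟩ := (mem_P_iff hB D P y).mp hyP
    have hy5 : y ^ 5 = 1 := by rw [← hi]; exact D.h5 i
    have hoy : orderOf y = 5 := orderOf_eq_prime hy5 hy1
    have hzW : zpowers y = U ⊓ (P : Subgroup B) := by
      apply Subgroup.eq_of_le_of_card_ge (zpowers_le.mpr hyW)
      rw [hW5.1, Nat.card_zpowers, hoy]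
    have hconj : (u : B) * y * (u : B)⁻¹ ∈ zpowers y := by
      rw [hzW]
      exact ⟨U.mul_mem (U.mul_mem u.2 hyW.1) (U.inv_mem u.2), hPn.conj_mem y hyP u⟩
    obtain ⟨k, hk⟩ := mem_zpowers_iff.mp hconj
    have h3 : y ^ (k % 5) = y ^ k := by
      have := zpow_mod_orderOf y k
      rw [hoy] at this
      exact_mod_cast this
    have h4 : 0 ≤ k % 5 := Int.emod_nonneg _ (by norm_num)
    have h5 : k % 5 < 5 := Int.emod_lt_of_pos _ (by norm_num)
    have hk0 : (k % 5).toNat ≠ 0 := by
      intro h0
      have h6 : k % 5 = 0 := by omega
      rw [h6, zpow_zero] at h3
      rw [← h3] at hk
      apply hy1
      have : (u : B) * y * (u : B)⁻¹ = 1 := hk.symm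
      rw [mul_inv_eq_one] at this
      exact mul_left_cancel (this.trans (mul_one _).symm)
    have hyk : y ^ (k % 5).toNat = (u : B) * y * (u : B)⁻¹ := by
      rw [← zpow_natCast, Int.toNat_of_nonneg h4, h3, hk]
    set k' : Fin 5 := ⟨(k % 5).toNat, by omega⟩ with hk'
    have hk'0 : k' ≠ 0 := by
      intro h
      apply hk0
      have := congrArg Fin.val h
      exact this
    obtain ⟨m, hm⟩ := conj_mod_Z hB D P (y ^ (k' : ℕ)) ((u : B) * D.c0⁻¹)
      ((P : Subgroup B).pow_mem hyP _) hp'
    have hfin : D.c0 * D.pl i = D.pl i ^ (k' : ℕ) * D.z0 ^ (m : ℕ) * D.c0 := by
      rw [hi, ← hm]
      show D.c0 * y = ((u : B) * D.c0⁻¹)⁻¹ * y ^ (k % 5).toNat * ((u : B) * D.c0⁻¹) * D.c0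
      rw [hyk]
      group
    obtain ⟨m', hm'⟩ := D.hc i k' hk'0 m hfin
    have hyZ : y ∈ zpowers D.z0 := by
      rw [← hi, hm']
      exact (zpowers D.z0).pow_mem (mem_zpowers _) _
    have hne : (U ⊓ (P : Subgroup B)) ⊓ zpowers D.z0 ≠ ⊥ := by
      intro h
      have : y ∈ (U ⊓ (P : Subgroup B)) ⊓ zpowers D.z0 := ⟨hyW, hyZ⟩
      rw [h, mem_bot] at this
      exact hy1 this
    exact (z0_mem_of_inf_ne_bot D _ hne).1

end


/-! ### The data of the point stabiliser -/

/-- the tables of the two generators as base-128 codes. -/
def cT (b : Bool) : ℕ := if b then 29416258432646412919719966832702219267327112369300309150400633952983247836843263171456817444374624432173371599661611043911088276743896457040155490706939833537645417764280009261652425529757790303251955385283465564388381525447088632839186073699471725691225827624256006 else 559539512206509016708233521916233174990501321921845125531588241766697359800796928839649995477013817015442358447650309298316423146218047059769172174346351237908385843342263862225666362561190057600625132011424432435286171248370114881320659451975577344728823054162454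

/-- fast evaluation of the generators. -/
def tfN (b : Bool) (x : Fin 126) : Fin 126 := Fin.ofNat 126 (cT b / 128 ^ x.val % 128)

set_option maxRecDepth 100000 in
lemma tf_eq_tfN : ∀ (b : Bool) (x : Fin 126), tf b x = tfN b x := by decide +kernel

lemma tf_eq : tf = tfN := by
  funext b x
  exact tf_eq_tfN b x

/-- words for the 125 elements of the Sylow 5-subgroup of the point stabiliser. -/
def PwL : List (List Bool) := [[],
  [true, false, true, true, true, false, true, true, false, true, false, true, true, true],
  [false, true, false, true, false, true, true, true, false, true, false, true, false, true, true, false],
  [false, true, true, true, false, true, false, true, true, true, false, true, true, false, true, false, true],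
  [false, true, true, false, true, false, true, true, false, true, false, true, false, true, false, true, true, true],
  [false, true, false, true, false, true, false, true, true, false, true, true, false, true, true, false, true, true],
  [true, true, false, true, true, true, true, false, true, true, true, false, true, true, false, true, true, true, true],
  [false, true, false, true, true, true, false, true, false, true, true, true, false, true, true, true, true, false, true],
  [false, true, true, false, true, true, false, true, false, true, false, true, false, true, true, false, true, false, true],
  [true, true, false, true, true, false, true, true, true, true, false, true, false, true, false, true, true, true, false],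
  [false, true, false, true, false, true, true, false, true, true, true, false, true, false, true, true, false, true, true, true],
  [false, true, true, true, true, false, true, true, false, true, true, false, true, false, true, true, false, true, false, true],
  [false, true, true, false, true, true, false, true, false, true, true, true, true, false, true, true, true, false, true, false],
  [false, true, true, true, false, true, false, true, true, false, true, true, true, false, true, true, true, false, true, false],
  [true, true, false, true, true, true, false, true, false, true, false, true, true, false, true, true, true, false, true, false],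
  [false, true, false, true, true, true, false, true, false, true, false, true, true, true, true, false, true, false, true, false],
  [true, false, true, false, true, false, true, true, true, true, false, true, true, false, true, true, false, true, true, true, true],
  [true, false, true, true, false, true, false, true, false, true, false, true, true, false, true, true, false, true, true, true, true],
  [false, true, true, false, true, true, false, true, true, false, true, false, true, true, false, true, true, false, true, true, true],
  [true, false, true, false, true, true, false, true, false, true, false, true, false, true, false, true, true, false, true, true, true],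
  [true, false, true, true, false, true, true, false, true, true, true, false, true, true, true, false, true, false, true, true, true],
  [true, true, false, true, true, true, false, true, true, false, true, true, false, true, true, false, true, false, true, true, false],
  [true, false, true, true, false, true, false, true, false, true, true, true, false, true, false, true, false, true, false, true, false],
  [true, false, true, true, true, false, true, true, true, false, true, true, false, true, false, true, false, true, false, true, false],
  [true, true, false, true, true, true, true, false, true, false, true, true, false, true, false, true, false, true, false, true, false],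
  [false, true, true, true, false, true, true, false, true, false, true, true, false, true, true, false, true, true, true, false, true, true],
  [true, false, true, false, true, false, true, false, true, false, true, true, false, true, true, false, true, true, true, true, false, true],
  [false, true, false, true, true, true, true, false, true, false, true, true, false, true, false, true, true, false, true, true, false, true],
  [true, true, true, true, false, true, true, true, true, false, true, true, false, true, false, true, true, true, false, true, false, true],
  [true, true, false, true, true, false, true, true, true, false, true, false, true, true, true, true, false, true, false, true, false, true],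
  [false, true, false, true, false, true, true, true, true, false, true, false, true, true, true, false, true, false, true, true, true, false],
  [true, true, false, true, false, true, true, false, true, true, true, false, true, true, false, true, true, true, false, true, true, false],
  [false, true, true, true, true, false, true, false, true, false, true, true, false, true, false, true, true, true, true, false, true, false],
  [false, true, false, true, false, true, true, false, true, true, false, true, true, false, true, true, true, false, true, false, true, false],
  [true, true, false, true, true, false, true, false, true, true, true, false, true, false, true, true, true, false, true, false, true, false],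
  [true, true, true, false, true, true, false, true, true, false, true, false, true, true, false, true, true, false, true, false, true, false],
  [true, true, false, true, true, true, false, true, true, false, true, false, true, true, false, true, false, true, false, true, true, true, true],
  [true, true, false, true, false, true, false, true, true, true, false, true, false, true, true, true, true, false, true, true, false, true, true],
  [true, true, false, true, false, true, true, false, true, false, true, true, true, false, true, true, true, false, true, true, false, true, true],
  [false, true, true, true, false, true, true, true, false, true, false, true, true, true, true, false, true, true, false, true, true, false, true],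
  [false, true, false, true, true, false, true, false, true, false, true, false, true, false, true, true, false, true, false, true, true, false, true],
  [false, true, false, true, true, true, false, true, true, true, false, true, false, true, false, true, true, true, true, false, true, false, true],
  [false, true, false, true, true, true, false, true, true, true, true, false, true, true, false, true, true, false, true, false, true, false, true],
  [true, true, true, true, false, true, false, true, true, false, true, true, true, true, false, true, true, false, true, true, true, true, false],
  [true, true, false, true, true, false, true, false, true, true, false, true, true, false, true, false, true, true, false, true, true, true, false],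
  [true, false, true, true, true, false, true, false, true, true, false, true, false, true, false, true, false, true, true, false, true, true, false],
  [true, false, true, false, true, true, false, true, true, false, true, false, true, true, false, true, true, false, true, true, false, true, false],
  [false, true, false, true, false, true, true, true, true, false, true, false, true, true, false, true, false, true, true, true, false, true, true, true],
  [false, true, true, true, true, false, true, true, false, true, false, true, false, true, false, true, true, false, true, true, false, true, true, true],
  [false, true, false, true, true, false, true, true, false, true, true, false, true, true, true, false, true, false, true, true, true, false, true, true],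
  [true, true, true, false, true, false, true, true, true, false, true, true, false, true, true, false, true, false, true, true, true, false, true, true],
  [true, true, false, true, false, true, true, true, false, true, false, true, false, true, true, false, true, false, true, true, true, false, true, true],
  [true, false, true, false, true, true, false, true, true, true, false, true, true, false, true, false, true, false, true, true, true, false, true, true],
  [false, true, true, true, false, true, false, true, false, true, true, false, true, true, false, true, true, true, true, false, true, false, true, true],
  [true, true, false, true, true, true, false, true, false, true, true, true, true, false, true, true, false, true, true, false, true, false, true, true],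
  [false, true, false, true, false, true, true, true, false, true, true, false, true, true, false, true, false, true, true, false, true, false, true, true],
  [true, true, true, true, false, true, true, true, true, false, true, true, false, true, true, true, false, true, true, true, false, true, false, true],
  [true, true, false, true, true, false, true, true, true, false, true, true, false, true, false, true, true, true, true, false, true, true, true, false],
  [false, true, true, false, true, true, true, true, false, true, false, true, false, true, true, true, true, false, true, false, true, true, true, false],
  [false, true, true, true, true, false, true, true, false, true, true, false, true, true, true, false, true, true, true, true, false, true, true, false],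
  [true, false, true, true, false, true, false, true, true, true, true, false, true, true, false, true, true, true, false, true, false, true, true, false],
  [true, true, true, true, false, true, true, true, false, true, true, false, true, false, true, false, true, true, false, true, false, true, true, false],
  [false, true, false, true, true, false, true, true, false, true, false, true, true, false, true, true, false, true, true, true, true, false, true, false],
  [false, true, false, true, false, true, true, false, true, true, true, true, false, true, false, true, false, true, true, true, true, false, true, false],
  [true, true, true, false, true, true, true, true, false, true, true, false, true, true, false, true, true, true, false, true, true, false, true, false],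
  [true, true, true, true, false, true, true, true, false, true, false, true, true, false, true, true, false, true, false, true, true, false, true, false],
  [false, true, true, true, false, true, true, true, false, true, true, false, true, true, true, true, false, true, true, false, true, false, true, false],
  [false, true, true, false, true, false, true, true, true, true, false, true, true, true, false, true, true, false, true, true, true, false, true, true, true],
  [false, true, false, true, true, true, true, false, true, false, true, false, true, true, true, true, false, true, true, true, false, true, false, true, true],
  [false, true, true, true, true, false, true, true, true, false, true, true, false, true, true, true, false, true, true, true, false, true, false, true, true],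
  [true, true, false, true, true, false, true, true, false, true, false, true, true, false, true, true, false, true, true, true, false, true, false, true, true],
  [true, true, false, true, false, true, true, false, true, true, false, true, true, true, false, true, false, true, true, true, false, true, false, true, true],
  [true, true, false, true, true, true, false, true, true, false, true, false, true, true, true, true, false, true, true, true, false, true, true, false, true],
  [true, false, true, true, true, false, true, false, true, true, false, true, true, true, false, true, true, true, false, true, false, true, true, false, true],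
  [true, true, true, true, false, true, false, true, true, false, true, true, true, false, true, true, false, true, true, false, true, false, true, false, true],
  [true, true, false, true, true, false, true, false, true, false, true, true, false, true, false, true, true, false, true, true, false, true, true, true, false],
  [true, true, false, true, false, true, true, true, false, true, true, true, false, true, true, true, false, true, false, true, true, true, false, true, false],
  [true, true, true, false, true, true, true, false, true, true, true, false, true, false, true, true, false, true, false, true, true, true, false, true, false],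
  [true, false, true, true, false, true, true, false, true, true, true, true, false, true, false, true, false, true, true, true, true, false, true, true, true, true],
  [true, false, true, true, true, false, true, true, true, true, false, true, false, true, false, true, false, true, true, true, true, false, true, true, true, true],
  [true, false, true, true, true, false, true, true, true, true, false, true, true, false, true, true, true, false, true, true, true, false, true, true, true, true],
  [false, true, true, true, false, true, false, true, false, true, true, true, false, true, false, true, false, true, true, false, true, false, true, true, true, true],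
  [false, true, true, false, true, true, true, true, false, true, false, true, false, true, true, true, false, true, false, true, true, true, false, true, true, true],
  [false, true, false, true, true, true, false, true, true, true, false, true, false, true, true, false, true, true, true, false, true, true, false, true, true, true],
  [true, false, true, true, true, true, false, true, true, true, false, true, false, true, true, false, true, true, false, true, false, true, false, true, true, true],
  [true, true, false, true, false, true, true, true, false, true, true, false, true, true, false, true, true, true, true, false, true, true, true, false, true, true],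
  [true, true, true, false, true, true, true, false, true, false, true, true, true, false, true, false, true, true, true, false, true, true, true, false, true, true],
  [false, true, false, true, true, false, true, false, true, false, true, false, true, true, false, true, false, true, true, true, false, true, true, false, true, true],
  [true, true, false, true, true, false, true, true, true, false, true, false, true, true, true, false, true, false, true, true, false, true, true, false, true, true],
  [false, true, true, false, true, true, false, true, false, true, true, false, true, true, true, false, true, true, false, true, true, false, true, false, true, true],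
  [false, true, true, true, false, true, false, true, true, true, false, true, true, true, true, false, true, true, false, true, true, true, false, true, false, true],
  [true, false, true, true, false, true, true, true, true, false, true, true, false, true, false, true, false, true, true, true, false, true, false, true, false, true],
  [true, true, false, true, true, true, false, true, false, true, true, true, false, true, true, true, false, true, false, true, true, false, true, true, true, false],
  [false, true, true, true, false, true, false, true, true, false, true, true, false, true, false, true, false, true, true, false, true, false, true, true, true, false],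
  [true, true, false, true, true, true, false, true, false, true, true, false, true, true, true, true, false, true, true, false, true, true, false, true, true, false],
  [false, true, false, true, false, true, false, true, true, false, true, false, true, true, false, true, false, true, true, false, true, true, false, true, true, false],
  [true, true, false, true, false, true, true, true, true, false, true, true, false, true, true, false, true, false, true, true, false, true, true, false, true, false],
  [false, true, false, true, true, true, false, true, true, false, true, true, false, true, true, false, true, false, true, false, true, true, false, true, true, true, true],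
  [false, true, false, true, false, true, false, true, false, true, true, false, true, true, true, true, false, true, true, false, true, true, true, false, true, true, true],
  [false, true, true, true, false, true, false, true, true, true, false, true, true, true, false, true, false, true, true, true, false, true, true, false, true, true, true],
  [false, true, true, true, true, false, true, false, true, true, true, false, true, true, false, true, true, false, true, true, true, false, true, false, true, true, true],
  [true, true, false, true, false, true, true, false, true, false, true, false, true, true, true, false, true, true, true, false, true, true, true, true, false, true, true],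
  [true, true, true, false, true, false, true, true, false, true, false, true, false, true, false, true, true, false, true, true, true, false, true, true, false, true, true],
  [true, false, true, true, false, true, false, true, true, true, false, true, true, false, true, false, true, false, true, false, true, false, true, true, false, true, true],
  [true, false, true, true, false, true, false, true, false, true, true, true, false, true, false, true, true, false, true, true, false, true, true, true, true, false, true],
  [false, true, true, false, true, false, true, false, true, false, true, true, true, true, false, true, true, true, false, true, true, false, true, true, true, false, true],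
  [true, true, false, true, false, true, true, false, true, false, true, true, false, true, true, false, true, true, true, false, true, false, true, true, true, false, true],
  [false, true, true, false, true, false, true, true, false, true, true, true, false, true, true, true, false, true, true, true, false, true, false, true, true, false, true],
  [false, true, false, true, true, true, false, true, true, false, true, false, true, false, true, true, false, true, false, true, true, false, true, false, true, false, true],
  [true, true, false, true, true, false, true, false, true, false, true, true, true, true, false, true, true, false, true, false, true, false, true, true, true, true, false],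
  [false, true, true, false, true, true, false, true, true, false, true, true, false, true, true, true, false, true, true, true, false, true, false, true, true, true, false],
  [true, true, false, true, true, true, false, true, true, true, false, true, false, true, true, true, false, true, true, true, false, true, false, true, true, true, false],
  [true, true, true, false, true, true, true, false, true, true, false, true, true, false, true, true, false, true, true, false, true, true, true, false, true, true, false],
  [true, false, true, false, true, true, true, false, true, false, true, true, true, true, false, true, true, false, true, true, false, true, true, false, true, true, true, true],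
  [false, true, false, true, false, true, false, true, true, true, true, false, true, false, true, true, true, false, true, true, true, false, true, false, true, true, true, true],
  [true, false, true, true, false, true, true, false, true, true, false, true, false, true, false, true, true, false, true, false, true, true, false, true, true, true, false, true],
  [false, true, false, true, true, true, false, true, false, true, true, false, true, true, true, false, true, false, true, true, false, true, false, true, true, true, true, false],
  [true, true, false, true, true, true, false, true, false, true, false, true, true, true, true, false, true, true, true, false, true, true, true, true, false, true, true, false],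
  [false, true, false, true, false, true, true, false, true, true, true, false, true, true, true, false, true, false, true, true, false, true, false, true, false, true, true, true, true],
  [true, true, true, true, false, true, false, true, false, true, true, true, false, true, false, true, true, false, true, false, true, false, true, true, true, true, false, true, true],
  [true, true, true, true, false, true, true, false, true, false, true, false, true, true, true, false, true, true, true, true, false, true, false, true, false, true, false, true, true],
  [true, true, false, true, true, true, false, true, true, false, true, true, false, true, true, false, true, true, false, true, true, true, false, true, true, false, true, false, true],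
  [true, false, true, true, false, true, true, false, true, true, false, true, false, true, false, true, true, true, true, false, true, false, true, true, false, true, false, true, false],
  [true, true, true, false, true, true, true, false, true, true, true, false, true, true, true, false, true, false, true, true, true, false, true, false, true, true, false, true, true, true],
  [false, true, true, true, true, false, true, true, false, true, true, true, false, true, false, true, true, true, false, true, true, true, false, true, false, true, true, false, true, true]]

lemma PwL_length : PwL.length = 125 := by decide +kernel

def Pw (i : Fin 125) : List Bool := PwL.getD i.val []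

/-- the word of the central element. -/
def wz : List Bool := [false, true, false, true, false, true, true, true, false, true, false, true, false, true, true, false]

/-- the word of an element of order 8. -/
def wc : List Bool := [true, false, true, false, true, true, true, false, true, true, true, true]

/-- the `k`-fold repetition of a word. -/
def rep : ℕ → List Bool → List Bool
  | 0, _ => []
  | k + 1, w => w ++ rep k w

lemma evw_rep {m : ℕ} (σ : Bool → Equiv.Perm (Fin m)) (k : ℕ) (w : List Bool) :
    evw σ (rep k w) = evw σ w ^ k := by
  induction k with
  | zero => rfl
  | succ k ih =>
    show evw σ (w ++ rep k w) = _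
    rw [evw_append, ih, pow_succ']

/-- the base of the group. -/
def bs : List (Fin 126) := [0, 1, 6]

set_option maxRecDepth 100000 in
lemma Pw_fix : ∀ i : Fin 125, evf tfN (Pw i) 0 = 0 := by decide +kernel

set_option maxRecDepth 100000 in
lemma Pw_pow : ∀ i : Fin 125, ∀ p ∈ bs, evf tfN (rep 5 (Pw i)) p = p := by decide +kernel

set_option maxRecDepth 100000 in
lemma Pw_nodup : (PwL.map (fun w => evf tfN w 1)).Nodup := by decide +kernel

set_option maxRecDepth 100000 in
lemma wz_facts : evf tfN wz 0 = 0 ∧ (∀ p ∈ bs, evf tfN (rep 5 wz) p = p) ∧ evf tfN wz 1 ≠ 1 := by
  decide +kernel

set_option maxRecDepth 100000 in
lemma wz_comm : ∀ i : Fin 125, ∀ p ∈ bs, evf tfN (wz ++ Pw i) p = evf tfN (Pw i ++ wz) p := by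
  decide +kernel

set_option maxRecDepth 100000 in
lemma Pw_noncomm : evf tfN (Pw 1 ++ Pw 4) 1 ≠ evf tfN (Pw 4 ++ Pw 1) 1 := by decide +kernel

lemma wc_fix : evf tfN wc 0 = 0 := by decide +kernel

set_option maxRecDepth 100000 in
lemma wc_irred : ∀ (i : Fin 125) (k : Fin 5), k ≠ 0 → ∀ m : Fin 5,
    (∀ p ∈ bs, evf tfN (wc ++ Pw i) p = evf tfN (rep k.val (Pw i) ++ rep m.val wz ++ wc) p) →
    ∃ m' : Fin 5, ∀ p ∈ bs, evf tfN (Pw i) p = evf tfN (rep m'.val wz) p := by decide +kernel

end Cfsg.Agent.Helper15.PSU35
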