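import Mathlib
import Cfsg.Agent.Lib.Helper15.PSU35d

set_option autoImplicit false

/-!
# The minimal index of a proper subgroup of `PSU₃(5)`: proper subgroups of the permutation group
of degree 126 have index at least 50 (helper15)
-/

namespace Cfsg.Agent.Helper15.PSU35

open Subgroup MulAction SylGen

section

variable (hcard : Nat.card RW = 126000)

include hcard in
/-- an element of the group fixing the three base points is trivial. -/
lemma fix_trivial (g : Equiv.Perm (Fin 126)) (hg : g ∈ RW) (g0 : g 0 = 0) (g1 : g 1 = 1)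
    (g6 : g 6 = 6) : g = 1 := by
  have h0 := chain_step tg tf tg_apply [] 0 cW0 cfix0 cnd0
  rw [clen0] at h0
  have h1 := chain_step tg tf tg_apply [0] 1 cW1 cfix1 cnd1
  rw [clen1] at h1
  have h2 := chain_step tg tf tg_apply [0, 1] 6 cW2 cfix2 cnd2
  rw [clen2] at h2
  rw [fixList_nil] at h0
  simp only [List.nil_append, List.cons_append] at h0 h1 h2
  have hc : Nat.card (Subgroup.closure ({tg true, tg false} : Set (Equiv.Perm (Fin 126)))) =
      126000 := hcard
  have h3 : Nat.card (fixList (Subgroup.closure ({tg true, tg false} :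
      Set (Equiv.Perm (Fin 126)))) [0, 1, 6]) ≤ 1 := by omega
  have hsub := Finite.card_le_one_iff_subsingleton.mp h3
  have hmem : g ∈ fixList (Subgroup.closure ({tg true, tg false} :
      Set (Equiv.Perm (Fin 126)))) [0, 1, 6] := by
    refine ⟨hg, ?_⟩
    intro b hb
    simp only [List.mem_cons, List.not_mem_nil, or_false] at hb
    rcases hb with rfl | rfl | rfl
    · exact g0
    · exact g1
    · exact g6
  have := @Subsingleton.elim _ hsub (⟨g, hmem⟩ : fixList _ [0, 1, 6]) ⟨1, Subgroup.one_mem _⟩
  exact congrArg Subtype.val this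

lemma evw_apply' (w : List Bool) (p : Fin 126) : evw tg w p = evf tfN w p := by
  rw [evw_apply tg tf tg_apply, tf_eq]

include hcard in
/-- equality of words on the base points is equality of permutations. -/
lemma evw_eq_of_bs (w1 w2 : List Bool) (h : ∀ p ∈ bs, evf tfN w1 p = evf tfN w2 p) :
    evw tg w1 = evw tg w2 := by
  have key : ∀ p ∈ bs, ((evw tg w2)⁻¹ * evw tg w1) p = p := by
    intro p hp
    rw [Equiv.Perm.mul_apply, Equiv.Perm.inv_eq_iff_eq, evw_apply', evw_apply', h p hp]
  have h1 : (evw tg w2)⁻¹ * evw tg w1 = 1 :=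
    fix_trivial hcard _ (Subgroup.mul_mem _ (Subgroup.inv_mem _ (evw_mem tg w2)) (evw_mem tg w1))
      (key 0 (by decide)) (key 1 (by decide)) (key 6 (by decide))
  rw [inv_mul_eq_one] at h1
  exact h1.symm

end

/-- the element of the group given by a word. -/
def elt (w : List Bool) : RW := ⟨evw tg w, evw_mem tg w⟩

lemma elt_smul (w : List Bool) (p : Fin 126) : elt w • p = evf tfN w p := evw_apply' w p

/-- the point stabiliser. -/
abbrev BW : Subgroup RW := stabilizer RW (0 : Fin 126)

/-- the element of the point stabiliser given by a word. -/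
def eltB (w : List Bool) (h : evf tfN w 0 = 0) : BW :=
  ⟨elt w, mem_stabilizer_iff.mpr ((elt_smul w 0).trans h)⟩

/-- the underlying permutation of an element of the point stabiliser. -/
def valB : BW →* Equiv.Perm (Fin 126) := (Subgroup.subtype RW).comp (Subgroup.subtype BW)

lemma valB_injective : Function.Injective valB := by
  intro a b h
  exact Subtype.ext (Subtype.ext h)

lemma valB_eltB (w : List Bool) (h : evf tfN w 0 = 0) : valB (eltB w h) = evw tg w := rfl

lemma orbit_zero : orbit RW (0 : Fin 126) = Set.univ := by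
  ext i
  simp only [Set.mem_univ, iff_true]
  obtain ⟨w, -, hw⟩ := trans0 i
  refine ⟨elt w, ?_⟩
  show elt w • (0 : Fin 126) = i
  rw [elt_smul, ← tf_eq, hw]

section

variable (hcard : Nat.card RW = 126000)

include hcard in
lemma card_BW : Nat.card BW = 1000 := by
  have h1 := Subgroup.index_mul_card BW
  rw [index_stabilizer, orbit_zero, Set.ncard_univ, Nat.card_eq_fintype_card, Fintype.card_fin,
    hcard] at h1
  omega

lemma Pw_eq (i : Fin 125) : Pw i = PwL[i.val]'(by rw [PwL_length]; exact i.2) := by
  unfold Pw
  rw [List.getD_eq_getElem]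

include hcard in
/-- the data of the point stabiliser. -/
noncomputable def bData : BData BW where
  pl i := eltB (Pw i) (Pw_fix i)
  z0 := eltB wz wz_facts.1
  c0 := eltB wc wc_fix
  hinj := by
    intro i j h
    have h1 := congrArg valB h
    rw [valB_eltB, valB_eltB] at h1
    have h2 : evf tfN (Pw i) 1 = evf tfN (Pw j) 1 := by
      rw [← evw_apply', ← evw_apply', h1]
    rw [Pw_eq, Pw_eq] at h2
    have hn := Pw_nodup
    have hi : i.val < (PwL.map (fun w => evf tfN w 1)).length := by
      rw [List.length_map, PwL_length]; exact i.2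
    have hj : j.val < (PwL.map (fun w => evf tfN w 1)).length := by
      rw [List.length_map, PwL_length]; exact j.2
    have h3 : (PwL.map (fun w => evf tfN w 1))[i.val] = (PwL.map (fun w => evf tfN w 1))[j.val] := by
      rw [List.getElem_map, List.getElem_map]; exact h2
    exact Fin.ext ((hn.getElem_inj_iff).mp h3)
  h5 := by
    intro i
    apply valB_injective
    rw [map_pow, valB_eltB, map_one, ← evw_rep]
    exact evw_eq_of_bs hcard (rep 5 (Pw i)) [] (fun p hp => Pw_pow i p hp)
  hz5 := by
    apply valB_injective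
    rw [map_pow, valB_eltB, map_one, ← evw_rep]
    exact evw_eq_of_bs hcard (rep 5 wz) [] (fun p hp => wz_facts.2.1 p hp)
  hz1 := by
    intro h
    have h1 := congrArg valB h
    rw [valB_eltB, map_one] at h1
    have h2 : evf tfN wz 1 = 1 := by
      rw [← evw_apply', h1]; rfl
    exact wz_facts.2.2 h2
  hzc := by
    intro i
    apply valB_injective
    rw [map_mul, map_mul, valB_eltB, valB_eltB, ← evw_append, ← evw_append]
    exact evw_eq_of_bs hcard _ _ (fun p hp => wz_comm i p hp)
  hna := by
    refine ⟨1, 4, ?_⟩
    intro h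
    have h1 := congrArg valB h
    rw [map_mul, map_mul, valB_eltB, valB_eltB, ← evw_append, ← evw_append] at h1
    apply Pw_noncomm
    rw [← evw_apply', ← evw_apply', h1]
  hc := by
    intro i k hk m h
    have h1 := congrArg valB h
    rw [map_mul, map_mul, map_mul, map_pow, map_pow, valB_eltB, valB_eltB, valB_eltB,
      ← evw_rep, ← evw_rep, ← evw_append, ← evw_append, ← evw_append] at h1
    obtain ⟨m', hm'⟩ := wc_irred i k hk m (fun p _ => by
      rw [← evw_apply', ← evw_apply', h1])
    refine ⟨m', ?_⟩
    apply valB_injective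
    rw [map_pow, valB_eltB, valB_eltB, ← evw_rep]
    exact evw_eq_of_bs hcard _ _ hm'

include hcard in
/-- proper subgroups have index at least 50. -/
theorem index_ge [IsSimpleGroup RW] (H : Subgroup RW) (hH : H ≠ ⊤) : 50 ≤ H.index := by
  by_contra hlt
  rw [not_le] at hlt
  have hmul := Subgroup.index_mul_card H
  rw [hcard] at hmul
  have hbig : 126 * 20 < Nat.card H := by
    by_contra h
    rw [not_lt] at h
    have : H.index * Nat.card H ≤ 49 * (126 * 20) := Nat.mul_le_mul (by omega) h
    omega
  apply hH
  apply eq_top_of_card_gt 126 20 (0 : Fin 126) (elt wz) ?_ ?_ ?_ H hbig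
  · intro h
    have h1 : evw tg wz = 1 := congrArg Subtype.val h
    have h2 : evf tfN wz 1 = 1 := by
      rw [← evw_apply', h1]; rfl
    exact wz_facts.2.2 h2
  · intro K
    refine (Set.ncard_le_ncard (Set.subset_univ _)).trans ?_
    rw [Set.ncard_univ, Nat.card_eq_fintype_card, Fintype.card_fin]
  · intro U hU hc
    have h1 : Nat.card (U.subgroupOf BW) = Nat.card U :=
      Nat.card_congr (Subgroup.subgroupOfEquivOfLe hU).toEquiv
    have : Fact (Nat.Prime 5) := ⟨Nat.prime_five⟩
    have h2 := z0_mem_of_card_ge (card_BW hcard) (bData hcard) (U.subgroupOf BW)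
      (by rw [h1]; exact hc)
    exact h2

end

end Cfsg.Agent.Helper15.PSU35
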