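import Mathlib
import Cfsg.Agent.Lib.Helper15.PSU35e

set_option autoImplicit false

/-!
# The minimal index of a proper subgroup of `PSU₃(5)`: a subgroup of index 50 (helper15)

A subgroup with at least 2520 elements (stabiliser chain) preserving a family of seven sets of 36
points, which the whole group does not preserve.
Data produced by an external search; everything is re-checked by the kernel.
-/

namespace Cfsg.Agent.Helper15.PSU35

open Subgroup MulAction SylGen

/-- the words of the two generators of the subgroup. -/
def wa : List Bool := [false]

def wb : List Bool := [true, true, false, true, true, true, true, false, true]

def hg (b : Bool) : Equiv.Perm (Fin 126) := evw tg (if b then wa else wb)

def hf (b : Bool) (x : Fin 126) : Fin 126 := evf tfN (if b then wa else wb) x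

lemma hg_apply (b : Bool) (x : Fin 126) : hg b x = hf b x := evw_apply' _ _

/-- the subgroup, inside the symmetric group. -/
abbrev HW : Subgroup (Equiv.Perm (Fin 126)) :=
  Subgroup.closure ({hg true, hg false} : Set (Equiv.Perm (Fin 126)))

def dW0 : List (List Bool) := [[],
  [true, false, true, false, false, false, true, false, true],
  [false, false, true, false, false, false, true, false, false, false],
  [true, false, false, false],
  [false, true, false, false, true, false],
  [true, false, false, true, false, false, false, false, true, false],
  [true, false, false, true, false, false, true, false, true],
  [true, false, false, false, false, true, false, false, false, false, true],
  [true, false, false, true, false, false, true, false, true, false],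
  [false, false, false, true],
  [false, false, true, false, false, false, false, true, false],
  [false, true, false, false, true, false, true, false, false],
  [true, false, false, false, false, true, false, false],
  [false, false, false, true, false, false],
  [false, false, false, false, false, true, false, false, true, false, true, false],
  [false, false, true, false, false, false],
  [false, true, false, true, false],
  [false, true, false, false, true, false, false, false, false, true, false],
  [false, true, false, false, false, true, false, false],
  [true, false, false],
  [false, true, false, true, false, false, false],
  [false, false, false, true, false, false, true, false, true],
  [true],
  [false, false, false, false, true],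
  [false, false, false, false, true, false, false, false, false, true],
  [true, false, true, false, false, false],
  [false, true, false],
  [true, false, false, true, false, true, false],
  [false, true, false, false, true, false, false, false, false, false, true],
  [false, true, false, false, false],
  [false, false, false, false, true, false, true],
  [true, false, false, true, false, false, false],
  [true, false, false, false, true],
  [false, true, false, false],
  [false, false, false, true, false, false, false],
  [true, false, false, false, true, false, false],
  [false, false, true, false, false, false, false, true],
  [true, false, false, true, false, true, false, false],
  [false, false],
  [false, false, false, true, false, false, false, true, false, false],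
  [false, false, false, false, false, true, false, true, false],
  [true, false, false, true, false, false, false, false, false, true],
  [false, true, false, true],
  [false, false, false, false, false, true],
  [true, false, false, false, false, false],
  [false, true, false, false, false, false, false, true, false, true, false],
  [false, false, true, false, false, false, false, false, true],
  [true, false, false, false, true, false, true, false],
  [true, false, false, false, true, false, false, false],
  [false, false, false, true, false, true],
  [true, false, true, false, true, false],
  [true, false, true, false, true, false, false, false],
  [false, true, false, false, false, true, false, true],
  [false, true, false, false, true, false, true, false],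
  [false, true, false, true, false, false],
  [true, false, false, false, true, false, true],
  [true, false, false, false, false, true, false, true, false],
  [false, false, false, true, false],
  [true, false, false, true, false],
  [false, true, false, true, false, false, false, true, false, false],
  [false, true],
  [true, false, true, false, true, false, false],
  [false, false, false, false, true, false, false],
  [true, false, true, false, true, false, false, false, true, false, true],
  [false, true, false, false, false, false, false, true],
  [false, false, true, false, false, true, false, true, false],
  [false, true, false, false, false, false, false, true, false],
  [false, false, false, false],
  [false, true, false, false, true, false, false],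
  [false, false, false],
  [false],
  [false, false, false, true, false, true, false],
  [false, false, false, false, true, false, false, true, false, true, false],
  [false, false, false, true, false, false, false, false, true],
  [false, false, false, false, true, false, true, false],
  [true, false, true, false, false],
  [false, false, true, false, true],
  [true, false, false, false, false, true],
  [true, false, true],
  [false, true, false, false, false, false, true],
  [false, true, false, false, true, false, false, false],
  [false, false, true, false, true, false, false],
  [true, false, true, false, false, false, true, false, false],
  [false, false, false, false, false, true, false, false],
  [false, true, false, false, false, true, false, false, false, true, false, true],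
  [false, false, true, false, true, false],
  [false, true, false, false, true, false, false, false, true, false, false],
  [true, false, false, false, false, false, true],
  [false, true, false, false, false, false, true, false],
  [true, false, false, false, false, false, true, false, true, false],
  [false, false, true, false, false, true, false, true, false, false],
  [false, true, false, true, false, false, false, false, false, true],
  [true, false, false, false, true, false, false, false, true, false, true],
  [true, false],
  [true, false, false, true],
  [false, false, true, false, false],
  [true, false, false, true, false, false],
  [false, false, true],
  [true, false, false, true, false, false, false, true, false, false],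
  [false, false, true, false, false, false, true, false, false],
  [true, false, false, true, false, false, false, false, true],
  [false, false, false, false, true, false, false, false],
  [true, false, false, true, false, true],
  [false, false, false, true, false, true, false, false, false],
  [false, true, false, false, false, true],
  [true, false, false, false, true, false, false, false, false, true],
  [false, false, true, false],
  [false, true, false, false, false, true, false, false, false],
  [false, true, false, false, true, false, true],
  [false, false, false, false, false],
  [false, false, false, false, true, false, false, false, true, false, false],
  [false, false, true, false, true, false, false, false],
  [false, false, false, false, true, false],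
  [false, true, false, true, false, false, false, true, false, true],
  [false, false, true, false, false, true, false, true],
  [true, false, true, false],
  [true, false, false, false, false, false, true, false],
  [true, false, true, false, false, false, false, false, true],
  [false, false, false, false, false, true, false, true],
  [false, false, false, true, false, false, false, true, false, true],
  [false, false, false, false, false, true, false],
  [false, false, true, false, false, false, true, false, true],
  [true, false, false, false, false, true, false],
  [false, false, false, true, false, false, true, false, true, false],
  [false, true, false, false, false, true, false, false, false, false, true],
  [true, false, false, true, false, false, false, true, false, false, false]]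

set_option maxRecDepth 100000 in
lemma dfix0 : ∀ w ∈ dW0, ∀ b ∈ ([] : List (Fin 126)), evf hf w b = b := by decide +kernel

set_option maxRecDepth 100000 in
lemma dnd0 : (dW0.map (fun w => evf hf w (0 : Fin 126))).Nodup := by decide +kernel

lemma dlen0 : dW0.length = 126 := by decide +kernel

def dW1 : List (List Bool) := [[],
  [true, false, false, true, false, false, false, false, true, false, true, false, false, false, false, false, true],
  [true, false, true, false, true, false, false, false, false, false, true, false, false, false, true, false],
  [false, false, false, true, false, false, false, true, false, false, false, false, false, true, false, true],
  [false, false, false, false, true, false, false, false, true, false, true, false, false, false, false, true, false],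
  [true, false, false, false, true, false, false, true, false, true, false, false, false, true, false, false],
  [false, false, false, true, false, false, true, false, true, false, false, false, true, false, true, false, false, false, true],
  [false, false, false, true, false, true, false, true],
  [true, false, false, false, false, false, true, false, false, true, false, true, false, false, false, true],
  [false, false, true, false, false, true, false, true, false, true],
  [false, true, false, false, false, false, true, false, false, false, false, true, false, false, false, true, false],
  [false, true, false, true, false, false, false, false, true, false, true, false, false, false, true],
  [false, true, false, false, true, false, false, false, true, false, false, false, false, true, false, true, false, false],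
  [true, false, false, false, false, false, true, false, false, false, true, false, true, false, false, false, false, true, false, true],
  [false, false, false, true, false, false, false, false, true, false, true, false, false, false, true],
  [true, false, false, false, false, false, true, false, true, false, false, false, false, false, true, false, true],
  [false, true, false, false, false, true, false, true, false, false, false, false, true, false, false, true, false, true, false, false],
  [false, true, false, false, false, false, false],
  [false, true, false, true, false, false, false, false, false, true, false, true, false, false, false, false, true, false, true],
  [false, true, false, true, false, false, false, true, false, false, false, false, false, true, false, true]]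

set_option maxRecDepth 100000 in
lemma dfix1 : ∀ w ∈ dW1, ∀ b ∈ ([0] : List (Fin 126)), evf hf w b = b := by decide +kernel

set_option maxRecDepth 100000 in
lemma dnd1 : (dW1.map (fun w => evf hf w (1 : Fin 126))).Nodup := by decide +kernel

lemma dlen1 : dW1.length = 20 := by decide +kernel

theorem card_HW_ge : 2520 ≤ Nat.card HW := by
  have h0 := chain_step hg hf hg_apply [] 0 dW0 dfix0 dnd0
  rw [dlen0] at h0
  have h1 := chain_step hg hf hg_apply [0] 1 dW1 dfix1 dnd1
  rw [dlen1] at h1
  have hlast := one_le_card_fixList (Subgroup.closure ({hg true, hg false} : Set (Equiv.Perm (Fin 126)))) [0, 1]
  change 2520 ≤ Nat.card (Subgroup.closure ({hg true, hg false} : Set (Equiv.Perm (Fin 126))))
  rw [fixList_nil] at h0
  simp only [List.nil_append, List.cons_append] at h0 h1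
  omega

/-- the family of seven sets of 36 points. -/
def FamL : List (List (Fin 126)) := [[0, 2, 10, 11, 18, 24, 25, 27, 30, 34, 35, 42, 44, 48, 50, 52, 53, 58, 61, 62, 63, 64, 66, 71, 74, 77, 80, 83, 84, 96, 97, 100, 102, 112, 122, 124],
  [0, 4, 8, 9, 18, 20, 22, 32, 40, 41, 46, 51, 53, 56, 65, 68, 70, 74, 76, 79, 82, 83, 88, 89, 90, 93, 98, 99, 101, 102, 107, 108, 116, 118, 120, 121],
  [1, 3, 7, 9, 14, 15, 16, 17, 21, 24, 26, 31, 32, 33, 37, 41, 42, 45, 46, 50, 52, 57, 67, 69, 72, 75, 79, 81, 84, 86, 95, 96, 110, 111, 115, 118],
  [1, 5, 7, 11, 12, 13, 14, 16, 22, 23, 28, 29, 34, 36, 47, 48, 54, 56, 67, 68, 76, 80, 82, 85, 94, 95, 103, 104, 106, 109, 112, 113, 117, 121, 122, 125],
  [2, 3, 6, 10, 19, 23, 25, 26, 28, 36, 38, 39, 40, 45, 49, 51, 58, 59, 60, 61, 65, 66, 70, 75, 86, 87, 94, 99, 104, 105, 108, 111, 114, 117, 119, 123],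
  [4, 5, 6, 8, 19, 20, 21, 29, 30, 33, 38, 39, 43, 54, 55, 64, 69, 72, 73, 77, 78, 89, 91, 92, 93, 97, 98, 100, 103, 106, 110, 114, 115, 123, 124, 125],
  [12, 13, 15, 17, 27, 31, 35, 37, 43, 44, 47, 49, 55, 57, 59, 60, 62, 63, 71, 73, 78, 81, 85, 87, 88, 90, 91, 92, 101, 105, 107, 109, 113, 116, 119, 120]]

/-- a map sends every set of the family into a set of the family. -/
def QF (f : Fin 126 → Fin 126) : Prop := ∀ S ∈ FamL, ∃ T ∈ FamL, ∀ x ∈ S, f x ∈ T

instance (f : Fin 126 → Fin 126) : Decidable (QF f) := by unfold QF; infer_instance

set_option maxRecDepth 100000 in
lemma QF_hf : ∀ b : Bool, QF (hf b) := by decide +kernel

set_option maxRecDepth 100000 in
lemma not_QF_tf : ¬ QF (tfN true) := by decide +kernel

end Cfsg.Agent.Helper15.PSU35
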