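import Mathlib
import Cfsg.Agent.Lib.Helper15.PSU35f

set_option autoImplicit false

/-!
# The minimal index of a proper subgroup of `PSU₃(5)`: the subgroup of index 50 is proper
(helper15)
-/

namespace Cfsg.Agent.Helper15.PSU35

open Subgroup MulAction SylGen

lemma QF_id : QF (fun x => x) := fun S hS => ⟨S, hS, fun _ hx => hx⟩

lemma QF_comp {f g : Fin 126 → Fin 126} (hf' : QF f) (hg' : QF g) : QF (fun x => f (g x)) := by
  intro S hS
  obtain ⟨T, hT, h1⟩ := hg' S hS
  obtain ⟨T', hT', h2⟩ := hf' T hT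
  exact ⟨T', hT', fun x hx => h2 _ (h1 x hx)⟩

/-- the property for permutations. -/
def QP (g : Equiv.Perm (Fin 126)) : Prop := QF (fun x => g x)

lemma QP_one : QP 1 := QF_id

lemma QP_mul {g h : Equiv.Perm (Fin 126)} (hg' : QP g) (hh : QP h) : QP (g * h) := by
  change QF (fun x => g (h x))
  exact QF_comp (f := fun x => g x) (g := fun x => h x) hg' hh

lemma QP_pow {g : Equiv.Perm (Fin 126)} (hg' : QP g) (n : ℕ) : QP (g ^ n) := by
  induction n with
  | zero => rw [pow_zero]; exact QP_one
  | succ n ih => rw [pow_succ]; exact QP_mul ih hg'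

lemma QP_inv {g : Equiv.Perm (Fin 126)} (hg' : QP g) : QP g⁻¹ := by
  have h : g⁻¹ = g ^ (orderOf g - 1) := by
    have hpos := orderOf_pos g
    rw [eq_comm, ← mul_eq_one_iff_eq_inv, ← pow_succ, Nat.sub_add_cancel hpos,
      pow_orderOf_eq_one]
  rw [h]
  exact QP_pow hg' _

lemma QP_hg (b : Bool) : QP (hg b) := by
  have h : (fun x => hg b x) = hf b := funext (hg_apply b)
  unfold QP
  rw [h]
  exact QF_hf b

lemma QP_of_mem_HW (g : Equiv.Perm (Fin 126)) (hg' : g ∈ HW) : QP g := by
  induction hg' using Subgroup.closure_induction with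
  | mem x hx =>
    rcases hx with rfl | rfl
    · exact QP_hg true
    · exact QP_hg false
  | one => exact QP_one
  | mul x y _ _ hx hy => exact QP_mul hx hy
  | inv x _ hx => exact QP_inv hx

lemma not_QP_tg : ¬ QP (tg true) := by
  intro h
  have h1 : (fun x => tg true x) = tfN true := by
    funext x
    rw [tg_apply, tf_eq]
  unfold QP at h
  rw [h1] at h
  exact not_QF_tf h

lemma HW_le_RW : HW ≤ RW := by
  rw [Subgroup.closure_le]
  intro x hx
  rcases hx with rfl | rfl
  · exact evw_mem tg _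
  · exact evw_mem tg _

lemma card_HWs : Nat.card (HW.subgroupOf RW) = Nat.card HW :=
  Nat.card_congr (Subgroup.subgroupOfEquivOfLe HW_le_RW).toEquiv

lemma HWs_ne_top : HW.subgroupOf RW ≠ ⊤ := by
  intro h
  rw [Subgroup.subgroupOf_eq_top] at h
  have h1 : tg true ∈ RW := Subgroup.subset_closure (by simp)
  exact not_QP_tg (QP_of_mem_HW _ (h h1))

/-- a subgroup of index 50. -/
theorem exists_index_50 (hcard : Nat.card RW = 126000) [IsSimpleGroup RW] :
    ∃ H : Subgroup RW, H.index = 50 := by
  refine ⟨HW.subgroupOf RW, ?_⟩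
  have h1 := index_ge hcard (HW.subgroupOf RW) HWs_ne_top
  have h2 := Subgroup.index_mul_card (HW.subgroupOf RW)
  rw [hcard, card_HWs] at h2
  have h3 := card_HW_ge
  by_contra hne
  have h4 : 51 ≤ (HW.subgroupOf RW).index := by omega
  have h5 : 51 * 2520 ≤ (HW.subgroupOf RW).index * Nat.card HW := Nat.mul_le_mul h4 h3
  omega

end Cfsg.Agent.Helper15.PSU35
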