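import Mathlib
import Cfsg.Prelude.Def_SolvableStructure
import Cfsg.Agent.Lib.Helper3.Supersolvable6
import Cfsg.Agent.Lib.Helper3.Hall
import Cfsg.Agent.Lib.Helper10.Frobenius4

set_option autoImplicit false

/-! Supersolvability from the pair-order condition, part 1: generalities. -/

namespace Cfsg.Agent.Helper15.PairSS

open Cfsg

universe u

/-- A power of `g` that is a `p`-element and is congruent to `g` modulo anything on which `g`
acts with order dividing `p ^ e`. -/
theorem exists_pow_prime_order {G : Type*} [Group G] [Finite G] {p : ℕ} [hp : Fact p.Prime]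
    (g : G) (e : ℕ) : ∃ n : ℕ, n ≡ 1 [MOD p ^ e] ∧ ∃ b : ℕ, orderOf (g ^ n) = p ^ b := by
  have hpos : orderOf g ≠ 0 := (orderOf_pos g).ne'
  obtain ⟨a, m, hm, hgm⟩ := Nat.exists_eq_pow_mul_and_not_dvd hpos p hp.out.ne_one
  have hcop : Nat.Coprime m (p ^ e) :=
    Nat.Coprime.pow_right e ((Nat.Prime.coprime_iff_not_dvd hp.out).mpr hm).symm
  obtain ⟨m', -, hm'⟩ := Nat.exists_mul_mod_eq_of_coprime 1 hcop (pow_ne_zero e hp.out.ne_zero)
  refine ⟨m * m', hm', ?_⟩
  have h1 : (g ^ (m * m')) ^ (p ^ a) = 1 := by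
    rw [← pow_mul, show m * m' * p ^ a = (p ^ a * m) * m' by ring, pow_mul, ← hgm,
      pow_orderOf_eq_one, one_pow]
  obtain ⟨b, -, hb⟩ := (Nat.dvd_prime_pow hp.out).mp (orderOf_dvd_of_pow_eq_one h1)
  exact ⟨b, hb⟩

theorem pow_eq_self_of_modEq {M : Type*} [Monoid M] {T : M} {k n : ℕ} (hT : T ^ k = 1)
    (hn : n ≡ 1 [MOD k]) : T ^ n = T := by
  have h1 : ∀ j : ℕ, T ^ j = T ^ (j % k) := by
    intro j
    conv_lhs => rw [← Nat.div_add_mod j k, pow_add, pow_mul, hT, one_pow, one_mul]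
  have h2 : n % k = 1 % k := hn
  rw [h1 n, h2, ← h1 1, pow_one]

/-- A supersolvable group is solvable. -/
theorem isSolvable_of_isSupersolvable {G : Type u} [Group G] (hG : Cfsg.IsSupersolvable G) :
    Group.IsSolvable G := by
  have h1 : Group.IsNilpotent (commutator G) :=
    Cfsg.Agent.Helper3.isNilpotent_commutator_of_isSupersolvable hG
  have h2 : Group.IsSolvable (commutator G) := inferInstance
  apply Group.isSolvable_of_ker_le_range (commutator G).subtype (Abelianization.of (G := G))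
  intro x hx
  rw [MonoidHom.mem_ker] at hx
  rw [Subgroup.range_subtype]
  have := QuotientGroup.eq_one_iff (N := commutator G) x
  exact this.mp hx

/-- The pair-order hypothesis. -/
def Hyp (G : Type*) [Group G] : Prop :=
  ∀ (p q : ℕ), p.Prime → q.Prime → p ≠ q → ∀ (x g : G), (∃ a : ℕ, orderOf x = p ^ a) →
    (∃ b : ℕ, orderOf g = q ^ b) →
      ¬ q ^ 2 ∣ Nat.card ↥(Subgroup.zpowers x ⊔ Subgroup.zpowers (g * x * g⁻¹))

theorem Hyp.subgroup {G : Type*} [Group G] (h : Hyp G) (H : Subgroup G) : Hyp H := by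
  intro p q hp hq hpq x g hx hg hdvd
  apply h p q hp hq hpq (x : G) (g : G) (by rwa [Subgroup.orderOf_coe]) (by rwa [Subgroup.orderOf_coe])
  have e : (Subgroup.zpowers x ⊔ Subgroup.zpowers (g * x * g⁻¹)).map H.subtype
      = Subgroup.zpowers (x : G) ⊔ Subgroup.zpowers ((g : G) * x * (g : G)⁻¹) := by
    rw [Subgroup.map_sup, MonoidHom.map_zpowers, MonoidHom.map_zpowers]
    rfl
  rw [← e, Subgroup.card_map_of_injective H.subtype_injective]
  exact hdvd

theorem Hyp.of_surjective {G H : Type*} [Group G] [Finite G] [Group H] (h : Hyp G) (f : G →* H)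
    (hf : Function.Surjective f) : Hyp H := by
  intro p q hp hq hpq x g hx hg hdvd
  have : Fact p.Prime := ⟨hp⟩
  have : Fact q.Prime := ⟨hq⟩
  obtain ⟨a, ha⟩ := hx
  obtain ⟨b, hb⟩ := hg
  obtain ⟨x₀, rfl⟩ := hf x
  obtain ⟨g₀, rfl⟩ := hf g
  obtain ⟨n, hn, hxn⟩ := exists_pow_prime_order (p := p) x₀ a
  obtain ⟨m, hm, hgm⟩ := exists_pow_prime_order (p := q) g₀ b
  have hfx : f (x₀ ^ n) = f x₀ := by
    rw [map_pow]
    exact pow_eq_self_of_modEq (by rw [← ha]; exact pow_orderOf_eq_one _) hn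
  have hfg : f (g₀ ^ m) = f g₀ := by
    rw [map_pow]
    exact pow_eq_self_of_modEq (by rw [← hb]; exact pow_orderOf_eq_one _) hm
  apply h p q hp hq hpq (x₀ ^ n) (g₀ ^ m) hxn hgm
  have e : (Subgroup.zpowers (x₀ ^ n) ⊔ Subgroup.zpowers (g₀ ^ m * x₀ ^ n * (g₀ ^ m)⁻¹)).map f
      = Subgroup.zpowers (f x₀) ⊔ Subgroup.zpowers (f g₀ * f x₀ * (f g₀)⁻¹) := by
    rw [Subgroup.map_sup, MonoidHom.map_zpowers, MonoidHom.map_zpowers, map_mul, map_mul, map_inv,
      hfx, hfg]
  rw [← e] at hdvd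
  exact hdvd.trans (Subgroup.card_map_dvd _ f)

/-- A supersolvable group has a normal `p`-complement for every prime `p` below all its prime
divisors. -/
theorem npc_of_isSupersolvable_aux (p : ℕ) [hp : Fact p.Prime] (n : ℕ) :
    ∀ (G : Type u) [Group G] [Finite G], Nat.card G = n → Cfsg.IsSupersolvable G →
      (∀ q : ℕ, q.Prime → q ∣ Nat.card G → p ≤ q) → Cfsg.Agent.Helper10.NPC p G := by
  induction n using Nat.strong_induction_on with
  | _ n ih =>
  intro G _ _ hcard hG hmin
  have hpos : Nat.card G ≠ 0 := Nat.card_pos.ne'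
  by_cases hall : ∀ q : ℕ, q.Prime → q ∣ Nat.card G → q = p
  · refine ⟨⊥, inferInstance, by simp, (Nat.card G).primeFactorsList.length, ?_⟩
    rw [Subgroup.index_bot]
    exact Nat.eq_prime_pow_of_unique_prime_dvd hpos (fun {d} hd hdvd => hall d hd hdvd)
  · push Not at hall
    obtain ⟨q, hq, hqd, hqp⟩ := hall
    have hne : (Nat.card G).primeFactors.Nonempty :=
      ⟨q, Nat.mem_primeFactors.mpr ⟨hq, hqd, hpos⟩⟩
    set q₀ := (Nat.card G).primeFactors.max' hne with hq₀
    have hq₀mem : q₀ ∈ (Nat.card G).primeFactors := Finset.max'_mem _ hne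
    obtain ⟨hq₀p, hq₀d, -⟩ := Nat.mem_primeFactors.mp hq₀mem
    have hmax : ∀ q' : ℕ, q'.Prime → q' ∣ Nat.card G → q' ≤ q₀ := by
      intro q' hq' hq'd
      exact Finset.le_max' _ _ (Nat.mem_primeFactors.mpr ⟨hq', hq'd, hpos⟩)
    have hq₀ne : q₀ ≠ p := by
      intro h
      have h1 : q ≤ p := h ▸ hmax q hq hqd
      have h2 : p ≤ q := hmin q hq hqd
      exact hqp (le_antisymm h1 h2)
    have : Fact q₀.Prime := ⟨hq₀p⟩
    let R : Sylow q₀ G := default
    have hRn : (R : Subgroup G).Normal :=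
      Cfsg.Agent.Helper3.sylow_normal_of_max_prime hG q₀ hmax R
    have hRcard : Nat.card (R : Subgroup G) = q₀ ^ (Nat.card G).factorization q₀ :=
      R.card_eq_multiplicity
    have hfac : 0 < (Nat.card G).factorization q₀ :=
      hq₀p.factorization_pos_of_dvd hpos hq₀d
    have hR1 : 1 < Nat.card (R : Subgroup G) := by
      rw [hRcard]; exact Nat.one_lt_pow hfac.ne' hq₀p.one_lt
    have hlt : Nat.card (G ⧸ (R : Subgroup G)) < n := by
      rw [← hcard]; exact Cfsg.Agent.Helper3.card_quotient_lt _ hR1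
    have hdq : Nat.card (G ⧸ (R : Subgroup G)) ∣ Nat.card G :=
      ⟨_, Subgroup.card_eq_card_quotient_mul_card_subgroup (R : Subgroup G)⟩
    obtain ⟨K, hKn, hKc, k, hk⟩ := ih _ hlt (G ⧸ (R : Subgroup G)) rfl
      (Cfsg.Agent.Helper3.isSupersolvable_quotient hG _)
      (fun q' hq' hq'd => hmin q' hq' (hq'd.trans hdq))
    refine ⟨K.comap (QuotientGroup.mk' (R : Subgroup G)), inferInstance, ?_, k, ?_⟩
    · rw [Cfsg.Agent.Helper3.card_comap_mk', hRcard]
      apply Nat.Coprime.mul_left hKc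
      apply Nat.Coprime.pow_left
      exact (Nat.coprime_primes hq₀p hp.out).mpr hq₀ne
    · rw [Subgroup.index_comap_of_surjective K (QuotientGroup.mk'_surjective _), hk]

theorem npc_of_isSupersolvable {G : Type u} [Group G] [Finite G] (p : ℕ) [hp : Fact p.Prime]
    (hG : Cfsg.IsSupersolvable G) (hmin : ∀ q : ℕ, q.Prime → q ∣ Nat.card G → p ≤ q) :
    Cfsg.Agent.Helper10.NPC p G :=
  npc_of_isSupersolvable_aux p _ G rfl hG hmin


/-- A finite group all of whose proper subgroups and proper quotients are supersolvable is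
solvable. -/
theorem isSolvable_of_proper {G : Type u} [Group G] [Finite G]
    (hsub : ∀ H : Subgroup G, H ≠ ⊤ → Cfsg.IsSupersolvable H)
    (hquot : ∀ N : Subgroup G, ∀ _ : N.Normal, N ≠ ⊥ → Cfsg.IsSupersolvable (G ⧸ N)) :
    Group.IsSolvable G := by
  by_contra hns
  have hsimple : ∀ N : Subgroup G, N.Normal → N = ⊥ ∨ N = ⊤ := by
    intro N hN
    by_contra h
    push Not at h
    have h1 : Group.IsSolvable N := isSolvable_of_isSupersolvable (hsub N h.2)
    have h2 : Group.IsSolvable (G ⧸ N) := isSolvable_of_isSupersolvable (hquot N hN h.1)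
    exact hns (Group.isSolvable_of_ker_le_range N.subtype (QuotientGroup.mk' N) (by simp))
  have hcard : Nat.card G ≠ 1 := by
    intro h
    have : Subsingleton G := (Nat.card_eq_one_iff_unique.mp h).1
    exact hns inferInstance
  set p := (Nat.card G).minFac with hpdef
  have hp : p.Prime := Nat.minFac_prime hcard
  have hpd : p ∣ Nat.card G := Nat.minFac_dvd _
  have : Fact p.Prime := ⟨hp⟩
  have hpG : ¬ IsPGroup p G := by
    intro h
    have : Group.IsNilpotent G := h.isNilpotent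
    exact hns inferInstance
  have hnpc : Cfsg.Agent.Helper10.NPC p G := by
    apply Cfsg.Agent.Helper10.npc_of_frobCond _ G rfl
    apply Cfsg.Agent.Helper10.frobCond_of_local
    intro Q hQ hQb
    have hne : Subgroup.normalizer (Q : Set G) ≠ ⊤ := by
      intro htop
      have hQn : Q.Normal := Subgroup.normalizer_eq_top_iff.mp htop
      rcases hsimple Q hQn with h | h
      · exact hQb h
      · apply hpG
        intro g
        obtain ⟨k, hk⟩ := hQ ⟨g, by rw [h]; trivial⟩
        exact ⟨k, by simpa using congrArg Subtype.val hk⟩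
    apply npc_of_isSupersolvable p (hsub _ hne)
    intro q hq hqd
    exact Nat.minFac_le_of_dvd hq.two_le (hqd.trans (Subgroup.card_subgroup_dvd_card _))
  obtain ⟨K, hKn, hKc, k, hk⟩ := hnpc
  rcases hsimple K hKn with h | h
  · apply hpG
    rw [h, Subgroup.index_bot] at hk
    exact IsPGroup.of_card hk
  · rw [h, Subgroup.card_top] at hKc
    exact hp.one_lt.ne' (Nat.Coprime.eq_one_of_dvd hKc.symm hpd)

end Cfsg.Agent.Helper15.PairSS
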