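import Mathlib
import Cfsg.Agent.Lib.Helper15.PairSS1

set_option autoImplicit false

/-! Supersolvability from the pair-order condition, part 2: linear algebra over `ZMod r`. -/

namespace Cfsg.Agent.Helper15.PairSS

variable {r : ℕ} [hr : Fact r.Prime] {V : Type*} [AddCommGroup V] [Module (ZMod r) V]

/-- An endomorphism preserving every line spanned by a vector of the form `T v - v`. -/
def LinePres (T : Module.End (ZMod r) V) : Prop :=
  ∀ v : V, ∃ c : ZMod r, T (T v - v) = c • (T v - v)

theorem pow_apply_of_eig (S : Module.End (ZMod r) V) (c : ZMod r) (v : V) (h : S v = c • v) (k : ℕ) :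
    (S ^ k) v = c ^ k • v := by
  induction k with
  | zero => simp
  | succ k ih =>
    rw [pow_succ, Module.End.mul_apply, h, map_smul, ih, smul_smul, pow_succ, mul_comm]

theorem pow_apply_of_fix (S : Module.End (ZMod r) V) (v : V) (h : S v = v) (k : ℕ) :
    (S ^ k) v = v := by
  have := pow_apply_of_eig S 1 v (by rw [h, one_smul]) k
  rwa [one_pow, one_smul] at this

/-- Uniformity of the eigenvalue on the range of `T - 1`. -/
theorem LinePres.exists_eig {T : Module.End (ZMod r) V} (hT : LinePres T) :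
    ∃ l : ZMod r, ∀ v : V, T (T v - v) = l • (T v - v) := by
  by_cases h0 : ∀ v : V, T v - v = 0
  · exact ⟨0, fun v => by rw [h0 v]; simp⟩
  push Not at h0
  obtain ⟨v₀, hv₀⟩ := h0
  obtain ⟨l, hl⟩ := hT v₀
  refine ⟨l, fun v => ?_⟩
  obtain ⟨c, hc⟩ := hT v
  obtain ⟨d, hd⟩ := hT (v₀ + v)
  set u₀ := T v₀ - v₀ with hu₀
  set u := T v - v with hu
  have hsum : T (v₀ + v) - (v₀ + v) = u₀ + u := by rw [map_add, hu₀, hu]; abel
  rw [hsum, map_add, hl, hc, smul_add] at hd
  have key : (l - d) • u₀ = (d - c) • u := by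
    rw [sub_smul, sub_smul]
    have : l • u₀ + c • u = d • u₀ + d • u := hd
    rw [sub_eq_sub_iff_add_eq_add, this]; abel
  rw [hc]
  by_cases hdc : d = c
  · rw [hdc, sub_self, zero_smul] at key
    rcases smul_eq_zero.mp key with h | h
    · rw [sub_eq_zero] at h; rw [h]
    · exact absurd h hv₀
  · have hne : d - c ≠ 0 := sub_ne_zero.mpr hdc
    have hu' : u = ((d - c)⁻¹ * (l - d)) • u₀ := by
      rw [mul_smul, key, smul_smul, inv_mul_cancel₀ hne, one_smul]
    have h1 : T u = l • u := by
      rw [hu', map_smul, hl, smul_smul, smul_smul, mul_comm]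
    rw [← hc, h1]

/-- Fixed vectors in the range of `T - 1` vanish when `T` has order prime to `r`. -/
theorem eq_zero_of_fix_of_range {T : Module.End (ZMod r) V} {m : ℕ} (hTm : T ^ m = 1)
    (hm : (m : ZMod r) ≠ 0) {u : V} (hfix : T u = u) (hu : ∃ v : V, u = T v - v) : u = 0 := by
  obtain ⟨v, hv⟩ := hu
  have hTv : T v = v + u := by rw [hv]; abel
  have hk : ∀ k : ℕ, (T ^ k) v = v + (k : ZMod r) • u := by
    intro k
    induction k with
    | zero => simp
    | succ k ih =>
      rw [pow_succ', Module.End.mul_apply, ih, map_add, map_smul, hfix, hTv, Nat.cast_succ, add_smul,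
        one_smul]
      abel
  have h1 := hk m
  rw [hTm, Module.End.one_apply] at h1
  have h2 : (m : ZMod r) • u = 0 := by
    have : v + (m : ZMod r) • u = v + 0 := by rw [add_zero]; exact h1.symm
    exact add_left_cancel this
  exact (smul_eq_zero.mp h2).resolve_left hm

/-- Decomposition into fixed part and moved part. -/
theorem exists_decomp {T : Module.End (ZMod r) V} {l : ZMod r}
    (hl : ∀ v : V, T (T v - v) = l • (T v - v))
    (hdisj : ∀ u : V, T u = u → (∃ v : V, u = T v - v) → u = 0) (v : V) :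
    ∃ v₁ v₂ : V, T v₁ = v₁ ∧ (∃ x : V, v₂ = T x - x) ∧ v = v₁ + v₂ := by
  by_cases h1 : l = 1
  · have h2 : T v - v = 0 := by
      apply hdisj _ _ ⟨v, rfl⟩
      rw [hl v, h1, one_smul]
    exact ⟨v, 0, sub_eq_zero.mp h2, ⟨0, by simp⟩, by simp⟩
  · have hne : l - 1 ≠ 0 := sub_ne_zero.mpr h1
    set u := T v - v with hu
    refine ⟨v - (l - 1)⁻¹ • u, (l - 1)⁻¹ • u, ?_, ⟨(l - 1)⁻¹ • v, ?_⟩, by abel⟩
    · have h3 : T u - u = (l - 1) • u := by rw [hu, hl v, sub_smul, one_smul]
      have hTu : T u = u + (l - 1) • u := by rw [← h3]; abel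
      have hTv : T v = v + u := by rw [hu]; abel
      rw [map_sub, map_smul, hTu, hTv, smul_add, smul_smul, inv_mul_cancel₀ hne, one_smul]
      abel
    · rw [map_smul, ← smul_sub]

/-- The key computation: an element swapping two independent subspaces and preserving lines on
its commutator space squares to the identity on them. -/
theorem sq_fix_of_swap {A B : Submodule (ZMod r) V} (hAB : ∀ v : V, v ∈ A → v ∈ B → v = 0)
    (U : Module.End (ZMod r) V) (hinj : Function.Injective U) (hU : LinePres U)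
    (h1 : ∀ v ∈ A, U v ∈ B) (h2 : ∀ v ∈ B, U v ∈ A) : ∀ v ∈ A, U (U v) = v := by
  intro v hv
  obtain ⟨c, hc⟩ := hU v
  set a := U v with ha
  have haB : a ∈ B := h1 v hv
  have hUa : U a ∈ A := h2 a haB
  rw [map_sub, smul_sub] at hc
  have hX : U a + c • v = (c + 1) • a := by
    rw [add_smul, one_smul]
    have : U a = c • a - c • v + a := by rw [← hc]; abel
    rw [this]; abel
  have hXA : U a + c • v ∈ A := A.add_mem hUa (A.smul_mem c hv)
  have hXB : U a + c • v ∈ B := by rw [hX]; exact B.smul_mem _ haB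
  have hX0 : U a + c • v = 0 := hAB _ hXA hXB
  by_cases hc1 : c + 1 = 0
  · have : c = -1 := eq_neg_of_add_eq_zero_left hc1
    rw [this, neg_smul, one_smul, ← sub_eq_add_neg, sub_eq_zero] at hX0
    exact hX0
  · rw [hX0] at hX
    have ha0 : a = 0 := (smul_eq_zero.mp hX.symm).resolve_left hc1
    have hv0 : v = 0 := hinj (by rw [← ha, ha0, map_zero])
    rw [ha0, map_zero, hv0]

end Cfsg.Agent.Helper15.PairSS
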