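import Mathlib
import Cfsg.Agent.Lib.Helper15.PairSS2

set_option autoImplicit false

/-! Supersolvability from the pair-order condition, part 3: the representation-theoretic core. -/

namespace Cfsg.Agent.Helper15.PairSS

variable {G : Type*} [Group G]
variable {r : ℕ} [hr : Fact r.Prime] {V : Type*} [AddCommGroup V] [Module (ZMod r) V]

/-- The subgroup of elements acting by scalars. -/
def scal (ρ : G →* Module.End (ZMod r) V) : Subgroup G where
  carrier := {g | ∃ c : ZMod r, ρ g = c • (1 : Module.End (ZMod r) V)}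
  one_mem' := ⟨1, by rw [map_one, one_smul]⟩
  mul_mem' := by
    rintro a b ⟨c, hc⟩ ⟨d, hd⟩
    exact ⟨c * d, by rw [map_mul, hc, hd, smul_mul_smul_comm, mul_one]⟩
  inv_mem' := by
    rintro a ⟨c, hc⟩
    refine ⟨c⁻¹, ?_⟩
    have h1 : ρ a⁻¹ * ρ a = 1 := by rw [← map_mul, inv_mul_cancel, map_one]
    rw [hc, mul_smul_comm, mul_one] at h1
    by_cases hc0 : c = 0
    · rw [hc0, zero_smul] at h1
      rw [hc0, inv_zero, zero_smul]
      calc ρ a⁻¹ = ρ a⁻¹ * 1 := (mul_one _).symm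
        _ = ρ a⁻¹ * 0 := by rw [h1]
        _ = 0 := mul_zero _
    · rw [← h1, smul_smul, inv_mul_cancel₀ hc0, one_smul]

theorem mem_scal {ρ : G →* Module.End (ZMod r) V} {g : G} :
    g ∈ scal ρ ↔ ∃ c : ZMod r, ρ g = c • (1 : Module.End (ZMod r) V) := Iff.rfl

instance scal_normal (ρ : G →* Module.End (ZMod r) V) : (scal ρ).Normal := by
  constructor
  rintro a ⟨c, hc⟩ t
  refine ⟨c, ?_⟩
  rw [map_mul, map_mul, hc, mul_smul_comm, mul_one, smul_mul_assoc, ← map_mul, mul_inv_cancel,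
    map_one]

/-- The line-preservation property for elements of prime power order prime to `r`. -/
def LP (ρ : G →* Module.End (ZMod r) V) : Prop :=
  ∀ q : ℕ, q.Prime → q ≠ r → ∀ x : G, (∃ a : ℕ, orderOf x = q ^ a) → LinePres (ρ x)

theorem lp_of_pow [Finite G] {ρ : G →* Module.End (ZMod r) V} (hLP : LP ρ) {q : ℕ} (hq : q.Prime)
    (hqr : q ≠ r) (g : G) (e : ℕ) (hg : ρ g ^ (q ^ e) = 1) : LinePres (ρ g) := by
  have : Fact q.Prime := ⟨hq⟩
  obtain ⟨n, hn, hb⟩ := exists_pow_prime_order (p := q) g e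
  have h1 : ρ (g ^ n) = ρ g := by rw [map_pow]; exact pow_eq_self_of_modEq hg hn
  have := hLP q hq hqr (g ^ n) hb
  rwa [h1] at this

theorem rho_injective (ρ : G →* Module.End (ZMod r) V) (g : G) : Function.Injective (ρ g) := by
  intro v w h
  have h1 : ρ g⁻¹ * ρ g = 1 := by rw [← map_mul, inv_mul_cancel, map_one]
  have h2 : ∀ x : V, ρ g⁻¹ (ρ g x) = x := fun x => by
    rw [← Module.End.mul_apply, h1, Module.End.one_apply]
  rw [← h2 v, h, h2 w]

/-- `X` exchanges the subspaces `A` and `B`. -/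
def Swaps (A B : Submodule (ZMod r) V) (X : Module.End (ZMod r) V) : Prop :=
  (∀ v ∈ A, X v ∈ B) ∧ (∀ u ∈ B, X u ∈ A)

theorem Swaps.pow_odd {A B : Submodule (ZMod r) V} {X : Module.End (ZMod r) V} (h : Swaps A B X)
    (j : ℕ) : Swaps A B (X ^ (2 * j + 1)) := by
  induction j with
  | zero => simpa using h
  | succ j ih =>
    have e : X ^ (2 * (j + 1) + 1) = X * X * X ^ (2 * j + 1) := by
      rw [show 2 * (j + 1) + 1 = 2 + (2 * j + 1) by ring, pow_add, pow_two]
    rw [e]
    refine ⟨fun v hv => ?_, fun u hu => ?_⟩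
    · rw [Module.End.mul_apply, Module.End.mul_apply]
      exact h.1 _ (h.2 _ (ih.1 v hv))
    · rw [Module.End.mul_apply, Module.End.mul_apply]
      exact h.2 _ (h.1 _ (ih.2 u hu))

end Cfsg.Agent.Helper15.PairSS
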