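import Mathlib
import Cfsg.Agent.Lib.Helper15.PairSS3

set_option autoImplicit false

/-! Supersolvability from the pair-order condition, part 4: the coprime case of the core. -/

namespace Cfsg.Agent.Helper15.PairSS

variable {G : Type*} [Group G]
variable {r : ℕ} [hr : Fact r.Prime] {V : Type*} [AddCommGroup V] [Module (ZMod r) V]

/-- The dichotomy for conjugates of `y`. -/
theorem dichotomy {T S S' : Module.End (ZMod r) V} {l ζ : ZMod r} {k : ℕ}
    (hl : ∀ v : V, T (T v - v) = l • (T v - v))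
    (hdisj : ∀ u : V, T u = u → (∃ v : V, u = T v - v) → u = 0)
    (hSS' : S * S' = 1) (hS'S : S' * S = 1) (hconj : S * T * S' = ζ • T ^ k)
    (hne : ∃ v : V, T v = v ∧ v ≠ 0) :
    (∀ v : V, T v = v → T (S' v) = S' v) ∨
      (Swaps (LinearMap.ker (T - 1)) (LinearMap.range (T - 1)) S ∧
        Swaps (LinearMap.ker (T - 1)) (LinearMap.range (T - 1)) S') := by
  have mem₁ : ∀ v : V, v ∈ LinearMap.ker (T - 1) ↔ T v = v := by
    intro v
    rw [LinearMap.mem_ker, LinearMap.sub_apply, Module.End.one_apply, sub_eq_zero]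
  have mem₂ : ∀ u : V, u ∈ LinearMap.range (T - 1) ↔ ∃ v : V, u = T v - v := by
    intro u
    rw [LinearMap.mem_range]
    constructor
    · rintro ⟨v, hv⟩
      exact ⟨v, by rw [← hv, LinearMap.sub_apply, Module.End.one_apply]⟩
    · rintro ⟨v, hv⟩
      exact ⟨v, by rw [hv, LinearMap.sub_apply, Module.End.one_apply]⟩
  have hdec := exists_decomp hl hdisj
  have hSS'v : ∀ v : V, S (S' v) = v := fun v => by
    rw [← Module.End.mul_apply, hSS', Module.End.one_apply]
  have hS'Sv : ∀ v : V, S' (S v) = v := fun v => by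
    rw [← Module.End.mul_apply, hS'S, Module.End.one_apply]
  have hSinj : Function.Injective S := fun v w h => by rw [← hS'Sv v, h, hS'Sv w]
  have hS'inj : Function.Injective S' := fun v w h => by rw [← hSS'v v, h, hSS'v w]
  have hT'app : ∀ w : V, S (T (S' w)) = ζ • (T ^ k) w := by
    intro w
    have := congrArg (fun f : Module.End (ZMod r) V => f w) hconj
    simpa [Module.End.mul_apply] using this
  have A1 : ∀ v : V, T v = v → S (T (S' v)) = ζ • v := by
    intro v hv
    rw [hT'app, pow_apply_of_fix T v hv]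
  have A2 : ∀ u : V, (∃ v : V, u = T v - v) → S (T (S' u)) = (ζ * l ^ k) • u := by
    rintro u ⟨v, rfl⟩
    rw [hT'app, pow_apply_of_eig T l _ (hl v), smul_smul]
  have A4 : ∀ w : V, S (T (S' w)) = w → T (S' w) = S' w := by
    intro w hw
    apply hSinj
    rw [hw, hSS'v]
  by_cases hζ1 : ζ = 1
  · left
    intro v hv
    apply A4
    rw [A1 v hv, hζ1, one_smul]
  · right
    have hζne : ζ - 1 ≠ 0 := sub_ne_zero.mpr hζ1
    have hi : ∀ v : V, T v = v → ∃ x : V, S v = T x - x := by
      intro v hv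
      obtain ⟨w₁, w₂, hw₁, hw₂, hw⟩ := hdec (S v)
      have h1 : S (T (S' (S v))) = S v := by rw [hS'Sv, hv]
      rw [hw, map_add, map_add, map_add, A1 w₁ hw₁, A2 w₂ hw₂] at h1
      have h2 : (ζ - 1) • w₁ = (1 - ζ * l ^ k) • w₂ := by
        rw [sub_smul, sub_smul, one_smul, one_smul, sub_eq_sub_iff_add_eq_add, h1, add_comm]
      have h3 : (ζ - 1) • w₁ = 0 := by
        apply hdisj
        · rw [map_smul, hw₁]
        · rw [h2]
          obtain ⟨x, hx⟩ := hw₂
          exact ⟨(1 - ζ * l ^ k) • x, by rw [hx, map_smul, smul_sub]⟩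
      have h4 : w₁ = 0 := (smul_eq_zero.mp h3).resolve_left hζne
      rw [h4, zero_add] at hw
      rw [hw]
      exact hw₂
    have hμ : ζ * l ^ k = 1 := by
      obtain ⟨v₀, hv₀, hv₀ne⟩ := hne
      have h1 : S (T (S' (S v₀))) = S v₀ := by rw [hS'Sv, hv₀]
      rw [A2 _ (hi v₀ hv₀)] at h1
      have h2 : (ζ * l ^ k - 1) • S v₀ = 0 := by rw [sub_smul, one_smul, h1, sub_self]
      rcases smul_eq_zero.mp h2 with h | h
      · exact sub_eq_zero.mp h
      · exfalso
        apply hv₀ne
        apply hSinj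
        rw [h, map_zero]
    have hiii : ∀ u : V, (∃ v : V, u = T v - v) → T (S' u) = S' u := by
      intro u hu
      apply A4
      rw [A2 u hu, hμ, one_smul]
    have hiv : ∀ v : V, T v = v → ∃ x : V, S' v = T x - x := by
      intro v hv
      have h1 := A1 v hv
      have h2 : T (S' v) - S' v = (ζ - 1) • S' v := by
        apply hSinj
        rw [map_sub, h1, hSS'v, map_smul, hSS'v, sub_smul, one_smul]
      refine ⟨(ζ - 1)⁻¹ • S' v, ?_⟩
      rw [map_smul, ← smul_sub, h2, smul_smul, inv_mul_cancel₀ hζne, one_smul]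
    have hv' : ∀ u : V, (∃ v : V, u = T v - v) → T (S u) = S u := by
      intro u hu
      obtain ⟨w₁, w₂, hw₁, hw₂, hw⟩ := hdec (S u)
      have h1 : u = S' w₁ + S' w₂ := by rw [← map_add, ← hw, hS'Sv]
      have h2 : S' w₂ = 0 := by
        apply hdisj
        · exact hiii w₂ hw₂
        · obtain ⟨x, hx⟩ := hu
          obtain ⟨x', hx'⟩ := hiv w₁ hw₁
          refine ⟨x - x', ?_⟩
          have : S' w₂ = u - S' w₁ := by rw [h1]; abel
          rw [this, hx, hx', map_sub]
          abel
      have h3 : w₂ = 0 := hS'inj (by rw [h2, map_zero])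
      rw [hw, h3, add_zero]
      exact hw₁
    refine ⟨⟨fun v hv => ?_, fun u hu => ?_⟩, ⟨fun v hv => ?_, fun u hu => ?_⟩⟩
    · exact (mem₂ _).mpr (hi v ((mem₁ v).mp hv))
    · exact (mem₁ _).mpr (hv' u ((mem₂ u).mp hu))
    · exact (mem₂ _).mpr (hiv v ((mem₁ v).mp hv))
    · exact (mem₁ _).mpr (hiii u ((mem₂ u).mp hu))

end Cfsg.Agent.Helper15.PairSS
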