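import Mathlib
import Cfsg.Agent.Lib.Helper15.PairSS4

set_option autoImplicit false

/-! Supersolvability from the pair-order condition, part 5: the coprime case of the core. -/

namespace Cfsg.Agent.Helper15.PairSS

variable {G : Type*} [Group G]
variable {r : ℕ} [hr : Fact r.Prime] {V : Type*} [AddCommGroup V] [Module (ZMod r) V]

theorem core2_coprime [Finite G] (ρ : G →* Module.End (ZMod r) V) (hLP : LP ρ)
    (hirr : ∀ W : Submodule (ZMod r) V, (∀ g : G, ∀ w ∈ W, ρ g w ∈ W) → W = ⊥ ∨ W = ⊤)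
    {p : ℕ} (hp : p.Prime) (hpr : p ≠ r) (y : G) (a : ℕ) (ha : orderOf y = p ^ a)
    (hyZ : y ∉ scal ρ)
    (hconj : ∀ t : G, ∃ z ∈ scal ρ, ∃ k : ℕ, t * y * t⁻¹ = z * y ^ k) : False := by
  set T := ρ y with hTdef
  have hTm : T ^ (p ^ a) = 1 := by rw [hTdef, ← map_pow, ← ha, pow_orderOf_eq_one, map_one]
  have hm : ((p ^ a : ℕ) : ZMod r) ≠ 0 := by
    rw [Ne, ZMod.natCast_eq_zero_iff]
    intro h
    exact hpr ((Nat.prime_dvd_prime_iff_eq hr.out hp).mp (hr.out.dvd_of_dvd_pow h)).symm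
  have hTlp : LinePres T := hLP p hp hpr y ⟨a, ha⟩
  obtain ⟨l, hl⟩ := hTlp.exists_eig
  have hdisj : ∀ u : V, T u = u → (∃ v : V, u = T v - v) → u = 0 :=
    fun u h1 h2 => eq_zero_of_fix_of_range hTm hm h1 h2
  have hdec := exists_decomp hl hdisj
  set N₁ : Submodule (ZMod r) V := LinearMap.ker (T - 1) with hN₁
  set N₂ : Submodule (ZMod r) V := LinearMap.range (T - 1) with hN₂
  have mem₁ : ∀ v : V, v ∈ N₁ ↔ T v = v := by
    intro v
    rw [hN₁, LinearMap.mem_ker, LinearMap.sub_apply, Module.End.one_apply, sub_eq_zero]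
  have mem₂ : ∀ u : V, u ∈ N₂ ↔ ∃ v : V, u = T v - v := by
    intro u
    rw [hN₂, LinearMap.mem_range]
    constructor
    · rintro ⟨v, hv⟩
      exact ⟨v, by rw [← hv, LinearMap.sub_apply, Module.End.one_apply]⟩
    · rintro ⟨v, hv⟩
      exact ⟨v, by rw [hv, LinearMap.sub_apply, Module.End.one_apply]⟩
  have heig : ∀ u ∈ N₂, T u = l • u := by
    intro u hu
    obtain ⟨v, rfl⟩ := (mem₂ u).mp hu
    exact hl v
  have hAB : ∀ v : V, v ∈ N₁ → v ∈ N₂ → v = 0 :=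
    fun v h1 h2 => hdisj v ((mem₁ v).mp h1) ((mem₂ v).mp h2)
  -- both parts are nonzero
  obtain ⟨u₂, hu₂, hu₂ne⟩ : ∃ u ∈ N₂, u ≠ 0 := by
    by_contra hcon
    push Not at hcon
    apply hyZ
    refine ⟨1, ?_⟩
    rw [one_smul]
    apply LinearMap.ext
    intro v
    have := hcon (T v - v) ((mem₂ _).mpr ⟨v, rfl⟩)
    rw [Module.End.one_apply]
    exact sub_eq_zero.mp this
  obtain ⟨u₁, hu₁, hu₁ne⟩ : ∃ u ∈ N₁, u ≠ 0 := by
    by_contra hcon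
    push Not at hcon
    apply hyZ
    refine ⟨l, ?_⟩
    apply LinearMap.ext
    intro v
    obtain ⟨v₁, v₂, hv₁, hv₂, hv⟩ := hdec v
    have h0 : v₁ = 0 := hcon v₁ ((mem₁ _).mpr hv₁)
    rw [h0, zero_add] at hv
    rw [LinearMap.smul_apply, Module.End.one_apply, hv]
    exact heig v₂ ((mem₂ _).mpr hv₂)
  have hl1 : l ≠ 1 := by
    intro h
    apply hu₂ne
    apply hAB u₂ _ hu₂
    rw [mem₁, heig u₂ hu₂, h, one_smul]
  have hlm : l ^ (p ^ a) = 1 := by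
    have h1 := pow_apply_of_eig T l u₂ (heig u₂ hu₂) (p ^ a)
    rw [hTm, Module.End.one_apply] at h1
    have h2 : (l ^ (p ^ a) - 1) • u₂ = 0 := by rw [sub_smul, one_smul, ← h1, sub_self]
    exact sub_eq_zero.mp ((smul_eq_zero.mp h2).resolve_right hu₂ne)
  have hl0 : l ≠ 0 := by
    intro h
    rw [h, zero_pow (pow_ne_zero a hp.ne_zero)] at hlm
    exact zero_ne_one hlm
  -- the dichotomy for all conjugates
  have hdich : ∀ t : G, (∀ v ∈ N₁, ρ t⁻¹ v ∈ N₁) ∨ (Swaps N₁ N₂ (ρ t) ∧ Swaps N₁ N₂ (ρ t⁻¹)) := by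
    intro t
    obtain ⟨z, ⟨ζ, hζ⟩, k, hk⟩ := hconj t
    have hSS' : ρ t * ρ t⁻¹ = 1 := by rw [← map_mul, mul_inv_cancel, map_one]
    have hS'S : ρ t⁻¹ * ρ t = 1 := by rw [← map_mul, inv_mul_cancel, map_one]
    have hc : ρ t * T * ρ t⁻¹ = ζ • T ^ k := by
      rw [hTdef, ← map_mul, ← map_mul, hk, map_mul, hζ, map_pow, smul_mul_assoc, one_mul]
    rcases dichotomy hl hdisj hSS' hS'S hc ⟨u₁, (mem₁ _).mp hu₁, hu₁ne⟩ with h | h
    · left
      intro v hv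
      exact (mem₁ _).mpr (h v ((mem₁ v).mp hv))
    · right
      exact h
  -- a swapping element exists
  obtain ⟨t₀, hsw, hsw'⟩ : ∃ t₀ : G, Swaps N₁ N₂ (ρ t₀) ∧ Swaps N₁ N₂ (ρ t₀⁻¹) := by
    have hninv : ¬ ∀ g : G, ∀ w ∈ N₁, ρ g w ∈ N₁ := by
      intro h
      rcases hirr N₁ h with hb | ht
      · apply hu₁ne
        have : u₁ ∈ (⊥ : Submodule (ZMod r) V) := hb ▸ hu₁
        simpa using this
      · apply hu₂ne
        apply hAB u₂ _ hu₂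
        rw [ht]; trivial
    push Not at hninv
    obtain ⟨t, w, hw, hwt⟩ := hninv
    rcases hdich t⁻¹ with h | h
    · exfalso
      apply hwt
      have := h w hw
      rwa [inv_inv] at this
    · exact ⟨t⁻¹, h⟩
  -- the action of the conjugate
  set S₀ := ρ t₀ with hS₀
  set S₀' := ρ t₀⁻¹ with hS₀'
  have hSS' : ∀ v : V, S₀ (S₀' v) = v := fun v => by
    rw [← Module.End.mul_apply, hS₀, hS₀', ← map_mul, mul_inv_cancel, map_one, Module.End.one_apply]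
  set T₁ := ρ (t₀ * y * t₀⁻¹) with hT₁
  have hT₁app : ∀ v : V, T₁ v = S₀ (T (S₀' v)) := by
    intro v
    rw [hT₁, map_mul, map_mul, Module.End.mul_apply, Module.End.mul_apply]
  have B1 : ∀ v ∈ N₁, T₁ v = l • v := by
    intro v hv
    rw [hT₁app, heig _ (hsw'.1 v hv), map_smul, hSS']
  have B2 : ∀ u ∈ N₂, T₁ u = u := by
    intro u hu
    rw [hT₁app, (mem₁ _).mp (hsw'.2 u hu), hSS']
  -- step 1 : `l ^ 2 = 1`
  set W₀ := ρ ((t₀ * y * t₀⁻¹) ^ 2 * y) with hW₀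
  have hW₀app : ∀ v : V, W₀ v = T₁ (T₁ (T v)) := by
    intro v
    rw [hW₀, map_mul, map_pow, pow_two, Module.End.mul_apply, Module.End.mul_apply]
  have C1 : ∀ v ∈ N₁, W₀ v = (l ^ 2) • v := by
    intro v hv
    rw [hW₀app, (mem₁ v).mp hv, B1 v hv, map_smul, B1 v hv, smul_smul, pow_two]
  have C2 : ∀ u ∈ N₂, W₀ u = l • u := by
    intro u hu
    rw [hW₀app, heig u hu, map_smul, map_smul, B2 u hu, B2 u hu]
  have hW₀m : W₀ ^ (p ^ a) = 1 := by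
    apply LinearMap.ext
    intro v
    obtain ⟨v₁, v₂, hv₁, hv₂, hv⟩ := hdec v
    have h1 := pow_apply_of_eig W₀ (l ^ 2) v₁ (C1 v₁ ((mem₁ _).mpr hv₁)) (p ^ a)
    have h2 := pow_apply_of_eig W₀ l v₂ (C2 v₂ ((mem₂ _).mpr hv₂)) (p ^ a)
    rw [← pow_mul, mul_comm, pow_mul, hlm, one_pow, one_smul] at h1
    rw [hlm, one_smul] at h2
    rw [hv, map_add, h1, h2, Module.End.one_apply]
  have hW₀lp : LinePres W₀ := lp_of_pow hLP hp hpr _ a hW₀m
  have hl2 : l ^ 2 = 1 := by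
    obtain ⟨c, hc⟩ := hW₀lp (u₁ + u₂)
    have e1 : W₀ (u₁ + u₂) - (u₁ + u₂) = (l ^ 2 - 1) • u₁ + (l - 1) • u₂ := by
      rw [map_add, C1 u₁ hu₁, C2 u₂ hu₂, sub_smul, sub_smul, one_smul, one_smul]
      abel
    rw [e1, map_add, map_smul, map_smul, C1 u₁ hu₁, C2 u₂ hu₂, smul_add, smul_smul, smul_smul,
      smul_smul, smul_smul] at hc
    have h3 : ((l ^ 2 - 1) * l ^ 2 - c * (l ^ 2 - 1)) • u₁ = (c * (l - 1) - (l - 1) * l) • u₂ := by
      rw [sub_smul, sub_smul, sub_eq_sub_iff_add_eq_add, hc, add_comm]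
    have h4 : ((l ^ 2 - 1) * l ^ 2 - c * (l ^ 2 - 1)) • u₁ = 0 := by
      apply hAB
      · exact N₁.smul_mem _ hu₁
      · rw [h3]; exact N₂.smul_mem _ hu₂
    have h5 : (c * (l - 1) - (l - 1) * l) • u₂ = 0 := by rw [← h3, h4]
    have h6 : (l ^ 2 - 1) * l ^ 2 - c * (l ^ 2 - 1) = 0 := (smul_eq_zero.mp h4).resolve_right hu₁ne
    have h7 : c * (l - 1) - (l - 1) * l = 0 := (smul_eq_zero.mp h5).resolve_right hu₂ne
    have hl1' : l - 1 ≠ 0 := sub_ne_zero.mpr hl1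
    have h8 : c = l := by
      have : (c - l) * (l - 1) = 0 := by rw [← h7]; ring
      rcases mul_eq_zero.mp this with h | h
      · exact sub_eq_zero.mp h
      · exact absurd h hl1'
    rw [h8] at h6
    have h9 : l * (l - 1) * (l ^ 2 - 1) = 0 := by rw [← h6]; ring
    rcases mul_eq_zero.mp h9 with h | h
    · rcases mul_eq_zero.mp h with h' | h'
      · exact absurd h' hl0
      · exact absurd h' hl1'
    · exact sub_eq_zero.mp h
  have hlneg : l = -1 := by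
    have : (l - 1) * (l + 1) = 0 := by rw [← sub_eq_zero.mpr hl2]; ring
    rcases mul_eq_zero.mp this with h | h
    · exact absurd (sub_eq_zero.mp h) hl1
    · exact eq_neg_of_add_eq_zero_left h
  have hp2 : p = 2 := by
    by_contra hne
    have hodd : Odd (p ^ a) := (hp.odd_of_ne_two hne).pow
    rw [hlneg, hodd.neg_one_pow] at hlm
    exact hl1 (hlneg.trans hlm)
  subst hp2
  -- step 2
  have : Fact (Nat.Prime 2) := ⟨hp⟩
  obtain ⟨n, hn, b, hsb⟩ := exists_pow_prime_order (p := 2) t₀ 1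
  have hnodd : n % 2 = 1 := by
    have : n % 2 ^ 1 = 1 % 2 ^ 1 := hn
    simpa using this
  obtain ⟨j, hj⟩ : ∃ j : ℕ, n = 2 * j + 1 := ⟨n / 2, by omega⟩
  set Sₛ := ρ (t₀ ^ n) with hSₛ
  have hswₛ : Swaps N₁ N₂ Sₛ := by
    rw [hSₛ, map_pow, hj]
    exact hsw.pow_odd j
  have hlpₛ : LinePres Sₛ := hLP 2 hp hpr (t₀ ^ n) ⟨b, hsb⟩
  have D1 : ∀ v ∈ N₁, Sₛ (Sₛ v) = v :=
    sq_fix_of_swap hAB Sₛ (rho_injective ρ _) hlpₛ hswₛ.1 hswₛ.2
  have D2 : ∀ u ∈ N₂, Sₛ (Sₛ u) = u :=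
    sq_fix_of_swap (fun v h1 h2 => hAB v h2 h1) Sₛ (rho_injective ρ _) hlpₛ hswₛ.2 hswₛ.1
  set U₀ := ρ (y * t₀ ^ n) with hU₀
  have hU₀app : ∀ v : V, U₀ v = T (Sₛ v) := by
    intro v
    rw [hU₀, map_mul, Module.End.mul_apply]
  have E1 : ∀ v ∈ N₁, U₀ v ∈ N₂ := by
    intro v hv
    rw [hU₀app, heig _ (hswₛ.1 v hv)]
    exact N₂.smul_mem _ (hswₛ.1 v hv)
  have E2 : ∀ u ∈ N₂, U₀ u ∈ N₁ := by
    intro u hu
    rw [hU₀app, (mem₁ _).mp (hswₛ.2 u hu)]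
    exact hswₛ.2 u hu
  have E3 : ∀ v ∈ N₁, U₀ (U₀ v) = -v := by
    intro v hv
    rw [hU₀app v, heig _ (hswₛ.1 v hv), hU₀app, map_smul, D1 v hv, map_smul, (mem₁ v).mp hv, hlneg,
      neg_smul, one_smul]
  have E4 : ∀ u ∈ N₂, U₀ (U₀ u) = -u := by
    intro u hu
    rw [hU₀app u, (mem₁ _).mp (hswₛ.2 u hu), hU₀app, D2 u hu, heig u hu, hlneg, neg_smul, one_smul]
  have hU₀sq : ∀ v : V, U₀ (U₀ v) = -v := by
    intro v
    obtain ⟨v₁, v₂, hv₁, hv₂, hv⟩ := hdec v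
    rw [hv, map_add, map_add, E3 v₁ ((mem₁ _).mpr hv₁), E4 v₂ ((mem₂ _).mpr hv₂), neg_add]
  have hU₀4 : U₀ ^ (2 ^ 2) = 1 := by
    apply LinearMap.ext
    intro v
    have e : U₀ ^ (2 ^ 2) = U₀ * U₀ * (U₀ * U₀) := by
      rw [show (2 : ℕ) ^ 2 = 2 + 2 by norm_num, pow_add, pow_two]
    rw [e, Module.End.mul_apply, Module.End.mul_apply, Module.End.mul_apply, hU₀sq, hU₀sq, neg_neg,
      Module.End.one_apply]
  have hlp₀ : LinePres U₀ := lp_of_pow hLP hp hpr _ 2 hU₀4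
  have F1 : ∀ v ∈ N₁, U₀ (U₀ v) = v :=
    sq_fix_of_swap hAB U₀ (rho_injective ρ _) hlp₀ E1 E2
  have h1 := F1 u₁ hu₁
  rw [E3 u₁ hu₁] at h1
  have h2 : (l - 1) • u₁ = 0 := by
    rw [sub_smul, one_smul, hlneg, neg_smul, one_smul, h1, sub_self]
  exact hu₁ne ((smul_eq_zero.mp h2).resolve_left (sub_ne_zero.mpr hl1))

end Cfsg.Agent.Helper15.PairSS
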