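import Mathlib
import Cfsg.Agent.Lib.Helper15.PairSS5
import Cfsg.Agent.Lib.Helper3.Supersolvable2

set_option autoImplicit false

/-! Supersolvability from the pair-order condition, part 6: the unipotent case and the core
theorem. -/

namespace Cfsg.Agent.Helper15.PairSS

variable {G : Type*} [Group G]
variable {r : ℕ} [hr : Fact r.Prime] {V : Type*} [AddCommGroup V] [Module (ZMod r) V]

theorem core2_unipotent (ρ : G →* Module.End (ZMod r) V)
    (hirr : ∀ W : Submodule (ZMod r) V, (∀ g : G, ∀ w ∈ W, ρ g w ∈ W) → W = ⊥ ∨ W = ⊤)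
    (y : G) (a : ℕ) (ha : orderOf y = r ^ a) (hyZ : y ∉ scal ρ)
    (hconj : ∀ t : G, ∃ z ∈ scal ρ, ∃ k : ℕ, t * y * t⁻¹ = z * y ^ k) : False := by
  set T := ρ y with hTdef
  have hTm : T ^ (r ^ a) = 1 := by rw [hTdef, ← map_pow, ← ha, pow_orderOf_eq_one, map_one]
  obtain ⟨v₀, hv₀⟩ : ∃ v : V, v ≠ 0 := by
    by_contra h
    push Not at h
    apply hyZ
    refine ⟨1, LinearMap.ext fun v => ?_⟩
    rw [h v, map_zero, map_zero]
  set N₀ : Submodule (ZMod r) V := LinearMap.ker (T - 1) with hN₀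
  have mem₀ : ∀ v : V, v ∈ N₀ ↔ T v = v := by
    intro v
    rw [hN₀, LinearMap.mem_ker, LinearMap.sub_apply, Module.End.one_apply, sub_eq_zero]
  have hinv : ∀ g : G, ∀ w ∈ N₀, ρ g w ∈ N₀ := by
    intro g w hw
    obtain ⟨z, ⟨ζ, hζ⟩, k, hk⟩ := hconj g⁻¹
    rw [inv_inv] at hk
    have hc : ρ g⁻¹ * T * ρ g = ζ • T ^ k := by
      rw [hTdef, ← map_mul, ← map_mul, hk, map_mul, hζ, map_pow, smul_mul_assoc, one_mul]
    have hpow : (ζ • T ^ k) ^ (r ^ a) = 1 := by
      rw [← hc, hTdef, ← map_mul, ← map_mul, ← map_pow]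
      have : (g⁻¹ * y * g) ^ (r ^ a) = 1 := by
        have h1 : g⁻¹ * y * g = g⁻¹ * y * g⁻¹⁻¹ := by rw [inv_inv]
        rw [h1, conj_pow, ← ha, pow_orderOf_eq_one, mul_one, mul_inv_cancel]
      rw [this, map_one]
    have hζ1 : ζ = 1 := by
      rw [smul_pow, ← pow_mul, mul_comm, pow_mul, hTm, one_pow, ZMod.pow_card_pow] at hpow
      have h1 := congrArg (fun f : Module.End (ZMod r) V => f v₀) hpow
      simp only [LinearMap.smul_apply, Module.End.one_apply] at h1
      have h2 : (ζ - 1) • v₀ = 0 := by rw [sub_smul, one_smul, h1, sub_self]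
      exact sub_eq_zero.mp ((smul_eq_zero.mp h2).resolve_right hv₀)
    rw [hζ1, one_smul] at hc
    rw [mem₀]
    have h1 := congrArg (fun f : Module.End (ZMod r) V => f w) hc
    simp only [Module.End.mul_apply] at h1
    rw [pow_apply_of_fix T w ((mem₀ w).mp hw)] at h1
    have h2 : ∀ x : V, ρ g (ρ g⁻¹ x) = x := fun x => by
      rw [← Module.End.mul_apply, ← map_mul, mul_inv_cancel, map_one, Module.End.one_apply]
    rw [← h2 (T (ρ g w)), h1]
  rcases hirr N₀ hinv with hb | ht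
  · have hinjalg : Function.Injective (algebraMap (ZMod r) (Module.End (ZMod r) V)) := by
      intro c d h
      have h1 := congrArg (fun f : Module.End (ZMod r) V => f v₀) h
      simp only [Module.algebraMap_end_apply] at h1
      have h2 : (c - d) • v₀ = 0 := by rw [sub_smul, h1, sub_self]
      exact sub_eq_zero.mp ((smul_eq_zero.mp h2).resolve_right hv₀)
    have : CharP (Module.End (ZMod r) V) r := charP_of_injective_algebraMap hinjalg r
    have hnil : (T - 1) ^ (r ^ a) = 0 := by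
      rw [sub_pow_char_pow_of_commute r a (Commute.one_right T), hTm, one_pow, sub_self]
    have hinj : Function.Injective ((T - 1 : Module.End (ZMod r) V) : V → V) :=
      LinearMap.ker_eq_bot.mp hb
    have h1 : ((T - 1) ^ (r ^ a)) v₀ = 0 := by rw [hnil]; rfl
    rw [Module.End.pow_apply] at h1
    apply hv₀
    apply hinj.iterate (r ^ a)
    rw [h1, iterate_map_zero]
  · apply hyZ
    refine ⟨1, LinearMap.ext fun v => ?_⟩
    rw [one_smul, Module.End.one_apply]
    have : v ∈ N₀ := by rw [ht]; trivial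
    exact (mem₀ v).mp this

/-- The core: an irreducible module over `ZMod r` for a group `G` acting through a supersolvable
quotient, with the line-preservation property, is at most one-dimensional. -/
theorem core [Finite G] (ρ : G →* Module.End (ZMod r) V) (hLP : LP ρ)
    (hirr : ∀ W : Submodule (ZMod r) V, (∀ g : G, ∀ w ∈ W, ρ g w ∈ W) → W = ⊥ ∨ W = ⊤)
    (K : Subgroup G) [K.Normal] (hK : ∀ k ∈ K, ρ k = 1)
    (hss : Cfsg.IsSupersolvable (G ⧸ K)) :
    ∃ v : V, ∀ w : V, ∃ c : ZMod r, w = c • v := by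
  by_contra hcon
  push Not at hcon
  -- the scalar subgroup is proper
  have hZ : scal ρ ≠ ⊤ := by
    intro htop
    obtain ⟨w₀, hw₀⟩ := hcon 0
    have hw₀ne : w₀ ≠ 0 := fun h => hw₀ 0 (by rw [h, smul_zero])
    have hinv : ∀ g : G, ∀ w ∈ Submodule.span (ZMod r) {w₀}, ρ g w ∈ Submodule.span (ZMod r) {w₀} := by
      intro g w hw
      obtain ⟨c, hc⟩ : g ∈ scal ρ := by rw [htop]; trivial
      rw [hc, LinearMap.smul_apply, Module.End.one_apply]
      exact Submodule.smul_mem _ _ hw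
    rcases hirr _ hinv with hb | ht
    · apply hw₀ne
      have : w₀ ∈ Submodule.span (ZMod r) {w₀} := Submodule.mem_span_singleton_self w₀
      rw [hb] at this
      simpa using this
    · obtain ⟨w, hw⟩ := hcon w₀
      have : w ∈ Submodule.span (ZMod r) {w₀} := by rw [ht]; trivial
      obtain ⟨c, hc⟩ := Submodule.mem_span_singleton.mp this
      exact hw c hc.symm
  have hKZ : K ≤ scal ρ := fun k hk => ⟨1, by rw [hK k hk, one_smul]⟩
  have hssZ : Cfsg.IsSupersolvable (G ⧸ scal ρ) := by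
    apply Cfsg.Agent.Helper3.isSupersolvable_of_surjective hss
      (QuotientGroup.map K (scal ρ) (MonoidHom.id G) hKZ)
    intro x
    obtain ⟨g, rfl⟩ := QuotientGroup.mk_surjective x
    exact ⟨(g : G ⧸ K), rfl⟩
  have hnt : Nontrivial (G ⧸ scal ρ) := by
    by_contra h
    rw [not_nontrivial_iff_subsingleton] at h
    apply hZ
    rw [eq_top_iff]
    intro g _
    have : (g : G ⧸ scal ρ) = 1 := Subsingleton.elim _ _
    exact (QuotientGroup.eq_one_iff g).mp this
  -- a normal subgroup of prime order in the quotient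
  rw [Cfsg.Agent.Helper3.isSupersolvable_iff_ssReach] at hssZ
  obtain ⟨g₁, hg₁, hg₁n, -⟩ := hssZ.exists_normal_zpowers top_ne_bot
  have hn1 : orderOf g₁ ≠ 1 := fun h => hg₁ (orderOf_eq_one_iff.mp h)
  have hn0 : orderOf g₁ ≠ 0 := (orderOf_pos g₁).ne'
  set p := (orderOf g₁).minFac with hpdef
  have hp : p.Prime := Nat.minFac_prime hn1
  obtain ⟨m, hm⟩ := Nat.minFac_dvd (orderOf g₁)
  have hm0 : m ≠ 0 := by rintro rfl; rw [mul_zero] at hm; exact hn0 hm
  have hord : orderOf (g₁ ^ m) = p := by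
    rw [orderOf_pow_of_dvd hm0 ⟨p, by rw [hm, mul_comm]⟩, hm]
    exact Nat.mul_div_cancel _ (Nat.pos_of_ne_zero hm0)
  have hnorm : (Subgroup.zpowers (g₁ ^ m)).Normal :=
    Cfsg.Agent.Helper3.normal_of_le_zpowers g₁ hg₁n _
      (Subgroup.zpowers_le.mpr (Subgroup.npow_mem_zpowers g₁ m))
  have : Fact p.Prime := ⟨hp⟩
  obtain ⟨y, ⟨a, hyn⟩, hmk⟩ : ∃ y : G, (∃ a : ℕ, orderOf y = p ^ a) ∧
      (y : G ⧸ scal ρ) = g₁ ^ m := by
    obtain ⟨y₀, hy₀⟩ := QuotientGroup.mk_surjective (g₁ ^ m)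
    obtain ⟨n, hn, a, hyn⟩ := exists_pow_prime_order (p := p) y₀ 1
    refine ⟨y₀ ^ n, ⟨a, hyn⟩, ?_⟩
    rw [QuotientGroup.mk_pow, hy₀]
    apply pow_eq_self_of_modEq _ hn
    rw [pow_one, ← hord, pow_orderOf_eq_one]
  have hyZ : y ∉ scal ρ := by
    intro h
    have h1 : (y : G ⧸ scal ρ) = 1 := (QuotientGroup.eq_one_iff _).mpr h
    rw [hmk] at h1
    rw [h1, orderOf_one] at hord
    exact hp.one_lt.ne hord
  have hconj : ∀ t : G, ∃ z ∈ scal ρ, ∃ k : ℕ, t * y * t⁻¹ = z * y ^ k := by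
    intro t
    have h1 : (t : G ⧸ scal ρ) * (g₁ ^ m) * (t : G ⧸ scal ρ)⁻¹ ∈ Subgroup.zpowers (g₁ ^ m) :=
      hnorm.conj_mem _ (Subgroup.mem_zpowers _) _
    rw [← mem_powers_iff_mem_zpowers, Submonoid.mem_powers_iff] at h1
    obtain ⟨k, hk⟩ := h1
    refine ⟨t * y * t⁻¹ * (y ^ k)⁻¹, ?_, k, by group⟩
    rw [← QuotientGroup.eq_one_iff]
    rw [QuotientGroup.mk_mul, QuotientGroup.mk_mul, QuotientGroup.mk_mul, QuotientGroup.mk_inv,
      QuotientGroup.mk_inv, QuotientGroup.mk_pow, hmk, hk]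
    group
  by_cases hpr : p = r
  · exact core2_unipotent ρ hirr y a (hpr ▸ hyn) hyZ hconj
  · exact core2_coprime ρ hLP hirr hp hpr y a hyn hyZ hconj

end Cfsg.Agent.Helper15.PairSS
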