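import Mathlib
import Cfsg.Agent.Lib.Helper15.PairSS6

set_option autoImplicit false

/-! Supersolvability from the pair-order condition, part 7: translation of the core to groups. -/

namespace Cfsg.Agent.Helper15.PairSS

/-- Group-theoretic form of the core, for an action on an elementary abelian `r`-group. -/
theorem core_commGroup {G : Type*} [Group G] [Finite G] {A : Type*} [CommGroup A] {r : ℕ}
    [hr : Fact r.Prime] (hA : ∀ a : A, a ^ r = 1) (φ : G →* MulAut A)
    (hLP : ∀ q : ℕ, q.Prime → q ≠ r → ∀ x : G, (∃ k : ℕ, orderOf x = q ^ k) → ∀ a : A,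
      ∃ j : ℕ, φ x (φ x a / a) = (φ x a / a) ^ j)
    (hirr : ∀ M : Subgroup A, (∀ g : G, ∀ a ∈ M, φ g a ∈ M) → M = ⊥ ∨ M = ⊤)
    (K : Subgroup G) [K.Normal] (hK : ∀ k ∈ K, φ k = 1)
    (hss : Cfsg.IsSupersolvable (G ⧸ K)) :
    ∃ a : A, ∀ b : A, ∃ j : ℕ, b = a ^ j := by
  have inst : Module (ZMod r) (Additive A) := AddCommGroup.zmodModule (n := r) (fun x => by
    change Additive.ofMul (x.toMul ^ r) = 0
    rw [hA]; rfl)
  let ρ : G →* Module.End (ZMod r) (Additive A) :=
    { toFun := fun g => (MonoidHom.toAdditive (φ g).toMonoidHom).toZModLinearMap r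
      map_one' := by
        apply LinearMap.ext
        intro x
        rw [Module.End.one_apply]
        change Additive.ofMul ((φ 1) x.toMul) = x
        rw [map_one]; rfl
      map_mul' := by
        intro g h
        apply LinearMap.ext
        intro x
        rw [Module.End.mul_apply]
        change Additive.ofMul ((φ (g * h)) x.toMul) = Additive.ofMul ((φ g) ((φ h) x.toMul))
        rw [map_mul]; rfl }
  have hρ : ∀ (g : G) (x : Additive A), ρ g x = Additive.ofMul (φ g x.toMul) := fun g x => rfl
  have hsmul : ∀ (j : ℕ) (x : Additive A), (j : ZMod r) • x = Additive.ofMul (x.toMul ^ j) := by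
    intro j x
    rw [Nat.cast_smul_eq_nsmul]; rfl
  have hcore := core ρ ?_ ?_ K ?_ hss
  · obtain ⟨v, hv⟩ := hcore
    refine ⟨v.toMul, fun b => ?_⟩
    obtain ⟨c, hc⟩ := hv (Additive.ofMul b)
    refine ⟨c.val, ?_⟩
    have h1 : c • v = ((c.val : ℕ) : ZMod r) • v := by rw [ZMod.natCast_zmod_val]
    rw [h1, hsmul] at hc
    exact Additive.ofMul.injective hc
  · intro q hq hqr x hx v
    obtain ⟨j, hj⟩ := hLP q hq hqr x hx v.toMul
    refine ⟨(j : ZMod r), ?_⟩
    rw [hsmul]
    have e : ρ x v - v = Additive.ofMul (φ x v.toMul / v.toMul) := rfl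
    rw [e, hρ]
    exact congrArg Additive.ofMul hj
  · intro W hW
    let M : Subgroup A :=
      { carrier := {a | Additive.ofMul a ∈ W}
        one_mem' := W.zero_mem
        mul_mem' := fun {a b} ha hb => W.add_mem ha hb
        inv_mem' := fun {a} ha => W.neg_mem ha }
    have hM : ∀ a : A, a ∈ M ↔ Additive.ofMul a ∈ W := fun a => Iff.rfl
    rcases hirr M (fun g a ha => hW g _ ha) with h | h
    · left
      rw [eq_bot_iff]
      intro x hx
      have : x.toMul ∈ M := hx
      rw [h, Subgroup.mem_bot] at this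
      rw [Submodule.mem_bot]
      exact congrArg Additive.ofMul this
    · right
      rw [eq_top_iff]
      intro x _
      have : x.toMul ∈ M := by rw [h]; trivial
      exact this
  · intro k hk
    apply LinearMap.ext
    intro x
    rw [hρ, hK k hk]
    rfl

end Cfsg.Agent.Helper15.PairSS
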