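import Mathlib
import Cfsg.Agent.Lib.Helper15.PairSS7

set_option autoImplicit false

/-! Supersolvability from the pair-order condition, part 8: minimal normal subgroups are cyclic,
and the main induction. -/

namespace Cfsg.Agent.Helper15.PairSS

universe u

/-- Under the pair-order hypothesis, an abelian minimal normal subgroup with supersolvable quotient
is cyclic. -/
theorem cyclic_of_minimal {G : Type*} [Group G] [Finite G] (hH : Hyp G) (N : Subgroup G)
    [hN : N.Normal] {r : ℕ} [hr : Fact r.Prime]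
    (hc : ∀ a ∈ N, ∀ b ∈ N, a * b = b * a) (hexp : ∀ m ∈ N, m ^ r = 1)
    (hmin : ∀ K : Subgroup G, K.Normal → K ≤ N → K = ⊥ ∨ K = N)
    (hss : Cfsg.IsSupersolvable (G ⧸ N)) : ∃ v : G, N = Subgroup.zpowers v := by
  letI : CommGroup N :=
    { (inferInstance : Group N) with mul_comm := fun a b => Subtype.ext (hc a a.2 b b.2) }
  have hA : ∀ a : N, a ^ r = 1 := fun a => Subtype.ext (by simpa using hexp a a.2)
  have hcore := core_commGroup (r := r) hA (MulAut.conjNormal (H := N)) ?_ ?_ N ?_ hss
  · obtain ⟨a, ha⟩ := hcore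
    refine ⟨(a : G), le_antisymm ?_ ?_⟩
    · intro b hb
      obtain ⟨j, hj⟩ := ha ⟨b, hb⟩
      have : b = (a : G) ^ j := by simpa using congrArg Subtype.val hj
      rw [this]
      exact Subgroup.pow_mem _ (Subgroup.mem_zpowers _) j
    · rw [Subgroup.zpowers_le]; exact a.2
  · -- line preservation from the hypothesis
    intro q hq hqr x hx a
    set w : N := MulAut.conjNormal x a / a with hw
    have hwG : (w : G) = x * a * x⁻¹ * (a : G)⁻¹ := by
      rw [hw, Subgroup.coe_div, MulAut.conjNormal_apply, div_eq_mul_inv]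
    by_contra hnot
    push Not at hnot
    have hnot' : x * (w : G) * x⁻¹ ∉ Subgroup.zpowers (w : G) := by
      intro hmem
      rw [← mem_powers_iff_mem_zpowers, Submonoid.mem_powers_iff] at hmem
      obtain ⟨j, hj⟩ := hmem
      apply hnot j
      apply Subtype.ext
      rw [MulAut.conjNormal_apply, Subgroup.coe_pow, hj]
    have hra : ∃ b : ℕ, orderOf (a : G) = r ^ b := by
      have h1 : orderOf (a : G) ∣ r ^ 1 := by
        rw [pow_one]; exact orderOf_dvd_of_pow_eq_one (hexp a a.2)
      obtain ⟨b, -, hb⟩ := (Nat.dvd_prime_pow hr.out).mp h1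
      exact ⟨b, hb⟩
    apply hH q r hq hr.out hqr x (a : G) hx hra
    set D := Subgroup.zpowers x ⊔ Subgroup.zpowers ((a : G) * x * (a : G)⁻¹) with hD
    have hxD : x ∈ D := (le_sup_left : Subgroup.zpowers x ≤ D) (Subgroup.mem_zpowers x)
    have hwD : (w : G) ∈ D := by
      have h1 : (a : G) * x * (a : G)⁻¹ ∈ D :=
        (le_sup_right : Subgroup.zpowers ((a : G) * x * (a : G)⁻¹) ≤ D) (Subgroup.mem_zpowers _)
      have h2 : (w : G) = x * ((a : G) * x * (a : G)⁻¹)⁻¹ := by rw [hwG]; group
      rw [h2]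
      exact D.mul_mem hxD (D.inv_mem h1)
    have hw'D : x * (w : G) * x⁻¹ ∈ D := D.mul_mem (D.mul_mem hxD hwD) (D.inv_mem hxD)
    set W₂ := Subgroup.zpowers (w : G) ⊔ Subgroup.zpowers (x * (w : G) * x⁻¹) with hW₂
    have hW₂D : W₂ ≤ D := sup_le (Subgroup.zpowers_le.mpr hwD) (Subgroup.zpowers_le.mpr hw'D)
    have hW₂N : W₂ ≤ N :=
      sup_le (Subgroup.zpowers_le.mpr w.2) (Subgroup.zpowers_le.mpr (hN.conj_mem _ w.2 x))
    have hpg : IsPGroup r W₂ := by
      intro g
      refine ⟨1, ?_⟩
      rw [pow_one]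
      exact Subtype.ext (by simpa using hexp g (hW₂N g.2))
    obtain ⟨i, hi⟩ := IsPGroup.iff_card.mp hpg
    have hw1 : (w : G) ≠ 1 := by
      intro h
      apply hnot'
      rw [h, mul_one, mul_inv_cancel]
      exact Subgroup.one_mem _
    have hordw : orderOf (w : G) = r :=
      orderOf_eq_prime (hexp w w.2) hw1
    have hlt : Subgroup.zpowers (w : G) < W₂ := by
      refine lt_of_le_of_ne le_sup_left ?_
      intro h
      apply hnot'
      rw [h]
      exact (le_sup_right : Subgroup.zpowers (x * (w : G) * x⁻¹) ≤ W₂) (Subgroup.mem_zpowers _)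
    have hcz : Nat.card (Subgroup.zpowers (w : G)) = r := by rw [Nat.card_zpowers, hordw]
    have hi2 : 2 ≤ i := by
      by_contra hlt2
      have hle : Nat.card W₂ ≤ Nat.card (Subgroup.zpowers (w : G)) := by
        rw [hi, hcz]
        have : i = 0 ∨ i = 1 := by omega
        rcases this with h | h
        · rw [h, pow_zero]; exact hr.out.one_lt.le
        · rw [h, pow_one]
      exact hlt.ne (Subgroup.eq_of_le_of_card_ge hlt.le hle)
    have h1 : r ^ 2 ∣ Nat.card W₂ := by rw [hi]; exact pow_dvd_pow r hi2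
    exact h1.trans (Subgroup.card_dvd_of_le hW₂D)
  · -- irreducibility
    intro M hM
    have hMn : (M.map N.subtype).Normal := by
      constructor
      rintro _ ⟨m, hm, rfl⟩ g
      refine ⟨MulAut.conjNormal g m, hM g m hm, ?_⟩
      rw [Subgroup.coe_subtype, MulAut.conjNormal_apply]
    have hle : M.map N.subtype ≤ N := by
      rintro _ ⟨m, -, rfl⟩
      exact m.2
    rcases hmin _ hMn hle with h | h
    · left
      exact (Subgroup.map_eq_bot_iff_of_injective M N.subtype_injective).mp h
    · right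
      rw [eq_top_iff]
      intro x _
      have : (x : G) ∈ M.map N.subtype := by rw [h]; exact x.2
      obtain ⟨m, hm, hmx⟩ := this
      have : m = x := Subtype.ext hmx
      rwa [← this]
  · intro k hk
    apply MulEquiv.ext
    intro a
    apply Subtype.ext
    rw [MulAut.conjNormal_apply, MulAut.one_apply, hc k hk a a.2, mul_inv_cancel_right]

theorem main_aux (n : ℕ) : ∀ (G : Type u) [Group G] [Finite G], Nat.card G = n → Hyp G →
    Cfsg.IsSupersolvable G := by
  induction n using Nat.strong_induction_on with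
  | _ n ih =>
  intro G _ _ hcard hH
  by_cases hnt : Nontrivial G
  swap
  · rw [not_nontrivial_iff_subsingleton] at hnt
    exact Cfsg.Agent.Helper3.isSupersolvable_of_subsingleton
  have hsub : ∀ H : Subgroup G, H ≠ ⊤ → Cfsg.IsSupersolvable H := by
    intro H hHt
    apply ih (Nat.card H) _ H rfl (hH.subgroup H)
    rw [← hcard]
    refine lt_of_le_of_ne (Subgroup.card_le_card_group H) ?_
    intro h
    exact hHt (Subgroup.eq_top_of_card_eq H h)
  have hquot : ∀ N : Subgroup G, ∀ _ : N.Normal, N ≠ ⊥ → Cfsg.IsSupersolvable (G ⧸ N) := by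
    intro N hN hNb
    apply ih (Nat.card (G ⧸ N)) _ (G ⧸ N) rfl
      (hH.of_surjective (QuotientGroup.mk' N) (QuotientGroup.mk'_surjective N))
    rw [← hcard]
    exact Cfsg.Agent.Helper3.card_quotient_lt N ((Subgroup.one_lt_card_iff_ne_bot N).mpr hNb)
  have hsolv : Group.IsSolvable G := isSolvable_of_proper hsub hquot
  obtain ⟨N, hNn, hNbot, hNmin⟩ := Cfsg.Agent.Helper3.exists_minimal_normal (G := G)
  have hc := Cfsg.Agent.Helper3.commute_of_minimal_normal N hNbot hNmin
  obtain ⟨r, d, hr, hd, hNcard, hexp⟩ :=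
    Cfsg.Agent.Helper3.card_eq_prime_pow_of_minimal_normal N hNbot hNmin hc
  have : Fact r.Prime := ⟨hr⟩
  obtain ⟨v, hv⟩ := cyclic_of_minimal hH N hc hexp hNmin (hquot N hNn hNbot)
  have hcyc : IsCyclic N := by
    rw [hv]; infer_instance
  exact Cfsg.Agent.Helper3.isSupersolvable_of_cyclic_normal_of_quotient N (hquot N hNn hNbot)

theorem main {G : Type u} [Group G] [Finite G] (hH : Hyp G) : Cfsg.IsSupersolvable G :=
  main_aux _ G rfl hH

end Cfsg.Agent.Helper15.PairSS
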