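import Mathlib
import Cfsg.Prelude.Def_Classical
import Cfsg.Agent.Lib.Helper15.Psl27c

set_option autoImplicit false

/-!
# An explicit copy of `PSL₂(7)` inside `PSU₃(3)` (helper15)
-/

namespace Cfsg.Agent.Helper15.Psl27

open Matrix

/-- a homomorphism from `SL₂(K)` with kernel between the centre and a proper subgroup has kernel
exactly the centre, when `PSL₂(K)` is simple. -/
lemma ker_eq_center {K : Type*} [Field K] {P : Type*} [Group P]
    (hs : IsSimpleGroup (Matrix.ProjectiveSpecialLinearGroup (Fin 2) K))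
    (ψ : Matrix.SpecialLinearGroup (Fin 2) K →* P)
    (h1 : Subgroup.center (Matrix.SpecialLinearGroup (Fin 2) K) ≤ ψ.ker)
    (h2 : ψ.ker ≠ ⊤) : ψ.ker = Subgroup.center (Matrix.SpecialLinearGroup (Fin 2) K) := by
  apply le_antisymm _ h1
  set Z := Subgroup.center (Matrix.SpecialLinearGroup (Fin 2) K)
  have hn : (ψ.ker.map (QuotientGroup.mk' Z)).Normal :=
    Subgroup.Normal.map inferInstance _ (QuotientGroup.mk'_surjective Z)
  rcases hn.eq_bot_or_eq_top with h | h
  · have := (Subgroup.map_eq_bot_iff _).mp h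
    rwa [QuotientGroup.ker_mk'] at this
  · exfalso
    apply h2
    rw [eq_top_iff]
    intro g _
    have hg : QuotientGroup.mk' Z g ∈ ψ.ker.map (QuotientGroup.mk' Z) := by rw [h]; trivial
    obtain ⟨n, hn, hng⟩ := hg
    have hz : n⁻¹ * g ∈ Z := by
      rw [← QuotientGroup.ker_mk' Z, MonoidHom.mem_ker, map_mul, map_inv, hng, inv_mul_cancel]
    have : n * (n⁻¹ * g) ∈ ψ.ker := mul_mem hn (h1 hz)
    rwa [mul_inv_cancel_left] at this

lemma neg_one_eq {K : Type*} [Field K] :
    (-1 : Matrix.SpecialLinearGroup (Fin 2) K)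
      = (StSL2.X 1 * StSL2.Y (-1) * StSL2.X 1) * (StSL2.X 1 * StSL2.Y (-1) * StSL2.X 1) := by
  apply Subtype.ext
  have h := StSL2.coe_WX (1 : K) one_ne_zero
  rw [inv_one] at h
  rw [Matrix.SpecialLinearGroup.coe_mul, h]
  ext i j
  fin_cases i <;> fin_cases j <;> simp [Matrix.mul_apply, Fin.sum_univ_two]

lemma center_cases {K : Type*} [Field K] (z : Matrix.SpecialLinearGroup (Fin 2) K)
    (hz : z ∈ Subgroup.center (Matrix.SpecialLinearGroup (Fin 2) K)) : z = 1 ∨ z = -1 := by
  rw [Matrix.SpecialLinearGroup.mem_center_iff] at hz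
  obtain ⟨r, hr, hrz⟩ := hz
  rw [Fintype.card_fin] at hr
  have hr' : r = 1 ∨ r = -1 := sq_eq_one_iff.mp hr
  rcases hr' with rfl | rfl
  · left
    apply Subtype.ext
    rw [← hrz]
    simp
  · right
    apply Subtype.ext
    rw [← hrz]
    ext i j
    fin_cases i <;> fin_cases j <;> simp

end Cfsg.Agent.Helper15.Psl27

namespace Cfsg.Agent.Helper15.Psl27

open Matrix

theorem main {F : Type*} [Field F] [Fintype F] (hF : Fintype.card F = 9)
    {K : Type*} [Field K] [Fintype K] (hK : Fintype.card K = 7) :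
    ∃ H : Subgroup (Cfsg.PSU 3 F 3),
      Nonempty (H ≃* Matrix.ProjectiveSpecialLinearGroup (Fin 2) K) := by
  obtain ⟨ρ, -⟩ := exists_ringHom hF
  let σ : K ≃+* ZMod 7 := (ZMod.ringEquivOfPrime K (by norm_num) hK).symm
  obtain ⟨φ, hφX, hφY⟩ := (SUD hF ρ σ).exists_hom
  have hgX : ∀ t, (SUD hF ρ σ).g true t = gs hF ρ true (σ t) := fun _ => rfl
  have hgY : ∀ t, (SUD hF ρ σ).g false t = gs hF ρ false (σ t) := fun _ => rfl
  let π := QuotientGroup.mk' (Subgroup.center (Cfsg.SU 3 F 3))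
  let ψ : Matrix.SpecialLinearGroup (Fin 2) K →* Cfsg.PSU 3 F 3 := π.comp φ
  have hs : IsSimpleGroup (Matrix.ProjectiveSpecialLinearGroup (Fin 2) K) :=
    Matrix.ProjectiveSpecialLinearGroup.rank_two_simple
      (by rw [Nat.card_eq_fintype_card, hK]; norm_num)
  have h1 : Subgroup.center (Matrix.SpecialLinearGroup (Fin 2) K) ≤ ψ.ker := by
    intro z hz
    rcases center_cases z hz with rfl | rfl
    · exact one_mem _
    · rw [MonoidHom.mem_ker]
      change π (φ (-1)) = 1
      rw [neg_one_eq, map_mul φ, map_mul φ, map_mul φ, hφX, hφY, hgX, hgY, map_one σ, map_neg σ,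
        map_one σ, gs_W_sq, map_one]
  have h2 : ψ.ker ≠ ⊤ := by
    intro h
    have hx : StSL2.X 1 ∈ ψ.ker := by rw [h]; trivial
    rw [MonoidHom.mem_ker] at hx
    change π (φ (StSL2.X 1)) = 1 at hx
    rw [QuotientGroup.mk'_apply, QuotientGroup.eq_one_iff, hφX, hgX, map_one σ] at hx
    have h3 := Subgroup.mem_center_iff.mp hx (gs hF ρ false 1)
    exact gs_not_comm hF ρ h3.symm
  have hk := ker_eq_center hs ψ h1 h2
  exact ⟨ψ.range, ⟨((QuotientGroup.quotientMulEquivOfEq hk.symm).trans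
    (QuotientGroup.quotientKerEquivRange ψ)).symm⟩⟩

end Cfsg.Agent.Helper15.Psl27
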