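import Mathlib
import Cfsg.Agent.Lib.Helper15.UIAut1

/-!
# Odd-order automorphisms of `2`-groups, part 2: the quaternion groups (helper15)
-/

set_option autoImplicit false

namespace Cfsg.Agent.Helper15.UIAut

open QuaternionGroup

theorem quaternion_nat_card (m : ℕ) [NeZero m] : Nat.card (QuaternionGroup m) = 4 * m := by
  rw [Nat.card_eq_fintype_card, QuaternionGroup.card]

theorem quaternion_isPGroup (n : ℕ) : IsPGroup 2 (QuaternionGroup (2 ^ n)) := by
  have : Nat.card (QuaternionGroup (2 ^ n)) = 2 ^ (n + 2) := by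
    rw [quaternion_nat_card]; ring
  exact IsPGroup.of_card this

theorem index_zpowers_a_one (m : ℕ) [NeZero m] :
    (Subgroup.zpowers (a 1 : QuaternionGroup m)).index = 2 := by
  have h1 := (Subgroup.zpowers (a 1 : QuaternionGroup m)).card_mul_index
  rw [Nat.card_zpowers, QuaternionGroup.orderOf_a_one, quaternion_nat_card] at h1
  have hm : 0 < m := Nat.pos_of_ne_zero (NeZero.ne m)
  have : 2 * m * (Subgroup.zpowers (a 1 : QuaternionGroup m)).index = 2 * m * 2 := by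
    rw [h1]; ring
  exact Nat.eq_of_mul_eq_mul_left (by positivity) this

/-- Generalized quaternion groups of order at least `16` have no nontrivial automorphism of odd
order. -/
theorem quaternion_aut_eq_one {n : ℕ} (hn : 2 ≤ n) (ψ : MulAut (QuaternionGroup (2 ^ n))) {k : ℕ}
    (hk : Odd k) (hψ : ψ ^ k = 1) : ψ = 1 := by
  apply eq_one_of_zpowers_index_two (quaternion_isPGroup n) ψ hk hψ (a 1)
    (index_zpowers_a_one (2 ^ n))
  have ho : orderOf (ψ (a 1)) = 2 * 2 ^ n := by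
    rw [MulEquiv.orderOf_eq, QuaternionGroup.orderOf_a_one]
  rcases h : ψ (a 1) with j | j
  · rw [Subgroup.mem_zpowers_iff]
    refine ⟨(j.val : ℤ), ?_⟩
    rw [zpow_natCast, QuaternionGroup.a_one_pow, ZMod.natCast_zmod_val]
  · exfalso
    rw [h, QuaternionGroup.orderOf_xa] at ho
    have : 2 ^ 2 ≤ 2 ^ n := Nat.pow_le_pow_right (by norm_num) hn
    omega

/-! ### The quaternion group of order `8` -/

theorem q8_pow_four : ∀ x : QuaternionGroup 2, x ^ 4 = 1 := by decide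

theorem q8_facts : ∀ x : QuaternionGroup 2, x ^ 2 ≠ 1 → ∀ y : QuaternionGroup 2, y ^ 2 ≠ 1 →
    y ≠ x → y ≠ x⁻¹ → y * x * y⁻¹ = x⁻¹ ∧ y ^ 2 = x ^ 2 ∧
      (∀ w : QuaternionGroup 2, w ^ 2 ≠ 1 →
        w = x ∨ w = x⁻¹ ∨ w = y ∨ w = y⁻¹ ∨ w = x * y ∨ w = (x * y)⁻¹) := by decide

theorem q8_sq_sq : ∀ x : QuaternionGroup 2, (x ^ 2) ^ 2 = 1 := by decide

theorem q8_inv_ne : ∀ x : QuaternionGroup 2, x ^ 2 ≠ 1 → x⁻¹ ≠ x := by decide

theorem q8_comm : ¬ ∀ x y : QuaternionGroup 2, x * y = y * x := by decide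

theorem q8_orderOf {x : QuaternionGroup 2} (hx : x ^ 2 ≠ 1) : orderOf x = 4 := by
  have h1 : orderOf x ∣ 2 ^ 2 := orderOf_dvd_of_pow_eq_one (q8_pow_four x)
  obtain ⟨i, hi, hxi⟩ := (Nat.dvd_prime_pow Nat.prime_two).mp h1
  interval_cases i
  · exfalso; apply hx; rw [pow_zero, orderOf_eq_one_iff] at hxi; rw [hxi]; simp
  · exfalso; apply hx; have := pow_orderOf_eq_one x; rw [hxi] at this; simpa using this
  · exact hxi

theorem q8_index_zpowers {x : QuaternionGroup 2} (hx : x ^ 2 ≠ 1) :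
    (Subgroup.zpowers x).index = 2 := by
  have h1 := (Subgroup.zpowers x).card_mul_index
  rw [Nat.card_zpowers, q8_orderOf hx, quaternion_nat_card] at h1
  omega

theorem q8_isPGroup : IsPGroup 2 (QuaternionGroup 2) := by
  have : Nat.card (QuaternionGroup 2) = 2 ^ 3 := by
    rw [quaternion_nat_card]; norm_num
  exact IsPGroup.of_card this

/-- a nontrivial automorphism of odd order of `Q₈` moves every cyclic subgroup of order `4` -/
theorem q8_aut_moves (ψ : MulAut (QuaternionGroup 2)) {k : ℕ} (hk : Odd k) (hψ : ψ ^ k = 1)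
    (hne : ψ ≠ 1) {x : QuaternionGroup 2} (hx : x ^ 2 ≠ 1) : ψ x ≠ x ∧ ψ x ≠ x⁻¹ := by
  have key : ψ x ∉ Subgroup.zpowers x := fun h =>
    hne (eq_one_of_zpowers_index_two q8_isPGroup ψ hk hψ x (q8_index_zpowers hx) h)
  constructor
  · intro h; apply key; rw [h]; exact Subgroup.mem_zpowers x
  · intro h; apply key; rw [h]; exact Subgroup.inv_mem _ (Subgroup.mem_zpowers x)

theorem q8_aut_sq_ne (ψ : MulAut (QuaternionGroup 2)) {x : QuaternionGroup 2} (hx : x ^ 2 ≠ 1) :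
    (ψ x) ^ 2 ≠ 1 := by
  intro h
  apply hx
  apply ψ.injective
  rw [map_pow, h, map_one]

/-- the structure of a nontrivial odd-order automorphism of `Q₈` -/
theorem q8_aut_structure (ψ : MulAut (QuaternionGroup 2)) {k : ℕ} (hk : Odd k) (hψ : ψ ^ k = 1)
    (hne : ψ ≠ 1) : 3 ∣ k ∧ ψ ^ 3 = 1 ∧
      ∀ x : QuaternionGroup 2, x ^ 2 ≠ 1 →
        (ψ (ψ x) = x * ψ x ∨ ψ (ψ x) = (x * ψ x)⁻¹) := by
  -- `ψ ^ 2 ≠ 1`
  obtain ⟨m, hm⟩ := hk
  have hne2 : ψ ^ 2 ≠ 1 := by
    intro h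
    apply hne
    have : ψ ^ (k + 1) = 1 := by
      rw [hm, show 2 * m + 1 + 1 = 2 * (m + 1) by ring, pow_mul, h, one_pow]
    rwa [pow_succ, hψ, one_mul] at this
  have hψ2 : (ψ ^ 2) ^ k = 1 := by rw [← pow_mul, mul_comm, pow_mul, hψ, one_pow]
  have hψ3 : (ψ ^ 3) ^ k = 1 := by rw [← pow_mul, mul_comm, pow_mul, hψ, one_pow]
  have hk' : Odd k := ⟨m, hm⟩
  have hstep : ∀ x : QuaternionGroup 2, x ^ 2 ≠ 1 →
      (ψ (ψ x) = x * ψ x ∨ ψ (ψ x) = (x * ψ x)⁻¹) := by
    intro x hx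
    have hy := q8_aut_sq_ne ψ hx
    have hw := q8_aut_sq_ne ψ hy
    obtain ⟨h1, h2⟩ := q8_aut_moves ψ hk' hψ hne hx
    obtain ⟨h3, h4⟩ := q8_aut_moves ψ hk' hψ hne hy
    obtain ⟨h5, h6⟩ := q8_aut_moves (ψ ^ 2) hk' hψ2 hne2 hx
    have h5' : ψ (ψ x) ≠ x := by simpa [pow_two, MulAut.mul_apply] using h5
    have h6' : ψ (ψ x) ≠ x⁻¹ := by simpa [pow_two, MulAut.mul_apply] using h6
    rcases (q8_facts x hx (ψ x) hy h1 h2).2.2 (ψ (ψ x)) hw with h | h | h | h | h | h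
    · exact absurd h h5'
    · exact absurd h h6'
    · exact absurd h h3
    · exact absurd h h4
    · exact Or.inl h
    · exact Or.inr h
  have h3 : ψ ^ 3 = 1 := by
    by_contra hne3
    have hx : (a 1 : QuaternionGroup 2) ^ 2 ≠ 1 := by decide
    set x : QuaternionGroup 2 := a 1 with hxdef
    have hy := q8_aut_sq_ne ψ hx
    have hw := q8_aut_sq_ne ψ hy
    have hv := q8_aut_sq_ne ψ hw
    obtain ⟨h1, h2⟩ := q8_aut_moves ψ hk' hψ hne hx
    obtain ⟨h7, h8⟩ := q8_aut_moves ψ hk' hψ hne hw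
    obtain ⟨h9, h10⟩ := q8_aut_moves (ψ ^ 3) hk' hψ3 hne3 hx
    have h9' : ψ (ψ (ψ x)) ≠ x := by
      simpa [pow_succ, MulAut.mul_apply] using h9
    have h10' : ψ (ψ (ψ x)) ≠ x⁻¹ := by
      simpa [pow_succ, MulAut.mul_apply] using h10
    -- `ψ w ∉ {y, y⁻¹}` by injectivity
    have h11 : ψ (ψ (ψ x)) ≠ ψ x := by
      intro h
      have := ψ.injective h
      exact (q8_aut_moves (ψ ^ 2) hk' hψ2 hne2 hx).1
        (by simpa [pow_two, MulAut.mul_apply] using this)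
    have h12 : ψ (ψ (ψ x)) ≠ (ψ x)⁻¹ := by
      intro h
      rw [← map_inv] at h
      have := ψ.injective h
      exact (q8_aut_moves (ψ ^ 2) hk' hψ2 hne2 hx).2
        (by simpa [pow_two, MulAut.mul_apply] using this)
    have hfacts := (q8_facts x hx (ψ x) hy h1 h2).2.2
    rcases hstep x hx with hc | hc
    · rcases hfacts (ψ (ψ (ψ x))) hv with h | h | h | h | h | h
      · exact h9' h
      · exact h10' h
      · exact h11 h
      · exact h12 h
      · rw [← hc] at h; exact h7 h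
      · rw [← hc] at h; exact h8 h
    · rcases hfacts (ψ (ψ (ψ x))) hv with h | h | h | h | h | h
      · exact h9' h
      · exact h10' h
      · exact h11 h
      · exact h12 h
      · have : ψ (ψ (ψ x)) = (ψ (ψ x))⁻¹ := by rw [h]; rw [hc, inv_inv]
        exact h8 this
      · rw [← hc] at h; exact h7 h
  refine ⟨?_, h3, hstep⟩
  have h4 : orderOf ψ ∣ 3 := orderOf_dvd_of_pow_eq_one h3
  have h5 : orderOf ψ = 3 := by
    rcases (Nat.dvd_prime Nat.prime_three).mp h4 with h | h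
    · exact absurd (orderOf_eq_one_iff.mp h) hne
    · exact h
  rw [← h5]
  exact orderOf_dvd_of_pow_eq_one (by rw [hm] at hψ; rw [hm]; exact hψ)

end Cfsg.Agent.Helper15.UIAut
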