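import Mathlib
import Cfsg.Agent.Lib.Helper15.UIAut2
import Cfsg.Agent.Lib.Helper16.UniqueInvolution

/-!
# Odd-order automorphisms of `2`-groups with at most one involution (helper15)

`main`: a nontrivial automorphism `φ` of odd order of a finite `2`-group with at most one
involution exists only for the quaternion group of order `8`; then `φ ^ 3 = 1`, `φ` moves every
cyclic subgroup of order `4`, and `φ (φ x) = (x * φ x)^{±1}`.
-/

set_option autoImplicit false

namespace Cfsg.Agent.Helper15.UIAut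

open QuaternionGroup

/-- the structure transported to any group isomorphic to `Q₈` -/
theorem structure_of_equiv {X : Type*} [Group X] (e : X ≃* QuaternionGroup 2) (φ : MulAut X)
    {k : ℕ} (hk : Odd k) (hφ : φ ^ k = 1) (hne : φ ≠ 1) :
    3 ∣ k ∧ φ ^ 3 = 1 ∧ ∀ x : X, x ^ 2 ≠ 1 →
      (φ x ≠ x ∧ φ x ≠ x⁻¹ ∧ (φ (φ x) = x * φ x ∨ φ (φ x) = (x * φ x)⁻¹)) := by
  set ψ : MulAut (QuaternionGroup 2) := MulAut.congr e φ with hψdef
  have hψ : ψ ^ k = 1 := by rw [hψdef, ← map_pow, hφ, map_one]
  have hψne : ψ ≠ 1 := by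
    intro h
    apply hne
    have : MulAut.congr e φ = MulAut.congr e 1 := by rw [map_one]; exact h
    exact (MulAut.congr e).injective this
  have happ : ∀ x : X, ψ (e x) = e (φ x) := by
    intro x
    simp [hψdef, MulAut.congr]
  obtain ⟨h3k, h3, hstep⟩ := q8_aut_structure ψ hk hψ hψne
  refine ⟨h3k, ?_, ?_⟩
  · have : MulAut.congr e (φ ^ 3) = MulAut.congr e 1 := by rw [map_pow, map_one]; exact h3
    exact (MulAut.congr e).injective this
  · intro x hx
    have hx' : (e x) ^ 2 ≠ 1 := by
      intro h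
      apply hx
      apply e.injective
      rw [map_pow, h, map_one]
    obtain ⟨h1, h2⟩ := q8_aut_moves ψ hk hψ hψne hx'
    refine ⟨?_, ?_, ?_⟩
    · intro h; apply h1; rw [happ, h]
    · intro h; apply h2; rw [happ, h, map_inv]
    · rcases hstep (e x) hx' with h | h
      · left
        apply e.injective
        rw [← happ, ← happ, h, happ, map_mul]
      · right
        apply e.injective
        rw [← happ, ← happ, h, happ, map_inv, map_mul]

/-- facts about `Q₈` transported along an isomorphism -/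
theorem facts_of_equiv {X : Type*} [Group X] (e : X ≃* QuaternionGroup 2) (x y : X)
    (hx : x ^ 2 ≠ 1) (hy : y ^ 2 ≠ 1) (h1 : y ≠ x) (h2 : y ≠ x⁻¹) :
    y * x * y⁻¹ = x⁻¹ ∧ y ^ 2 = x ^ 2 := by
  have hx' : (e x) ^ 2 ≠ 1 := by
    intro h; apply hx; apply e.injective; rw [map_pow, h, map_one]
  have hy' : (e y) ^ 2 ≠ 1 := by
    intro h; apply hy; apply e.injective; rw [map_pow, h, map_one]
  have h1' : e y ≠ e x := fun h => h1 (e.injective h)
  have h2' : e y ≠ (e x)⁻¹ := fun h => h2 (e.injective (by rw [h, map_inv]))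
  obtain ⟨h3, h4, -⟩ := q8_facts (e x) hx' (e y) hy' h1' h2'
  constructor
  · apply e.injective
    rw [map_mul, map_mul, map_inv, map_inv, h3]
  · apply e.injective
    rw [map_pow, map_pow, h4]

theorem pow_four_of_equiv {X : Type*} [Group X] (e : X ≃* QuaternionGroup 2) (x : X) :
    x ^ 4 = 1 := by
  apply e.injective
  rw [map_pow, map_one, q8_pow_four]

theorem orderOf_of_equiv {X : Type*} [Group X] (e : X ≃* QuaternionGroup 2) {x : X}
    (hx : x ^ 2 ≠ 1) : orderOf x = 4 := by
  have hx' : (e x) ^ 2 ≠ 1 := by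
    intro h; apply hx; apply e.injective; rw [map_pow, h, map_one]
  rw [← MulEquiv.orderOf_eq e x]
  exact q8_orderOf hx'

theorem exists_sq_ne_one_of_equiv {X : Type*} [Group X] (e : X ≃* QuaternionGroup 2) :
    ∃ x : X, x ^ 2 ≠ 1 := by
  refine ⟨e.symm (a 1), ?_⟩
  intro h
  have := congrArg e h
  rw [map_pow, MulEquiv.apply_symm_apply, map_one] at this
  revert this
  decide

/-- **Main theorem.** -/
theorem main {X : Type*} [Group X] [Finite X] (hX : IsPGroup 2 X)
    (hU : Cfsg.Agent.Helper16.UniqueOrderP 2 X) (φ : MulAut X) {k : ℕ} (hk : Odd k)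
    (hφ : φ ^ k = 1) (hne : φ ≠ 1) :
    Nonempty (X ≃* QuaternionGroup 2) ∧ 3 ∣ k ∧ φ ^ 3 = 1 ∧ ∀ x : X, x ^ 2 ≠ 1 →
      (φ x ≠ x ∧ φ x ≠ x⁻¹ ∧ (φ (φ x) = x * φ x ∨ φ (φ x) = (x * φ x)⁻¹)) := by
  rcases Cfsg.Agent.Helper16.cyclic_or_quaternion_of_uniqueOrderP_two hX hU with hc | ⟨n, ⟨e⟩⟩
  · exact absurd (eq_one_of_isCyclic hX φ hk hφ) hne
  · rcases Nat.lt_or_ge n 2 with hn | hn
    · interval_cases n
      · exfalso
        have e' : X ≃* QuaternionGroup 1 := e
        have hc1 : IsCyclic (QuaternionGroup 1) := QuaternionGroup.quaternionGroup_one_isCyclic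
        have hc : IsCyclic X := isCyclic_of_surjective e'.symm e'.symm.surjective
        exact hne (eq_one_of_isCyclic hX φ hk hφ)
      · have e' : X ≃* QuaternionGroup 2 := e
        exact ⟨⟨e'⟩, structure_of_equiv e' φ hk hφ hne⟩
    · exfalso
      apply hne
      have h1 : MulAut.congr e φ = 1 := by
        apply quaternion_aut_eq_one hn _ hk
        rw [← map_pow, hφ, map_one]
      have : MulAut.congr e φ = MulAut.congr e 1 := by rw [map_one]; exact h1
      exact (MulAut.congr e).injective this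

end Cfsg.Agent.Helper15.UIAut
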