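import Mathlib
import Cfsg.Agent.Lib.Helper15.ConjAut
import Cfsg.Agent.Lib.Helper15.CoprimeGen2
import Cfsg.Agent.Lib.Helper15.UIAut3

/-!
# Noncyclic abelian odd groups of automorphisms of a `2`-group fixing few involutions (helper15)

Ambient form: `W E : Subgroup G`, `W` a `2`-group normalized by the abelian `p`-group `E`, every
nontrivial `e ∈ E` centralizes at most one involution of `W`.
-/

set_option autoImplicit false

namespace Cfsg.Agent.Helper15.QE

open Cfsg.Agent.Helper15.ConjAut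

variable {G : Type*} [Group G]

/-- the ambient setting -/
structure Cfg (p : ℕ) (W E : Subgroup G) : Prop where
  hW : IsPGroup 2 W
  hE : IsPGroup p E
  hab : ∀ a ∈ E, ∀ b ∈ E, a * b = b * a
  hN : E ≤ Subgroup.normalizer (W : Set G)
  hfix : ∀ e ∈ E, e ≠ 1 → ∀ x ∈ W, ∀ y ∈ W, orderOf x = 2 → orderOf y = 2 →
    e * x = x * e → e * y = y * e → x = y

/-- the fixed points of `e` on `W` -/
def F (W : Subgroup G) (e : G) : Subgroup G := W ⊓ Subgroup.centralizer ({e} : Set G)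

theorem mem_F {W : Subgroup G} {e x : G} : x ∈ F W e ↔ x ∈ W ∧ e * x = x * e := by
  unfold F
  rw [Subgroup.mem_inf, Subgroup.mem_centralizer_singleton_iff]
  constructor
  · rintro ⟨h1, h2⟩; exact ⟨h1, h2.symm⟩
  · rintro ⟨h1, h2⟩; exact ⟨h1, h2.symm⟩

theorem F_le (W : Subgroup G) (e : G) : F W e ≤ W := inf_le_left

theorem conj_mem {E Y : Subgroup G} (hEY : E ≤ Subgroup.normalizer (Y : Set G)) {a y : G}
    (ha : a ∈ E) (hy : y ∈ Y) : a * y * a⁻¹ ∈ Y :=
  (Subgroup.mem_normalizer_iff.mp (hEY ha) y).mp hy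

theorem le_normalizer_of_conj {E Y : Subgroup G}
    (h : ∀ a ∈ E, ∀ y ∈ Y, a * y * a⁻¹ ∈ Y) : E ≤ Subgroup.normalizer (Y : Set G) :=
  Cfsg.Agent.Helper1.le_normalizer_of_forall_conj_mem h

/-- commuting with `e` is preserved by conjugation by something commuting with `e` -/
theorem conj_commute {a e y : G} (hae : a * e = e * a) (hey : e * y = y * e) :
    e * (a * y * a⁻¹) = (a * y * a⁻¹) * e := by
  have h1 : e * a⁻¹ = a⁻¹ * e := by
    calc e * a⁻¹ = a⁻¹ * (a * e) * a⁻¹ := by group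
      _ = a⁻¹ * (e * a) * a⁻¹ := by rw [hae]
      _ = a⁻¹ * e := by group
  calc e * (a * y * a⁻¹) = (e * a) * y * a⁻¹ := by group
    _ = (a * e) * y * a⁻¹ := by rw [hae]
    _ = a * (e * y) * a⁻¹ := by group
    _ = a * (y * e) * a⁻¹ := by rw [hey]
    _ = a * y * (e * a⁻¹) := by group
    _ = a * y * (a⁻¹ * e) := by rw [h1]
    _ = (a * y * a⁻¹) * e := by group

theorem normalizes_inf_centralizer {p : ℕ} {W E : Subgroup G} (h : Cfg p W E) {Y : Subgroup G}
    (hEY : E ≤ Subgroup.normalizer (Y : Set G)) {e : G} (he : e ∈ E) :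
    E ≤ Subgroup.normalizer ((Y ⊓ Subgroup.centralizer ({e} : Set G) : Subgroup G) : Set G) := by
  apply le_normalizer_of_conj
  intro a ha y hy
  obtain ⟨hy1, hy2⟩ := Subgroup.mem_inf.mp hy
  rw [Subgroup.mem_centralizer_singleton_iff] at hy2
  refine Subgroup.mem_inf.mpr ⟨conj_mem hEY ha hy1, ?_⟩
  rw [Subgroup.mem_centralizer_singleton_iff]
  exact (conj_commute (h.hab a ha e he) hy2.symm).symm

theorem normalizes_F {p : ℕ} {W E : Subgroup G} (h : Cfg p W E) {e : G} (he : e ∈ E) :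
    E ≤ Subgroup.normalizer ((F W e : Subgroup G) : Set G) :=
  normalizes_inf_centralizer h h.hN he

/-- a subgroup of `W` centralized by a nontrivial element of `E` has at most one involution -/
theorem uniqueOrderP {p : ℕ} {W E : Subgroup G} (h : Cfg p W E) {Y : Subgroup G} (hYW : Y ≤ W)
    {g : G} (hg : g ∈ E) (hg1 : g ≠ 1) (hgY : ∀ y ∈ Y, g * y = y * g) :
    Cfsg.Agent.Helper16.UniqueOrderP 2 ↥Y := by
  intro x y hx hy
  rw [← Subgroup.orderOf_coe] at hx hy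
  have := h.hfix g hg hg1 x (hYW x.2) y (hYW y.2) hx hy (hgY x x.2) (hgY y y.2)
  have hxy : x = y := Subtype.ext this
  rw [hxy]
  exact Subgroup.mem_zpowers y

/-- **Dichotomy.** An `E`-invariant subgroup of `W` centralized by a nontrivial element of `E`
and not centralized by `a ∈ E` is quaternion of order `8`, `p = 3`, and `a` acts on it as an
automorphism of order `3`. -/
theorem quat_of_moved [Finite G] {p : ℕ} [Fact p.Prime] (hp : p ≠ 2) {W E : Subgroup G}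
    (h : Cfg p W E) {Y : Subgroup G} (hYW : Y ≤ W)
    (hEY : E ≤ Subgroup.normalizer (Y : Set G)) {g : G} (hg : g ∈ E) (hg1 : g ≠ 1)
    (hgY : ∀ y ∈ Y, g * y = y * g) {a : G} (ha : a ∈ E) {y₀ : G} (hy₀ : y₀ ∈ Y)
    (hay : a * y₀ ≠ y₀ * a) :
    p = 3 ∧ Nonempty (↥Y ≃* QuaternionGroup 2) ∧
      (∀ y ∈ Y, y ^ 2 ≠ 1 → a * y * a⁻¹ ≠ y ∧ a * y * a⁻¹ ≠ y⁻¹ ∧
        (a * (a * y * a⁻¹) * a⁻¹ = y * (a * y * a⁻¹) ∨
          a * (a * y * a⁻¹) * a⁻¹ = (y * (a * y * a⁻¹))⁻¹)) ∧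
      (∀ y ∈ Y, a ^ 3 * y = y * a ^ 3) := by
  have hpp : p.Prime := Fact.out
  have hYp : IsPGroup 2 ↥Y := h.hW.to_le hYW
  have hU := uniqueOrderP h hYW hg hg1 hgY
  set φ : MulAut ↥Y := conjAut Y a (hEY ha) with hφ
  obtain ⟨k, hk⟩ := h.hE ⟨a, ha⟩
  have hak : a ^ (p ^ k) = 1 := by
    have := congrArg Subtype.val hk
    simpa using this
  have hφk : φ ^ (p ^ k) = 1 := conjAut_pow_eq_one Y a (hEY ha) hak
  have hodd : Odd (p ^ k) := (hpp.odd_of_ne_two hp).pow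
  have hφne : φ ≠ 1 := by
    intro h1
    apply hay
    have h2 := congrArg (fun f : MulAut ↥Y => ((f ⟨y₀, hy₀⟩ : ↥Y) : G)) h1
    simp only [hφ, conjAut_apply_coe, MulAut.one_apply] at h2
    calc a * y₀ = a * y₀ * a⁻¹ * a := by group
      _ = y₀ * a := by rw [h2]
  obtain ⟨hiso, h3k, hφ3, hmove⟩ := Cfsg.Agent.Helper15.UIAut.main hYp hU φ hodd hφk hφne
  refine ⟨?_, hiso, ?_, ?_⟩
  · have h1 : 3 ∣ p := Nat.Prime.dvd_of_dvd_pow Nat.prime_three h3k
    exact ((Nat.prime_dvd_prime_iff_eq Nat.prime_three hpp).mp h1).symm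
  · intro y hy hy2
    have hy2' : (⟨y, hy⟩ : ↥Y) ^ 2 ≠ 1 := by
      intro h1
      apply hy2
      have := congrArg Subtype.val h1
      simpa using this
    obtain ⟨h1, h2, h3⟩ := hmove ⟨y, hy⟩ hy2'
    refine ⟨?_, ?_, ?_⟩
    · intro h4
      apply h1
      apply Subtype.ext
      rw [hφ, conjAut_apply_coe]
      exact h4
    · intro h4
      apply h2
      apply Subtype.ext
      rw [hφ, conjAut_apply_coe, Subgroup.coe_inv]
      exact h4
    · rcases h3 with h3 | h3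
      · left
        have := congrArg Subtype.val h3
        simpa [hφ, conjAut_apply_coe] using this
      · right
        have := congrArg Subtype.val h3
        simpa [hφ, conjAut_apply_coe] using this
  · intro y hy
    have h1 := congrArg (fun f : MulAut ↥Y => ((f ⟨y, hy⟩ : ↥Y) : G)) hφ3
    simp only [hφ, conjAut_pow_apply_coe, MulAut.one_apply] at h1
    calc a ^ 3 * y = a ^ 3 * y * (a ^ 3)⁻¹ * a ^ 3 := by group
      _ = y * a ^ 3 := by rw [h1]

/-! ### Facts about `Q₈` -/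

set_option maxRecDepth 100000 in
theorem q8_list : ∀ x : QuaternionGroup 2, x ^ 2 ≠ 1 → ∀ y : QuaternionGroup 2, y ^ 2 ≠ 1 →
    y ≠ x → y ≠ x⁻¹ → ∀ w : QuaternionGroup 2,
      w = 1 ∨ w = x ^ 2 ∨ w = x ∨ w = x⁻¹ ∨ w = y ∨ w = y⁻¹ ∨ w = x * y ∨ w = (x * y)⁻¹ := by
  decide

theorem q8_ex2 : ∃ x y : QuaternionGroup 2, x ^ 2 ≠ 1 ∧ y ^ 2 ≠ 1 ∧ y ≠ x ∧ y ≠ x⁻¹ := by decide

/-- the facts about a subgroup isomorphic to `Q₈` -/
structure IsQ (Y : Subgroup G) : Prop where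
  card : Nat.card ↥Y = 8
  pow_four : ∀ y ∈ Y, y ^ 4 = 1
  ex : ∃ y ∈ Y, y ^ 2 ≠ 1
  ex2 : ∃ x ∈ Y, ∃ y ∈ Y, x ^ 2 ≠ 1 ∧ y ^ 2 ≠ 1 ∧ y ≠ x ∧ y ≠ x⁻¹
  rel : ∀ x ∈ Y, ∀ y ∈ Y, x ^ 2 ≠ 1 → y ^ 2 ≠ 1 → y ≠ x → y ≠ x⁻¹ →
    y * x * y⁻¹ = x⁻¹ ∧ y ^ 2 = x ^ 2
  list : ∀ x ∈ Y, ∀ y ∈ Y, x ^ 2 ≠ 1 → y ^ 2 ≠ 1 → y ≠ x → y ≠ x⁻¹ → ∀ w ∈ Y,
    w = 1 ∨ w = x ^ 2 ∨ w = x ∨ w = x⁻¹ ∨ w = y ∨ w = y⁻¹ ∨ w = x * y ∨ w = (x * y)⁻¹

theorem isQ_of_equiv {Y : Subgroup G} (e : ↥Y ≃* QuaternionGroup 2) : IsQ Y := by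
  have hsq : ∀ y : ↥Y, (y : G) ^ 2 ≠ 1 → y ^ 2 ≠ 1 := by
    intro y hy h1
    apply hy
    have := congrArg Subtype.val h1
    simpa using this
  have hsq' : ∀ y : ↥Y, y ^ 2 ≠ 1 → (y : G) ^ 2 ≠ 1 := by
    intro y hy h1
    apply hy
    apply Subtype.ext
    simpa using h1
  have hes : ∀ q : QuaternionGroup 2, q ^ 2 ≠ 1 → (e.symm q) ^ 2 ≠ 1 := by
    intro q hq h1
    apply hq
    have := congrArg e h1
    rwa [map_pow, MulEquiv.apply_symm_apply, map_one] at this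
  refine ⟨?_, ?_, ?_, ?_, ?_, ?_⟩
  · rw [Nat.card_congr e.toEquiv, Cfsg.Agent.Helper15.UIAut.quaternion_nat_card]
  · intro y hy
    have := Cfsg.Agent.Helper15.UIAut.pow_four_of_equiv e ⟨y, hy⟩
    have h2 := congrArg Subtype.val this
    simpa using h2
  · obtain ⟨y, hy⟩ := Cfsg.Agent.Helper15.UIAut.exists_sq_ne_one_of_equiv e
    refine ⟨y, y.2, ?_⟩
    intro h1
    apply hy
    apply Subtype.ext
    simpa using h1
  · obtain ⟨x, y, hx, hy, h1, h2⟩ := q8_ex2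
    refine ⟨e.symm x, (e.symm x).2, e.symm y, (e.symm y).2, hsq' _ (hes x hx), hsq' _ (hes y hy),
      ?_, ?_⟩
    · intro h3
      apply h1
      have : e.symm y = e.symm x := Subtype.ext h3
      exact e.symm.injective this
    · intro h3
      apply h2
      have : e.symm y = (e.symm x)⁻¹ := by
        apply Subtype.ext
        rw [Subgroup.coe_inv]
        exact h3
      rw [← map_inv] at this
      exact e.symm.injective this
  · intro x hx y hy hx2 hy2 h1 h2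
    have h3 := Cfsg.Agent.Helper15.UIAut.facts_of_equiv e ⟨x, hx⟩ ⟨y, hy⟩ (hsq ⟨x, hx⟩ hx2)
      (hsq ⟨y, hy⟩ hy2) (fun h => h1 (congrArg Subtype.val h))
      (fun h => h2 (by have := congrArg Subtype.val h; simpa using this))
    constructor
    · have := congrArg Subtype.val h3.1
      simpa using this
    · have := congrArg Subtype.val h3.2
      simpa using this
  · intro x hx y hy hx2 hy2 h1 h2 w hw
    have hex : (e ⟨x, hx⟩) ^ 2 ≠ 1 := by
      intro h; apply hsq ⟨x, hx⟩ hx2; apply e.injective; rw [map_pow, h, map_one]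
    have hey : (e ⟨y, hy⟩) ^ 2 ≠ 1 := by
      intro h; apply hsq ⟨y, hy⟩ hy2; apply e.injective; rw [map_pow, h, map_one]
    have h1' : e ⟨y, hy⟩ ≠ e ⟨x, hx⟩ := fun h => h1 (congrArg Subtype.val (e.injective h))
    have h2' : e ⟨y, hy⟩ ≠ (e ⟨x, hx⟩)⁻¹ := by
      intro h
      apply h2
      have h3 : (⟨y, hy⟩ : ↥Y) = (⟨x, hx⟩ : ↥Y)⁻¹ := e.injective (by rw [h, map_inv])
      have := congrArg Subtype.val h3
      simpa using this
    have key := q8_list (e ⟨x, hx⟩) hex (e ⟨y, hy⟩) hey h1' h2' (e ⟨w, hw⟩)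
    have tr : ∀ v : ↥Y, e ⟨w, hw⟩ = e v → w = (v : G) := by
      intro v hv
      exact congrArg Subtype.val (e.injective hv)
    rcases key with k | k | k | k | k | k | k | k
    · left
      have := tr 1 (by rw [k, map_one])
      simpa using this
    · right; left
      have := tr (⟨x, hx⟩ ^ 2) (by rw [k, map_pow])
      simpa using this
    · right; right; left
      exact tr ⟨x, hx⟩ k
    · right; right; right; left
      have := tr (⟨x, hx⟩⁻¹) (by rw [k, map_inv])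
      simpa using this
    · right; right; right; right; left
      exact tr ⟨y, hy⟩ k
    · right; right; right; right; right; left
      have := tr (⟨y, hy⟩⁻¹) (by rw [k, map_inv])
      simpa using this
    · right; right; right; right; right; right; left
      have := tr (⟨x, hx⟩ * ⟨y, hy⟩) (by rw [k, map_mul])
      simpa using this
    · right; right; right; right; right; right; right
      have := tr ((⟨x, hx⟩ * ⟨y, hy⟩)⁻¹) (by rw [k, map_inv, map_mul])
      simpa using this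

end Cfsg.Agent.Helper15.QE
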