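import Mathlib
import Cfsg.Agent.Lib.Helper15.QE1

/-!
# Part A: `p = 3` and `|E| = 9` (helper15)
-/

set_option autoImplicit false

namespace Cfsg.Agent.Helper15.QE

open Cfsg.Agent.Helper15.ConjAut

variable {G : Type*} [Group G]

/-- the elements of order dividing `p` in the abelian subgroup `E` -/
def omega (p : ℕ) (E : Subgroup G) (hab : ∀ a ∈ E, ∀ b ∈ E, a * b = b * a) : Subgroup G where
  carrier := {x | x ∈ E ∧ x ^ p = 1}
  one_mem' := ⟨E.one_mem, one_pow p⟩
  mul_mem' := by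
    rintro x y ⟨hx, hx2⟩ ⟨hy, hy2⟩
    refine ⟨E.mul_mem hx hy, ?_⟩
    have : Commute x y := hab x hx y hy
    rw [this.mul_pow, hx2, hy2, one_mul]
  inv_mem' := by
    rintro x ⟨hx, hx2⟩
    exact ⟨E.inv_mem hx, by rw [inv_pow, hx2, inv_one]⟩

theorem mem_omega {p : ℕ} {E : Subgroup G} {hab : ∀ a ∈ E, ∀ b ∈ E, a * b = b * a} {x : G} :
    x ∈ omega p E hab ↔ x ∈ E ∧ x ^ p = 1 := Iff.rfl

theorem omega_le {p : ℕ} {E : Subgroup G} (hab : ∀ a ∈ E, ∀ b ∈ E, a * b = b * a) :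
    omega p E hab ≤ E := fun _ hx => hx.1

theorem omega_elem {p : ℕ} {E : Subgroup G} (hab : ∀ a ∈ E, ∀ b ∈ E, a * b = b * a) :
    Cfsg.IsElementaryAbelian p (omega p E hab) := by
  refine ⟨⟨⟨fun a b => Subtype.ext (hab a a.2.1 b b.2.1)⟩⟩, ?_⟩
  intro a ha
  exact ha.2

/-- a noncyclic abelian `p`-group has at least `p ^ 2` elements of order dividing `p` -/
theorem sq_le_card_omega [Finite G] {p : ℕ} [hp : Fact p.Prime] {E : Subgroup G}
    (hE : IsPGroup p ↥E) (hab : ∀ a ∈ E, ∀ b ∈ E, a * b = b * a) (hnc : ¬ IsCyclic ↥E) :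
    p ^ 2 ≤ Nat.card ↥(omega p E hab) := by
  have hpp : p.Prime := Fact.out
  by_contra hlt
  push Not at hlt
  apply hnc
  have hΩp : IsPGroup p ↥(omega p E hab) := hE.to_le (omega_le hab)
  obtain ⟨m, hm⟩ := IsPGroup.iff_card.mp hΩp
  have hm2 : m < 2 := by
    rw [hm] at hlt
    exact (Nat.pow_lt_pow_iff_right hpp.one_lt).mp hlt
  apply Cfsg.Agent.Helper16.isCyclic_of_comm_of_uniqueOrderP hE
  · intro a b
    exact Subtype.ext (hab a a.2 b b.2)
  · intro x y hx hy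
    have hxΩ : (x : G) ∈ omega p E hab := by
      refine ⟨x.2, ?_⟩
      have : x ^ p = 1 := by rw [← hx]; exact pow_orderOf_eq_one x
      have h2 := congrArg Subtype.val this
      simpa using h2
    have hyΩ : (y : G) ∈ omega p E hab := by
      refine ⟨y.2, ?_⟩
      have : y ^ p = 1 := by rw [← hy]; exact pow_orderOf_eq_one y
      have h2 := congrArg Subtype.val this
      simpa using h2
    have hxo : orderOf (x : G) = p := by rw [Subgroup.orderOf_coe]; exact hx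
    have hle : Subgroup.zpowers (x : G) ≤ omega p E hab := by
      rw [Subgroup.zpowers_le]; exact hxΩ
    have hcz : Nat.card (Subgroup.zpowers (x : G)) = p := by rw [Nat.card_zpowers, hxo]
    have hcard : Nat.card ↥(omega p E hab) ≤ Nat.card (Subgroup.zpowers (x : G)) := by
      rw [hcz, hm]
      interval_cases m
      · simp only [pow_zero]; exact hpp.one_lt.le
      · simp
    have heq := Subgroup.eq_of_le_of_card_ge hle hcard
    have hy' : (y : G) ∈ Subgroup.zpowers (x : G) := by rw [heq]; exact hyΩ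
    rw [Subgroup.mem_zpowers_iff] at hy' ⊢
    obtain ⟨k, hk⟩ := hy'
    refine ⟨k, ?_⟩
    apply Subtype.ext
    rw [Subgroup.coe_zpow]
    exact hk

/-- `W` has order prime to `p` -/
theorem coprime_card {p : ℕ} [Fact p.Prime] (hp : p ≠ 2) {W : Subgroup G} [Finite ↥W]
    (hW : IsPGroup 2 ↥W) : (Nat.card ↥W).Coprime p := by
  have hpp : p.Prime := Fact.out
  obtain ⟨n, hn⟩ := IsPGroup.iff_card.mp hW
  rw [hn]
  apply Nat.Coprime.pow_left
  rw [Nat.coprime_primes Nat.prime_two hpp]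
  exact fun h => hp h.symm

/-- **L1.** -/
theorem L1 [Finite G] {p : ℕ} [Fact p.Prime] (hp : p ≠ 2) {W E : Subgroup G}
    (h : Cfg p W E) {g : G} (hg : g ∈ E) (hg1 : g ≠ 1) {a : G} (ha : a ∈ E) {y₀ : G}
    (hy₀ : y₀ ∈ F W g) (hay : a * y₀ ≠ y₀ * a) :
    p = 3 ∧ IsQ (F W g) ∧
      (∀ k ∈ E, k ≠ 1 → (∀ y ∈ F W g, k * y = y * k) → F W k = F W g) ∧
      Nat.card ↥E ≤ 3 * Nat.card ↥(E ⊓ Subgroup.centralizer ((F W g : Subgroup G) : Set G)
        : Subgroup G) := by
  have hgQ : ∀ y ∈ F W g, g * y = y * g := fun y hy => (mem_F.mp hy).2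
  have hEQ := normalizes_F h hg
  obtain ⟨hp3, ⟨ε⟩, hmove, -⟩ := quat_of_moved hp h (F_le W g) hEQ hg hg1 hgQ ha hy₀ hay
  have hQ : IsQ (F W g) := isQ_of_equiv ε
  refine ⟨hp3, hQ, ?_, ?_⟩
  · intro k hk hk1 hkQ
    have hle : F W g ≤ F W k := by
      intro y hy
      exact mem_F.mpr ⟨(mem_F.mp hy).1, hkQ y hy⟩
    have hkk : ∀ y ∈ F W k, k * y = y * k := fun y hy => (mem_F.mp hy).2
    obtain ⟨-, ⟨ε'⟩, -, -⟩ := quat_of_moved hp h (F_le W k) (normalizes_F h hk) hk hk1 hkk ha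
      (hle hy₀) hay
    have hQ' : IsQ (F W k) := isQ_of_equiv ε'
    exact (Subgroup.eq_of_le_of_card_ge hle (by rw [hQ.card, hQ'.card])).symm
  · obtain ⟨x, hx, hx2⟩ := hQ.ex
    obtain ⟨y, hy⟩ : ∃ y : G, y = a * x * a⁻¹ := ⟨_, rfl⟩
    have hyQ : y ∈ F W g := by rw [hy]; exact conj_mem hEQ ha hx
    obtain ⟨hyx, hyx', hstep⟩ := hmove x hx hx2
    rw [← hy] at hyx hyx' hstep
    have hconj_sq : ∀ t : G, (t * x * t⁻¹) ^ 2 ≠ 1 := by
      intro t h1
      apply hx2
      have : (t * x * t⁻¹) ^ 2 = t * x ^ 2 * t⁻¹ := by rw [conj_pow]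
      rw [this] at h1
      calc x ^ 2 = t⁻¹ * (t * x ^ 2 * t⁻¹) * t := by group
        _ = 1 := by rw [h1]; group
    have hy2 : y ^ 2 ≠ 1 := by rw [hy]; exact hconj_sq a
    -- elements of `E` fixing `⟨x⟩` centralize `Q`
    have hS : ∀ t ∈ E, (t * x * t⁻¹ = x ∨ t * x * t⁻¹ = x⁻¹) →
        t ∈ (E ⊓ Subgroup.centralizer ((F W g : Subgroup G) : Set G) : Subgroup G) := by
      intro t ht htx
      refine Subgroup.mem_inf.mpr ⟨ht, ?_⟩
      rw [Subgroup.mem_centralizer_iff]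
      intro v hv
      by_contra hne
      have hne' : t * v ≠ v * t := fun h1 => hne h1.symm
      obtain ⟨-, -, hmove', -⟩ := quat_of_moved hp h (F_le W g) hEQ hg hg1 hgQ ht hv hne'
      obtain ⟨h1, h2, -⟩ := hmove' x hx hx2
      rcases htx with h3 | h3
      · exact h1 h3
      · exact h2 h3
    have hcm : ∀ s t : G, s * t * x * (s * t)⁻¹ = s * (t * x * t⁻¹) * s⁻¹ := by
      intro s t; group
    have hai : a⁻¹ ∈ E := E.inv_mem ha
    -- the covering
    have hcover : ∀ e ∈ E, ∃ j : Fin 3, ∃ k : ↥(E ⊓ Subgroup.centralizer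
        ((F W g : Subgroup G) : Set G) : Subgroup G), e = a ^ (j : ℕ) * (k : G) := by
      intro e he
      have hw : e * x * e⁻¹ ∈ F W g := conj_mem hEQ he hx
      have hw2 : (e * x * e⁻¹) ^ 2 ≠ 1 := hconj_sq e
      rcases hQ.list x hx y hyQ hx2 hy2 hyx hyx' _ hw with k | k | k | k | k | k | k | k
      · exfalso
        apply hw2
        rw [k, one_pow]
      · exfalso
        apply hw2
        rw [k, ← pow_mul]
        exact hQ.pow_four x hx
      · exact ⟨0, ⟨e, hS e he (Or.inl k)⟩, by simp⟩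
      · exact ⟨0, ⟨e, hS e he (Or.inr k)⟩, by simp⟩
      · refine ⟨1, ⟨a⁻¹ * e, hS _ (E.mul_mem hai he) (Or.inl ?_)⟩, by simp⟩
        rw [hcm, k, hy]; group
      · refine ⟨1, ⟨a⁻¹ * e, hS _ (E.mul_mem hai he) (Or.inr ?_)⟩, by simp⟩
        rw [hcm, k, hy]; group
      · refine ⟨2, ⟨a⁻¹ * (a⁻¹ * e), hS _ (E.mul_mem hai (E.mul_mem hai he)) ?_⟩,
          by simp [pow_succ, mul_assoc]⟩
        rw [hcm, hcm, k]
        rcases hstep with h2 | h2
        · left
          rw [← h2, hy]; group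
        · right
          have h3 : x * y = (a * y * a⁻¹)⁻¹ := by rw [h2, inv_inv]
          rw [h3, hy]; group
      · refine ⟨2, ⟨a⁻¹ * (a⁻¹ * e), hS _ (E.mul_mem hai (E.mul_mem hai he)) ?_⟩,
          by simp [pow_succ, mul_assoc]⟩
        rw [hcm, hcm, k]
        rcases hstep with h2 | h2
        · right
          rw [← h2, hy]; group
        · left
          rw [← h2, hy]; group
    -- count
    set K : Subgroup G := E ⊓ Subgroup.centralizer ((F W g : Subgroup G) : Set G) with hK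
    set f : Fin 3 × ↥K → G := fun jk => a ^ (jk.1 : ℕ) * (jk.2 : G) with hf
    have hsub : (E : Set G) ⊆ Set.range f := by
      intro e he
      obtain ⟨j, k, hjk⟩ := hcover e he
      exact ⟨(j, k), hjk.symm⟩
    have h1 : Nat.card ↥E ≤ Nat.card (Set.range f) :=
      Nat.card_mono (Set.toFinite _) hsub
    have h2 : Nat.card (Set.range f) ≤ Nat.card (Fin 3 × ↥K) := Finite.card_range_le f
    have h3 : Nat.card (Fin 3 × ↥K) = 3 * Nat.card ↥K := by
      rw [Nat.card_prod, Nat.card_fin]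
    omega

end Cfsg.Agent.Helper15.QE
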