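import Mathlib
import Cfsg.Agent.Lib.Helper15.QE2

/-!
# Part A, main step: `p = 3`, `|E| = 9`, two quaternion fixed-point groups (helper15)
-/

set_option autoImplicit false

namespace Cfsg.Agent.Helper15.QE

open Cfsg.Agent.Helper15.ConjAut

variable {G : Type*} [Group G]

theorem partA [Finite G] {p : ℕ} [Fact p.Prime] (hp : p ≠ 2) {W E : Subgroup G}
    (h : Cfg p W E) (hnc : ¬ IsCyclic ↥E)
    (hfaith : ∀ e ∈ E, (∀ w ∈ W, e * w = w * e) → e = 1) :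
    p = 3 ∧ Nat.card ↥E = 9 ∧ (∀ e ∈ E, e ^ 3 = 1) ∧
      ∃ e₀ ∈ E, ∃ e₁ ∈ E, e₀ ≠ 1 ∧ e₁ ≠ 1 ∧ IsQ (F W e₀) ∧ IsQ (F W e₁) ∧ F W e₀ ≠ F W e₁ ∧
        (∃ a ∈ E, ∃ y ∈ F W e₀, a * y ≠ y * a) := by
  have hpp : p.Prime := Fact.out
  set Ω : Subgroup G := omega p E h.hab with hΩ
  have hΩel : Cfsg.IsElementaryAbelian p Ω := omega_elem h.hab
  have hΩ2 : p ^ 2 ≤ Nat.card ↥Ω := sq_le_card_omega h.hE h.hab hnc
  have hΩE : Ω ≤ E := omega_le h.hab
  have hcop : (Nat.card ↥W).Coprime p := coprime_card hp h.hW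
  have hΩN : Ω ≤ Subgroup.normalizer (W : Set G) := hΩE.trans h.hN
  -- first quaternion group
  have h2a : ∃ e₀ ∈ Ω, e₀ ≠ 1 ∧ ∃ a ∈ E, ∃ y ∈ F W e₀, a * y ≠ y * a := by
    by_contra hall
    push Not at hall
    have hWc : W ≤ Subgroup.centralizer (E : Set G) := by
      apply Cfsg.Agent.Helper15.le_of_forall_ne_one_inf_centralizer_le hΩel hΩ2 hcop hΩN
      intro u hu hu1 y hy
      rw [Subgroup.mem_centralizer_iff]
      intro a ha
      exact hall u hu hu1 a ha y hy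
    apply hnc
    have hbot : ∀ e : ↥E, e = 1 := by
      intro e
      apply Subtype.ext
      apply hfaith e e.2
      intro w hw
      exact (Subgroup.mem_centralizer_iff.mp (hWc hw)) e e.2
    haveI : Subsingleton ↥E := ⟨fun a b => by rw [hbot a, hbot b]⟩
    exact isCyclic_of_subsingleton
  obtain ⟨e₀, he₀Ω, he₀1, a, ha, y₀, hy₀, hay⟩ := h2a
  have he₀ : e₀ ∈ E := hΩE he₀Ω
  obtain ⟨hp3, hQ, hK, hcardK⟩ := L1 hp h he₀ he₀1 ha hy₀ hay
  -- second quaternion group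
  have h2b : ∃ e₁ ∈ Ω, e₁ ≠ 1 ∧ ¬ F W e₁ ≤ F W e₀ := by
    by_contra hall
    push Not at hall
    have hWQ : W ≤ F W e₀ := by
      apply Cfsg.Agent.Helper15.le_of_forall_ne_one_inf_centralizer_le hΩel hΩ2 hcop hΩN
      intro u hu hu1
      exact hall u hu hu1
    apply he₀1
    apply hfaith e₀ he₀
    intro w hw
    exact (mem_F.mp (hWQ hw)).2
  obtain ⟨e₁, he₁Ω, he₁1, hne⟩ := h2b
  have he₁ : e₁ ∈ E := hΩE he₁Ω
  have h2c : ∃ a' ∈ E, ∃ y₁ ∈ F W e₁, a' * y₁ ≠ y₁ * a' := by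
    by_contra hall
    push Not at hall
    apply hne
    intro y hy
    exact mem_F.mpr ⟨(mem_F.mp hy).1, hall e₀ he₀ y hy⟩
  obtain ⟨a', ha', y₁, hy₁, hay'⟩ := h2c
  obtain ⟨-, hQ', hK', hcardK'⟩ := L1 hp h he₁ he₁1 ha' hy₁ hay'
  set K : Subgroup G := E ⊓ Subgroup.centralizer ((F W e₀ : Subgroup G) : Set G) with hKdef
  set K' : Subgroup G := E ⊓ Subgroup.centralizer ((F W e₁ : Subgroup G) : Set G) with hK'def
  have hcent : ∀ {Q : Subgroup G} {k : G}, k ∈ Subgroup.centralizer (Q : Set G) →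
      ∀ y ∈ Q, k * y = y * k := by
    intro Q k hk y hy
    exact ((Subgroup.mem_centralizer_iff.mp hk) y hy).symm
  have hKK' : K ⊓ K' = ⊥ := by
    rw [eq_bot_iff]
    intro k hk
    rw [Subgroup.mem_bot]
    by_contra hk1
    obtain ⟨hk1', hk2'⟩ := Subgroup.mem_inf.mp hk
    obtain ⟨hkE, hkc⟩ := Subgroup.mem_inf.mp hk1'
    obtain ⟨-, hkc'⟩ := Subgroup.mem_inf.mp hk2'
    have e1 := hK k hkE hk1 (hcent hkc)
    have e2 := hK' k hkE hk1 (hcent hkc')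
    apply hne
    rw [← e2, e1]
  have hKE : K ≤ E := inf_le_left
  have hK'E : K' ≤ E := inf_le_left
  have hnorm : K ≤ Subgroup.normalizer (K' : Set G) := by
    apply le_normalizer_of_conj
    intro k hk y hy
    have : k * y * k⁻¹ = y := by
      have := h.hab k (hKE hk) y (hK'E hy)
      rw [this]; group
    rw [this]; exact hy
  have hcardsup := card_sup_of_le_normalizer K K' hnorm hKK'
  have hsuple : K ⊔ K' ≤ E := sup_le hKE hK'E
  have hle := Subgroup.card_le_of_le hsuple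
  rw [hcardsup] at hle
  have hKpos : 0 < Nat.card ↥K := Nat.card_pos
  have hK'3 : Nat.card ↥K' ≤ 3 := by
    by_contra hgt
    push Not at hgt
    have : 3 * Nat.card ↥K < Nat.card ↥K * Nat.card ↥K' := by nlinarith
    omega
  have hE9 : Nat.card ↥E ≤ 9 := by omega
  have hΩ9 : 9 ≤ Nat.card ↥Ω := by rw [hp3] at hΩ2; simpa using hΩ2
  have hΩle := Subgroup.card_le_of_le hΩE
  have hcard : Nat.card ↥E = 9 := by omega
  have hΩeq : Ω = E := Subgroup.eq_of_le_of_card_ge hΩE (by omega)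
  refine ⟨hp3, hcard, ?_, e₀, he₀, e₁, he₁, he₀1, he₁1, hQ, hQ', fun h1 => hne (by rw [h1]),
    a, ha, y₀, hy₀, hay⟩
  intro e he
  have : e ∈ Ω := by rw [hΩeq]; exact he
  have h3 := (mem_omega.mp this).2
  rw [hp3] at h3
  exact h3

end Cfsg.Agent.Helper15.QE
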