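import Mathlib
import Cfsg.Agent.Lib.Helper15.QE3

/-!
# Part B: the setting with `|E| = 9` and the central involution (helper15)
-/

set_option autoImplicit false

namespace Cfsg.Agent.Helper15.QE

open Cfsg.Agent.Helper15.ConjAut

variable {G : Type*} [Group G]

/-- the setting of part B -/
structure Cfg9 (W E : Subgroup G) (z : G) : Prop where
  base : Cfg 3 W E
  card : Nat.card ↥E = 9
  exp : ∀ e ∈ E, e ^ 3 = 1
  hzW : z ∈ W
  hz2 : orderOf z = 2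
  hzE : ∀ e ∈ E, e * z = z * e
  hC : ∀ w ∈ W, (∀ e ∈ E, e * w = w * e) → w ∈ Subgroup.zpowers z

theorem mem_zpowers_two {z : G} (hz2 : orderOf z = 2) {w : G} :
    w ∈ Subgroup.zpowers z ↔ w = 1 ∨ w = z := by
  constructor
  · intro hw
    obtain ⟨k, rfl⟩ := Subgroup.mem_zpowers_iff.mp hw
    rw [← zpow_mod_orderOf, hz2]
    rcases Int.emod_two_eq_zero_or_one k with h | h
    · left; rw [show (k % ((2 : ℕ) : ℤ)) = 0 from h, zpow_zero]
    · right; rw [show (k % ((2 : ℕ) : ℤ)) = 1 from h, zpow_one]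
  · rintro (rfl | rfl)
    · exact Subgroup.one_mem _
    · exact Subgroup.mem_zpowers _

theorem sq_eq_one_of_orderOf_two {z : G} (hz2 : orderOf z = 2) : z * z = 1 := by
  have := pow_orderOf_eq_one z
  rw [hz2, pow_two] at this
  exact this

theorem ne_one_of_orderOf_two {z : G} (hz2 : orderOf z = 2) : z ≠ 1 := by
  intro h
  rw [h, orderOf_one] at hz2
  omega

theorem card_zpowers_two {z : G} (hz2 : orderOf z = 2) : Nat.card (Subgroup.zpowers z) = 2 := by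
  rw [Nat.card_zpowers, hz2]

/-- elements of `⟨z⟩` commute with everything that commutes with `z` -/
theorem commute_of_mem_zpowers {z c t : G} (hc : c ∈ Subgroup.zpowers z) (ht : t * z = z * t) :
    t * c = c * t := by
  obtain ⟨k, rfl⟩ := Subgroup.mem_zpowers_iff.mp hc
  have : Commute t z := ht
  exact (this.zpow_right k).eq

section

variable {W E : Subgroup G} {z : G}

theorem Cfg9.elem (h : Cfg9 W E z) : Cfsg.IsElementaryAbelian 3 E :=
  ⟨⟨⟨fun a b => Subtype.ext (h.base.hab a a.2 b b.2)⟩⟩, h.exp⟩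

theorem Cfg9.sq_le (h : Cfg9 W E z) : 3 ^ 2 ≤ Nat.card ↥E := by rw [h.card]; norm_num

theorem Cfg9.coprime [Finite G] (h : Cfg9 W E z) {Y : Subgroup G} (hYW : Y ≤ W) :
    (Nat.card ↥Y).Coprime 3 := by
  haveI : Fact (Nat.Prime 3) := ⟨Nat.prime_three⟩
  exact coprime_card (by norm_num) (h.base.hW.to_le hYW)

/-- **B1.** the only involution of `W` centralized by a nontrivial element of `E` is `z` -/
theorem Cfg9.invol_eq (h : Cfg9 W E z) {t g : G} (ht : t ∈ W) (ht2 : orderOf t = 2)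
    (hg : g ∈ E) (hg1 : g ≠ 1) (hgt : g * t = t * g) : t = z :=
  h.base.hfix g hg hg1 t ht z h.hzW ht2 h.hz2 hgt (h.hzE g hg)

/-- **B2.** -/
theorem Cfg9.z_mem [Finite G] (h : Cfg9 W E z) {Y : Subgroup G} (hYW : Y ≤ W) (hY : Y ≠ ⊥)
    {g : G} (hg : g ∈ E) (hg1 : g ≠ 1) (hgY : ∀ y ∈ Y, g * y = y * g) : z ∈ Y := by
  haveI : Fact (Nat.Prime 2) := ⟨Nat.prime_two⟩
  have hYp : IsPGroup 2 ↥Y := h.base.hW.to_le hYW
  obtain ⟨n, hn⟩ := IsPGroup.iff_card.mp hYp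
  have hn0 : n ≠ 0 := by
    intro h0
    rw [h0, pow_zero] at hn
    exact hY (Subgroup.card_eq_one.mp hn)
  have hdvd : 2 ∣ Nat.card ↥Y := by rw [hn]; exact dvd_pow_self 2 hn0
  obtain ⟨t, ht⟩ := exists_prime_orderOf_dvd_card' 2 hdvd
  have ht' : orderOf (t : G) = 2 := by rw [Subgroup.orderOf_coe]; exact ht
  have := h.invol_eq (hYW t.2) ht' hg hg1 (hgY t t.2)
  rw [← this]
  exact t.2

/-- **B3.** `z` is central in every `F W g` -/
theorem Cfg9.z_comm (h : Cfg9 W E z) {g : G} (hg : g ∈ E) (hg1 : g ≠ 1) {y : G}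
    (hy : y ∈ F W g) : y * z = z * y := by
  obtain ⟨hyW, hgy⟩ := mem_F.mp hy
  have ht : y * z * y⁻¹ ∈ W := W.mul_mem (W.mul_mem hyW h.hzW) (W.inv_mem hyW)
  have ht2 : orderOf (y * z * y⁻¹) = 2 := by
    have := (MulAut.conj y).orderOf_eq z
    rw [MulAut.conj_apply] at this
    rw [this, h.hz2]
  have hgt : g * (y * z * y⁻¹) = (y * z * y⁻¹) * g := conj_commute hgy.symm (h.hzE g hg)
  have := h.invol_eq ht ht2 hg hg1 hgt
  calc y * z = y * z * y⁻¹ * y := by group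
    _ = z * y := by rw [this]

/-- squares of elements of order `4` are `z` -/
theorem Cfg9.sq_eq (h : Cfg9 W E z) {g : G} (hg : g ∈ E) (hg1 : g ≠ 1) {x : G}
    (hx : x ∈ F W g) (hx4 : x ^ 4 = 1) (hx2 : x ^ 2 ≠ 1) : x ^ 2 = z := by
  haveI : Fact (Nat.Prime 2) := ⟨Nat.prime_two⟩
  obtain ⟨hxW, hgx⟩ := mem_F.mp hx
  have h1 : orderOf (x ^ 2) = 2 := by
    apply orderOf_eq_prime _ hx2
    rw [← pow_mul]; exact hx4
  have hc : Commute g x := hgx
  exact h.invol_eq (W.pow_mem hxW 2) h1 hg hg1 (hc.pow_right 2).eq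

/-- **B4.** -/
theorem Cfg9.dich [Finite G] (h : Cfg9 W E z) {Y : Subgroup G} (hYW : Y ≤ W)
    (hEY : E ≤ Subgroup.normalizer (Y : Set G)) {g : G} (hg : g ∈ E) (hg1 : g ≠ 1)
    (hgY : ∀ y ∈ Y, g * y = y * g) :
    Y ≤ Subgroup.zpowers z ∨
      (IsQ Y ∧ Y = F W g ∧ ∃ a ∈ E, ∃ y₀ ∈ Y, a * y₀ ≠ y₀ * a) := by
  haveI : Fact (Nat.Prime 3) := ⟨Nat.prime_three⟩
  by_cases hc : ∀ a ∈ E, ∀ y ∈ Y, a * y = y * a
  · left
    intro y hy
    exact h.hC y (hYW hy) (fun e he => hc e he y hy)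
  · right
    push Not at hc
    obtain ⟨a, ha, y₀, hy₀, hay⟩ := hc
    obtain ⟨-, ⟨ε⟩, -, -⟩ := quat_of_moved (by norm_num) h.base hYW hEY hg hg1 hgY ha hy₀ hay
    have hle : Y ≤ F W g := fun y hy => mem_F.mpr ⟨hYW hy, hgY y hy⟩
    have hgF : ∀ y ∈ F W g, g * y = y * g := fun y hy => (mem_F.mp hy).2
    obtain ⟨-, ⟨ε'⟩, -, -⟩ := quat_of_moved (by norm_num) h.base (F_le W g)
      (normalizes_F h.base hg) hg hg1 hgF ha (hle hy₀) hay
    have hQ := isQ_of_equiv ε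
    have hQ' := isQ_of_equiv ε'
    refine ⟨hQ, ?_, a, ha, y₀, hy₀, hay⟩
    exact Subgroup.eq_of_le_of_card_ge hle (by rw [hQ.card, hQ'.card])

end

/-- a quaternion subgroup is not abelian -/
theorem IsQ.not_comm {Y : Subgroup G} (hQ : IsQ Y) : ∃ u ∈ Y, ∃ v ∈ Y, u * v ≠ v * u := by
  obtain ⟨x, hx, y, hy, hx2, hy2, hyx, hyx'⟩ := hQ.ex2
  refine ⟨y, hy, x, hx, ?_⟩
  intro hc
  have h1 := (hQ.rel x hx y hy hx2 hy2 hyx hyx').1
  apply hx2
  have h2 : y * x * y⁻¹ = x := by rw [hc]; group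
  rw [h2] at h1
  calc x ^ 2 = x * x := pow_two x
    _ = x * x⁻¹ := by rw [← h1]
    _ = 1 := mul_inv_cancel x

end Cfsg.Agent.Helper15.QE
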