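import Mathlib
import Cfsg.Agent.Lib.Helper15.QE4

/-!
# Part B: invariant abelian subgroups, the second centre (helper15)
-/

set_option autoImplicit false

namespace Cfsg.Agent.Helper15.QE

open Cfsg.Agent.Helper15.ConjAut

variable {G : Type*} [Group G]

/-- second centre of a nonabelian finite `p`-group -/
theorem exists_second_center {p : ℕ} [Fact p.Prime] {P : Type*} [Group P] [Finite P]
    (hP : IsPGroup p P) (hna : ∃ a b : P, a * b ≠ b * a) :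
    ∃ u : P, u ∉ Subgroup.center P ∧ ∀ x : P, u * x * u⁻¹ * x⁻¹ ∈ Subgroup.center P := by
  have hQp : IsPGroup p (P ⧸ Subgroup.center P) := hP.to_quotient _
  haveI : Nontrivial (P ⧸ Subgroup.center P) := by
    by_contra hnt
    rw [not_nontrivial_iff_subsingleton] at hnt
    have htop := QuotientGroup.subgroup_eq_top_of_subsingleton (Subgroup.center P) hnt
    obtain ⟨a, b, hab⟩ := hna
    apply hab
    have ha : a ∈ Subgroup.center P := by rw [htop]; trivial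
    exact ((Subgroup.mem_center_iff.mp ha) b).symm
  haveI := hQp.center_nontrivial
  obtain ⟨c, hc⟩ := exists_ne (1 : Subgroup.center (P ⧸ Subgroup.center P))
  obtain ⟨u, hu⟩ := QuotientGroup.mk_surjective (c : P ⧸ Subgroup.center P)
  refine ⟨u, ?_, ?_⟩
  · intro huZ
    apply hc
    apply Subtype.ext
    rw [← hu]
    exact (QuotientGroup.eq_one_iff u).mpr huZ
  · intro x
    rw [← QuotientGroup.eq_one_iff]
    have h1 := (Subgroup.mem_center_iff.mp c.2) (x : P ⧸ Subgroup.center P)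
    rw [← hu] at h1
    rw [QuotientGroup.mk_mul, QuotientGroup.mk_mul, QuotientGroup.mk_mul, QuotientGroup.mk_inv,
      QuotientGroup.mk_inv, ← h1]
    group

section

variable {W E : Subgroup G} {z : G}

/-- `E` normalizes the centralizer of an invariant subgroup -/
theorem normalizes_centralizer {X : Subgroup G} (hEX : E ≤ Subgroup.normalizer (X : Set G)) :
    E ≤ Subgroup.normalizer ((Subgroup.centralizer (X : Set G) : Subgroup G) : Set G) := by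
  apply le_normalizer_of_conj
  intro a ha c hc
  rw [Subgroup.mem_centralizer_iff] at hc ⊢
  intro x hx
  have hx' : a⁻¹ * x * a⁻¹⁻¹ ∈ X := conj_mem hEX (E.inv_mem ha) hx
  have h1 := hc _ hx'
  calc x * (a * c * a⁻¹) = a * (a⁻¹ * x * a⁻¹⁻¹ * c) * a⁻¹ := by group
    _ = a * (c * (a⁻¹ * x * a⁻¹⁻¹)) * a⁻¹ := by rw [h1]
    _ = a * c * a⁻¹ * x := by group

theorem normalizes_inf {X Y : Subgroup G} (hEX : E ≤ Subgroup.normalizer (X : Set G))
    (hEY : E ≤ Subgroup.normalizer (Y : Set G)) :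
    E ≤ Subgroup.normalizer ((X ⊓ Y : Subgroup G) : Set G) := by
  apply le_normalizer_of_conj
  intro a ha c hc
  obtain ⟨h1, h2⟩ := Subgroup.mem_inf.mp hc
  exact Subgroup.mem_inf.mpr ⟨conj_mem hEX ha h1, conj_mem hEY ha h2⟩

/-- **B5'.** invariant abelian subgroups lie in `⟨z⟩` -/
theorem Cfg9.abelian_le [Finite G] (h : Cfg9 W E z) {Y : Subgroup G} (hYW : Y ≤ W)
    (hEY : E ≤ Subgroup.normalizer (Y : Set G)) (hab : ∀ u ∈ Y, ∀ v ∈ Y, u * v = v * u) :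
    Y ≤ Subgroup.zpowers z := by
  haveI : Fact (Nat.Prime 3) := ⟨Nat.prime_three⟩
  apply Cfsg.Agent.Helper15.le_of_forall_ne_one_inf_centralizer_le h.elem h.sq_le
    (h.coprime hYW) hEY
  intro u hu hu1
  have hY'W : Y ⊓ Subgroup.centralizer ({u} : Set G) ≤ W := inf_le_left.trans hYW
  have hEY' := normalizes_inf_centralizer h.base hEY hu
  have huY' : ∀ y ∈ Y ⊓ Subgroup.centralizer ({u} : Set G), u * y = y * u := by
    intro y hy
    have := (Subgroup.mem_inf.mp hy).2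
    rw [Subgroup.mem_centralizer_singleton_iff] at this
    exact this.symm
  rcases h.dich hY'W hEY' hu hu1 huY' with h1 | ⟨hQ, -, -⟩
  · exact h1
  · exfalso
    obtain ⟨a, ha, b, hb, hne⟩ := hQ.not_comm
    exact hne (hab a (Subgroup.mem_inf.mp ha).1 b (Subgroup.mem_inf.mp hb).1)

/-- **B5.** the centre of an invariant subgroup lies in `⟨z⟩` -/
theorem Cfg9.center_le [Finite G] (h : Cfg9 W E z) {X : Subgroup G} (hXW : X ≤ W)
    (hEX : E ≤ Subgroup.normalizer (X : Set G)) :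
    X ⊓ Subgroup.centralizer (X : Set G) ≤ Subgroup.zpowers z := by
  apply h.abelian_le (inf_le_left.trans hXW) (normalizes_inf hEX (normalizes_centralizer hEX))
  intro u hu v hv
  have h1 := (Subgroup.mem_inf.mp hv).2
  rw [Subgroup.mem_centralizer_iff] at h1
  exact h1 u (Subgroup.mem_inf.mp hu).1

/-- **B6.** `z` is a central element of every nontrivial invariant subgroup -/
theorem Cfg9.z_central [Finite G] (h : Cfg9 W E z) {X : Subgroup G} (hXW : X ≤ W)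
    (hEX : E ≤ Subgroup.normalizer (X : Set G)) (hX : X ≠ ⊥) :
    z ∈ X ∧ ∀ x ∈ X, x * z = z * x := by
  haveI : Fact (Nat.Prime 2) := ⟨Nat.prime_two⟩
  have hXp : IsPGroup 2 ↥X := h.base.hW.to_le hXW
  haveI : Nontrivial ↥X := by
    rw [← Subgroup.nontrivial_iff_ne_bot] at hX
    exact hX
  haveI := hXp.center_nontrivial
  obtain ⟨c, hc⟩ := exists_ne (1 : Subgroup.center ↥X)
  have hcZ : ((c : ↥X) : G) ∈ X ⊓ Subgroup.centralizer (X : Set G) := by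
    refine Subgroup.mem_inf.mpr ⟨(c : ↥X).2, ?_⟩
    rw [Subgroup.mem_centralizer_iff]
    intro x hx
    have := (Subgroup.mem_center_iff.mp c.2) ⟨x, hx⟩
    exact congrArg Subtype.val this
  have hcz := h.center_le hXW hEX hcZ
  rw [mem_zpowers_two h.hz2] at hcz
  have hcz' : ((c : ↥X) : G) = z := by
    rcases hcz with h1 | h1
    · exfalso
      apply hc
      apply Subtype.ext
      apply Subtype.ext
      exact h1
    · exact h1
  rw [← hcz']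
  refine ⟨(c : ↥X).2, ?_⟩
  intro x hx
  have := (Subgroup.mem_inf.mp hcZ).2
  rw [Subgroup.mem_centralizer_iff] at this
  exact this x hx

/-- **B7.** -/
theorem Cfg9.exists_second [Finite G] (h : Cfg9 W E z) {X : Subgroup G} (hXW : X ≤ W)
    (hEX : E ≤ Subgroup.normalizer (X : Set G)) (hna : ∃ a ∈ X, ∃ b ∈ X, a * b ≠ b * a) :
    ∃ u ∈ X, (∃ x ∈ X, u * x ≠ x * u) ∧ ∀ x ∈ X, u * x * u⁻¹ * x⁻¹ ∈ Subgroup.zpowers z := by
  haveI : Fact (Nat.Prime 2) := ⟨Nat.prime_two⟩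
  have hXp : IsPGroup 2 ↥X := h.base.hW.to_le hXW
  obtain ⟨a, ha, b, hb, hab⟩ := hna
  have hna' : ∃ a b : ↥X, a * b ≠ b * a :=
    ⟨⟨a, ha⟩, ⟨b, hb⟩, fun h1 => hab (congrArg Subtype.val h1)⟩
  obtain ⟨u, hu1, hu2⟩ := exists_second_center hXp hna'
  refine ⟨u, u.2, ?_, ?_⟩
  · by_contra hall
    push Not at hall
    apply hu1
    rw [Subgroup.mem_center_iff]
    intro x
    apply Subtype.ext
    exact (hall x x.2).symm
  · intro x hx
    apply h.center_le hXW hEX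
    have h1 := hu2 ⟨x, hx⟩
    refine Subgroup.mem_inf.mpr ⟨(u * ⟨x, hx⟩ * u⁻¹ * (⟨x, hx⟩ : ↥X)⁻¹ : ↥X).2, ?_⟩
    rw [Subgroup.mem_centralizer_iff]
    intro y hy
    have := (Subgroup.mem_center_iff.mp h1) ⟨y, hy⟩
    exact congrArg Subtype.val this

end

/-- the elements of `X` centralizing `X` modulo `⟨z⟩` -/
def Usub (X : Subgroup G) (z : G) (hzc : ∀ x ∈ X, x * z = z * x) : Subgroup G where
  carrier := {u | u ∈ X ∧ ∀ x ∈ X, u * x * u⁻¹ * x⁻¹ ∈ Subgroup.zpowers z}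
  one_mem' := by
    refine ⟨X.one_mem, ?_⟩
    intro x _
    have : (1 : G) * x * 1⁻¹ * x⁻¹ = 1 := by group
    rw [this]
    exact Subgroup.one_mem _
  mul_mem' := by
    rintro u v ⟨hu, hu2⟩ ⟨hv, hv2⟩
    refine ⟨X.mul_mem hu hv, ?_⟩
    intro x hx
    have h1 := hv2 x hx
    have h2 := commute_of_mem_zpowers h1 (hzc u hu)
    have : u * v * x * (u * v)⁻¹ * x⁻¹ = (v * x * v⁻¹ * x⁻¹) * (u * x * u⁻¹ * x⁻¹) := by
      calc u * v * x * (u * v)⁻¹ * x⁻¹ = (u * (v * x * v⁻¹ * x⁻¹)) * x * u⁻¹ * x⁻¹ := by group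
        _ = ((v * x * v⁻¹ * x⁻¹) * u) * x * u⁻¹ * x⁻¹ := by rw [h2]
        _ = (v * x * v⁻¹ * x⁻¹) * (u * x * u⁻¹ * x⁻¹) := by group
    rw [this]
    exact Subgroup.mul_mem _ h1 (hu2 x hx)
  inv_mem' := by
    rintro u ⟨hu, hu2⟩
    refine ⟨X.inv_mem hu, ?_⟩
    intro x hx
    have h1 := hu2 x hx
    have h2 := commute_of_mem_zpowers h1 (hzc u hu)
    have : u⁻¹ * x * u⁻¹⁻¹ * x⁻¹ = (u * x * u⁻¹ * x⁻¹)⁻¹ := by
      calc u⁻¹ * x * u⁻¹⁻¹ * x⁻¹ = u⁻¹ * (u * x * u⁻¹ * x⁻¹)⁻¹ * u := by group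
        _ = u⁻¹ * ((u * x * u⁻¹ * x⁻¹)⁻¹ * u) := by group
        _ = u⁻¹ * (u * (u * x * u⁻¹ * x⁻¹)⁻¹) := by
          have h3 : Commute u (u * x * u⁻¹ * x⁻¹) := h2
          rw [h3.inv_right.eq]
        _ = (u * x * u⁻¹ * x⁻¹)⁻¹ := by group
    rw [this]
    exact Subgroup.inv_mem _ h1

theorem mem_Usub {X : Subgroup G} {z : G} {hzc : ∀ x ∈ X, x * z = z * x} {u : G} :
    u ∈ Usub X z hzc ↔ u ∈ X ∧ ∀ x ∈ X, u * x * u⁻¹ * x⁻¹ ∈ Subgroup.zpowers z := Iff.rfl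

theorem Usub_le {X : Subgroup G} {z : G} (hzc : ∀ x ∈ X, x * z = z * x) : Usub X z hzc ≤ X :=
  fun _ hu => hu.1

theorem normalizes_Usub {E X : Subgroup G} {z : G} (hzc : ∀ x ∈ X, x * z = z * x)
    (hEX : E ≤ Subgroup.normalizer (X : Set G)) (hzE : ∀ e ∈ E, e * z = z * e) :
    E ≤ Subgroup.normalizer ((Usub X z hzc : Subgroup G) : Set G) := by
  apply le_normalizer_of_conj
  intro a ha u hu
  obtain ⟨hu1, hu2⟩ := hu
  refine ⟨conj_mem hEX ha hu1, ?_⟩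
  intro x hx
  have hx' : a⁻¹ * x * a⁻¹⁻¹ ∈ X := conj_mem hEX (E.inv_mem ha) hx
  have h1 := hu2 _ hx'
  have h2 := commute_of_mem_zpowers h1 (hzE a ha)
  have : a * u * a⁻¹ * x * (a * u * a⁻¹)⁻¹ * x⁻¹ =
      u * (a⁻¹ * x * a⁻¹⁻¹) * u⁻¹ * (a⁻¹ * x * a⁻¹⁻¹)⁻¹ := by
    calc a * u * a⁻¹ * x * (a * u * a⁻¹)⁻¹ * x⁻¹
        = a * (u * (a⁻¹ * x * a⁻¹⁻¹) * u⁻¹ * (a⁻¹ * x * a⁻¹⁻¹)⁻¹) * a⁻¹ := by group
      _ = (u * (a⁻¹ * x * a⁻¹⁻¹) * u⁻¹ * (a⁻¹ * x * a⁻¹⁻¹)⁻¹) * a * a⁻¹ := by rw [h2]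
      _ = u * (a⁻¹ * x * a⁻¹⁻¹) * u⁻¹ * (a⁻¹ * x * a⁻¹⁻¹)⁻¹ := by group
  rw [this]
  exact h1

end Cfsg.Agent.Helper15.QE
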