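import Mathlib
import Cfsg.Agent.Lib.Helper15.QE5

/-!
# Part B: splitting off a quaternion group (helper15)
-/

set_option autoImplicit false

namespace Cfsg.Agent.Helper15.QE

open Cfsg.Agent.Helper15.ConjAut

variable {G : Type*} [Group G] {W E : Subgroup G} {z : G}

theorem Cfg9.orderOf_eq (h : Cfg9 W E z) {e : G} (he : e ∈ E) (he1 : e ≠ 1) : orderOf e = 3 := by
  haveI : Fact (Nat.Prime 3) := ⟨Nat.prime_three⟩
  exact orderOf_eq_prime (h.exp e he) he1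

/-- **B0.** a subgroup of `E` containing two independent elements is `E` -/
theorem Cfg9.eq_of_mem [Finite G] (h : Cfg9 W E z) {H : Subgroup G} (hHE : H ≤ E) {e f : G}
    (he : e ∈ H) (he1 : e ≠ 1) (hf : f ∈ H) (hfe : f ∉ Subgroup.zpowers e) : H = E := by
  have ho := h.orderOf_eq (hHE he) he1
  have hle : Subgroup.zpowers e ≤ H := by rw [Subgroup.zpowers_le]; exact he
  have hcz : Nat.card (Subgroup.zpowers e) = 3 := by rw [Nat.card_zpowers, ho]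
  have h1 : Nat.card ↥H ∣ 9 := by rw [← h.card]; exact Subgroup.card_dvd_of_le hHE
  have h2 : 3 ∣ Nat.card ↥H := by rw [← hcz]; exact Subgroup.card_dvd_of_le hle
  have h3 : Nat.card ↥H = 3 ∨ Nat.card ↥H = 9 := by
    have hle9 : Nat.card ↥H ≤ 9 := Nat.le_of_dvd (by norm_num) h1
    obtain ⟨m, hm⟩ := h2
    have hm3 : m ≤ 3 := by omega
    interval_cases m
    · rw [hm] at h1; omega
    · left; omega
    · rw [hm] at h1; omega
    · right; omega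
  rcases h3 with h3 | h3
  · exfalso
    apply hfe
    have := Subgroup.eq_of_le_of_card_ge hle (by rw [hcz, h3])
    rw [this]; exact hf
  · exact Subgroup.eq_of_le_of_card_ge hHE (by rw [h.card, h3])

/-- **B8.** a quaternion fixed-point group centralizing `X` modulo `⟨z⟩` -/
theorem Cfg9.exists_Q [Finite G] (h : Cfg9 W E z) {X : Subgroup G} (hXW : X ≤ W)
    (hEX : E ≤ Subgroup.normalizer (X : Set G)) (hna : ∃ a ∈ X, ∃ b ∈ X, a * b ≠ b * a) :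
    ∃ g ∈ E, g ≠ 1 ∧ IsQ (F W g) ∧ F W g ≤ X ∧
      (∀ q ∈ F W g, ∀ x ∈ X, q * x * q⁻¹ * x⁻¹ ∈ Subgroup.zpowers z) ∧
      ∃ a ∈ E, ∃ y₀ ∈ F W g, a * y₀ ≠ y₀ * a := by
  haveI : Fact (Nat.Prime 3) := ⟨Nat.prime_three⟩
  have hXne : X ≠ ⊥ := by
    intro hbot
    obtain ⟨a, ha, b, hb, hab⟩ := hna
    rw [hbot, Subgroup.mem_bot] at ha hb
    apply hab
    rw [ha, hb]
  obtain ⟨hzX, hzc⟩ := h.z_central hXW hEX hXne
  obtain ⟨u, huX, ⟨x₀, hx₀, hux₀⟩, hu2⟩ := h.exists_second hXW hEX hna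
  have huU : u ∈ Usub X z hzc := ⟨huX, hu2⟩
  by_contra hall
  push Not at hall
  have hUle : Usub X z hzc ≤ Subgroup.zpowers z := by
    apply Cfsg.Agent.Helper15.le_of_forall_ne_one_inf_centralizer_le h.elem h.sq_le
      (h.coprime ((Usub_le hzc).trans hXW)) (normalizes_Usub hzc hEX h.hzE)
    intro g hg hg1
    have hYW : Usub X z hzc ⊓ Subgroup.centralizer ({g} : Set G) ≤ W :=
      inf_le_left.trans ((Usub_le hzc).trans hXW)
    have hEY := normalizes_inf_centralizer h.base (normalizes_Usub hzc hEX h.hzE) hg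
    have hgY : ∀ y ∈ Usub X z hzc ⊓ Subgroup.centralizer ({g} : Set G), g * y = y * g := by
      intro y hy
      have := (Subgroup.mem_inf.mp hy).2
      rw [Subgroup.mem_centralizer_singleton_iff] at this
      exact this.symm
    rcases h.dich hYW hEY hg hg1 hgY with h1 | ⟨hQ, hYF, a, ha, y₀, hy₀, hay⟩
    · exact h1
    · exfalso
      have hFU : F W g ≤ Usub X z hzc := by rw [← hYF]; exact inf_le_left
      apply hay
      refine hall g hg hg1 (by rw [← hYF]; exact hQ) (hFU.trans (Usub_le hzc)) ?_ a ha y₀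
        (by rw [← hYF]; exact hy₀)
      intro q hq x hx
      exact (hFU hq).2 x hx
  have huz := hUle huU
  apply hux₀
  exact (commute_of_mem_zpowers huz (hzc x₀ hx₀)).symm

/-- **B9.** `X = Q * C_X(Q)` -/
theorem Cfg9.decomp [Finite G] (h : Cfg9 W E z) {X : Subgroup G} {g : G} (hg : g ∈ E)
    (hg1 : g ≠ 1) (hQ : IsQ (F W g)) (hQX : F W g ≤ X)
    (hU : ∀ q ∈ F W g, ∀ x ∈ X, q * x * q⁻¹ * x⁻¹ ∈ Subgroup.zpowers z) :
    ∀ t ∈ X, ∃ q ∈ F W g, ∃ c ∈ X, (∀ v ∈ F W g, c * v = v * c) ∧ t = q * c := by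
  obtain ⟨x, hx, y, hy, hx2, hy2, hyx, hyx'⟩ := hQ.ex2
  -- conjugation by `X` fixes or inverts the elements of order `4`
  have hC : ∀ t ∈ X, ∀ v ∈ F W g, v ^ 2 ≠ 1 → t * v * t⁻¹ = v ∨ t * v * t⁻¹ = v⁻¹ := by
    intro t ht v hv hv2
    have hvz := h.sq_eq hg hg1 hv (hQ.pow_four v hv) hv2
    have hc := hU v hv t ht
    rw [mem_zpowers_two h.hz2] at hc
    have key : t * v * t⁻¹ = (v * t * v⁻¹ * t⁻¹)⁻¹ * v := by group
    rcases hc with hc | hc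
    · left
      rw [key, hc, inv_one, one_mul]
    · right
      rw [key, hc, ← hvz]; group
  have hrel1 := (hQ.rel x hx y hy hx2 hy2 hyx hyx').1
  have hxy : x ≠ y := fun h1 => hyx h1.symm
  have hxy' : x ≠ y⁻¹ := by
    intro h1
    apply hyx'
    rw [h1, inv_inv]
  have hrel2 := (hQ.rel y hy x hx hy2 hx2 hxy hxy').1
  intro t ht
  -- stage 1
  obtain ⟨q₁, hq₁, ht₁⟩ : ∃ q₁ ∈ F W g, (q₁⁻¹ * t) * x * (q₁⁻¹ * t)⁻¹ = x := by
    rcases hC t ht x hx hx2 with h1 | h1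
    · refine ⟨1, Subgroup.one_mem _, ?_⟩
      rw [inv_one, one_mul]; exact h1
    · refine ⟨y, hy, ?_⟩
      have : y⁻¹ * t * x * (y⁻¹ * t)⁻¹ = y⁻¹ * (t * x * t⁻¹) * y := by group
      rw [this, h1]
      calc y⁻¹ * x⁻¹ * y = y⁻¹ * (y * x * y⁻¹) * y := by rw [hrel1]
        _ = x := by group
  have ht₁X : q₁⁻¹ * t ∈ X := X.mul_mem (X.inv_mem (hQX hq₁)) ht
  -- stage 2
  obtain ⟨q₂, hq₂, ht₂x, ht₂y⟩ : ∃ q₂ ∈ F W g,
      (q₂⁻¹ * (q₁⁻¹ * t)) * x * (q₂⁻¹ * (q₁⁻¹ * t))⁻¹ = x ∧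
      (q₂⁻¹ * (q₁⁻¹ * t)) * y * (q₂⁻¹ * (q₁⁻¹ * t))⁻¹ = y := by
    rcases hC _ ht₁X y hy hy2 with h1 | h1
    · refine ⟨1, Subgroup.one_mem _, ?_, ?_⟩
      · rw [inv_one, one_mul]; exact ht₁
      · rw [inv_one, one_mul]; exact h1
    · refine ⟨x, hx, ?_, ?_⟩
      · have : x⁻¹ * (q₁⁻¹ * t) * x * (x⁻¹ * (q₁⁻¹ * t))⁻¹ =
            x⁻¹ * ((q₁⁻¹ * t) * x * (q₁⁻¹ * t)⁻¹) * x := by group
        rw [this, ht₁]; group
      · have : x⁻¹ * (q₁⁻¹ * t) * y * (x⁻¹ * (q₁⁻¹ * t))⁻¹ =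
            x⁻¹ * ((q₁⁻¹ * t) * y * (q₁⁻¹ * t)⁻¹) * x := by group
        rw [this, h1]
        calc x⁻¹ * y⁻¹ * x = x⁻¹ * (x * y * x⁻¹) * x := by rw [hrel2]
          _ = y := by group
  obtain ⟨c, hc⟩ : ∃ c : G, c = q₂⁻¹ * (q₁⁻¹ * t) := ⟨_, rfl⟩
  rw [← hc] at ht₂x ht₂y
  have hcX : c ∈ X := by
    rw [hc]; exact X.mul_mem (X.inv_mem (hQX hq₂)) ht₁X
  have hcx : Commute c x := by
    show c * x = x * c
    calc c * x = c * x * c⁻¹ * c := by group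
      _ = x * c := by rw [ht₂x]
  have hcy : Commute c y := by
    show c * y = y * c
    calc c * y = c * y * c⁻¹ * c := by group
      _ = y * c := by rw [ht₂y]
  refine ⟨q₁ * q₂, Subgroup.mul_mem _ hq₁ hq₂, c, hcX, ?_, by rw [hc]; group⟩
  intro v hv
  rcases hQ.list x hx y hy hx2 hy2 hyx hyx' v hv with k | k | k | k | k | k | k | k
  · rw [k, mul_one, one_mul]
  · rw [k]; exact (hcx.pow_right 2).eq
  · rw [k]; exact hcx.eq
  · rw [k]; exact hcx.inv_right.eq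
  · rw [k]; exact hcy.eq
  · rw [k]; exact hcy.inv_right.eq
  · rw [k]; exact (hcx.mul_right hcy).eq
  · rw [k]; exact (hcx.mul_right hcy).inv_right.eq

/-- **B10.** fixed points of elements moving `Q` centralize `Q` -/
theorem Cfg9.fixed_le [Finite G] (h : Cfg9 W E z) {X : Subgroup G} {g : G} (hg : g ∈ E)
    (hg1 : g ≠ 1) (hQ : IsQ (F W g)) (hQX : F W g ≤ X)
    (hU : ∀ q ∈ F W g, ∀ x ∈ X, q * x * q⁻¹ * x⁻¹ ∈ Subgroup.zpowers z)
    {f : G} (hf : f ∈ E) {y₁ : G} (hy₁ : y₁ ∈ F W g) (hfy : f * y₁ ≠ y₁ * f) :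
    ∀ t ∈ X, f * t = t * f → ∀ v ∈ F W g, t * v = v * t := by
  haveI : Fact (Nat.Prime 3) := ⟨Nat.prime_three⟩
  have hEQ := normalizes_F h.base hg
  have hgQ : ∀ y ∈ F W g, g * y = y * g := fun y hy => (mem_F.mp hy).2
  obtain ⟨-, -, hmove, -⟩ := quat_of_moved (by norm_num) h.base (F_le W g) hEQ hg hg1 hgQ hf
    hy₁ hfy
  intro t ht hft v hv
  obtain ⟨q, hq, c, hcX, hcQ, htqc⟩ := h.decomp hg hg1 hQ hQX hU t ht
  -- `s = q⁻¹ f q f⁻¹` is central in `Q`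
  obtain ⟨s, hs⟩ : ∃ s : G, s = q⁻¹ * (f * q * f⁻¹) := ⟨_, rfl⟩
  have hfq : f * q * f⁻¹ ∈ F W g := conj_mem hEQ hf hq
  have hsQ : s ∈ F W g := by rw [hs]; exact Subgroup.mul_mem _ (Subgroup.inv_mem _ hq) hfq
  have hs' : s = c * (f * c * f⁻¹)⁻¹ := by
    have h1 : f * t * f⁻¹ = t := by rw [hft]; group
    rw [htqc] at h1
    have h2 : (f * q * f⁻¹) * (f * c * f⁻¹) = q * c := by rw [← h1]; group
    rw [hs]
    calc q⁻¹ * (f * q * f⁻¹) = q⁻¹ * ((f * q * f⁻¹) * (f * c * f⁻¹)) * (f * c * f⁻¹)⁻¹ := by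
          group
      _ = q⁻¹ * (q * c) * (f * c * f⁻¹)⁻¹ := by rw [h2]
      _ = c * (f * c * f⁻¹)⁻¹ := by group
  have hfc : ∀ w ∈ F W g, Commute (f * c * f⁻¹) w := by
    intro w hw
    have hw' : f⁻¹ * w * f⁻¹⁻¹ ∈ F W g := conj_mem hEQ (E.inv_mem hf) hw
    have h1 := hcQ _ hw'
    show f * c * f⁻¹ * w = w * (f * c * f⁻¹)
    calc f * c * f⁻¹ * w = f * (c * (f⁻¹ * w * f⁻¹⁻¹)) * f⁻¹ := by group
      _ = f * ((f⁻¹ * w * f⁻¹⁻¹) * c) * f⁻¹ := by rw [h1]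
      _ = w * (f * c * f⁻¹) := by group
  have hsc : ∀ w ∈ F W g, Commute s w := by
    intro w hw
    rw [hs']
    exact Commute.mul_left (hcQ w hw) (hfc w hw).inv_left
  have hsz : s ∈ Subgroup.zpowers z := by
    apply h.center_le (F_le W g) hEQ
    refine Subgroup.mem_inf.mpr ⟨hsQ, ?_⟩
    rw [Subgroup.mem_centralizer_iff]
    intro w hw
    exact (hsc w hw).eq.symm
  -- `q ^ 2 = 1`
  have hq2 : q ^ 2 = 1 := by
    by_contra hq2
    obtain ⟨h1, h2, -⟩ := hmove q hq hq2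
    have hfqs : f * q * f⁻¹ = q * s := by rw [hs]; group
    rw [mem_zpowers_two h.hz2] at hsz
    rcases hsz with h3 | h3
    · apply h1
      rw [hfqs, h3, mul_one]
    · apply h2
      have hqz := h.sq_eq hg hg1 hq (hQ.pow_four q hq) hq2
      rw [hfqs, h3, ← hqz]
      have h4 := hQ.pow_four q hq
      calc q * q ^ 2 = q ^ 4 * q⁻¹ := by group
        _ = q⁻¹ := by rw [h4, one_mul]
  -- so `q` is central in `Q`
  have hqc : Commute q v := by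
    by_cases hq1 : q = 1
    · rw [hq1]; exact Commute.one_left v
    · haveI : Fact (Nat.Prime 2) := ⟨Nat.prime_two⟩
      have hqo : orderOf q = 2 := orderOf_eq_prime hq2 hq1
      have hqz := h.invol_eq (F_le W g hq) hqo hg hg1 (hgQ q hq)
      rw [hqz]
      exact (h.z_comm hg hg1 hv).symm
  rw [htqc]
  exact (Commute.mul_left hqc (hcQ v hv)).eq

end Cfsg.Agent.Helper15.QE
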