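import Mathlib
import Cfsg.Agent.Lib.Helper15.QE6

/-!
# Part B: the two inductions (helper15)
-/

set_option autoImplicit false

namespace Cfsg.Agent.Helper15.QE

open Cfsg.Agent.Helper15.ConjAut

variable {G : Type*} [Group G] {W E : Subgroup G} {z : G}

theorem mem_inf_centralizer_singleton {X : Subgroup G} {u w : G} :
    w ∈ X ⊓ Subgroup.centralizer ({u} : Set G) ↔ w ∈ X ∧ u * w = w * u := by
  rw [Subgroup.mem_inf, Subgroup.mem_centralizer_singleton_iff]
  constructor
  · rintro ⟨h1, h2⟩; exact ⟨h1, h2.symm⟩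
  · rintro ⟨h1, h2⟩; exact ⟨h1, h2.symm⟩

/-- **B11.** fixed points of independent elements of `E` commute -/
theorem Cfg9.comm_aux [Finite G] (h : Cfg9 W E z) : ∀ n : ℕ, ∀ X : Subgroup G, X ≤ W →
    E ≤ Subgroup.normalizer (X : Set G) → Nat.card ↥X ≤ n → ∀ e ∈ E, e ≠ 1 → ∀ f ∈ E,
    f ∉ Subgroup.zpowers e → ∀ x ∈ X, e * x = x * e → ∀ y ∈ X, f * y = y * f →
    x * y = y * x := by
  intro n
  induction n with
  | zero =>
    intro X _ _ hc
    have := Nat.card_pos (α := ↥X)
    omega
  | succ n ih =>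
    intro X hXW hEX hcard e he he1 f hf hfe x hx hex y hy hfy
    have hf1 : f ≠ 1 := by
      intro h1
      apply hfe
      rw [h1]
      exact Subgroup.one_mem _
    have hxFe : x ∈ F W e := mem_F.mpr ⟨hXW hx, hex⟩
    have hyFf : y ∈ F W f := mem_F.mpr ⟨hXW hy, hfy⟩
    have hcs : ∀ u : G, ∀ w ∈ X ⊓ Subgroup.centralizer ({u} : Set G), u * w = w * u :=
      fun u w hw => (mem_inf_centralizer_singleton.mp hw).2
    rcases h.dich (inf_le_left.trans hXW) (normalizes_inf_centralizer h.base hEX he) he he1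
      (hcs e) with h1 | ⟨hQe, hYe, -⟩
    · have hxz : x ∈ Subgroup.zpowers z := h1 (mem_inf_centralizer_singleton.mpr ⟨hx, hex⟩)
      exact (commute_of_mem_zpowers hxz (h.z_comm hf hf1 hyFf)).symm
    rcases h.dich (inf_le_left.trans hXW) (normalizes_inf_centralizer h.base hEX hf) hf hf1
      (hcs f) with h2 | ⟨hQf, hYf, -⟩
    · have hyz : y ∈ Subgroup.zpowers z := h2 (mem_inf_centralizer_singleton.mpr ⟨hy, hfy⟩)
      exact commute_of_mem_zpowers hyz (h.z_comm he he1 hxFe)
    -- both quaternion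
    have hFeX : F W e ≤ X := by rw [← hYe]; exact inf_le_left
    have hFfX : F W f ≤ X := by rw [← hYf]; exact inf_le_left
    have hQe' : IsQ (F W e) := by rw [← hYe]; exact hQe
    have hQf' : IsQ (F W f) := by rw [← hYf]; exact hQf
    have hna : ∃ a ∈ X, ∃ b ∈ X, a * b ≠ b * a := by
      obtain ⟨u, hu, v, hv, huv⟩ := hQe'.not_comm
      exact ⟨u, hFeX hu, v, hFeX hv, huv⟩
    obtain ⟨g, hg, hg1, hQ, hQX, hU, a, ha, y₀, hy₀, hay⟩ := h.exists_Q hXW hEX hna
    obtain ⟨X₁, hX₁⟩ : ∃ X₁ : Subgroup G,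
        X₁ = X ⊓ Subgroup.centralizer ((F W g : Subgroup G) : Set G) := ⟨_, rfl⟩
    have hX₁X : X₁ ≤ X := by rw [hX₁]; exact inf_le_left
    have hX₁W : X₁ ≤ W := hX₁X.trans hXW
    have hEX₁ : E ≤ Subgroup.normalizer (X₁ : Set G) := by
      rw [hX₁]
      exact normalizes_inf hEX (normalizes_centralizer (normalizes_F h.base hg))
    have hX₁card : Nat.card ↥X₁ ≤ n := by
      by_contra hgt
      push Not at hgt
      have heq : X₁ = X := Subgroup.eq_of_le_of_card_ge hX₁X (by omega)
      obtain ⟨u, hu, v, hv, huv⟩ := hQ.not_comm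
      apply huv
      have hu' : u ∈ X₁ := by rw [heq]; exact hQX hu
      rw [hX₁] at hu'
      have := (Subgroup.mem_inf.mp hu').2
      rw [Subgroup.mem_centralizer_iff] at this
      exact (this v hv).symm
    by_cases hce : ∀ v ∈ F W g, e * v = v * e
    · -- `Q = F W e`
      have hle : F W g ≤ F W e := fun v hv => mem_F.mpr ⟨F_le W g hv, hce v hv⟩
      have heq : F W g = F W e := Subgroup.eq_of_le_of_card_ge hle (by rw [hQ.card, hQe'.card])
      have hnf : ¬ ∀ v ∈ F W g, f * v = v * f := by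
        intro hcf
        have hH : E ⊓ Subgroup.centralizer ((F W g : Subgroup G) : Set G) = E := by
          apply h.eq_of_mem inf_le_left (e := e) (f := f) _ he1 _ hfe
          · refine Subgroup.mem_inf.mpr ⟨he, ?_⟩
            rw [Subgroup.mem_centralizer_iff]
            exact fun v hv => (hce v hv).symm
          · refine Subgroup.mem_inf.mpr ⟨hf, ?_⟩
            rw [Subgroup.mem_centralizer_iff]
            exact fun v hv => (hcf v hv).symm
        have haH : a ∈ E ⊓ Subgroup.centralizer ((F W g : Subgroup G) : Set G) := by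
          rw [hH]; exact ha
        have := (Subgroup.mem_inf.mp haH).2
        rw [Subgroup.mem_centralizer_iff] at this
        exact hay (this y₀ hy₀).symm
      push Not at hnf
      obtain ⟨y₁, hy₁, hfy₁⟩ := hnf
      have hxg : x ∈ F W g := by rw [heq]; exact hxFe
      exact (h.fixed_le hg hg1 hQ hQX hU hf hy₁ hfy₁ y hy hfy x hxg).symm
    · push Not at hce
      obtain ⟨y₂, hy₂, hey₂⟩ := hce
      have hxc := h.fixed_le hg hg1 hQ hQX hU he hy₂ hey₂ x hx hex
      by_cases hcf : ∀ v ∈ F W g, f * v = v * f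
      · have hle : F W g ≤ F W f := fun v hv => mem_F.mpr ⟨F_le W g hv, hcf v hv⟩
        have heq : F W g = F W f :=
          Subgroup.eq_of_le_of_card_ge hle (by rw [hQ.card, hQf'.card])
        have hyg : y ∈ F W g := by rw [heq]; exact hyFf
        exact hxc y hyg
      · push Not at hcf
        obtain ⟨y₃, hy₃, hfy₃⟩ := hcf
        have hyc := h.fixed_le hg hg1 hQ hQX hU hf hy₃ hfy₃ y hy hfy
        have hx₁ : x ∈ X₁ := by
          rw [hX₁]
          refine Subgroup.mem_inf.mpr ⟨hx, ?_⟩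
          rw [Subgroup.mem_centralizer_iff]
          exact fun v hv => (hxc v hv).symm
        have hy₁' : y ∈ X₁ := by
          rw [hX₁]
          refine Subgroup.mem_inf.mpr ⟨hy, ?_⟩
          rw [Subgroup.mem_centralizer_iff]
          exact fun v hv => (hyc v hv).symm
        exact ih X₁ hX₁W hEX₁ hX₁card e he he1 f hf hfe x hx₁ hex y hy₁' hfy

theorem Cfg9.comm [Finite G] (h : Cfg9 W E z) {e f : G} (he : e ∈ E) (he1 : e ≠ 1) (hf : f ∈ E)
    (hfe : f ∉ Subgroup.zpowers e) : ∀ x ∈ F W e, ∀ y ∈ F W f, x * y = y * x := by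
  intro x hx y hy
  exact h.comm_aux (Nat.card ↥W) W le_rfl h.base.hN le_rfl e he he1 f hf hfe x (F_le W e hx)
    (mem_F.mp hx).2 y (F_le W f hy) (mem_F.mp hy).2

/-- commutators and squares of invariant subgroups lie in `⟨z⟩` -/
theorem Cfg9.class_two_aux [Finite G] (h : Cfg9 W E z) : ∀ n : ℕ, ∀ X : Subgroup G, X ≤ W →
    E ≤ Subgroup.normalizer (X : Set G) → Nat.card ↥X ≤ n →
    (∀ u ∈ X, ∀ v ∈ X, u * v * u⁻¹ * v⁻¹ ∈ Subgroup.zpowers z) ∧
      (∀ u ∈ X, u ^ 2 ∈ Subgroup.zpowers z) := by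
  intro n
  induction n with
  | zero =>
    intro X _ _ hc
    have := Nat.card_pos (α := ↥X)
    omega
  | succ n ih =>
    intro X hXW hEX hcard
    by_cases hab : ∀ u ∈ X, ∀ v ∈ X, u * v = v * u
    · have hle := h.abelian_le hXW hEX hab
      constructor
      · intro u hu v hv
        have : u * v * u⁻¹ * v⁻¹ = 1 := by rw [hab u hu v hv]; group
        rw [this]; exact Subgroup.one_mem _
      · intro u hu
        exact Subgroup.pow_mem _ (hle hu) 2
    · push Not at hab
      obtain ⟨g, hg, hg1, hQ, hQX, hU, a, ha, y₀, hy₀, hay⟩ := h.exists_Q hXW hEX hab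
      obtain ⟨X₁, hX₁⟩ : ∃ X₁ : Subgroup G,
          X₁ = X ⊓ Subgroup.centralizer ((F W g : Subgroup G) : Set G) := ⟨_, rfl⟩
      have hX₁X : X₁ ≤ X := by rw [hX₁]; exact inf_le_left
      have hX₁W : X₁ ≤ W := hX₁X.trans hXW
      have hEX₁ : E ≤ Subgroup.normalizer (X₁ : Set G) := by
        rw [hX₁]
        exact normalizes_inf hEX (normalizes_centralizer (normalizes_F h.base hg))
      have hX₁card : Nat.card ↥X₁ ≤ n := by
        by_contra hgt
        push Not at hgt
        have heq : X₁ = X := Subgroup.eq_of_le_of_card_ge hX₁X (by omega)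
        obtain ⟨u, hu, v, hv, huv⟩ := hQ.not_comm
        apply huv
        have hu' : u ∈ X₁ := by rw [heq]; exact hQX hu
        rw [hX₁] at hu'
        have := (Subgroup.mem_inf.mp hu').2
        rw [Subgroup.mem_centralizer_iff] at this
        exact (this v hv).symm
      obtain ⟨ih1, ih2⟩ := ih X₁ hX₁W hEX₁ hX₁card
      have hXne : X ≠ ⊥ := by
        intro hbot
        obtain ⟨u, hu, v, hv, huv⟩ := hab
        rw [hbot, Subgroup.mem_bot] at hu hv
        apply huv
        rw [hu, hv]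
      obtain ⟨hzX, hzc⟩ := h.z_central hXW hEX hXne
      have hmemX₁ : ∀ c ∈ X, (∀ v ∈ F W g, c * v = v * c) → c ∈ X₁ := by
        intro c hc hcQ
        rw [hX₁]
        refine Subgroup.mem_inf.mpr ⟨hc, ?_⟩
        rw [Subgroup.mem_centralizer_iff]
        exact fun v hv => (hcQ v hv).symm
      constructor
      · intro u hu v hv
        obtain ⟨q, hq, c, hcX, hcQ, rfl⟩ := h.decomp hg hg1 hQ hQX hU u hu
        obtain ⟨q', hq', c', hc'X, hc'Q, rfl⟩ := h.decomp hg hg1 hQ hQX hU v hv
        have h1 := hU q hq q' (hQX hq')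
        have h2 := ih1 c (hmemX₁ c hcX hcQ) c' (hmemX₁ c' hc'X hc'Q)
        have e1 : c * q' = q' * c := hcQ q' hq'
        have e2 : c' * q = q * c' := hc'Q q hq
        have e3 : c * q = q * c := hcQ q hq
        have e4 : c' * q' = q' * c' := hc'Q q' hq'
        have key : q * c * (q' * c') * (q * c)⁻¹ * (q' * c')⁻¹ =
            (q * q' * q⁻¹ * q'⁻¹) * (c * c' * c⁻¹ * c'⁻¹) := by
          have e5 : c⁻¹ * q⁻¹ = q⁻¹ * c⁻¹ := by
            rw [← mul_inv_rev, ← mul_inv_rev, e3]
          have e6 : c'⁻¹ * q'⁻¹ = q'⁻¹ * c'⁻¹ := by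
            rw [← mul_inv_rev, ← mul_inv_rev, e4]
          have e7 : c'⁻¹ * q⁻¹ = q⁻¹ * c'⁻¹ := by
            rw [← mul_inv_rev, ← mul_inv_rev, e2]
          have e8 : c⁻¹ * q'⁻¹ = q'⁻¹ * c⁻¹ := by
            rw [← mul_inv_rev, ← mul_inv_rev, e1]
          calc q * c * (q' * c') * (q * c)⁻¹ * (q' * c')⁻¹
              = q * (c * q') * c' * (c⁻¹ * q⁻¹) * (c'⁻¹ * q'⁻¹) := by group
            _ = q * (q' * c) * c' * (q⁻¹ * c⁻¹) * (q'⁻¹ * c'⁻¹) := by rw [e1, e5, e6]
            _ = q * q' * c * (c' * q⁻¹) * (c⁻¹ * q'⁻¹) * c'⁻¹ := by group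
            _ = q * q' * c * (q⁻¹ * c') * (q'⁻¹ * c⁻¹) * c'⁻¹ := by
              have e9 : c' * q⁻¹ = q⁻¹ * c' := by
                have : Commute c' q := e2
                exact this.inv_right.eq
              rw [e9, e8]
            _ = q * q' * (c * q⁻¹) * (c' * q'⁻¹) * c⁻¹ * c'⁻¹ := by group
            _ = q * q' * (q⁻¹ * c) * (q'⁻¹ * c') * c⁻¹ * c'⁻¹ := by
              have e10 : c * q⁻¹ = q⁻¹ * c := by
                have : Commute c q := e3
                exact this.inv_right.eq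
              have e11 : c' * q'⁻¹ = q'⁻¹ * c' := by
                have : Commute c' q' := e4
                exact this.inv_right.eq
              rw [e10, e11]
            _ = q * q' * q⁻¹ * (c * q'⁻¹) * c' * c⁻¹ * c'⁻¹ := by group
            _ = q * q' * q⁻¹ * (q'⁻¹ * c) * c' * c⁻¹ * c'⁻¹ := by
              have e12 : c * q'⁻¹ = q'⁻¹ * c := by
                have : Commute c q' := e1
                exact this.inv_right.eq
              rw [e12]
            _ = (q * q' * q⁻¹ * q'⁻¹) * (c * c' * c⁻¹ * c'⁻¹) := by group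
        rw [key]
        exact Subgroup.mul_mem _ h1 h2
      · intro u hu
        obtain ⟨q, hq, c, hcX, hcQ, rfl⟩ := h.decomp hg hg1 hQ hQX hU u hu
        have hc : Commute q c := (hcQ q hq).symm
        rw [hc.mul_pow]
        apply Subgroup.mul_mem _ _ (ih2 c (hmemX₁ c hcX hcQ))
        by_cases hq2 : q ^ 2 = 1
        · rw [hq2]; exact Subgroup.one_mem _
        · rw [h.sq_eq hg hg1 hq (hQ.pow_four q hq) hq2]
          exact Subgroup.mem_zpowers z

end Cfsg.Agent.Helper15.QE
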