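import Mathlib
import Cfsg.Agent.Lib.Helper15.QE7

/-!
# Part B: the four fixed-point groups and the order of `W` (helper15)
-/

set_option autoImplicit false

namespace Cfsg.Agent.Helper15.QE

open Cfsg.Agent.Helper15.ConjAut

variable {G : Type*} [Group G]

theorem card_sup_mul_card_inf_normal (H K : Subgroup G) [K.Normal] :
    Nat.card (H ⊔ K : Subgroup G) * Nat.card (H ⊓ K : Subgroup G) =
      Nat.card H * Nat.card K := by
  have h1 := Subgroup.relIndex_mul_relIndex (H := ⊥) (K := K) (L := H ⊔ K) bot_le le_sup_right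
  have h2 := Subgroup.relIndex_mul_relIndex (H := ⊥) (K := K ⊓ H) (L := H) bot_le inf_le_right
  rw [Subgroup.relIndex_bot_left, Subgroup.relIndex_bot_left, Subgroup.relIndex_sup_right] at h1
  rw [Subgroup.relIndex_bot_left, Subgroup.relIndex_bot_left, Subgroup.inf_relIndex_right] at h2
  rw [inf_comm, ← h1, ← h2]; ring

/-- `|HK| |H ∩ K| = |H| |K|` when `H` normalizes `K` -/
theorem card_sup_mul_card_inf (H K : Subgroup G)
    (hHK : H ≤ Subgroup.normalizer (K : Set G)) :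
    Nat.card (H ⊔ K : Subgroup G) * Nat.card (H ⊓ K : Subgroup G) =
      Nat.card H * Nat.card K := by
  set N := Subgroup.normalizer (K : Set G) with hN
  have hKN : K ≤ N := Subgroup.le_normalizer
  haveI hn : (K.subgroupOf N).Normal := Subgroup.normal_in_normalizer
  have h2 := card_sup_mul_card_inf_normal (H.subgroupOf N) (K.subgroupOf N)
  have h3 : (H ⊔ K).subgroupOf N = H.subgroupOf N ⊔ K.subgroupOf N :=
    Subgroup.subgroupOf_sup hHK hKN
  have h4 : (H ⊓ K).subgroupOf N = H.subgroupOf N ⊓ K.subgroupOf N := by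
    ext x
    simp only [Subgroup.mem_subgroupOf, Subgroup.mem_inf]
  have c1 : Nat.card (H.subgroupOf N) = Nat.card H :=
    Nat.card_congr (Subgroup.subgroupOfEquivOfLe hHK).toEquiv
  have c2 : Nat.card (K.subgroupOf N) = Nat.card K :=
    Nat.card_congr (Subgroup.subgroupOfEquivOfLe hKN).toEquiv
  have c3 : Nat.card ((H ⊔ K).subgroupOf N) = Nat.card (H ⊔ K : Subgroup G) :=
    Nat.card_congr (Subgroup.subgroupOfEquivOfLe (sup_le hHK hKN)).toEquiv
  have c4 : Nat.card ((H ⊓ K).subgroupOf N) = Nat.card (H ⊓ K : Subgroup G) :=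
    Nat.card_congr (Subgroup.subgroupOfEquivOfLe (inf_le_left.trans hHK)).toEquiv
  rw [← c3, ← c4, h3, h4, h2, c1, c2]

/-- the products `e₀ ^ i * e₁ ^ j` of two commuting elements of order dividing `3` -/
def span2 (e₀ e₁ : G) (hc : Commute e₀ e₁) (h0 : e₀ ^ 3 = 1) (h1 : e₁ ^ 3 = 1) : Subgroup G where
  carrier := {u | ∃ i j : ℕ, u = e₀ ^ i * e₁ ^ j}
  one_mem' := ⟨0, 0, by simp⟩
  mul_mem' := by
    rintro _ _ ⟨i, j, rfl⟩ ⟨i', j', rfl⟩
    refine ⟨i + i', j + j', ?_⟩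
    have h2 : e₁ ^ j * e₀ ^ i' = e₀ ^ i' * e₁ ^ j := ((hc.pow_pow i' j).eq).symm
    calc e₀ ^ i * e₁ ^ j * (e₀ ^ i' * e₁ ^ j') = e₀ ^ i * (e₁ ^ j * e₀ ^ i') * e₁ ^ j' := by
          group
      _ = e₀ ^ i * (e₀ ^ i' * e₁ ^ j) * e₁ ^ j' := by rw [h2]
      _ = e₀ ^ (i + i') * e₁ ^ (j + j') := by rw [pow_add, pow_add]; group
  inv_mem' := by
    rintro _ ⟨i, j, rfl⟩
    refine ⟨2 * i, 2 * j, ?_⟩
    have h2 : e₀ ^ i * e₁ ^ j * (e₀ ^ (2 * i) * e₁ ^ (2 * j)) = 1 := by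
      have h3 : e₁ ^ j * e₀ ^ (2 * i) = e₀ ^ (2 * i) * e₁ ^ j := ((hc.pow_pow (2 * i) j).eq).symm
      calc e₀ ^ i * e₁ ^ j * (e₀ ^ (2 * i) * e₁ ^ (2 * j))
          = e₀ ^ i * (e₁ ^ j * e₀ ^ (2 * i)) * e₁ ^ (2 * j) := by group
        _ = e₀ ^ i * (e₀ ^ (2 * i) * e₁ ^ j) * e₁ ^ (2 * j) := by rw [h3]
        _ = e₀ ^ (i + 2 * i) * e₁ ^ (j + 2 * j) := by rw [pow_add, pow_add]; group
        _ = 1 := by
          rw [show i + 2 * i = 3 * i by ring, show j + 2 * j = 3 * j by ring, pow_mul, pow_mul,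
            h0, h1, one_pow, one_pow, one_mul]
    exact inv_eq_of_mul_eq_one_right h2

section

variable {W E : Subgroup G} {z : G}

/-- **enumeration of `E`** -/
theorem Cfg9.span [Finite G] (h : Cfg9 W E z) {e₀ e₁ : G} (h0 : e₀ ∈ E) (h01 : e₀ ≠ 1)
    (h1 : e₁ ∈ E) (hind : e₁ ∉ Subgroup.zpowers e₀) :
    ∀ u ∈ E, ∃ i j : ℕ, i < 3 ∧ j < 3 ∧ u = e₀ ^ i * e₁ ^ j := by
  have hc : Commute e₀ e₁ := h.base.hab e₀ h0 e₁ h1
  set H := span2 e₀ e₁ hc (h.exp e₀ h0) (h.exp e₁ h1) with hH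
  have hHE : H ≤ E := by
    rintro _ ⟨i, j, rfl⟩
    exact E.mul_mem (E.pow_mem h0 i) (E.pow_mem h1 j)
  have he₀H : e₀ ∈ H := ⟨1, 0, by simp⟩
  have he₁H : e₁ ∈ H := ⟨0, 1, by simp⟩
  have hHeq : H = E := h.eq_of_mem hHE he₀H h01 he₁H hind
  intro u hu
  rw [← hHeq] at hu
  obtain ⟨i, j, rfl⟩ := hu
  have h11 : e₁ ≠ 1 := by
    intro h2
    apply hind
    rw [h2]; exact Subgroup.one_mem _
  refine ⟨i % 3, j % 3, Nat.mod_lt _ (by norm_num), Nat.mod_lt _ (by norm_num), ?_⟩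
  have o0 := h.orderOf_eq h0 h01
  have o1 := h.orderOf_eq h1 h11
  have e1 : e₀ ^ (i % 3) = e₀ ^ i := by
    have := pow_mod_orderOf e₀ i
    rw [o0] at this
    exact this
  have e2 : e₁ ^ (j % 3) = e₁ ^ j := by
    have := pow_mod_orderOf e₁ j
    rw [o1] at this
    exact this
  rw [e1, e2]

theorem Cfg9.zpowers_eq [Finite G] (h : Cfg9 W E z) {e f : G} (he : e ∈ E) (hf : f ∈ E)
    (hf1 : f ≠ 1) (hfe : f ∈ Subgroup.zpowers e) : Subgroup.zpowers f = Subgroup.zpowers e := by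
  have he1 : e ≠ 1 := by
    intro h1
    rw [h1, Subgroup.zpowers_one_eq_bot, Subgroup.mem_bot] at hfe
    exact hf1 hfe
  have hle : Subgroup.zpowers f ≤ Subgroup.zpowers e := by
    rw [Subgroup.zpowers_le]; exact hfe
  apply Subgroup.eq_of_le_of_card_ge hle
  rw [Nat.card_zpowers, Nat.card_zpowers, h.orderOf_eq he he1, h.orderOf_eq hf hf1]

theorem F_le_of_mem_zpowers {W : Subgroup G} {e f : G} (hfe : f ∈ Subgroup.zpowers e) :
    F W e ≤ F W f := by
  intro x hx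
  obtain ⟨hxW, hex⟩ := mem_F.mp hx
  obtain ⟨k, rfl⟩ := Subgroup.mem_zpowers_iff.mp hfe
  have : Commute e x := hex
  exact mem_F.mpr ⟨hxW, (this.zpow_left k).eq⟩

theorem Cfg9.F_eq [Finite G] (h : Cfg9 W E z) {e f : G} (he : e ∈ E) (hf : f ∈ E)
    (hf1 : f ≠ 1) (hfe : f ∈ Subgroup.zpowers e) : F W f = F W e := by
  have heq := h.zpowers_eq he hf hf1 hfe
  have hef : e ∈ Subgroup.zpowers f := by rw [heq]; exact Subgroup.mem_zpowers e
  exact le_antisymm (F_le_of_mem_zpowers hef) (F_le_of_mem_zpowers hfe)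

/-- independence is symmetric -/
theorem Cfg9.indep_symm [Finite G] (h : Cfg9 W E z) {e f : G} (he : e ∈ E) (he1 : e ≠ 1)
    (hf : f ∈ E) (hfe : f ∉ Subgroup.zpowers e) : e ∉ Subgroup.zpowers f := by
  intro hef
  apply hfe
  have := h.zpowers_eq hf he he1 hef
  rw [this]; exact Subgroup.mem_zpowers f

/-- the order of a fixed-point group -/
theorem Cfg9.card_F [Finite G] (h : Cfg9 W E z) {g : G} (hg : g ∈ E) (hg1 : g ≠ 1) :
    Nat.card ↥(F W g) = 2 ∨ Nat.card ↥(F W g) = 8 := by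
  have hgF : ∀ y ∈ F W g, g * y = y * g := fun y hy => (mem_F.mp hy).2
  rcases h.dich (F_le W g) (normalizes_F h.base hg) hg hg1 hgF with h1 | ⟨hQ, -, -⟩
  · left
    have hz : z ∈ F W g := mem_F.mpr ⟨h.hzW, h.hzE g hg⟩
    have hle : Subgroup.zpowers z ≤ F W g := by rw [Subgroup.zpowers_le]; exact hz
    rw [le_antisymm h1 hle]
    exact card_zpowers_two h.hz2
  · right; exact hQ.card

theorem Cfg9.z_mem_F (h : Cfg9 W E z) {g : G} (hg : g ∈ E) : z ∈ F W g :=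
  mem_F.mpr ⟨h.hzW, h.hzE g hg⟩

/-- one step of the chain -/
theorem Cfg9.chain_step [Finite G] (h : Cfg9 W E z) {P : Subgroup G} {g : G} (hg : g ∈ E)
    (hg1 : g ≠ 1) (hzP : z ∈ P) (hPc : ∀ x ∈ P, ∀ y ∈ F W g, x * y = y * x) :
    Nat.card ↥(P ⊔ F W g : Subgroup G) * 2 = Nat.card ↥P * Nat.card ↥(F W g) := by
  have hn : P ≤ Subgroup.normalizer ((F W g : Subgroup G) : Set G) := by
    apply le_normalizer_of_conj
    intro x hx y hy
    have : x * y * x⁻¹ = y := by rw [hPc x hx y hy]; group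
    rw [this]; exact hy
  have hinf : P ⊓ F W g = Subgroup.zpowers z := by
    apply le_antisymm
    · intro v hv
      obtain ⟨hvP, hvF⟩ := Subgroup.mem_inf.mp hv
      apply h.center_le (F_le W g) (normalizes_F h.base hg)
      refine Subgroup.mem_inf.mpr ⟨hvF, ?_⟩
      rw [Subgroup.mem_centralizer_iff]
      intro y hy
      exact (hPc v hvP y hy).symm
    · rw [Subgroup.zpowers_le]
      exact Subgroup.mem_inf.mpr ⟨hzP, h.z_mem_F hg⟩
  have := card_sup_mul_card_inf P (F W g) hn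
  rw [hinf, card_zpowers_two h.hz2] at this
  exact this

end

end Cfsg.Agent.Helper15.QE
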