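import Mathlib
import Cfsg.Agent.Lib.Helper15.QE8

/-!
# Part B: the structure of `W` (helper15)
-/

set_option autoImplicit false

namespace Cfsg.Agent.Helper15.QE

open Cfsg.Agent.Helper15.ConjAut

variable {G : Type*} [Group G] {W E : Subgroup G} {z : G}

/-- every nontrivial element of `E` generates the same subgroup as one of the four
representatives -/
theorem Cfg9.cover [Finite G] (h : Cfg9 W E z) {e₀ e₁ : G} (h0 : e₀ ∈ E) (h01 : e₀ ≠ 1)
    (h1 : e₁ ∈ E) (hind : e₁ ∉ Subgroup.zpowers e₀) :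
    ∀ u ∈ E, u ≠ 1 → u ∈ Subgroup.zpowers e₀ ∨ u ∈ Subgroup.zpowers e₁ ∨
      u ∈ Subgroup.zpowers (e₀ * e₁) ∨ u ∈ Subgroup.zpowers (e₀ * e₁ ^ 2) := by
  intro u hu hu1
  have hc : Commute e₀ e₁ := h.base.hab e₀ h0 e₁ h1
  have x0 := h.exp e₀ h0
  have x1 := h.exp e₁ h1
  obtain ⟨i, j, hi, hj, rfl⟩ := h.span h0 h01 h1 hind u hu
  interval_cases i <;> interval_cases j
  · exfalso; apply hu1; simp
  · right; left
    simp only [pow_zero, one_mul, pow_one]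
    exact Subgroup.mem_zpowers _
  · right; left
    simp only [pow_zero, one_mul]
    exact Subgroup.pow_mem _ (Subgroup.mem_zpowers _) 2
  · left
    simp only [pow_zero, mul_one, pow_one]
    exact Subgroup.mem_zpowers _
  · right; right; left
    simp only [pow_one]
    exact Subgroup.mem_zpowers _
  · right; right; right
    simp only [pow_one]
    exact Subgroup.mem_zpowers _
  · left
    simp only [pow_zero, mul_one]
    exact Subgroup.pow_mem _ (Subgroup.mem_zpowers _) 2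
  · right; right; right
    have : e₀ ^ 2 * e₁ ^ 1 = (e₀ * e₁ ^ 2) ^ 2 := by
      rw [(hc.pow_right 2).mul_pow, ← pow_mul, pow_one]
      have : e₁ ^ (2 * 2) = e₁ ^ 3 * e₁ := by rw [← pow_succ]
      rw [this, x1, one_mul]
    rw [this]
    exact Subgroup.pow_mem _ (Subgroup.mem_zpowers _) 2
  · right; right; left
    have : e₀ ^ 2 * e₁ ^ 2 = (e₀ * e₁) ^ 2 := by rw [hc.mul_pow]
    rw [this]
    exact Subgroup.pow_mem _ (Subgroup.mem_zpowers _) 2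

/-- **The structure of `W`.** -/
theorem Cfg9.final [Finite G] (h : Cfg9 W E z) {e₀ e₁ : G} (h0 : e₀ ∈ E) (h1 : e₁ ∈ E)
    (h01 : e₀ ≠ 1) (h11 : e₁ ≠ 1) (hQ0 : IsQ (F W e₀)) (hQ1 : IsQ (F W e₁))
    (hne : F W e₀ ≠ F W e₁) :
    (∀ w ∈ W, w * z = z * w) ∧
      (∀ w ∈ W, (∀ v ∈ W, w * v = v * w) → w ∈ Subgroup.zpowers z) ∧
      (∀ u ∈ W, ∀ v ∈ W, u * v * u⁻¹ * v⁻¹ ∈ Subgroup.zpowers z) ∧
      (∀ u ∈ W, u ^ 2 ∈ Subgroup.zpowers z) ∧
      (Nat.card ↥W = 2 ^ 5 ∨ Nat.card ↥W = 2 ^ 7 ∨ Nat.card ↥W = 2 ^ 9) := by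
  haveI : Fact (Nat.Prime 3) := ⟨Nat.prime_three⟩
  have hWne : W ≠ ⊥ := by
    intro hbot
    have := h.hzW
    rw [hbot, Subgroup.mem_bot] at this
    exact ne_one_of_orderOf_two h.hz2 this
  obtain ⟨-, hzc⟩ := h.z_central le_rfl h.base.hN hWne
  obtain ⟨hcl1, hcl2⟩ := h.class_two_aux (Nat.card ↥W) W le_rfl h.base.hN le_rfl
  refine ⟨hzc, ?_, hcl1, hcl2, ?_⟩
  · intro w hw hwc
    apply h.center_le le_rfl h.base.hN
    refine Subgroup.mem_inf.mpr ⟨hw, ?_⟩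
    rw [Subgroup.mem_centralizer_iff]
    exact fun v hv => (hwc v hv).symm
  -- the order
  have hind : e₁ ∉ Subgroup.zpowers e₀ := by
    intro hmem
    exact hne (h.F_eq h0 h1 h11 hmem).symm
  have hind' : e₀ ∉ Subgroup.zpowers e₁ := h.indep_symm h0 h01 h1 hind
  have hc : Commute e₀ e₁ := h.base.hab e₀ h0 e₁ h1
  obtain ⟨g₃, hg₃⟩ : ∃ g₃ : G, g₃ = e₀ * e₁ := ⟨_, rfl⟩
  obtain ⟨g₄, hg₄⟩ : ∃ g₄ : G, g₄ = e₀ * e₁ ^ 2 := ⟨_, rfl⟩
  have h3 : g₃ ∈ E := by rw [hg₃]; exact E.mul_mem h0 h1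
  have h4 : g₄ ∈ E := by rw [hg₄]; exact E.mul_mem h0 (E.pow_mem h1 2)
  have x1 := h.exp e₁ h1
  have he₁sq : e₁ = (e₁ ^ 2) ^ 2 := by
    rw [← pow_mul]
    have : e₁ ^ (2 * 2) = e₁ ^ 3 * e₁ := by rw [← pow_succ]
    rw [this, x1, one_mul]
  -- independence
  have i13 : g₃ ∉ Subgroup.zpowers e₀ := by
    intro hm
    apply hind
    have : e₁ = e₀⁻¹ * g₃ := by rw [hg₃]; group
    rw [this]
    exact Subgroup.mul_mem _ (Subgroup.inv_mem _ (Subgroup.mem_zpowers e₀)) hm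
  have i14 : g₄ ∉ Subgroup.zpowers e₀ := by
    intro hm
    apply hind
    have h2 : e₁ ^ 2 ∈ Subgroup.zpowers e₀ := by
      have : e₁ ^ 2 = e₀⁻¹ * g₄ := by rw [hg₄]; group
      rw [this]
      exact Subgroup.mul_mem _ (Subgroup.inv_mem _ (Subgroup.mem_zpowers e₀)) hm
    rw [he₁sq]
    exact Subgroup.pow_mem _ h2 2
  have i23 : g₃ ∉ Subgroup.zpowers e₁ := by
    intro hm
    apply hind'
    have : e₀ = g₃ * e₁⁻¹ := by rw [hg₃]; group
    rw [this]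
    exact Subgroup.mul_mem _ hm (Subgroup.inv_mem _ (Subgroup.mem_zpowers e₁))
  have i24 : g₄ ∉ Subgroup.zpowers e₁ := by
    intro hm
    apply hind'
    have : e₀ = g₄ * (e₁ ^ 2)⁻¹ := by rw [hg₄]; group
    rw [this]
    exact Subgroup.mul_mem _ hm
      (Subgroup.inv_mem _ (Subgroup.pow_mem _ (Subgroup.mem_zpowers e₁) 2))
  have h31 : g₃ ≠ 1 := by
    intro h2
    apply i13
    rw [h2]; exact Subgroup.one_mem _
  have h41 : g₄ ≠ 1 := by
    intro h2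
    apply i14
    rw [h2]; exact Subgroup.one_mem _
  have i34 : g₄ ∉ Subgroup.zpowers g₃ := by
    intro hm
    have h2 : e₁ ∈ Subgroup.zpowers g₃ := by
      have : e₁ = g₃⁻¹ * g₄ := by rw [hg₃, hg₄]; group
      rw [this]
      exact Subgroup.mul_mem _ (Subgroup.inv_mem _ (Subgroup.mem_zpowers g₃)) hm
    have h5 := h.zpowers_eq h3 h1 h11 h2
    apply i23
    rw [h5]; exact Subgroup.mem_zpowers g₃
  -- the chain
  obtain ⟨P₂, hP₂⟩ : ∃ P₂ : Subgroup G, P₂ = F W e₀ ⊔ F W e₁ := ⟨_, rfl⟩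
  obtain ⟨P₃, hP₃⟩ : ∃ P₃ : Subgroup G, P₃ = P₂ ⊔ F W g₃ := ⟨_, rfl⟩
  obtain ⟨P₄, hP₄⟩ : ∃ P₄ : Subgroup G, P₄ = P₃ ⊔ F W g₄ := ⟨_, rfl⟩
  have c12 := h.comm h0 h01 h1 hind
  have c13 := h.comm h0 h01 h3 i13
  have c14 := h.comm h0 h01 h4 i14
  have c23 := h.comm h1 h11 h3 i23
  have c24 := h.comm h1 h11 h4 i24
  have c34 := h.comm h3 h31 h4 i34
  have hcent : ∀ {A B : Subgroup G}, (∀ x ∈ A, ∀ y ∈ B, x * y = y * x) →
      A ≤ Subgroup.centralizer (B : Set G) := by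
    intro A B hAB x hx
    rw [Subgroup.mem_centralizer_iff]
    exact fun y hy => (hAB x hx y hy).symm
  have hcent' : ∀ {A B : Subgroup G}, A ≤ Subgroup.centralizer (B : Set G) →
      ∀ x ∈ A, ∀ y ∈ B, x * y = y * x := by
    intro A B hAB x hx y hy
    exact ((Subgroup.mem_centralizer_iff.mp (hAB hx)) y hy).symm
  have hP₂3 : P₂ ≤ Subgroup.centralizer ((F W g₃ : Subgroup G) : Set G) := by
    rw [hP₂]; exact sup_le (hcent c13) (hcent c23)
  have hP₂4 : P₂ ≤ Subgroup.centralizer ((F W g₄ : Subgroup G) : Set G) := by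
    rw [hP₂]; exact sup_le (hcent c14) (hcent c24)
  have hP₃4 : P₃ ≤ Subgroup.centralizer ((F W g₄ : Subgroup G) : Set G) := by
    rw [hP₃]; exact sup_le hP₂4 (hcent c34)
  have hz1 : z ∈ F W e₀ := h.z_mem_F h0
  have hzP₂ : z ∈ P₂ := by rw [hP₂]; exact Subgroup.mem_sup_left hz1
  have hzP₃ : z ∈ P₃ := by rw [hP₃]; exact Subgroup.mem_sup_left hzP₂
  have s2 := h.chain_step h1 h11 hz1 c12
  have s3 := h.chain_step h3 h31 hzP₂ (hcent' hP₂3)
  have s4 := h.chain_step h4 h41 hzP₃ (hcent' hP₃4)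
  rw [← hP₂] at s2
  rw [← hP₃] at s3
  rw [← hP₄] at s4
  -- `W = P₄`
  have hP₄W : P₄ ≤ W := by
    rw [hP₄, hP₃, hP₂]
    exact sup_le (sup_le (sup_le (F_le W _) (F_le W _)) (F_le W _)) (F_le W _)
  have hWP₄ : W ≤ P₄ := by
    apply Cfsg.Agent.Helper15.le_of_forall_ne_one_inf_centralizer_le h.elem h.sq_le
      (h.coprime le_rfl) h.base.hN
    intro u hu hu1
    have hle1 : F W e₀ ≤ P₄ := by
      rw [hP₄, hP₃, hP₂]; exact le_sup_left.trans (le_sup_left.trans le_sup_left)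
    have hle2 : F W e₁ ≤ P₄ := by
      rw [hP₄, hP₃, hP₂]; exact le_sup_right.trans (le_sup_left.trans le_sup_left)
    have hle3 : F W g₃ ≤ P₄ := by
      rw [hP₄, hP₃]; exact le_sup_right.trans le_sup_left
    have hle4 : F W g₄ ≤ P₄ := by
      rw [hP₄]; exact le_sup_right
    show F W u ≤ P₄
    rcases h.cover h0 h01 h1 hind u hu hu1 with hm | hm | hm | hm
    · rw [h.F_eq h0 hu hu1 hm]; exact hle1
    · rw [h.F_eq h1 hu hu1 hm]; exact hle2
    · rw [← hg₃] at hm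
      rw [h.F_eq h3 hu hu1 hm]; exact hle3
    · rw [← hg₄] at hm
      rw [h.F_eq h4 hu hu1 hm]; exact hle4
  have hWeq : W = P₄ := le_antisymm hWP₄ hP₄W
  rw [hWeq]
  have k3 := h.card_F h3 h31
  have k4 := h.card_F h4 h41
  rw [hQ0.card, hQ1.card] at s2
  rcases k3 with k3 | k3 <;> rcases k4 with k4 | k4 <;> rw [k3] at s3 <;> rw [k4] at s4
  · left; omega
  · right; left; omega
  · right; left; omega
  · right; right; omega

end Cfsg.Agent.Helper15.QE
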