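import Mathlib
import Cfsg.Agent.Lib.Helper15.QE9

/-!
# The ambient form of the theorem (helper15)
-/

set_option autoImplicit false

namespace Cfsg.Agent.Helper15.QE

open Cfsg.Agent.Helper15.ConjAut

variable {G : Type*} [Group G] {W E : Subgroup G}

theorem ambient_main [Finite G] {p : ℕ} [Fact p.Prime] (hp : p ≠ 2)
    (h : Cfg p W E) (hnc : ¬ IsCyclic ↥E)
    (hfaith : ∀ e ∈ E, (∀ w ∈ W, e * w = w * e) → e = 1) :
    Nat.card ↥E = 9 ∧ ∃ z ∈ W, orderOf z = 2 ∧ (∀ w ∈ W, w * z = z * w) ∧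
      (∀ w ∈ W, (∀ v ∈ W, w * v = v * w) → w ∈ Subgroup.zpowers z) ∧
      (∀ u ∈ W, ∀ v ∈ W, u * v * u⁻¹ * v⁻¹ ∈ Subgroup.zpowers z) ∧
      (∀ u ∈ W, u ^ 2 ∈ Subgroup.zpowers z) ∧
      (Nat.card ↥W = 2 ^ 5 ∨ Nat.card ↥W = 2 ^ 7 ∨ Nat.card ↥W = 2 ^ 9) ∧
      (∀ w ∈ W, (∀ e ∈ E, e * w = w * e) ↔ w ∈ Subgroup.zpowers z) ∧
      (∃ u ∈ W, ∃ v ∈ W, u * v ≠ v * u) := by
  obtain ⟨hp3, hcard, hexp, e₀, he₀, e₁, he₁, he₀1, he₁1, hQ0, hQ1, hne, a, ha, y₀, hy₀, hay⟩ :=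
    partA hp h hnc hfaith
  subst hp3
  haveI : Fact (Nat.Prime 2) := ⟨Nat.prime_two⟩
  have hEQ := normalizes_F h he₀
  have hgQ : ∀ y ∈ F W e₀, e₀ * y = y * e₀ := fun y hy => (mem_F.mp hy).2
  obtain ⟨-, -, hmove, -⟩ := quat_of_moved hp h (F_le W e₀) hEQ he₀ he₀1 hgQ ha hy₀ hay
  obtain ⟨x, hx, hx2⟩ := hQ0.ex
  obtain ⟨z, hz⟩ : ∃ z : G, z = x ^ 2 := ⟨_, rfl⟩
  have hzQ : z ∈ F W e₀ := by rw [hz]; exact Subgroup.pow_mem _ hx 2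
  have hzW : z ∈ W := F_le W e₀ hzQ
  have hz1 : z ≠ 1 := by rw [hz]; exact hx2
  have hz2 : orderOf z = 2 := by
    apply orderOf_eq_prime _ hz1
    rw [hz, ← pow_mul]
    exact hQ0.pow_four x hx
  have hzE : ∀ e ∈ E, e * z = z * e := by
    intro e he
    have h1 : e * z * e⁻¹ ∈ F W e₀ := conj_mem hEQ he hzQ
    have h2 : orderOf (e * z * e⁻¹) = 2 := by
      have := (MulAut.conj e).orderOf_eq z
      rw [MulAut.conj_apply] at this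
      rw [this, hz2]
    have h3 := h.hfix e₀ he₀ he₀1 _ (F_le W e₀ h1) z hzW h2 hz2 (hgQ _ h1) (hgQ z hzQ)
    calc e * z = e * z * e⁻¹ * e := by group
      _ = z * e := by rw [h3]
  have hC : ∀ w ∈ W, (∀ e ∈ E, e * w = w * e) → w ∈ Subgroup.zpowers z := by
    intro w hw hwE
    have hwQ : w ∈ F W e₀ := mem_F.mpr ⟨hw, hwE e₀ he₀⟩
    rw [mem_zpowers_two hz2]
    by_cases hw2 : w ^ 2 = 1
    · by_cases hw1 : w = 1
      · left; exact hw1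
      · right
        have hwo : orderOf w = 2 := orderOf_eq_prime hw2 hw1
        exact h.hfix e₀ he₀ he₀1 w hw z hzW hwo hz2 (hgQ w hwQ) (hgQ z hzQ)
    · exfalso
      obtain ⟨h1, -, -⟩ := hmove w hwQ hw2
      apply h1
      rw [hwE a ha]; group
  have h9 : Cfg9 W E z := ⟨h, hcard, hexp, hzW, hz2, hzE, hC⟩
  obtain ⟨f1, f2, f3, f4, f5⟩ := h9.final he₀ he₁ he₀1 he₁1 hQ0 hQ1 hne
  refine ⟨hcard, z, hzW, hz2, f1, f2, f3, f4, f5, ?_, ?_⟩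
  · intro w hw
    constructor
    · exact hC w hw
    · intro hwz e he
      exact commute_of_mem_zpowers hwz (hzE e he)
  · obtain ⟨u, hu, v, hv, huv⟩ := hQ0.not_comm
    exact ⟨u, F_le W e₀ hu, v, F_le W e₀ hv, huv⟩

end Cfsg.Agent.Helper15.QE
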