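import Mathlib

/-!
# S4751 piece D6 (helper15 for helper24): the centralizer of a normal four-subgroup has index six
-/

set_option autoImplicit false
set_option linter.style.haveILetI false

namespace Cfsg.Agent.Helper24.RU

universe u

open scoped Pointwise

variable {G : Type u} [Group G]

/-- Conjugation action of `G` on the nonidentity elements of a normal subgroup. -/
noncomputable def conjPermNe (P : Subgroup G) [P.Normal] : G →* Equiv.Perm {x : P // x ≠ 1} where
  toFun g := (MulAut.conjNormal g : P ≃* P).toEquiv.subtypeEquiv (fun a => by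
    show a ≠ 1 ↔ (MulAut.conjNormal g : P ≃* P) a ≠ 1
    rw [Ne, Ne, EmbeddingLike.map_eq_one_iff])
  map_one' := by
    ext x
    simp
  map_mul' := by
    intro a b
    ext x
    simp

theorem conjPermNe_apply (P : Subgroup G) [P.Normal] (g : G) (x : {x : P // x ≠ 1}) :
    ((conjPermNe P g x : {x : P // x ≠ 1}) : G) = g * (x : P) * g⁻¹ := by
  simp [conjPermNe]

theorem conjPermNe_ker (P : Subgroup G) [P.Normal] :
    (conjPermNe P).ker = Subgroup.centralizer (P : Set G) := by
  ext g
  rw [MonoidHom.mem_ker, Subgroup.mem_centralizer_iff]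
  constructor
  · intro h x hx
    by_cases hx1 : x = 1
    · rw [hx1, mul_one, one_mul]
    · have hne : (⟨x, hx⟩ : P) ≠ 1 := by
        intro h'; apply hx1; exact congrArg Subtype.val h'
      have := conjPermNe_apply P g ⟨⟨x, hx⟩, hne⟩
      rw [h] at this
      simp only [Equiv.Perm.coe_one, id_eq] at this
      have h2 : x * g = g * x * g⁻¹ * g := by rw [← this]
      rw [h2]; group
  · intro h
    ext x
    rw [conjPermNe_apply]
    simp only [Equiv.Perm.coe_one, id_eq]
    have := h (x : P) (x : P).2
    rw [← this]; group

variable [Fintype G]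

/-- PIECE D6. -/
theorem index_centralizer_eq_six (P : Subgroup G) [P.Normal] (hcard : Nat.card P = 4)
    (hC : Subgroup.centralizer (P : Set G) = P ⊔ Subgroup.center G)
    (hPZ : P ⊓ Subgroup.center G = ⊥) (hodd : Odd (Nat.card (Subgroup.center G)))
    (h8 : 8 ∣ Nat.card G) (T : Subgroup G) (hT : T.index = 3)
    (hCT : Subgroup.centralizer (P : Set G) ≤ T) :
    (Subgroup.centralizer (P : Set G)).index = 6 := by
  classical
  set C := Subgroup.centralizer (P : Set G) with hCdef
  -- the index divides 6
  have h6 : C.index ∣ 6 := by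
    rw [hCdef, ← conjPermNe_ker P, Subgroup.index_ker]
    have h1 : Nat.card (conjPermNe P).range ∣ Nat.card (Equiv.Perm {x : P // x ≠ 1}) :=
      Subgroup.card_subgroup_dvd_card _
    have h2 : Nat.card (Equiv.Perm {x : P // x ≠ 1}) = 6 := by
      rw [Nat.card_perm]
      have : Nat.card {x : P // x ≠ 1} = 3 := by
        have hfin : Finite P := Nat.finite_of_card_ne_zero (by rw [hcard]; norm_num)
        haveI := Fintype.ofFinite P
        rw [Nat.card_eq_fintype_card, Fintype.card_subtype_compl, Fintype.card_subtype_eq,
          ← Nat.card_eq_fintype_card, hcard]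
      rw [this]; rfl
    rwa [h2] at h1
  -- 3 divides the index
  have h3 : 3 ∣ C.index := by
    rw [← hT]; exact Subgroup.index_dvd_of_le hCT
  -- card C = 4 * card Z
  have hCcard : Nat.card C = 4 * Nat.card (Subgroup.center G) := by
    rw [hC]
    have hle : Nat.card (P ⊔ Subgroup.center G : Subgroup G) ≤ 4 * Nat.card (Subgroup.center G) := by
      have hset : ((Subgroup.center G ⊔ P : Subgroup G) : Set G)
          = (Subgroup.center G : Set G) * (P : Set G) := Subgroup.mul_normal _ _
      rw [sup_comm]
      have h1 : Nat.card (Subgroup.center G ⊔ P : Subgroup G) =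
          Nat.card (((Subgroup.center G : Set G) * (P : Set G) : Set G)) := by
        rw [← hset]; rfl
      rw [h1]
      calc Nat.card (((Subgroup.center G : Set G) * (P : Set G) : Set G))
            ≤ Nat.card (Subgroup.center G : Set G) * Nat.card (P : Set G) := Set.natCard_mul_le
        _ = 4 * Nat.card (Subgroup.center G) := by
            have e1 : Nat.card (Subgroup.center G : Set G) = Nat.card (Subgroup.center G) := rfl
            have e2 : Nat.card (P : Set G) = Nat.card P := rfl
            rw [e1, e2, hcard, mul_comm]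
    have hd1 : 4 ∣ Nat.card (P ⊔ Subgroup.center G : Subgroup G) := by
      rw [← hcard]; exact Subgroup.card_dvd_of_le le_sup_left
    have hd2 : Nat.card (Subgroup.center G) ∣ Nat.card (P ⊔ Subgroup.center G : Subgroup G) :=
      Subgroup.card_dvd_of_le le_sup_right
    have hcop : Nat.Coprime 4 (Nat.card (Subgroup.center G)) := by
      have h2 : Nat.Coprime 2 (Nat.card (Subgroup.center G)) := Nat.coprime_two_left.mpr hodd
      have h4 : Nat.Coprime (2 ^ 2) (Nat.card (Subgroup.center G)) := Nat.Coprime.pow_left 2 h2
      exact h4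
    have hd : 4 * Nat.card (Subgroup.center G) ∣ Nat.card (P ⊔ Subgroup.center G : Subgroup G) :=
      hcop.mul_dvd_of_dvd_of_dvd hd1 hd2
    have hpos : 0 < Nat.card (P ⊔ Subgroup.center G : Subgroup G) := Nat.card_pos
    exact le_antisymm hle (Nat.le_of_dvd hpos hd)
  -- 2 divides the index
  have h2 : 2 ∣ C.index := by
    have hmul := Subgroup.card_mul_index C
    rw [hCcard] at hmul
    rw [← hmul] at h8
    -- 8 ∣ 4 * z * i
    have h8' : 2 ∣ Nat.card (Subgroup.center G) * C.index := by
      have : 4 * 2 ∣ 4 * (Nat.card (Subgroup.center G) * C.index) := by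
        rw [← mul_assoc]; exact h8
      exact Nat.dvd_of_mul_dvd_mul_left (by norm_num) this
    rcases (Nat.Prime.dvd_mul Nat.prime_two).mp h8' with h | h
    · exfalso
      exact (Nat.not_even_iff_odd.mpr hodd) (even_iff_two_dvd.mpr h)
    · exact h
  have h6' : 6 ∣ C.index := by
    have : Nat.Coprime 2 3 := by norm_num
    exact this.mul_dvd_of_dvd_of_dvd h2 h3
  exact Nat.dvd_antisymm h6 h6'

end Cfsg.Agent.Helper24.RU
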