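import Mathlib

/-!
# S4751 piece DK (helper15 for helper24): a complement of order six

`X` finite nonabelian with a central subgroup `Z₀` of odd order and index `6`: there is a subgroup
`K` of order `6` meeting `Z₀` trivially.
-/

set_option autoImplicit false
set_option linter.style.haveILetI false

namespace Cfsg.Agent.Helper24.RU

universe u

open scoped Pointwise

/-- PIECE DK. -/
theorem exists_compl_six {X : Type u} [Group X] [Finite X] (Z₀ : Subgroup X)
    (hZ : Z₀ ≤ Subgroup.center X) (hodd : Odd (Nat.card Z₀)) (hidx : Z₀.index = 6)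
    (hnab : ¬ ∀ a b : X, a * b = b * a) : ∃ K : Subgroup X, Nat.card K = 6 ∧ K ⊓ Z₀ = ⊥ := by
  classical
  haveI hZn : Z₀.Normal := ⟨fun z hz g => by
    have hc : g * z = z * g := ((Subgroup.mem_center_iff.mp (hZ hz)) g)
    rw [hc, mul_inv_cancel_right]; exact hz⟩
  have hcen : ∀ z ∈ Z₀, ∀ g : X, g * z = z * g := fun z hz g =>
    (Subgroup.mem_center_iff.mp (hZ hz)) g
  have hcardX : Nat.card X = Nat.card Z₀ * 6 := by rw [← hidx, Subgroup.card_mul_index]
  have hcardQ : Nat.card (X ⧸ Z₀) = 6 := by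
    rw [← Subgroup.index_eq_card]; exact hidx
  -- an element of order 3 in the quotient
  obtain ⟨cbar, hcbar⟩ := exists_prime_orderOf_dvd_card' (G := X ⧸ Z₀) 3
    (hp := ⟨by norm_num⟩) (by rw [hcardQ]; norm_num)
  obtain ⟨c, rfl⟩ := QuotientGroup.mk_surjective cbar
  have hc3 : c ^ 3 ∈ Z₀ := by
    rw [← QuotientGroup.eq_one_iff, QuotientGroup.mk_pow, ← hcbar, pow_orderOf_eq_one]
  -- an involution
  obtain ⟨t, ht⟩ := exists_prime_orderOf_dvd_card' (G := X) 2
    (hp := ⟨by norm_num⟩) (by rw [hcardX]; exact Dvd.dvd.mul_left (by norm_num) _)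
  have ht2 : t * t = 1 := by
    have := pow_orderOf_eq_one t
    rwa [ht, pow_two] at this
  have htinv : t⁻¹ = t := inv_eq_of_mul_eq_one_right ht2
  have ht1 : t ≠ 1 := by
    intro h; rw [h, orderOf_one] at ht; norm_num at ht
  -- the subgroup of index two
  set M₁ : Subgroup X := (Subgroup.zpowers (c : X ⧸ Z₀)).comap (QuotientGroup.mk' Z₀) with hM₁
  have hM₁card : Nat.card M₁ = 3 * Nat.card Z₀ := by
    have := Subgroup.index_comap_of_surjective (Subgroup.zpowers (c : X ⧸ Z₀))
      (QuotientGroup.mk'_surjective Z₀)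
    have hidx2 : M₁.index = 2 := by
      rw [hM₁, this]
      have h3 : Nat.card (Subgroup.zpowers (c : X ⧸ Z₀)) = 3 := by
        rw [Nat.card_zpowers, hcbar]
      have := Subgroup.card_mul_index (Subgroup.zpowers (c : X ⧸ Z₀))
      rw [h3, hcardQ] at this
      omega
    have := Subgroup.card_mul_index M₁
    rw [hidx2, hcardX] at this
    omega
  have hM₁idx : M₁.index = 2 := by
    have := Subgroup.card_mul_index M₁
    rw [hM₁card, hcardX] at this
    have hpos : 0 < Nat.card Z₀ := Nat.card_pos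
    nlinarith
  haveI hM₁n : M₁.Normal := Subgroup.normal_of_index_eq_two hM₁idx
  have hZM : Z₀ ≤ M₁ := by
    intro z hz
    rw [hM₁, Subgroup.mem_comap]
    have : (QuotientGroup.mk' Z₀) z = 1 := (QuotientGroup.eq_one_iff z).mpr hz
    rw [this]; exact one_mem _
  have hcM : c ∈ M₁ := by
    rw [hM₁, Subgroup.mem_comap]; exact Subgroup.mem_zpowers _
  -- elements of M₁ are `c ^ i * z`
  have hM₁form : ∀ m ∈ M₁, ∃ (i : ℤ) (z : X), z ∈ Z₀ ∧ m = c ^ i * z := by
    intro m hm
    rw [hM₁, Subgroup.mem_comap, Subgroup.mem_zpowers_iff] at hm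
    obtain ⟨i, hi⟩ := hm
    refine ⟨i, (c ^ i)⁻¹ * m, ?_, by group⟩
    rw [← QuotientGroup.eq_one_iff]
    simp only [QuotientGroup.mk_mul, QuotientGroup.mk_inv, QuotientGroup.mk_zpow]
    have : (QuotientGroup.mk' Z₀) m = (m : X ⧸ Z₀) := rfl
    rw [this] at hi
    rw [← hi]; group
  have hM₁odd : Odd (Nat.card M₁) := by
    rw [hM₁card]; exact Odd.mul (by decide) hodd
  have htM : t ∉ M₁ := by
    intro h
    have h2 : orderOf t ∣ Nat.card M₁ := by
      have := orderOf_dvd_natCard (⟨t, h⟩ : M₁)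
      rwa [Subgroup.orderOf_mk] at this
    rw [ht] at h2
    exact (Nat.not_even_iff_odd.mpr hM₁odd) (even_iff_two_dvd.mpr h2)
  -- everything commuting with t and c forces commutativity
  have hct : c * t ≠ t * c := by
    intro hcomm
    apply hnab
    -- M₁ ⊔ zpowers t = ⊤
    have hcomm_z : ∀ i : ℤ, c ^ i * t = t * c ^ i := fun i =>
      ((Commute.zpow_left (show Commute c t from hcomm) i)).eq
    have hMt : ∀ m ∈ M₁, m * t = t * m := by
      intro m hm
      obtain ⟨i, z, hz, rfl⟩ := hM₁form m hm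
      rw [mul_assoc, ← hcen z hz t, ← mul_assoc, hcomm_z i, mul_assoc]
    have hMM : ∀ m ∈ M₁, ∀ m' ∈ M₁, m * m' = m' * m := by
      intro m hm m' hm'
      obtain ⟨i, z, hz, rfl⟩ := hM₁form m hm
      obtain ⟨j, z', hz', rfl⟩ := hM₁form m' hm'
      have e1 : c ^ i * z * (c ^ j * z') = c ^ i * c ^ j * (z * z') := by
        rw [mul_assoc, ← mul_assoc z, ← hcen z hz (c ^ j)]; group
      have e2 : c ^ j * z' * (c ^ i * z) = c ^ j * c ^ i * (z' * z) := by
        rw [mul_assoc, ← mul_assoc z', ← hcen z' hz' (c ^ i)]; group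
      rw [e1, e2, ← zpow_add, ← zpow_add, add_comm, hcen z' hz' z]
    have hform : ∀ x : X, x ∈ M₁ ∨ ∃ m ∈ M₁, x = m * t := by
      intro x
      by_cases hx : x ∈ M₁
      · exact Or.inl hx
      · right
        refine ⟨x * t⁻¹, ?_, by group⟩
        have := (Subgroup.mul_mem_iff_of_index_two hM₁idx (a := x) (b := t⁻¹))
        rw [this]
        constructor
        · intro h; exact absurd h hx
        · intro h; rw [inv_mem_iff] at h; exact absurd h htM
    intro a b
    rcases hform a with ha | ⟨m, hm, rfl⟩ <;> rcases hform b with hb | ⟨m', hm', rfl⟩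
    · exact hMM a ha b hb
    · rw [← mul_assoc, hMM a ha m' hm', mul_assoc, mul_assoc, hMt a ha]
    · rw [mul_assoc, ← hMt b hb, ← mul_assoc, hMM m hm b hb, mul_assoc]
    · calc m * t * (m' * t) = m * (t * m') * t := by group
        _ = m * (m' * t) * t := by rw [hMt m' hm']
        _ = (m * m') * t * t := by group
        _ = (m' * m) * t * t := by rw [hMM m hm m' hm']
        _ = m' * (m * t) * t := by group
        _ = m' * (t * m) * t := by rw [hMt m hm]
        _ = m' * t * (m * t) := by group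
  -- the commutator r
  set r : X := c * t * c⁻¹ * t⁻¹ with hr
  have hrM : r ∈ M₁ := by
    have h1 : t * c⁻¹ * t⁻¹ ∈ M₁ := hM₁n.conj_mem _ (inv_mem hcM) t
    have : r = c * (t * c⁻¹ * t⁻¹) := by rw [hr]; group
    rw [this]; exact mul_mem hcM h1
  have hr1 : r ≠ 1 := by
    intro h
    apply hct
    have : c * t * c⁻¹ * t⁻¹ = 1 := h
    have h2 : c * t * c⁻¹ = t := by
      have := congrArg (· * t) this
      simpa using this
    have h3 := congrArg (· * c) h2
    simpa using h3
  have htr : t * r * t⁻¹ = r⁻¹ := by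
    rw [hr, htinv]
    have : (c * t * c⁻¹ * t)⁻¹ = t⁻¹ * c * t⁻¹ * c⁻¹ := by group
    rw [this, htinv]
    calc t * (c * t * c⁻¹ * t) * t = t * c * t * c⁻¹ * (t * t) := by group
      _ = t * c * t * c⁻¹ := by rw [ht2, mul_one]
  -- t c⁻¹ t⁻¹ lies in M₁, so commutes with c
  have hr3 : r ^ 3 = 1 := by
    -- r = c * d with d = t c⁻¹ t⁻¹ ∈ M₁ commuting with c
    have hd : t * c⁻¹ * t⁻¹ ∈ M₁ := hM₁n.conj_mem _ (inv_mem hcM) t
    have hMM : ∀ m ∈ M₁, ∀ m' ∈ M₁, m * m' = m' * m := by
      intro m hm m' hm'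
      obtain ⟨i, z, hz, rfl⟩ := hM₁form m hm
      obtain ⟨j, z', hz', rfl⟩ := hM₁form m' hm'
      have e1 : c ^ i * z * (c ^ j * z') = c ^ i * c ^ j * (z * z') := by
        rw [mul_assoc, ← mul_assoc z, ← hcen z hz (c ^ j)]; group
      have e2 : c ^ j * z' * (c ^ i * z) = c ^ j * c ^ i * (z' * z) := by
        rw [mul_assoc, ← mul_assoc z', ← hcen z' hz' (c ^ i)]; group
      rw [e1, e2, ← zpow_add, ← zpow_add, add_comm, hcen z' hz' z]
    have hcd : Commute c (t * c⁻¹ * t⁻¹) := hMM c hcM _ hd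
    have hrd : r = c * (t * c⁻¹ * t⁻¹) := by rw [hr]; group
    rw [hrd, hcd.mul_pow]
    have h1 : (t * c⁻¹ * t⁻¹) ^ 3 = t * (c ^ 3)⁻¹ * t⁻¹ := by
      rw [conj_pow, inv_pow]
    rw [h1]
    have h2 : t * (c ^ 3)⁻¹ = (c ^ 3)⁻¹ * t := hcen _ (inv_mem hc3) t
    rw [h2]; group
  have hrord : orderOf r = 3 := by
    have hd : orderOf r ∣ 3 := orderOf_dvd_of_pow_eq_one hr3
    rcases (Nat.dvd_prime (by norm_num : Nat.Prime 3)).mp hd with h | h
    · exact absurd (orderOf_eq_one_iff.mp h) hr1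
    · exact h
  have hrZ : r ∉ Z₀ := by
    intro h
    have h1 : t * r * t⁻¹ = r := by rw [hcen r h t, mul_inv_cancel_right]
    rw [htr] at h1
    -- r⁻¹ = r → r^2 = 1 → r = 1
    have h2 : r ^ 2 = 1 := by
      rw [pow_two]
      calc r * r = r⁻¹ * r := by rw [h1]
        _ = 1 := inv_mul_cancel r
    have : orderOf r ∣ 2 := orderOf_dvd_of_pow_eq_one h2
    rw [hrord] at this; norm_num at this
  -- the subgroup K
  set R : Subgroup X := Subgroup.zpowers r with hR
  set T : Subgroup X := Subgroup.zpowers t with hT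
  have hTR : T ≤ Subgroup.normalizer (R : Set X) := by
    rw [hT, Subgroup.zpowers_le]
    rw [Subgroup.mem_normalizer_iff]
    have key : ∀ h : X, h ∈ R → t * h * t⁻¹ ∈ R := by
      intro h hh
      obtain ⟨k, rfl⟩ := Subgroup.mem_zpowers_iff.mp hh
      have : t * r ^ k * t⁻¹ = (r⁻¹) ^ k := by
        rw [← htr, conj_zpow]
      rw [this]
      exact zpow_mem (inv_mem (Subgroup.mem_zpowers r)) k
    intro h
    constructor
    · exact key h
    · intro hh
      have := key _ hh
      rw [htinv] at this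
      have e : t * (t * h * t) * t = h := by
        calc t * (t * h * t) * t = (t * t) * h * (t * t) := by group
          _ = h := by rw [ht2, one_mul, mul_one]
      rwa [e] at this
  have hKset : ((T ⊔ R : Subgroup X) : Set X) = (T : Set X) * (R : Set X) :=
    Subgroup.coe_mul_of_left_le_normalizer_right T R hTR
  have hRcard : Nat.card R = 3 := by rw [hR, Nat.card_zpowers, hrord]
  have hTcard : Nat.card T = 2 := by rw [hT, Nat.card_zpowers, ht]
  refine ⟨T ⊔ R, ?_, ?_⟩
  · -- card
    have hle : Nat.card (T ⊔ R : Subgroup X) ≤ 6 := by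
      have h1 : Nat.card (T ⊔ R : Subgroup X) =
          Nat.card (((T : Set X) * (R : Set X) : Set X)) := by
        rw [← hKset]; rfl
      rw [h1]
      calc Nat.card (((T : Set X) * (R : Set X) : Set X))
            ≤ Nat.card (T : Set X) * Nat.card (R : Set X) := Set.natCard_mul_le
        _ = 6 := by
            have e1 : Nat.card (T : Set X) = Nat.card T := rfl
            have e2 : Nat.card (R : Set X) = Nat.card R := rfl
            rw [e1, e2, hTcard, hRcard]
    have h2 : 2 ∣ Nat.card (T ⊔ R : Subgroup X) := by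
      rw [← hTcard]; exact Subgroup.card_dvd_of_le le_sup_left
    have h3 : 3 ∣ Nat.card (T ⊔ R : Subgroup X) := by
      rw [← hRcard]; exact Subgroup.card_dvd_of_le le_sup_right
    have hpos : 0 < Nat.card (T ⊔ R : Subgroup X) := Nat.card_pos
    omega
  · rw [eq_bot_iff]
    intro x hx
    obtain ⟨hxK, hxZ⟩ := Subgroup.mem_inf.mp hx
    have hxK' : x ∈ ((T ⊔ R : Subgroup X) : Set X) := hxK
    rw [hKset] at hxK'
    obtain ⟨a, ha, b, hb, rfl⟩ := Set.mem_mul.mp hxK'
    have hbM : b ∈ M₁ := by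
      obtain ⟨k, rfl⟩ := Subgroup.mem_zpowers_iff.mp hb
      exact zpow_mem hrM k
    have haM : a ∈ M₁ := by
      have : a = (a * b) * b⁻¹ := by group
      rw [this]; exact mul_mem (hZM hxZ) (inv_mem hbM)
    have ha1 : a = 1 := by
      obtain ⟨k, rfl⟩ := Subgroup.mem_zpowers_iff.mp ha
      rcases Int.emod_two_eq_zero_or_one k with h0 | h1
      · obtain ⟨j, rfl⟩ := Int.dvd_of_emod_eq_zero h0
        rw [zpow_mul, zpow_two, ht2, one_zpow]
      · exfalso
        have : k = 2 * (k / 2) + 1 := by omega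
        rw [this, zpow_add, zpow_mul, zpow_two, ht2, one_zpow, one_mul, zpow_one] at haM
        exact htM haM
    rw [ha1, one_mul] at hxZ ⊢
    rw [Subgroup.mem_bot]
    by_contra hb1
    apply hrZ
    obtain ⟨k, rfl⟩ := Subgroup.mem_zpowers_iff.mp hb
    have hr3z : r ^ (3 : ℤ) = 1 := by exact_mod_cast hr3
    have hk : k % 3 = 0 ∨ k % 3 = 1 ∨ k % 3 = 2 := by omega
    rcases hk with h0 | h1 | h2
    · exfalso; apply hb1
      obtain ⟨j, rfl⟩ := Int.dvd_of_emod_eq_zero h0
      rw [zpow_mul, hr3z, one_zpow]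
    · have : k = 3 * (k / 3) + 1 := by omega
      rw [this, zpow_add, zpow_mul, hr3z, one_zpow, one_mul, zpow_one] at hxZ
      exact hxZ
    · have : k = 3 * (k / 3) + 2 := by omega
      rw [this, zpow_add, zpow_mul, hr3z, one_zpow, one_mul] at hxZ
      have h4 : r = (r ^ (2 : ℤ)) ^ (2 : ℤ) := by
        rw [← zpow_mul]
        have : (2 : ℤ) * 2 = 3 + 1 := by norm_num
        rw [this, zpow_add, hr3z, one_mul, zpow_one]
      rw [h4]; exact zpow_mem hxZ 2

end Cfsg.Agent.Helper24.RU
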