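import Mathlib
import Cfsg.Agent.Lib.Helper15.S52Defs

/-!
# S3452 piece S52-SINGER: an element of order `q + 1` in `SL₂(F)`.
-/

set_option autoImplicit false
set_option linter.unusedVariables false

namespace Cfsg.Agent.Helper15.S52

open Cfsg.Agent.Helper2

theorem s52_singer_fac (q : ℕ) (hq : 1 < q) : q ^ 2 - 1 = (q + 1) * (q - 1) := by
  obtain ⟨r, rfl⟩ : ∃ r, q = r + 1 := ⟨q - 1, by omega⟩
  simp only [Nat.add_sub_cancel]
  apply Nat.sub_eq_of_eq_add
  ring

/-- PIECE S52-SINGER -/
theorem exists_sl2_orderOf {F : Type*} [Field F] [Fintype F] :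
    ∃ y : SL2 F, orderOf y = Fintype.card F + 1 := by
  classical
  have : NeZero 2 := ⟨by omega⟩
  let p := ringChar F
  have : CharP F p := ringChar.charP F
  have : Fact p.Prime := ⟨CharP.char_is_prime F p⟩
  let K := FiniteField.Extension F p 2
  have hfr : Module.finrank F K = 2 := FiniteField.finrank_extension F p 2
  have hcK : Nat.card K = Fintype.card F ^ 2 := by
    rw [FiniteField.natCard_extension, Nat.card_eq_fintype_card]
  obtain ⟨ζ, hζ⟩ := IsCyclic.exists_generator (α := Kˣ)
  have hζo : orderOf ζ = Fintype.card F ^ 2 - 1 := by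
    rw [orderOf_eq_card_of_forall_mem_zpowers hζ, Nat.card_units, hcK]
  have hq : 1 < Fintype.card F := Fintype.one_lt_card
  have hfac := s52_singer_fac (Fintype.card F) hq
  let b : Module.Basis (Fin 2) F K := Module.finBasisOfFinrankEq F K hfr
  let ψ := Algebra.leftMulMatrix b
  have hψinj : Function.Injective ψ := Algebra.leftMulMatrix_injective b
  -- the element of order q + 1
  let θ : Kˣ := ζ ^ (Fintype.card F - 1)
  have hθo : orderOf θ = Fintype.card F + 1 := by
    have h1 : orderOf θ = orderOf ζ / Nat.gcd (orderOf ζ) (Fintype.card F - 1) :=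
      orderOf_pow ζ
    rw [h1, hζo, hfac, Nat.gcd_mul_left_left, Nat.mul_div_cancel _ (by omega)]
  have hdet : (ψ (θ : K)).det = 1 := by
    have h1 : (ψ (θ : K)).det = Algebra.norm F (θ : K) := (Algebra.norm_eq_matrix_det b _).symm
    rw [h1]
    have h2 : (θ : K) = (ζ : K) ^ (Fintype.card F - 1) := by
      show ((ζ ^ (Fintype.card F - 1) : Kˣ) : K) = _
      rw [Units.val_pow_eq_pow_val]
    rw [h2, map_pow]
    apply FiniteField.pow_card_sub_one_eq_one
    intro h0
    rw [Algebra.norm_eq_zero_iff] at h0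
    exact ζ.ne_zero h0
  let y : SL2 F := ⟨ψ (θ : K), hdet⟩
  have hy1 : ∀ k : ℕ, (y ^ k).1 = ψ ((θ : K) ^ k) := by
    intro k
    rw [Matrix.SpecialLinearGroup.coe_pow, map_pow]
  refine ⟨y, ?_⟩
  rw [← hθo]
  apply orderOf_eq_of_pow_and_pow_div_prime (orderOf_pos θ)
  · apply Subtype.ext
    rw [hy1, Matrix.SpecialLinearGroup.coe_one, ← Units.val_pow_eq_pow_val, pow_orderOf_eq_one,
      Units.val_one, map_one]
  · intro r hr hrd hpow
    have h1 : (y ^ (orderOf θ / r)).1 = (1 : SL2 F).1 := by rw [hpow]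
    rw [hy1, Matrix.SpecialLinearGroup.coe_one] at h1
    have h2 : ψ ((θ : K) ^ (orderOf θ / r)) = ψ 1 := by
      rw [map_one]
      exact h1
    have h3 := hψinj h2
    have h4 : θ ^ (orderOf θ / r) = 1 := by
      apply Units.ext
      rw [Units.val_pow_eq_pow_val, h3, Units.val_one]
    have h5 := orderOf_dvd_of_pow_eq_one h4
    have hpos : 0 < orderOf θ := orderOf_pos θ
    have h6 : orderOf θ / r < orderOf θ := Nat.div_lt_self hpos hr.one_lt
    have h7 := Nat.le_of_dvd (Nat.div_pos (Nat.le_of_dvd hpos hrd) hr.pos) h5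
    omega

end Cfsg.Agent.Helper15.S52
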