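import Mathlib
import Cfsg.Agent.Lib.Helper15.S52Defs
import Cfsg.Agent.Lib.Helper7.S52TRMEM
import Cfsg.Agent.Lib.Helper1.S52PGLADD
import Cfsg.Agent.Lib.Helper1.S52PGLCHAR
import Cfsg.Agent.Lib.Helper11.S52PGLSUB
import Cfsg.Agent.Lib.Helper14.S52SPLIT
import Cfsg.Agent.Lib.Helper19.S52GLNOROOT
import Cfsg.Agent.Lib.Helper22.S52PSLCONJ
import Cfsg.Agent.Lib.Helper24.S52GOODTR
import Cfsg.Agent.Lib.Helper24.S52PSLU
import Cfsg.Agent.Lib.Helper25.S52AFFORD
import Cfsg.Agent.Lib.Helper25.S52PSLORD
import Cfsg.Agent.Lib.Helper27.S52PGLUPFIX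
import Cfsg.Agent.Lib.Helper28.S52Q9GRP
import Cfsg.Agent.Lib.Helper4.S52PSLX
import Cfsg.Agent.Lib.Helper9.S52SMALL
import Cfsg.Agent.Lib.Helper2.S52GLSPLIT
import Cfsg.Agent.Lib.Helper23.S52AFFEX
import Cfsg.Agent.Lib.Helper6.S52FROB
import Cfsg.Agent.Lib.Helper6.S52Q9MAT
import Cfsg.Agent.Lib.Helper7.S52CUSPFPF
import Cfsg.Agent.Lib.Helper8.S52NONSPLIT
import Cfsg.Agent.Lib.Helper15.S52SINGER
import Cfsg.Agent.Lib.Helper6.S64AFFA
import Cfsg.Agent.Lib.Helper17.SpectrumIterate
import Cfsg.Agent.S0144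

/-!
# S3452: assembly
-/

set_option autoImplicit false
set_option linter.unusedVariables false

namespace Cfsg.Agent.Helper15.S52

open Cfsg.Agent.Helper2

/-- an element of order `n` yields elements of all orders dividing `n` -/
theorem exists_orderOf_of_dvd {G : Type*} [Group G] {x : G} {n d : ℕ} (hx : orderOf x = n)
    (hn : 0 < n) (hd : d ∣ n) : ∃ y : G, orderOf y = d := by
  refine ⟨x ^ (orderOf x / d), ?_⟩
  apply orderOf_pow_orderOf_div
  · rw [hx]; exact hn.ne'
  · rw [hx]; exact hd

/-! ### the spectrum of `PGL₂(F)` -/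

theorem pgl_spec {F : Type*} [Field F] [Fintype F] (p : ℕ) [Fact p.Prime] [CharP F p] (n : ℕ) :
    n ∈ Set.range (orderOf : PGL2 F → ℕ) ↔
      (n ∣ Fintype.card F - 1 ∨ n ∣ Fintype.card F + 1 ∨ n = p) := by
  have hp : p.Prime := Fact.out
  have hq : 1 < Fintype.card F := Fintype.one_lt_card
  constructor
  · rintro ⟨g, rfl⟩
    rcases s52_gldouble_pgl_orderOf_dvd' p (fun M l h1 h2 h3 => gl_pow_split M l h1 h2 h3)
      (fun M h => gl_pow_noroot M h) g with h | h | h
    · exact Or.inl h
    · exact Or.inr (Or.inl h)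
    · rcases (Nat.dvd_prime hp).1 h with h1 | h1
      · left
        rw [h1]
        exact one_dvd _
      · exact Or.inr (Or.inr h1)
  · rintro (h | h | h)
    · obtain ⟨g, hg⟩ := pgl_exists_sub (F := F)
      exact exists_orderOf_of_dvd hg (by omega) h
    · obtain ⟨g, hg⟩ := pgl_exists_add (F := F)
      exact exists_orderOf_of_dvd hg (by omega) h
    · obtain ⟨g, hg⟩ := pgl_exists_char (F := F) p
      exact ⟨g, hg.trans h.symm⟩

/-! ### the kernel of the projection of an affine extension -/

section ker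

variable {G W : Type*} [Group G] [AddCommGroup W] [DistribMulAction G W]

/-- the translation subgroup -/
def transl (G W : Type*) [Group G] [AddCommGroup W] [DistribMulAction G W] :
    Subgroup (AffExt.Aff G W) := (AffExt.proj : AffExt.Aff G W →* G).ker

instance transl_normal : (transl G W).Normal := MonoidHom.normal_ker _

theorem mem_transl {a : AffExt.Aff G W} : a ∈ transl G W ↔ a.g = 1 := by
  unfold transl
  rw [MonoidHom.mem_ker, AffExt.proj_apply]

theorem transl_ne_bot {w : W} (hw : w ≠ 0) : transl G W ≠ ⊥ := by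
  intro h
  have h1 : (⟨w, 1⟩ : AffExt.Aff G W) ∈ transl G W := mem_transl.2 rfl
  rw [h, Subgroup.mem_bot] at h1
  exact hw (congrArg AffExt.Aff.w h1)

theorem pow_transl {a : AffExt.Aff G W} (ha : a.g = 1) (n : ℕ) :
    a ^ n = ⟨n • a.w, 1⟩ := by
  induction n with
  | zero =>
    rw [pow_zero, zero_smul]
    rfl
  | succ n ih =>
    rw [pow_succ, ih]
    apply AffExt.Aff.ext
    · rw [AffExt.mul_w]
      show n • a.w + (1 : G) • a.w = (n + 1) • a.w
      rw [one_smul, add_smul, one_smul]
    · rw [AffExt.mul_g]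
      show (1 : G) * a.g = 1
      rw [ha, one_mul]

theorem transl_exp {r : ℕ} (hW : ∀ w : W, r • w = 0) : ∀ x ∈ transl G W, x ^ r = 1 := by
  intro x hx
  rw [pow_transl (mem_transl.1 hx), hW]
  rfl

end ker

/-! ### the case of a prime `p ≥ 5` -/

section prime

variable {F : Type*} [Field F] [Fintype F] {p : ℕ} [Fact p.Prime]

theorem hW0 : ∀ w : W (us F), w + w = 0 := add_self

theorem hW0' : ∀ w : W (us F), 2 • w = 0 := by
  intro w
  rw [two_smul]
  exact add_self w

theorem psl_fpf (hF : Fintype.card F = p) (hp2 : p ≠ 2) (g : P2 F) (hg : orderOf g = p)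
    (m : W (us F)) (hm : g • m = m) : m = 0 := by
  have hp : p.Prime := Fact.out
  obtain ⟨c, b, hb, rfl⟩ := psl_conj_us hF hp2 g hg
  refine cusp_fpf (us F) ?_ ((us_facts hF hp2).2 b hb) c m hm
  rw [hF]
  exact hp.odd_of_ne_two hp2

theorem h0_sub (hF : Fintype.card F = p) (hp5 : 5 ≤ p) (a : H0 F) :
    orderOf a ∣ p - 1 ∨ orderOf a ∣ p + 1 ∨ orderOf a = p := by
  have hp : p.Prime := Fact.out
  have hp2 : p ≠ 2 := by omega
  have hodd : p % 2 = 1 := by
    rcases hp.eq_two_or_odd with h | h
    · exact absurd h hp2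
    · exact h
  have h1 : 2 * ((p - 1) / 2) = p - 1 := by omega
  have h2 : 2 * ((p + 1) / 2) = p + 1 := by omega
  rcases aff_orderOf hW0 a with ha | ha
  · rcases psl_orderOf hF hp2 a.g with h | h | h
    · left
      rw [ha, ← h1]
      exact Dvd.dvd.mul_left h 2
    · right; left
      rw [ha, ← h2]
      exact Dvd.dvd.mul_left h 2
    · rcases (Nat.dvd_prime hp).1 h with h' | h'
      · left
        rw [ha, h']
        exact one_dvd _
      · right; right
        rw [ha, h']
  · rcases psl_orderOf hF hp2 a.g with h | h | h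
    · left
      rw [ha, ← h1]
      exact Nat.mul_dvd_mul_left 2 h
    · right; left
      rw [ha, ← h2]
      exact Nat.mul_dvd_mul_left 2 h
    · rcases (Nat.dvd_prime hp).1 h with h' | h'
      · left
        rw [ha, h', mul_one]
        omega
      · exfalso
        rw [h'] at ha
        rcases Cfsg.Agent.Helper15.S64.aff_two_mul hW0 hp hp2 ha with h3 | ⟨_, w, hw0, hw⟩
        · rw [h'] at h3
          have := hp.pos
          omega
        · exact hw0 (psl_fpf hF hp2 a.g h' w hw)

theorem h0_exists (hF : Fintype.card F = p) (hp5 : 5 ≤ p) :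
    (∃ a : H0 F, orderOf a = p - 1) ∧ (∃ a : H0 F, orderOf a = p + 1) ∧
      (∃ a : H0 F, orderOf a = p) ∧ ∃ m : W (us F), m ≠ 0 := by
  have hp : p.Prime := Fact.out
  have hp2 : p ≠ 2 := by omega
  have hodd : p % 2 = 1 := by
    rcases hp.eq_two_or_odd with h | h
    · exact absurd h hp2
    · exact h
  have h1 : 2 * ((p - 1) / 2) = p - 1 := by omega
  have h2 : 2 * ((p + 1) / 2) = p + 1 := by omega
  have h2F : (2 : F) ≠ 0 := by
    have : CharP F p := charP_of_card_eq_prime hF
    intro h
    have h3 : ((2 : ℕ) : F) = 0 := by exact_mod_cast h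
    have := (CharP.cast_eq_zero_iff F p 2).1 h3
    have := Nat.le_of_dvd (by norm_num) this
    omega
  obtain ⟨y, hy⟩ := exists_sl2_orderOf (F := F)
  rw [hF] at hy
  have hs := goodS_of_orderOf hF hp5 y hy
  have hmem := trfun_mem h2F hs
  obtain ⟨x, hx1, hx2⟩ := exists_x (by rw [hF]; exact hodd) y hs
  obtain ⟨g1, m1, hg1, hm1⟩ := split_main hF hp5 hs hmem
  obtain ⟨g2, m2, hg2, hm2⟩ := nonsplit_main hF hp5 y hy hs hmem x hx1 hx2
  refine ⟨⟨⟨m1, g1⟩, ?_⟩, ⟨⟨m2, g2⟩, ?_⟩, ⟨AffExt.incl (us F 1), ?_⟩, m1, ?_⟩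
  · rw [aff_orderOf_mk hW0 g1 m1 (by rw [hg1]; exact hm1), hg1, h1]
  · rw [aff_orderOf_mk hW0 g2 m2 (by rw [hg2]; exact hm2), hg2, h2]
  · rw [orderOf_injective AffExt.incl AffExt.incl_injective, (us_facts hF hp2).1]
  · rintro rfl
    apply hm1
    simp

end prime

/-! ### the case `q = 9` -/

section nine

theorem w9_three : ∀ w : W9, 3 • w = 0 := by
  intro w
  funext i
  show 3 • w i = 0
  have : (3 : ZMod 3) = 0 := by decide
  rw [nsmul_eq_mul]
  push_cast
  rw [this, zero_mul]

theorem w9_neg {v : W9} (h : -v = v) : v = 0 := by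
  have h3 := w9_three v
  have h2 : v + v = 0 := by
    nth_rewrite 1 [← h]
    exact neg_add_cancel v
  have h4 : (3 : ℕ) • v = v + v + v := by
    rw [succ_nsmul, two_smul]
  rw [h4, h2, zero_add] at h3
  exact h3

theorem nine_main : ∃ (H : Type) (_ : Group H) (_ : Finite H) (V : Subgroup H) (_ : V.Normal),
    V ≠ ⊥ ∧ (∀ x ∈ V, x ^ 3 = 1) ∧
    ∀ n : ℕ, n ∈ Set.range (orderOf : H → ℕ) ↔ (n ∣ 8 ∨ n ∣ 10 ∨ n = 3) := by
  obtain ⟨a, b, ha5, ha1, hafix, hab, hb8, hb4, hbneg⟩ := q9_mats
  let C : Subgroup G9 := Subgroup.closure ({a, b} : Set G9)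
  have haC : a ∈ C := Subgroup.subset_closure (by simp)
  have hbC : b ∈ C := Subgroup.subset_closure (by simp)
  have hstruct := q9_struct ha5 ha1 hab hb8 hb4
  have hfpf : ∀ g : C, g ≠ 1 → ∀ w : W9, g • w = w → w = 0 := by
    intro g hg w hw
    have hw' : (g : G9) • w = w := hw
    have hpow : ∀ k : ℕ, ((g : G9) ^ k) • w = w := by
      intro k
      induction k with
      | zero => rw [pow_zero, one_smul]
      | succ k ih => rw [pow_succ, mul_smul, hw', ih]
    rcases (hstruct g.1 g.2).1 with h | ⟨k, hk⟩ | ⟨k, hk⟩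
    · exact absurd (Subtype.ext h) hg
    · have := hpow k
      rw [hk, hbneg] at this
      exact w9_neg this
    · have := hpow k
      rw [hk] at this
      exact hafix w this
  refine ⟨AffExt.Aff C W9, inferInstance, inferInstance, transl C W9, inferInstance, ?_, ?_, ?_⟩
  · apply transl_ne_bot (w := fun _ => (1 : ZMod 3))
    intro h
    have := congrFun h 0
    revert this
    decide
  · exact transl_exp w9_three
  · intro n
    constructor
    · rintro ⟨x, rfl⟩
      obtain ⟨h1, h2⟩ := frob_orderOf Nat.prime_three w9_three hfpf x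
      by_cases hx : x.g = 1
      · rcases h2 hx with h | h
        · left; rw [h]; exact one_dvd _
        · right; right; exact h
      · rw [h1 hx, ← Subgroup.orderOf_coe]
        rcases (hstruct x.g.1 x.g.2).2 with h | h | h | h | h | h <;> rw [h] <;> norm_num
    · have ho8 : orderOf b = 8 := by
        have hd : orderOf b ∣ 2 ^ 3 := orderOf_dvd_of_pow_eq_one hb8
        obtain ⟨k, hk, hk'⟩ := (Nat.dvd_prime_pow Nat.prime_two).1 hd
        have hk3 : k = 3 := by
          by_contra hne
          have hk2 : k ≤ 2 := by omega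
          apply hb4
          have : orderOf b ∣ 4 := by
            rw [hk']
            exact pow_dvd_pow 2 hk2
          exact orderOf_dvd_iff_pow_eq_one.1 this
        rw [hk', hk3]
        norm_num
      have ho5 : orderOf a = 5 := by
        have hd : orderOf a ∣ 5 := orderOf_dvd_of_pow_eq_one ha5
        rcases (Nat.dvd_prime (by norm_num : Nat.Prime 5)).1 hd with h | h
        · exact absurd (orderOf_eq_one_iff.1 h) ha1
        · exact h
      have hcomm : Commute a (b ^ 4) := by
        have h1 : ∀ k : ℕ, b ^ k * a * (b ^ k)⁻¹ = a ^ (2 ^ k) := by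
          intro k
          induction k with
          | zero => simp
          | succ k ih =>
            have : b ^ (k + 1) * a * (b ^ (k + 1))⁻¹ = b * (b ^ k * a * (b ^ k)⁻¹) * b⁻¹ := by
              rw [pow_succ']
              group
            rw [this, ih, ← conj_pow, hab, ← pow_mul, pow_succ, mul_comm]
        have h2 := h1 4
        have h3 : a ^ (2 ^ 4) = a := by
          have : (2 : ℕ) ^ 4 = 5 * 3 + 1 := by norm_num
          rw [this, pow_succ, pow_mul, ha5, one_pow, one_mul]
        rw [h3] at h2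
        have h4 : b ^ 4 * a = a * b ^ 4 := by
          calc b ^ 4 * a = b ^ 4 * a * (b ^ 4)⁻¹ * b ^ 4 := by group
            _ = a * b ^ 4 := by rw [h2]
        exact h4.symm
      have ho2 : orderOf (b ^ 4) = 2 := by
        rw [orderOf_pow' b (by norm_num : (4 : ℕ) ≠ 0), ho8]
        norm_num
      have ho10 : orderOf (a * b ^ 4) = 10 := by
        rw [hcomm.orderOf_mul_eq_mul_orderOf_of_coprime (by rw [ho5, ho2]; norm_num), ho5, ho2]
      have hinj : Function.Injective (AffExt.incl : C → AffExt.Aff C W9) := AffExt.incl_injective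
      rintro (h | h | h)
      · have : orderOf (AffExt.incl (⟨b, hbC⟩ : C) : AffExt.Aff C W9) = 8 := by
          rw [orderOf_injective AffExt.incl hinj, Subgroup.orderOf_mk, ho8]
        exact exists_orderOf_of_dvd this (by norm_num) h
      · have hmem : a * b ^ 4 ∈ C := C.mul_mem haC (C.pow_mem hbC 4)
        have : orderOf (AffExt.incl (⟨a * b ^ 4, hmem⟩ : C) : AffExt.Aff C W9) = 10 := by
          rw [orderOf_injective AffExt.incl hinj, Subgroup.orderOf_mk, ho10]
        exact exists_orderOf_of_dvd this (by norm_num) h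
      · refine ⟨⟨fun _ => (1 : ZMod 3), 1⟩, ?_⟩
        rw [h]
        have hx : (⟨fun _ => (1 : ZMod 3), 1⟩ : AffExt.Aff C W9).g = 1 := rfl
        rcases (frob_orderOf Nat.prime_three w9_three hfpf _).2 hx with h' | h'
        · exfalso
          have := orderOf_eq_one_iff.1 h'
          have := congrFun (congrArg AffExt.Aff.w this) 0
          revert this
          show (1 : ZMod 3) = 0 → False
          decide
        · exact h'

end nine

/-! ### final assembly -/

section final

theorem spec_eq_of_iff {H G : Type*} [Group H] [Group G] (P : ℕ → Prop)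
    (hH : ∀ n : ℕ, n ∈ Set.range (orderOf : H → ℕ) ↔ P n)
    (hG : ∀ n : ℕ, n ∈ Set.range (orderOf : G → ℕ) ↔ P n) :
    Set.range (orderOf : H → ℕ) = Set.range (orderOf : G → ℕ) := by
  ext n
  rw [hH, hG]

theorem prime_main {F : Type*} [Field F] [Fintype F] {p : ℕ} [Fact p.Prime]
    (hF : Fintype.card F = p) (hp5 : 5 ≤ p) (N : ℕ) :
    ∃ (H : Type) (_ : Group H) (_ : Fintype H), N < Fintype.card H ∧
      Set.range (orderOf : H → ℕ) = Set.range (orderOf : PGL2 F → ℕ) := by
  have hp : p.Prime := Fact.out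
  have : CharP F p := charP_of_card_eq_prime hF
  obtain ⟨⟨a1, ha1⟩, ⟨a2, ha2⟩, ⟨a3, ha3⟩, m, hm⟩ := h0_exists hF hp5
  have hspec : Set.range (orderOf : H0 F → ℕ) = Set.range (orderOf : PGL2 F → ℕ) := by
    apply spec_eq_of_iff (fun n => n ∣ Fintype.card F - 1 ∨ n ∣ Fintype.card F + 1 ∨ n = p)
    · intro n
      rw [hF]
      constructor
      · rintro ⟨a, rfl⟩
        exact h0_sub hF hp5 a
      · rintro (h | h | h)
        · exact exists_orderOf_of_dvd ha1 (by omega) h
        · exact exists_orderOf_of_dvd ha2 (by omega) h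
        · exact ⟨a3, ha3.trans h.symm⟩
    · intro n
      exact pgl_spec p n
  obtain ⟨H, hg, hf, hN, hs⟩ :=
    Cfsg.Agent.Helper17.exists_large_same_spectrum_of_prime_exponent (H0 F)
      (transl (P2 F) (W (us F))) 2 inferInstance (transl_ne_bot hm) Nat.prime_two
      (transl_exp hW0') N
  exact ⟨H, hg, hf, hN, hs.trans hspec⟩

theorem small_main {F : Type*} [Field F] [Fintype F]
    (hF : Fintype.card F = 2 ∨ Fintype.card F = 3) (N : ℕ) :
    ∃ (H : Type) (_ : Group H) (_ : Fintype H), N < Fintype.card H ∧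
      Set.range (orderOf : H → ℕ) = Set.range (orderOf : PGL2 F → ℕ) := by
  have hprime : (Fintype.card F).Prime := by
    rcases hF with h | h <;> rw [h] <;> norm_num
  have : Fact (Fintype.card F).Prime := ⟨hprime⟩
  have : CharP F (Fintype.card F) := charP_of_card_eq_prime rfl
  obtain ⟨g, hg⟩ := pgl_exists_char (F := F) (Fintype.card F)
  have hsolv : Group.IsSolvable (PGL2 F) := pgl_solvable_small hF
  have htop : (⊤ : Subgroup (PGL2 F)) ≠ ⊥ := by
    intro h
    have h1 : g ∈ (⊤ : Subgroup (PGL2 F)) := Subgroup.mem_top g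
    rw [h, Subgroup.mem_bot] at h1
    rw [h1, orderOf_one] at hg
    exact hprime.one_lt.ne hg
  have hs : Group.IsSolvable (⊤ : Subgroup (PGL2 F)) :=
    Group.isSolvable_of_isSolvable_injective (f := (⊤ : Subgroup (PGL2 F)).subtype)
      (Subgroup.subtype_injective _)
  exact Cfsg.Agent.Helper17.exists_large_same_spectrum_of_solvable_normal
    (⊤ : Subgroup (PGL2 F)) htop hs N

theorem nine_final {F : Type*} [Field F] [Fintype F] (hF : Fintype.card F = 9) (N : ℕ) :
    ∃ (H : Type) (_ : Group H) (_ : Fintype H), N < Fintype.card H ∧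
      Set.range (orderOf : H → ℕ) = Set.range (orderOf : PGL2 F → ℕ) := by
  have : Fact (Nat.Prime 3) := ⟨Nat.prime_three⟩
  have : CharP F 3 := charP_of_card_eq_prime_pow (f := 2) (by rw [hF]; norm_num)
  obtain ⟨H0, hg0, hfin0, V, hVn, hV, hexp, hsp⟩ := nine_main
  have hspec : Set.range (orderOf : H0 → ℕ) = Set.range (orderOf : PGL2 F → ℕ) := by
    apply spec_eq_of_iff (fun n => n ∣ 8 ∨ n ∣ 10 ∨ n = 3)
    · exact hsp
    · intro n
      have := pgl_spec (F := F) 3 n
      rw [hF] at this
      exact this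
  obtain ⟨H, hg, hf, hN, hs⟩ :=
    Cfsg.Agent.Helper17.exists_large_same_spectrum_of_prime_exponent H0 V 3 hVn hV
      Nat.prime_three hexp N
  exact ⟨H, hg, hf, hN, hs.trans hspec⟩

theorem main {F : Type*} [Field F] [Fintype F]
    (hF : (Fintype.card F).Prime ∨ Fintype.card F = 9) (N : ℕ) :
    ∃ (H : Type) (_ : Group H) (_ : Fintype H), N < Fintype.card H ∧
      Set.range (orderOf : H → ℕ) = Set.range (orderOf : PGL2 F → ℕ) := by
  rcases hF with hF | hF
  · by_cases h5 : 5 ≤ Fintype.card F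
    · have : Fact (Fintype.card F).Prime := ⟨hF⟩
      exact prime_main rfl h5 N
    · apply small_main _ N
      have h2 := hF.two_le
      have h4 : Fintype.card F ≠ 4 := by
        intro h
        rw [h] at hF
        exact absurd hF (by norm_num)
      omega
  · exact nine_final hF N

end final

end Cfsg.Agent.Helper15.S52
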