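import Mathlib
import Cfsg.Agent.Lib.Helper15.S62Asm2

/-!
# S2362 assembly, part 3 (helper15): the abstract core, first half (structure of `s`)
-/

set_option autoImplicit false
set_option linter.style.haveILetI false

open Polynomial

namespace Cfsg.Agent.Helper15.S62

universe u

variable {F : Type u} [Field F] {V : Type u} [AddCommGroup V] [Module F V]

/-- **Structure of `s`**: there are complementary orthogonal subspaces `C`, `W`, a field `L` and
`φ : L ≃ W` such that `s` is the identity on `C` and multiplication by `l` of order `q^k+1` on `W`;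
moreover the form on `L` has the adjoint property with `a ↦ a^(q^k)`. -/
theorem core_structure [Fintype F] [FiniteDimensional F V] (p : ℕ) [Fact p.Prime] [CharP F p]
    (hp2 : p ≠ 2) (B : LinearMap.BilinForm F V) (hsymm : ∀ x y, B x y = B y x)
    (hnd : ∀ x, (∀ y, B x y = 0) → x = 0) (k : ℕ) (hk : 2 ≤ k)
    (hdim : Module.finrank F V = 2 * k + 3) (s u : Module.End F V)
    (hs : ∀ x y, B (s x) (s y) = B x y) (hu : ∀ x y, B (u x) (u y) = B x y)
    (hcomm : Commute s u) (hos : orderOf s = Fintype.card F ^ k + 1) (hou : orderOf u = p)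
    (hdet : LinearMap.det s = 1) :
    ∃ (C W : Submodule F V) (L : Type u) (_ : Field L) (_ : Algebra F L) (_ : Module.Finite F L)
      (φ : L ≃ₗ[F] W) (l : L),
      IsCompl C W ∧ (∀ w ∈ W, ∀ x ∈ C, B w x = 0) ∧ (∀ x ∈ C, s x = x) ∧
      (∀ x : L, s (φ x : V) = (φ (l * x) : W)) ∧ orderOf l = Fintype.card F ^ k + 1 ∧
      Module.finrank F L = 2 * k ∧
      (∀ a x y : L, B (φ (a * x) : W) (φ y : W) =
        B (φ x : W) (φ (a ^ (Fintype.card F ^ k) * y) : W)) ∧
      (∀ x : L, (∀ y : L, B (φ x : W) (φ y : W) = 0) → x = 0) := by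
  classical
  have hp : p.Prime := Fact.out
  have h2 : (2 : F) ≠ 0 := two_ne_zero_of_char p hp2
  obtain ⟨hqodd, hq3, hpq⟩ := card_odd (F := F) p hp2
  set q := Fintype.card F with hq
  set m := q ^ k + 1 with hm
  have hm2 : 2 ≤ m := by
    have : 1 ≤ q ^ k := Nat.one_le_pow _ _ (by omega)
    omega
  -- the Zsigmondy prime
  obtain ⟨r, hr, hrm, hrp, hr2, hrord⟩ := exists_zsig q k p hqodd hq3 hk hp hpq
  have hrF : (r : F) ≠ 0 := by
    intro h
    rw [CharP.cast_eq_zero_iff F p] at h
    exact hrp ((Nat.prime_dvd_prime_iff_eq hp hr).mp h).symm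
  obtain ⟨e, he⟩ := hrm
  -- m = r * e
  have he0 : 0 < e := by
    rcases Nat.eq_zero_or_pos e with h | h
    · rw [h, mul_zero] at he; omega
    · exact h
  have hsm : s ^ m = 1 := by rw [← hos]; exact pow_orderOf_eq_one s
  set t : Module.End F V := s ^ e with ht
  have htr : t ^ r = 1 := by rw [ht, ← pow_mul, mul_comm, ← he, hsm]
  have ht1 : t ≠ 1 := by
    intro h
    have hdvd : m ∣ e := by rw [← hos]; exact orderOf_dvd_of_pow_eq_one h
    have hle := Nat.le_of_dvd he0 hdvd
    have : 2 * e ≤ r * e := Nat.mul_le_mul_right e hr.two_le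
    omega
  have hst : Commute s t := (Commute.refl s).pow_right e
  have hut : Commute u t := hcomm.symm.pow_right e
  have htiso : ∀ x y, B (t x) (t y) = B x y := isometry_pow B s hs e
  obtain ⟨L, iF, iA, iM, φ, ζ, hLdim, hadjoin, hζr, hζ1, hφ, hC3⟩ :=
    exists_field t r k hr hrF htr ht1 hk hrord hdim
  have hcompl := isCompl_Cpart_Wpart t r hr.pos hrF htr
  have horth : ∀ w ∈ Wpart t r, ∀ x ∈ Cpart t, B w x = 0 := fun w hw x hx =>
    orth_Wpart_Cpart B t htiso r hrF hw hx
  -- decomposition of vectors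
  have hdec : ∀ v : V, ∃ x ∈ Cpart t, ∃ w ∈ Wpart t r, x + w = v := by
    intro v
    have : v ∈ Cpart t ⊔ Wpart t r := by rw [hcompl.sup_eq_top]; trivial
    exact Submodule.mem_sup.mp this
  -- `s` and `u` on `W`
  obtain ⟨l, hl⟩ := exists_mul_of_commute t s r hst φ ζ hadjoin hφ
  obtain ⟨μ, hμ⟩ := exists_mul_of_commute t u r hut φ ζ hadjoin hφ
  have hlpow := pow_apply_of_mul (Wpart t r) φ s l hl
  have hμpow := pow_apply_of_mul (Wpart t r) φ u μ hμ
  have hφinj : ∀ x y : L, ((φ x : Wpart t r) : V) = (φ y : Wpart t r) → x = y := by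
    intro x y h
    exact φ.injective (Subtype.ext h)
  haveI : CharP L p := charP_of_injective_algebraMap (algebraMap F L).injective p
  have hμ1 : μ = 1 := by
    have hup : u ^ p = 1 := by rw [← hou]; exact pow_orderOf_eq_one u
    have h := hμpow p 1
    rw [hup, Module.End.one_apply, mul_one] at h
    have h' : μ ^ p = 1 := (hφinj _ _ h).symm
    have : frobenius L p μ = frobenius L p 1 := by
      rw [frobenius_def, frobenius_def, h', one_pow]
    exact frobenius_inj L p this
  have huW : ∀ w ∈ Wpart t r, u w = w := by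
    intro w hw
    obtain ⟨x, hx⟩ := φ.surjective ⟨w, hw⟩
    have := hμ x
    rw [hμ1, one_mul, hx] at this
    exact this
  -- the three-dimensional part
  have hCinv_u : ∀ x ∈ Cpart t, u x ∈ Cpart t := fun x hx => Cpart_invariant hut hx
  have hCinv_s : ∀ x ∈ Cpart t, s x ∈ Cpart t := fun x hx => Cpart_invariant hst hx
  have hWinv_s : ∀ x ∈ Wpart t r, s x ∈ Wpart t r := fun x hx => Wpart_invariant hst hx
  set BC : LinearMap.BilinForm F (Cpart t) := B.restrict (Cpart t) with hBC
  have hBCapp : ∀ x y : Cpart t, BC x y = B (x : V) (y : V) := fun x y => rfl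
  have hsymmC : ∀ x y : Cpart t, BC x y = BC y x := fun x y => hsymm _ _
  have hndC : ∀ x : Cpart t, (∀ y : Cpart t, BC x y = 0) → x = 0 := by
    intro x hx
    apply Subtype.ext
    apply hnd
    intro v
    obtain ⟨y, hy, w, hw, rfl⟩ := hdec v
    rw [map_add, hsymm (x : V) w, horth w hw x x.2, add_zero]
    exact hx ⟨y, hy⟩
  set uC : Module.End F (Cpart t) := u.restrict hCinv_u with huC
  set sC : Module.End F (Cpart t) := s.restrict hCinv_s with hsC
  have huCiso : ∀ x y : Cpart t, BC (uC x) (uC y) = BC x y := fun x y => hu _ _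
  have hsCiso : ∀ x y : Cpart t, BC (sC x) (sC y) = BC x y := fun x y => hs _ _
  have huC1 : uC ≠ 1 := by
    intro h
    have hu1 : u = 1 := by
      apply LinearMap.ext
      intro v
      obtain ⟨x, hx, w, hw, rfl⟩ := hdec v
      have hx' : u x = x := by
        have := congrArg (fun f : Module.End F (Cpart t) => ((f ⟨x, hx⟩ : Cpart t) : V)) h
        simpa [huC] using this
      rw [map_add, hx', huW w hw, Module.End.one_apply]
    rw [hu1, orderOf_one] at hou
    exact hp.one_lt.ne hou
  have hpowC : ∀ (a : Module.End F V) (ha : ∀ x ∈ Cpart t, a x ∈ Cpart t) (j : ℕ),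
      (a.restrict ha) ^ j = (a ^ j).restrict (Module.End.pow_apply_mem_of_forall_mem j ha) :=
    fun a ha j => Module.End.pow_restrict j ha
  have huCp : uC ^ p = 1 := by
    have hup : u ^ p = 1 := by rw [← hou]; exact pow_orderOf_eq_one u
    apply LinearMap.ext
    intro x
    apply Subtype.ext
    rw [huC, hpowC]
    show (u ^ p) (x : V) = _
    rw [hup]
    rfl
  have hsCm : sC ^ m = 1 := by
    apply LinearMap.ext
    intro x
    apply Subtype.ext
    rw [hsC, hpowC]
    show (s ^ m) (x : V) = _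
    rw [hsm]
    rfl
  have hcommC : Commute sC uC := by
    apply LinearMap.ext
    intro x
    apply Subtype.ext
    show s (u (x : V)) = u (s (x : V))
    have := congrArg (fun f : Module.End F V => f (x : V)) hcomm.eq
    simpa [Module.End.mul_apply] using this
  have h3 := sub_one_pow_three p hC3 uC huCp
  have h2' := unipotent_sq_ne_zero h2 hC3 BC hsymmC hndC uC huCiso huC1
  obtain ⟨α, hα⟩ := commute_unipotent hC3 uC sC h3 h2' hcommC
  have hcop : Nat.Coprime m p := by
    rw [Nat.coprime_comm, hp.coprime_iff_not_dvd]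
    intro hd
    have : p ∣ q ^ k := dvd_pow hpq (by omega)
    have : p ∣ 1 := (Nat.dvd_add_right this).mp (hm ▸ hd)
    exact hp.one_lt.ne' (Nat.dvd_one.mp this)
  obtain ⟨β, hβ⟩ := eq_scalar_of_pow p sC m hcop hsCm α hα
  have hsCx : ∀ x ∈ Cpart t, s x = β • x := by
    intro x hx
    have := congrArg (fun f : Module.End F (Cpart t) => ((f ⟨x, hx⟩ : Cpart t) : V)) hβ
    simpa [hsC, Algebra.algebraMap_eq_smul_one] using this
  -- β ^ 2 = 1
  haveI : Nontrivial (Cpart t) := Module.nontrivial_of_finrank_pos (R := F) (by omega)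
  obtain ⟨x₀, hx₀⟩ := exists_anisotropic h2 BC hsymmC hndC
  have hβ2 : β ^ 2 = 1 := by
    have h := hs (x₀ : V) (x₀ : V)
    rw [hsCx _ x₀.2] at h
    simp only [map_smul, LinearMap.smul_apply, smul_eq_mul] at h
    have hx₀' : B (x₀ : V) (x₀ : V) ≠ 0 := hx₀
    have : (β ^ 2 - 1) * B (x₀ : V) (x₀ : V) = 0 := by linear_combination h
    rcases mul_eq_zero.mp this with h0 | h0
    · exact sub_eq_zero.mp h0
    · exact absurd h0 hx₀'
  -- λ ^ m = 1
  have hlm : l ^ m = 1 := by
    have h := hlpow m 1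
    rw [hsm, Module.End.one_apply, mul_one] at h
    exact (hφinj _ _ h).symm
  -- determinants
  haveI : Finite L := Module.finite_of_finite F
  have hdetW : LinearMap.det (s.restrict hWinv_s) = 1 := by
    have hconj : s.restrict hWinv_s =
        (φ : L →ₗ[F] Wpart t r) ∘ₗ LinearMap.mulLeft F l ∘ₗ (φ.symm : Wpart t r →ₗ[F] L) := by
      apply LinearMap.ext
      intro w
      apply Subtype.ext
      obtain ⟨x, rfl⟩ := φ.surjective w
      simp only [LinearMap.coe_comp, LinearEquiv.coe_coe, Function.comp_apply,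
        LinearEquiv.symm_apply_apply, LinearMap.mulLeft_apply]
      exact hl x
    rw [hconj, LinearMap.det_conj]
    exact det_mul_eq_one k (by omega) hLdim l hlm
  have hdetC : LinearMap.det sC = β ^ 3 := by
    rw [hβ, Algebra.algebraMap_eq_smul_one, LinearMap.det_smul, hC3, map_one, mul_one]
  have hβ3 : β ^ 3 = 1 := by
    have := det_eq_mul_of_isCompl (Cpart t) (Wpart t r) hcompl s hCinv_s hWinv_s
    rw [hdet, hdetW, mul_one] at this
    rw [← hdetC]
    exact this.symm
  have hβ1 : β = 1 := by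
    have : β ^ 3 = β ^ 2 * β := by ring
    rw [this, hβ2, one_mul] at hβ3
    exact hβ3
  have hsC1 : ∀ x ∈ Cpart t, s x = x := by
    intro x hx
    rw [hsCx x hx, hβ1, one_smul]
  -- the order of `l`
  have hol : orderOf l = m := by
    apply Nat.dvd_antisymm (orderOf_dvd_of_pow_eq_one hlm)
    rw [← hos]
    apply orderOf_dvd_of_pow_eq_one
    apply LinearMap.ext
    intro v
    obtain ⟨x, hx, w, hw, rfl⟩ := hdec v
    obtain ⟨y, hy⟩ := φ.surjective ⟨w, hw⟩
    have hw' : w = ((φ y : Wpart t r) : V) := by rw [hy]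
    rw [map_add, pow_apply_of_fixed s (hsC1 x hx), hw', hlpow, pow_orderOf_eq_one, one_mul,
      Module.End.one_apply]
  -- the adjoint involution
  set φV : L →ₗ[F] V := (Wpart t r).subtype ∘ₗ (φ : L →ₗ[F] Wpart t r) with hφV
  set B' : LinearMap.BilinForm F L := B.compl₁₂ φV φV with hB'
  have hB'app : ∀ x y : L, B' x y = B (φ x : Wpart t r) (φ y : Wpart t r) := fun x y => rfl
  have hsymm' : ∀ x y : L, B' x y = B' y x := fun x y => hsymm _ _
  have hnd' : ∀ x : L, (∀ y : L, B' x y = 0) → x = 0 := by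
    intro x hx
    have : ((φ x : Wpart t r) : V) = 0 := by
      apply hnd
      intro v
      obtain ⟨y, hy, w, hw, rfl⟩ := hdec v
      rw [map_add, horth _ (φ x).2 y hy, zero_add]
      obtain ⟨z, hz⟩ := φ.surjective ⟨w, hw⟩
      have := hx z
      rw [hB'app, hz] at this
      exact this
    have h0 : φ x = 0 := Subtype.ext this
    exact φ.map_eq_zero_iff.mp h0
  have hζ0 : ζ ≠ 0 := by
    intro h
    rw [h, zero_pow hr.ne_zero] at hζr
    exact zero_ne_one hζr
  have hinv' : ∀ x y : L, B' (ζ * x) (ζ * y) = B' x y := by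
    intro x y
    rw [hB'app, hB'app, hφ, hφ, htiso]
  obtain ⟨σ, hσζ, hσ⟩ := exists_adjoint B' hsymm' hnd' ζ hζ0 hadjoin hinv'
  have hσσ : ∀ a : L, σ (σ a) = a := by
    intro a
    have h : ∀ y : L, B' ((a - σ (σ a)) * 1) y = 0 := by
      intro y
      have h1 : B' (a * 1) y = B' (σ (σ a) * 1) y := by
        rw [hσ a 1 y, hsymm' 1 (σ a * y), hσ (σ a) y 1, hsymm']
      rw [sub_mul, map_sub, LinearMap.sub_apply, h1, sub_self]
    have := hnd' _ h
    rw [mul_one, sub_eq_zero] at this
    exact this.symm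
  have hσne : ∃ x, σ x ≠ x := by
    refine ⟨ζ, ?_⟩
    rw [hσζ]
    intro h
    -- ζ⁻¹ = ζ, so ζ^2 = 1, and ζ^r = 1 with r odd
    have hζ2 : ζ ^ 2 = 1 := by
      rw [pow_two]
      nth_rewrite 1 [← h]
      exact inv_mul_cancel₀ hζ0
    have hrodd : Odd r := hr.odd_of_ne_two hr2
    obtain ⟨j, hj⟩ := hrodd
    rw [hj, pow_succ, pow_mul, hζ2, one_pow, one_mul] at hζr
    exact hζ1 hζr
  have hσpow := sigma_eq_pow k (by omega) hLdim σ hσσ hσne
  refine ⟨Cpart t, Wpart t r, L, iF, iA, iM, φ, l, hcompl, horth, hsC1, hl, hol, hLdim, ?_, hnd'⟩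
  intro a x y
  have := hσ a x y
  rw [hB'app, hB'app, hσpow a] at this
  exact this

end Cfsg.Agent.Helper15.S62
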