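import Mathlib
import Cfsg.Agent.Lib.Helper15.S62Asm3

/-!
# S2362 assembly, part 4 (helper15): the abstract core (periods and the count)
-/

set_option autoImplicit false
set_option linter.style.haveILetI false

open Polynomial

namespace Cfsg.Agent.Helper15.S62

universe u

variable {F : Type u} [Field F] {V : Type u} [AddCommGroup V] [Module F V]

/-- **The abstract core**: every vector is fixed by `s` or has exact period `q^k+1`, and the number
of moved vectors on a nonzero level set is `(q^k+1) * d` with `d` odd. -/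
theorem core [Fintype F] [FiniteDimensional F V] (p : ℕ) [Fact p.Prime] [CharP F p]
    (hp2 : p ≠ 2) (B : LinearMap.BilinForm F V) (hsymm : ∀ x y, B x y = B y x)
    (hnd : ∀ x, (∀ y, B x y = 0) → x = 0) (k : ℕ) (hk : 2 ≤ k)
    (hdim : Module.finrank F V = 2 * k + 3) (s u : Module.End F V)
    (hs : ∀ x y, B (s x) (s y) = B x y) (hu : ∀ x y, B (u x) (u y) = B x y)
    (hcomm : Commute s u) (hos : orderOf s = Fintype.card F ^ k + 1) (hou : orderOf u = p)
    (hdet : LinearMap.det s = 1) (c : F) (hc : c ≠ 0) :
    (∀ v : V, s v = v ∨ ∀ j : ℕ, (s ^ j) v = v → (Fintype.card F ^ k + 1) ∣ j) ∧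
    ∃ d : ℕ, Odd d ∧
      Nat.card {v : V // B v v = c ∧ s v ≠ v} = (Fintype.card F ^ k + 1) * d := by
  classical
  obtain ⟨C, W, L, iF, iA, iM, φ, l, hcompl, horth, hsC, hl, hol, hLdim, hadj, hndL⟩ :=
    core_structure p hp2 B hsymm hnd k hk hdim s u hs hu hcomm hos hou hdet
  have hp : p.Prime := Fact.out
  have h2 : (2 : F) ≠ 0 := two_ne_zero_of_char p hp2
  obtain ⟨hqodd, hq3, hpq⟩ := card_odd (F := F) p hp2
  set q := Fintype.card F with hq
  set m := q ^ k + 1 with hm
  have hQ2 : 2 ≤ q ^ k := by
    calc 2 ≤ q := by omega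
      _ = q ^ 1 := (pow_one q).symm
      _ ≤ q ^ k := Nat.pow_le_pow_right (by omega) (by omega)
  have hdec : ∀ v : V, ∃ x ∈ C, ∃ w ∈ W, x + w = v := by
    intro v
    have : v ∈ C ⊔ W := by rw [hcompl.sup_eq_top]; trivial
    exact Submodule.mem_sup.mp this
  have hlpow := pow_apply_of_mul W φ s l hl
  have hφinj : ∀ x y : L, ((φ x : W) : V) = (φ y : W) → x = y := by
    intro x y h
    exact φ.injective (Subtype.ext h)
  have hl1 : l ≠ 1 := by
    intro h
    rw [h, orderOf_one] at hol
    omega
  have hWinv : ∀ w ∈ W, s w ∈ W := by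
    intro w hw
    obtain ⟨y, hy⟩ := φ.surjective ⟨w, hw⟩
    have : w = ((φ y : W) : V) := by rw [hy]
    rw [this, hl y]
    exact (φ (l * y)).2
  have hfree : ∀ w ∈ W, s w = w → w = 0 := by
    intro w hw hsw
    obtain ⟨y, hy⟩ := φ.surjective ⟨w, hw⟩
    have hw' : w = ((φ y : W) : V) := by rw [hy]
    rw [hw', hl y] at hsw
    have h1 := hφinj _ _ hsw
    have hy0 : y = 0 := by
      have h : (l - 1) * y = 0 := by rw [sub_mul, one_mul, h1, sub_self]
      rcases mul_eq_zero.mp h with h | h
      · exact absurd (sub_eq_zero.mp h) hl1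
      · exact h
    rw [hw', hy0, map_zero]
    rfl
  refine ⟨?_, ?_⟩
  · -- periods
    intro v
    obtain ⟨x, hx, w, hw, rfl⟩ := hdec v
    obtain ⟨y, hy⟩ := φ.surjective ⟨w, hw⟩
    have hw' : w = ((φ y : W) : V) := by rw [hy]
    by_cases hy0 : y = 0
    · left
      rw [map_add, hsC x hx, hw', hy0, map_zero]
      simp
    · right
      intro j hj
      rw [map_add, pow_apply_of_fixed s (hsC x hx), hw', hlpow] at hj
      have h1 := hφinj _ _ (add_left_cancel hj)
      have h : (l ^ j - 1) * y = 0 := by rw [sub_mul, one_mul, h1, sub_self]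
      rcases mul_eq_zero.mp h with h | h
      · rw [← hol]
        exact orderOf_dvd_of_pow_eq_one (sub_eq_zero.mp h)
      · exact absurd h hy0
  · -- the count
    haveI : Finite L := Module.finite_of_finite F
    letI : Fintype L := Fintype.ofFinite L
    haveI : Finite V := Module.finite_of_finite F
    letI : Fintype C := Fintype.ofFinite C
    have hLcard : Fintype.card L = (q ^ k) ^ 2 := by
      rw [Module.card_eq_pow_finrank (K := F) (V := L), hLdim, ← pow_mul, mul_comm]
    set φV : L →ₗ[F] V := W.subtype ∘ₗ (φ : L →ₗ[F] W) with hφV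
    set B' : LinearMap.BilinForm F L := B.compl₁₂ φV φV with hB'
    have hB'app : ∀ x y : L, B' x y = B (φ x : W) (φ y : W) := fun x y => rfl
    have hsymm' : ∀ x y : L, B' x y = B' y x := fun x y => hsymm _ _
    have hnd' : ∀ x : L, (∀ y : L, B' x y = 0) → x = 0 := hndL
    have hadj' : ∀ a x y : L, B' (a * x) y = B' x (a ^ (q ^ k) * y) := hadj
    have hfib := norm_fibres (L := L) (q ^ k) hQ2 hLcard
    obtain ⟨hne, n₀, hn₀⟩ := card_norm_eq k (by omega) h2 hLcard B' hsymm' hnd' hadj' hfib
    -- the counting function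
    set n : F → ℕ := fun a => if a = 0 then n₀ else q ^ (k - 1) with hn
    have hcountL : ∀ a : F, Nat.card {x : L // x ≠ 0 ∧ B' x x = a} = m * n a := by
      intro a
      by_cases ha : a = 0
      · rw [hn]
        simp only [ha, if_true]
        exact hn₀
      · rw [hn]
        simp only [ha, if_false]
        rw [← hne a ha]
        apply Nat.card_congr
        refine Equiv.subtypeEquivRight ?_
        intro x
        constructor
        · intro h; exact h.2
        · intro h
          refine ⟨?_, h⟩
          intro hx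
          rw [hx, map_zero] at h
          exact ha h.symm
    have hcountW : ∀ a : F, Nat.card {w : W // w ≠ 0 ∧ B (w : V) (w : V) = a} = m * n a := by
      intro a
      rw [← hcountL a]
      apply Nat.card_congr
      refine (Equiv.subtypeEquiv φ.toEquiv ?_).symm
      intro x
      rw [hB'app]
      simp
    have hcard := card_moved B hsymm C W hcompl horth s hsC hWinv hfree c
    rw [hcard, finsum_eq_sum_of_fintype]
    simp_rw [hcountW]
    rw [← Finset.mul_sum]
    refine ⟨∑ x : C, n (c - B (x : V) (x : V)), ?_, rfl⟩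
    apply odd_sum_of_neg_invariant h2 (fun x : C => B (x : V) (x : V)) (by simp)
      (by intro x; simp) n c
    rw [hn]
    simp only [hc, if_false]
    exact hqodd.pow

end Cfsg.Agent.Helper15.S62
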