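import Mathlib
import Cfsg.Agent.Lib.Helper15.S62Asm4
import Cfsg.Agent.Lib.Helper15.S62PiecesB

/-!
# S2362 assembly, part 5 (helper15): `p (q^(n-1)+1)` is not an element order of `POmega`
-/

set_option autoImplicit false
set_option linter.style.haveILetI false

namespace Cfsg.Agent.Helper15.S62

universe u

/-- `p * (q^(n-1) + 1)` is not the order of an element of `POmega_{2n+1}(q)`, `q` odd, `n ≥ 3`. -/
theorem no_order_POmega {F : Type u} [Field F] [Fintype F] (p : ℕ) [Fact p.Prime] [CharP F p]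
    (hp2 : p ≠ 2) (n : ℕ) (hn : 3 ≤ n) (x : Cfsg.POmega F (Cfsg.quadFormOdd n F)) :
    orderOf x ≠ p * (Fintype.card F ^ (n - 1) + 1) := by
  classical
  intro hx
  have hp : p.Prime := Fact.out
  have h2 : (2 : F) ≠ 0 := two_ne_zero_of_char p hp2
  obtain ⟨hqodd, hq3, hpq⟩ := card_odd (F := F) p hp2
  set q := Fintype.card F with hq
  set k := n - 1 with hk
  set m := q ^ k + 1 with hm
  have hk2 : 2 ≤ k := by omega
  have hm0 : 0 < m := by omega
  have hmeven : Even m := by
    have : Odd (q ^ k) := hqodd.pow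
    exact this.add_one
  obtain ⟨g0, hg0⟩ := exists_orderOf_eq_of_quotient
    (Subgroup.center (Cfsg.Omega F (Cfsg.quadFormOdd n F))) x
  set g : Cfsg.isometryGroup F (Cfsg.quadFormOdd n F) := g0.1 with hg
  have hgmem : g ∈ commutator (Cfsg.isometryGroup F (Cfsg.quadFormOdd n F)) := g0.2
  have hog : orderOf g = p * m := by rw [hg, Subgroup.orderOf_coe, hg0, hx]
  obtain ⟨hpolar, hdiag, hbsymm, hbnd⟩ := bstd_facts (F := F) n h2
  set s := g ^ p with hs
  set u := g ^ m with hu
  have hsmem : s ∈ commutator (Cfsg.isometryGroup F (Cfsg.quadFormOdd n F)) :=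
    Subgroup.pow_mem _ hgmem p
  have hos : orderOf s = m := by
    rw [hs, orderOf_pow' g hp.ne_zero, hog, Nat.gcd_eq_right (dvd_mul_right p m),
      Nat.mul_div_cancel_left m hp.pos]
  have hou : orderOf u = p := by
    rw [hu, orderOf_pow' g hm0.ne', hog, Nat.gcd_eq_right (dvd_mul_left m p),
      Nat.mul_div_cancel p hm0]
  obtain ⟨hsiso, hsord, hsdet, hspow, hsmul⟩ := toEnd_facts n hpolar s
  obtain ⟨huiso, huord, hudet, hupow, humul⟩ := toEnd_facts n hpolar u
  have hcomm : Commute (toEnd s) (toEnd u) := by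
    show toEnd s * toEnd u = toEnd u * toEnd s
    rw [← hsmul u, ← humul s]
    congr 1
    rw [hs, hu, ← pow_add, ← pow_add, add_comm]
  letI iFt : Fintype {v : Idx n → F // Cfsg.quadFormOdd n F v = 1} := Fintype.ofFinite _
  obtain ⟨hsign, hdet1⟩ := sign_det_of_mem_commutator (Cfsg.quadFormOdd n F) (1 : F) s hsmem
  have hdim : Module.finrank F (Idx n → F) = 2 * k + 3 := by
    rw [Module.finrank_fintype_fun_eq_card]
    simp only [Idx, Fintype.card_sum, Fintype.card_unit, Fintype.card_fin]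
    omega
  have h21 : (2 : F) * 1 ≠ 0 := by rw [mul_one]; exact h2
  obtain ⟨hper, d, hd, hcard⟩ := core p hp2 (bstd n F) hbsymm hbnd k hk2 hdim (toEnd s) (toEnd u)
    hsiso huiso hcomm (by rw [hsord, hos]) (by rw [huord, hou]) (by rw [hsdet, hdet1]) (2 * 1) h21
  have hpowm : toEnd s ^ m = 1 := by
    have : orderOf (toEnd s) = m := by rw [hsord, hos]
    rw [← this]
    exact pow_orderOf_eq_one _
  have hneg := sign_lvlPerm_eq_neg_one n h2 hdiag (1 : F) s m d hmeven hm0 hper hpowm hd hcard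
  rw [hsign] at hneg
  exact absurd hneg (by decide)

end Cfsg.Agent.Helper15.S62
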