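import Mathlib
import Cfsg.Agent.Lib.Helper15.S64Defs
import Cfsg.Agent.Lib.Helper28.S64EX15

/-!
# S3664, piece FIX5 (backup version by helper15, different name)
-/

set_option autoImplicit false
set_option linter.unusedSectionVars false
set_option linter.unusedVariables false

namespace Cfsg.Agent.Helper15.S64

open Matrix Cfsg.Agent.Helper2 Cfsg.Agent.Helper2.Sz

variable {F : Type*} [Field F] [Fintype F] (S : SzData F 1)
  (hF : Fintype.card F = 2 ^ (2 * 1 + 1))

theorem s64_fix5b_compute (h2 : (2 : F) = 0) :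
    s64_ex15_G F * (Wm : Matrix (Fin 4) (Fin 4) F) * ((s64_ex15_G F).map (sq S))ᵀ = Wm := by
  have h11 : (1 : F) + 1 = 0 := by rw [one_add_one_eq_two]; exact h2
  ext i j
  fin_cases i <;> fin_cases j <;>
    simp [s64_ex15_G, Wm, Matrix.mul_apply, Fin.sum_univ_four, h11, sq_apply]

theorem exists_fix5_b : ∃ x : Lgrp S hF, orderOf x = 5 ∧
    ∃ X : Matrix (Fin 4) (Fin 4) F, X ≠ 0 ∧ x • X = X := by
  refine ⟨SemidirectProduct.inl (S.WgSz * S.TgSz 0 1), ?_, Wm, ?_, ?_⟩
  · rw [orderOf_injective _ SemidirectProduct.inl_injective, s64_ex15_orderOf_g5]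
  · intro h
    have := congrFun (congrFun h 0) 3
    simp [Wm] at this
  · rw [smul_def, SemidirectProduct.left_inl, SemidirectProduct.right_inl, s64_ex15_mat]
    have h1 : (Wm : Matrix (Fin 4) (Fin 4) F).map (1 : F ≃+* F) = Wm := by
      ext i j
      rfl
    rw [h1]
    exact s64_fix5b_compute S S.h2

end Cfsg.Agent.Helper15.S64
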