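import Mathlib
import Cfsg.Agent.Lib.Helper15.S74Defs
import Cfsg.Agent.Lib.Helper15.S62Asm2
import Cfsg.Agent.Lib.Helper23.S74NXA
import Cfsg.Agent.Lib.Helper19.S74NXB

/-!
# S2474 assembly, part 1 (helper15): the cases `{p, t}` and `{r, s}` odd, for any isometry of a
left-nondegenerate form in dimension `≤ 2n + 1`
-/

set_option autoImplicit false
set_option linter.style.haveILetI false

open Cfsg.Agent.Helper15.S62

namespace Cfsg.Agent.Helper15.S74

universe u

variable {F : Type u} [Field F]

theorem isom_pow {V : Type u} [AddCommGroup V] [Module F V] (B : LinearMap.BilinForm F V)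
    (g : Module.End F V) (hg : Isom B g) (j : ℕ) : Isom B (g ^ j) :=
  isometry_pow B g hg j

theorem natCast_ne_zero_of_prime_ne (p : ℕ) [Fact p.Prime] [CharP F p] (t : ℕ) (ht : t.Prime)
    (htp : t ≠ p) : (t : F) ≠ 0 := by
  intro h
  rw [CharP.cast_eq_zero_iff F p] at h
  exact htp ((Nat.prime_dvd_prime_iff_eq (Fact.out : p.Prime) ht).mp h).symm

/-- orders of the two coprime-power components of an element of order `a * b` -/
theorem orderOf_pow_left {G : Type*} [Monoid G] (g : G) (a b : ℕ) (ha : 0 < a) (hb : 0 < b)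
    (hord : orderOf g = a * b) : orderOf (g ^ a) = b := by
  rw [orderOf_pow' g ha.ne', hord, Nat.gcd_eq_right (dvd_mul_right a b),
    Nat.mul_div_cancel_left b ha]

theorem orderOf_pow_right {G : Type*} [Monoid G] (g : G) (a b : ℕ) (ha : 0 < a) (hb : 0 < b)
    (hord : orderOf g = a * b) : orderOf (g ^ b) = a := by
  rw [orderOf_pow' g hb.ne', hord, Nat.gcd_eq_right (dvd_mul_left b a),
    Nat.mul_div_cancel a hb]

/-- the cases not involving `{2, t}` with `t ≠ p` -/
theorem phi_of_isom [Fintype F] {V : Type u} [AddCommGroup V] [Module F V]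
    [FiniteDimensional F V] (p : ℕ) [Fact p.Prime] [CharP F p] (hp2 : p ≠ 2)
    (B : LinearMap.BilinForm F V) (hnd : LND B) (g : Module.End F V) (hg : Isom B g) (r s : ℕ)
    (hr : r.Prime) (hs : s.Prime) (hrs : r ≠ s) (hord : orderOf g = r * s) (n : ℕ) (hn : 2 ≤ n)
    (hdim : Module.finrank F V ≤ 2 * n + 1)
    (hcase : ¬ (r ≠ p ∧ s ≠ p ∧ (r = 2 ∨ s = 2))) : Phi (Fintype.card F) p n r s := by
  have hcomm : Commute (g ^ r) (g ^ s) := (Commute.refl g).pow_pow r s
  by_cases hrp : r = p
  · -- `r = p`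
    left
    refine ⟨hrp, ?_⟩
    by_cases hs2 : s = 2
    · exact Or.inl hs2
    · right
      have hsp : s ≠ p := fun h => hrs (hrp.trans h.symm)
      have hoy : orderOf (g ^ r) = s := orderOf_pow_left g r s hr.pos hs.pos hord
      have hou : orderOf (g ^ s) = p := by
        rw [orderOf_pow_right g r s hr.pos hs.pos hord, hrp]
      exact nxB p B hnd (g ^ r) (g ^ s) (isom_pow B g hg r) (isom_pow B g hg s) hcomm s hs hs2
        hsp hoy hou n hn hdim
  · by_cases hsp : s = p
    · -- `s = p`
      right; left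
      refine ⟨hsp, ?_⟩
      by_cases hr2 : r = 2
      · exact Or.inl hr2
      · right
        have hoy : orderOf (g ^ s) = r := orderOf_pow_right g r s hr.pos hs.pos hord
        have hou : orderOf (g ^ r) = p := by
          rw [orderOf_pow_left g r s hr.pos hs.pos hord, hsp]
        exact nxB p B hnd (g ^ s) (g ^ r) (isom_pow B g hg s) (isom_pow B g hg r) hcomm.symm r hr
          hr2 hrp hoy hou n hn hdim
    · -- both different from `p`
      have hr2 : r ≠ 2 := fun h => hcase ⟨hrp, hsp, Or.inl h⟩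
      have hs2 : s ≠ 2 := fun h => hcase ⟨hrp, hsp, Or.inr h⟩
      right; right; right; right
      exact ⟨hrp, hsp, hr2, hs2, nxA p B hnd g hg r s hr hs hrs hrp hsp hr2 hs2 hord n hdim⟩

end Cfsg.Agent.Helper15.S74
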