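import Mathlib
import Cfsg.Agent.Lib.Helper15.S74Defs
import Cfsg.Agent.Lib.Helper24.S74DICHA
import Cfsg.Agent.Lib.Helper8.S74DICHB
import Cfsg.Agent.Lib.Helper28.S74DICH1
import Cfsg.Agent.Lib.Helper24.S74DICH2
import Cfsg.Agent.Lib.Helper26.S74SPLITCOUNT
import Cfsg.Agent.Lib.Helper4.S74IRRCOUNT

/-!
# S2474 piece S74-NXCCORE (helper15): the `{2, t}` core on a `2n`-dimensional space
-/

set_option autoImplicit false
set_option linter.style.haveILetI false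
set_option linter.unusedVariables false

open Cfsg.Agent.Helper15.S62

namespace Cfsg.Agent.Helper15.S74

universe u

variable {F : Type u} [Field F]

theorem nxC_core [Fintype F] {W : Type u} [AddCommGroup W] [Module F W] [FiniteDimensional F W]
    (h2 : (2 : F) ≠ 0) (B : LinearMap.BilinForm F W) (hnd : LND B) (y : Module.End F W)
    (hy : Isom B y) (t : ℕ) (ht : t.Prime) (ht2 : t ≠ 2) (htF : (t : F) ≠ 0)
    (hsum : ∑ i ∈ Finset.range t, y ^ i = 0) (n : ℕ) (hn : 1 ≤ n)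
    (hdim : Module.finrank F W = 2 * n) (hns : ¬ Small (Fintype.card F) t (n - 1)) :
    ∃ E : ℕ, (E = Fintype.card F ^ n - 1 ∨ E = Fintype.card F ^ n + 1) ∧ t ∣ E ∧
      (∀ z : Module.End F W, Commute z y → Isom B z → z ^ 4 = 1 →
        (z ^ 2 = 1 → z = 1 ∨ z = -1) ∧ (z ^ 2 ≠ 1 → 4 ∣ E)) ∧
      ((∀ a b, B a b = B b a) →
        (∀ c : F, c ≠ 0 → Nat.card {w : W // B w w = c} = E * Fintype.card F ^ (n - 1)) ∧
        ∃ n₀ : ℕ, Nat.card {w : W // w ≠ 0 ∧ B w w = 0} = E * n₀) := by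
  by_cases hirr : Irred y
  · obtain ⟨L, iF, iA, iM, φ, ζ, hL, hζ, hφ, hadj⟩ :=
      dich_of_irred B hnd y hy t ht ht2 htF hsum n hn hdim hirr
    obtain ⟨htE, hz⟩ := dich_irr h2 B hnd y hy t ht htF hsum n hn φ ζ hL hζ hφ hadj
    refine ⟨Fintype.card F ^ n + 1, Or.inr rfl, htE, hz, ?_⟩
    intro hsymm
    exact irr_count h2 B hsymm hnd n hn φ hL hadj
  · obtain ⟨M, hM, hMirr, hMdim, hperp, hzM⟩ :=
      dich_of_not_irred B hnd y hy t ht ht2 htF hsum n hn hdim hns hirr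
    obtain ⟨htE, hz⟩ := dich_split h2 B hnd y t ht htF hsum n hn M hM hMirr hMdim hperp
    refine ⟨Fintype.card F ^ n - 1, Or.inl rfl, htE, ?_, ?_⟩
    · intro z hzy hzB hz4
      exact hz z hzy hzB (hzM z hzy hzB) hz4
    · intro hsymm
      obtain ⟨h1, h0⟩ := split_count h2 B hsymm hnd n hn hdim M hMdim hperp
      exact ⟨h1, _, h0⟩

end Cfsg.Agent.Helper15.S74
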