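import Mathlib
import Cfsg.Agent.Lib.Helper15.S74Asm1
import Cfsg.Agent.Lib.Helper2.S74NXCSP
import Cfsg.Agent.Lib.Helper27.S74SPFACTS
import Cfsg.Agent.Lib.Helper27.S74SPSPACE
import Cfsg.Agent.Lib.Helper5.S74PSPLIFT
import Cfsg.Agent.Lib.Helper6.S62LIFT

/-!
# S2474 assembly, part 2 (helper15): T2, `r * s ∈ ω(PSp_{2n}(q)) → Phi`
-/

set_option autoImplicit false
set_option linter.style.haveILetI false
set_option linter.unusedVariables false

open Cfsg.Agent.Helper15.S62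

namespace Cfsg.Agent.Helper15.S74

universe u

open Cfsg.Agent.Helper13.SympSS Cfsg.Agent.Helper28.SympIso in
/-- the `{2, t}` case for `PSp` -/
theorem phiC_of_PSp {F : Type u} [Field F] [Fintype F] (p : ℕ) [Fact p.Prime] [CharP F p]
    (hp2 : p ≠ 2) (n : ℕ) (hn : 3 ≤ n) (t : ℕ) (ht : t.Prime) (ht2 : t ≠ 2) (htp : t ≠ p)
    (x : Cfsg.PSp n F) (hx : orderOf x = 2 * t) : PhiC (Fintype.card F) n t := by
  have h2 : (2 : F) ≠ 0 := two_ne_zero_of_char p hp2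
  have htF : (t : F) ≠ 0 := natCast_ne_zero_of_prime_ne p t ht htp
  obtain ⟨A, hA2t, hAj⟩ := psp_lift n (by omega) x (2 * t) hx
  obtain ⟨hnd, hdim⟩ := sp_space_facts (F := F) n
  obtain ⟨hiso, -, hpow, -, -⟩ := sp_facts n A
  have hone : ∀ j : ℕ, LS A ^ j = 1 ↔ A ^ j = 1 := by
    intro j
    rw [← hpow j]
    exact (sp_facts n (A ^ j)).2.2.2.1
  have hneg : ∀ j : ℕ, LS A ^ j = -1 ↔ A ^ j = Cfsg.Agent.Helper2.Sp.negOne (Fin n) F := by
    intro j
    rw [← hpow j]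
    exact (sp_facts n (A ^ j)).2.2.2.2
  refine nxC_symp h2 (sympBil n F) hnd (LS A) hiso t ht ht2 htF ?_ ?_ n (by omega) hdim
  · rcases hA2t with h | h
    · exact Or.inl ((hone _).2 h)
    · exact Or.inr ((hneg _).2 h)
  · intro j hj0 hj
    obtain ⟨h1, h2'⟩ := hAj j hj0 hj
    exact ⟨fun h => h1 ((hone j).1 h), fun h => h2' ((hneg j).1 h)⟩

open Cfsg.Agent.Helper13.SympSS Cfsg.Agent.Helper28.SympIso in
/-- T2 -/
theorem nx_PSp {F : Type u} [Field F] [Fintype F] (p : ℕ) [Fact p.Prime] [CharP F p]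
    (hp2 : p ≠ 2) (n : ℕ) (hn : 3 ≤ n) (r s : ℕ) (hr : r.Prime) (hs : s.Prime) (hrs : r ≠ s)
    (h : r * s ∈ Set.range (orderOf : Cfsg.PSp n F → ℕ)) :
    Phi (Fintype.card F) p n r s := by
  obtain ⟨x, hx⟩ := h
  by_cases hcase : r ≠ p ∧ s ≠ p ∧ (r = 2 ∨ s = 2)
  · obtain ⟨hrp, hsp, h2 | h2⟩ := hcase
    · -- `r = 2`
      have hs2 : s ≠ 2 := fun h => hrs (h2.trans h.symm)
      right; right; left
      refine ⟨hrp, hsp, h2, ?_⟩
      exact phiC_of_PSp p hp2 n hn s hs hs2 hsp x (by rw [hx, h2])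
    · -- `s = 2`
      have hr2 : r ≠ 2 := fun h => hrs (h.trans h2.symm)
      right; right; right; left
      refine ⟨hrp, hsp, h2, ?_⟩
      exact phiC_of_PSp p hp2 n hn r hr hr2 hrp x (by rw [hx, h2, mul_comm])
  · haveI : Finite (Matrix.symplecticGroup (Fin n) F) := Subtype.finite
    obtain ⟨A, hA⟩ := exists_orderOf_eq_of_quotient
      (Subgroup.center (Matrix.symplecticGroup (Fin n) F)) x
    obtain ⟨hnd, hdim⟩ := sp_space_facts (F := F) n
    obtain ⟨hiso, hord, -, -, -⟩ := sp_facts n A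
    exact phi_of_isom p hp2 (sympBil n F) hnd (LS A) hiso r s hr hs hrs
      (by rw [hord, hA, hx]) n (by omega) (by omega) hcase

end Cfsg.Agent.Helper15.S74
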