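import Mathlib
import Cfsg.Agent.Lib.Helper15.S64Defs
import Cfsg.Agent.Lib.Helper15.S74Asm2
import Cfsg.Agent.Lib.Helper5.S74ExPSp

/-!
# S3664, piece PSPE: the edges of the prime graph of `PSp_6(3)`
-/

set_option autoImplicit false

namespace Cfsg.Agent.Helper15.S64

open Cfsg.Agent.Helper15.S74

theorem s64_pspe_dvd8 {s : ℕ} (hs : s.Prime) (h : s ∣ 8) : s = 2 := by
  have h8 : (8 : ℕ) = 2 ^ 3 := by norm_num
  rw [h8] at h
  exact (Nat.prime_dvd_prime_iff_eq hs Nat.prime_two).1 (hs.dvd_of_dvd_pow h)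

theorem s64_pspe_dvd80 {s : ℕ} (hs : s.Prime) (h : s ∣ 80) : s = 2 ∨ s = 5 := by
  have h80 : (80 : ℕ) = 2 ^ 4 * 5 := by norm_num
  rw [h80] at h
  rcases (Nat.Prime.dvd_mul hs).1 h with h | h
  · exact Or.inl ((Nat.prime_dvd_prime_iff_eq hs Nat.prime_two).1 (hs.dvd_of_dvd_pow h))
  · exact Or.inr ((Nat.prime_dvd_prime_iff_eq hs (by norm_num)).1 h)

theorem s64_pspe_small {s : ℕ} (hs : s.Prime) (h : Small 3 s 2) : s = 2 ∨ s = 5 := by
  obtain ⟨d, hd1, hd2, hd⟩ := h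
  have hd' : d = 1 ∨ d = 2 := by omega
  rcases hd' with rfl | rfl
  · exact Or.inl (s64_pspe_dvd8 hs (by simpa using hd))
  · exact s64_pspe_dvd80 hs (by simpa using hd)

theorem s64_pspe_small_two : Small 3 2 2 := ⟨1, le_rfl, by norm_num, by norm_num⟩

theorem s64_pspe_small_five : Small 3 5 2 := ⟨2, by norm_num, le_rfl, by norm_num⟩

theorem s64_pspe_phiC {s : ℕ} (hs : s.Prime) (hs2 : s ≠ 2) (h : PhiC 3 3 s) : s = 5 ∨ s = 7 := by
  rcases h with h | ⟨_, h4⟩ | ⟨h, _⟩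
  · rcases s64_pspe_small hs (by simpa using h) with h | h
    · exact absurd h hs2
    · exact Or.inl h
  · exfalso
    norm_num at h4
  · have h28 : (3 ^ 3 + 1 : ℕ) = 2 ^ 2 * 7 := by norm_num
    rw [h28] at h
    rcases (Nat.Prime.dvd_mul hs).1 h with h | h
    · exact absurd ((Nat.prime_dvd_prime_iff_eq hs Nat.prime_two).1 (hs.dvd_of_dvd_pow h)) hs2
    · exact Or.inr ((Nat.prime_dvd_prime_iff_eq hs (by norm_num)).1 h)

theorem s64_pspe_phiC_five : PhiC 3 3 5 := Or.inl (by simpa using s64_pspe_small_five)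

theorem s64_pspe_phiC_seven : PhiC 3 3 7 := Or.inr (Or.inr ⟨by norm_num, by norm_num⟩)

/-- an odd prime dividing one of `3^d ∓ 1`, `d ≤ 3`, is determined by that number -/
theorem s64_pspe_odd_dvd {r s m : ℕ} (hr : r.Prime) (hs : s.Prime) (hr2 : r ≠ 2) (hs2 : s ≠ 2)
    (hm : m = 2 ∨ m = 4 ∨ m = 8 ∨ m = 10 ∨ m = 26 ∨ m = 28) (h : r * s ∣ m) : r = s := by
  have hrm : r ∣ m := (Dvd.intro _ rfl).trans h
  have hsm : s ∣ m := (Dvd.intro_left _ rfl).trans h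
  have key : ∀ t : ℕ, t.Prime → t ≠ 2 → t ∣ m →
      (m = 10 ∧ t = 5) ∨ (m = 26 ∧ t = 13) ∨ (m = 28 ∧ t = 7) := by
    intro t ht ht2 htm
    have h2 : ∀ k : ℕ, t ∣ 2 ^ k → False := fun k hk =>
      ht2 ((Nat.prime_dvd_prime_iff_eq ht Nat.prime_two).1 (ht.dvd_of_dvd_pow hk))
    rcases hm with rfl | rfl | rfl | rfl | rfl | rfl
    · exact (h2 1 (by simpa using htm)).elim
    · exact (h2 2 (by simpa using htm)).elim
    · exact (h2 3 (by simpa using htm)).elim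
    · have e : (10 : ℕ) = 2 ^ 1 * 5 := by norm_num
      rw [e] at htm
      rcases (Nat.Prime.dvd_mul ht).1 htm with h | h
      · exact (h2 1 h).elim
      · exact Or.inl ⟨by norm_num, (Nat.prime_dvd_prime_iff_eq ht (by norm_num)).1 h⟩
    · have e : (26 : ℕ) = 2 ^ 1 * 13 := by norm_num
      rw [e] at htm
      rcases (Nat.Prime.dvd_mul ht).1 htm with h | h
      · exact (h2 1 h).elim
      · exact Or.inr (Or.inl ⟨by norm_num, (Nat.prime_dvd_prime_iff_eq ht (by norm_num)).1 h⟩)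
    · have e : (28 : ℕ) = 2 ^ 2 * 7 := by norm_num
      rw [e] at htm
      rcases (Nat.Prime.dvd_mul ht).1 htm with h | h
      · exact (h2 2 h).elim
      · exact Or.inr (Or.inr ⟨by norm_num, (Nat.prime_dvd_prime_iff_eq ht (by norm_num)).1 h⟩)
  rcases key r hr hr2 hrm with ⟨h1, h2⟩ | ⟨h1, h2⟩ | ⟨h1, h2⟩ <;>
    rcases key s hs hs2 hsm with ⟨h3, h4⟩ | ⟨h3, h4⟩ | ⟨h3, h4⟩ <;> omega

theorem s64_pspe_phiA {r s : ℕ} (hr : r.Prime) (hs : s.Prime) (hrs : r ≠ s) (hr2 : r ≠ 2)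
    (hs2 : s ≠ 2) (h : PhiA 3 3 r s) : False := by
  rcases h with ⟨a, b, ha, hb, hab, hra, hsb⟩ | ⟨d, hd1, hd, h⟩
  · have hab' : a = 1 ∨ b = 1 := by omega
    rcases hab' with rfl | rfl
    · exact hr2 (s64_pspe_dvd8 hr (by simpa using hra))
    · exact hs2 (s64_pspe_dvd8 hs (by simpa using hsb))
  · have hd' : d = 1 ∨ d = 2 ∨ d = 3 := by omega
    apply hrs
    rcases hd' with rfl | rfl | rfl <;> rcases h with h | h
    · exact s64_pspe_odd_dvd hr hs hr2 hs2 (Or.inl rfl) (by simpa using h)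
    · exact s64_pspe_odd_dvd hr hs hr2 hs2 (Or.inr (Or.inl rfl)) (by simpa using h)
    · exact s64_pspe_odd_dvd hr hs hr2 hs2 (Or.inr (Or.inr (Or.inl rfl))) (by simpa using h)
    · exact s64_pspe_odd_dvd hr hs hr2 hs2 (Or.inr (Or.inr (Or.inr (Or.inl rfl)))) (by simpa using h)
    · exact s64_pspe_odd_dvd hr hs hr2 hs2
        (Or.inr (Or.inr (Or.inr (Or.inr (Or.inl rfl))))) (by simpa using h)
    · exact s64_pspe_odd_dvd hr hs hr2 hs2
        (Or.inr (Or.inr (Or.inr (Or.inr (Or.inr rfl))))) (by simpa using h)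

theorem s64_pspe_phi {r s : ℕ} (hr : r.Prime) (hs : s.Prime) (hrs : r ≠ s) :
    Phi 3 3 3 r s ↔ Edge r s := by
  constructor
  · rintro (⟨h1, h2⟩ | ⟨h1, h2⟩ | ⟨h1, h2, h3, h4⟩ | ⟨h1, h2, h3, h4⟩ | ⟨h1, h2, h3, h4, h5⟩)
    · subst h1
      rcases h2 with h2 | h2
      · subst h2; unfold Edge; omega
      · rcases s64_pspe_small hs (by simpa using h2) with h | h <;> subst h <;> unfold Edge <;>
          omega
    · subst h1
      rcases h2 with h2 | h2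
      · subst h2; unfold Edge; omega
      · rcases s64_pspe_small hr (by simpa using h2) with h | h <;> subst h <;> unfold Edge <;>
          omega
    · subst h3
      rcases s64_pspe_phiC hs (Ne.symm hrs) h4 with h | h <;> subst h <;> unfold Edge <;> omega
    · subst h3
      rcases s64_pspe_phiC hr hrs h4 with h | h <;> subst h <;> unfold Edge <;> omega
    · exact (s64_pspe_phiA hr hs hrs h3 h4 h5).elim
  · rintro (⟨rfl, rfl⟩ | ⟨rfl, rfl⟩ | ⟨rfl, rfl⟩ | ⟨rfl, rfl⟩ | ⟨rfl, rfl⟩ | ⟨rfl, rfl⟩ |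
      ⟨rfl, rfl⟩ | ⟨rfl, rfl⟩)
    · exact Or.inr (Or.inl ⟨rfl, Or.inl rfl⟩)
    · exact Or.inl ⟨rfl, Or.inl rfl⟩
    · exact Or.inr (Or.inr (Or.inl ⟨by norm_num, by norm_num, rfl, s64_pspe_phiC_five⟩))
    · exact Or.inr (Or.inr (Or.inr (Or.inl ⟨by norm_num, by norm_num, rfl, s64_pspe_phiC_five⟩)))
    · exact Or.inl ⟨rfl, Or.inr (by simpa using s64_pspe_small_five)⟩
    · exact Or.inr (Or.inl ⟨rfl, Or.inr (by simpa using s64_pspe_small_five)⟩)
    · exact Or.inr (Or.inr (Or.inl ⟨by norm_num, by norm_num, rfl, s64_pspe_phiC_seven⟩))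
    · exact Or.inr (Or.inr (Or.inr (Or.inl ⟨by norm_num, by norm_num, rfl, s64_pspe_phiC_seven⟩)))

/-- PIECE S64-PSPE -/
theorem psp_edges {K : Type*} [Field K] [Fintype K] (hK : Fintype.card K = 3) {p q : ℕ}
    (hp : p.Prime) (hq : q.Prime) (hpq : p ≠ q) :
    (∃ g : Cfsg.PSp 3 K, orderOf g = p * q) ↔ Edge p q := by
  have : Fact (Nat.Prime 3) := ⟨Nat.prime_three⟩
  have : CharP K 3 := charP_of_card_eq_prime hK
  rw [← s64_pspe_phi hp hq hpq]
  constructor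
  · rintro ⟨g, hg⟩
    have := nx_PSp (F := K) 3 (by norm_num) 3 le_rfl p q hp hq hpq ⟨g, hg⟩
    rwa [hK] at this
  · intro h
    have h' : Phi (Fintype.card K) 3 3 p q := by rwa [hK]
    obtain ⟨g, hg⟩ := ex_PSp (F := K) 3 (by norm_num) 3 le_rfl p q hp hq hpq h'
    exact ⟨g, hg⟩

end Cfsg.Agent.Helper15.S64
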