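import Mathlib
import Cfsg.Agent.Lib.Helper15.S64Defs
import Cfsg.Agent.Lib.Helper2.SzPart2

/-!
# S3664, piece SZORD: the element orders of `Sz(8)`
-/

set_option autoImplicit false
set_option linter.unusedSectionVars false
set_option linter.unusedVariables false

namespace Cfsg.Agent.Helper15.S64

open Matrix Cfsg.Agent.Helper2 Cfsg.Agent.Helper2.Sz

variable {F : Type*} [Field F] [Fintype F] (S : SzData F 1)
  (hF : Fintype.card F = 2 ^ (2 * 1 + 1))

theorem s64_szord_prime_card {G : Type*} [Group G] (U : Subgroup G) {ℓ : ℕ} (hℓ : ℓ.Prime)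
    (hU : Nat.card U = ℓ) {n : G} (hn : n ∈ U) (hn1 : n ≠ 1) : orderOf n = ℓ := by
  have h1 : orderOf (⟨n, hn⟩ : U) ∣ Nat.card U := orderOf_dvd_natCard _
  rw [Subgroup.orderOf_mk, hU] at h1
  rcases (Nat.dvd_prime hℓ).1 h1 with h | h
  · exact absurd (orderOf_eq_one_iff.1 h) hn1
  · exact h

include S hF in
/-- PIECE S64-SZORD -/
theorem sz_orderOf (n : Cfsg.Sz F 1) :
    (∃ k : ℕ, orderOf n = 2 ^ k) ∨ orderOf n = 5 ∨ orderOf n = 7 ∨ orderOf n = 13 := by
  by_cases hn : n = 1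
  · exact Or.inl ⟨0, by rw [hn, orderOf_one, pow_zero]⟩
  obtain ⟨U, ⟨hU, hnU⟩, _⟩ := S.partition le_rfl hF n hn
  rcases hU with ⟨P, rfl⟩ | ⟨_, hcard⟩
  · left
    have hP : IsPGroup 2 (P : Subgroup (Cfsg.Sz F 1)) := P.isPGroup'
    obtain ⟨k, hk⟩ := (IsPGroup.iff_orderOf.1 hP) ⟨n, hnU⟩
    rw [Subgroup.orderOf_mk] at hk
    exact ⟨k, hk⟩
  · right
    rcases hcard with h | h | h
    · right; left
      exact s64_szord_prime_card U (by norm_num) (by rw [h]; norm_num) hnU hn
    · right; right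
      exact s64_szord_prime_card U (by norm_num) (by rw [h]; norm_num) hnU hn
    · left
      rw [Set.mem_singleton_iff] at h
      exact s64_szord_prime_card U (by norm_num) (by rw [h]; norm_num) hnU hn

end Cfsg.Agent.Helper15.S64
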