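import Mathlib
import Cfsg.Agent.Lib.Helper15.S64Defs
import Cfsg.Agent.Lib.Helper15.S64PSPE
import Cfsg.Agent.Lib.Helper15.S64SZORD
import Cfsg.Agent.Lib.Helper1.S64FPF13
import Cfsg.Agent.Lib.Helper11.S64PSPP
import Cfsg.Agent.Lib.Helper19.S64AFFB
import Cfsg.Agent.Lib.Helper19.S64FIX7
import Cfsg.Agent.Lib.Helper2.S64K13
import Cfsg.Agent.Lib.Helper22.S64CARDL
import Cfsg.Agent.Lib.Helper25.S64NO7
import Cfsg.Agent.Lib.Helper27.S64NO13
import Cfsg.Agent.Lib.Helper27.S64SYL3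
import Cfsg.Agent.Lib.Helper28.S64EX15
import Cfsg.Agent.Lib.Helper3.S64HCARD
import Cfsg.Agent.Lib.Helper3.S64HPRIMES
import Cfsg.Agent.Lib.Helper5.S64INTW
import Cfsg.Agent.Lib.Helper6.S64AFFA
import Cfsg.Agent.Lib.Helper8.S64FIXF
import Cfsg.Agent.Lib.Helper9.S64EX6
import Cfsg.Agent.Lib.Helper24.S64LORD
import Cfsg.Agent.Lib.Helper24.S64LTHREE
import Cfsg.Agent.Lib.Helper15.S64FIX5b

set_option autoImplicit false
set_option linter.unusedSectionVars false
set_option linter.unusedVariables false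

namespace Cfsg.Agent.Helper15.S64

open Matrix Cfsg.Agent.Helper2 Cfsg.Agent.Helper2.Sz

variable {F : Type*} [Field F] [Fintype F] (S : SzData F 1)
  (hF : Fintype.card F = 2 ^ (2 * 1 + 1))

theorem L_orders' (x : Lgrp S hF) {r s : ℕ} (hr : r.Prime) (hs : s.Prime) (hrs : r ≠ s)
    (hx : orderOf x = r * s) :
    (r = 2 ∧ s = 3) ∨ (r = 3 ∧ s = 2) ∨ (r = 3 ∧ s = 5) ∨ (r = 5 ∧ s = 3) := by
  have hcard := card_L S hF
  refine L_orders S hF ?_ (sz_orderOf S hF) x hr hs hrs hx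
  intro x t ht ht3 hxo
  refine L_three S hF (exists_conj_inr S hF hcard) ?_ ?_ (sz_orderOf S hF) x ht ht3 hxo
  · intro n hn ψ hψ
    exact no7_fixed S hF n hn ψ (sq_eq_of_fixed S hF ψ hψ)
  · intro n hn ψ hψ
    exact no13_fixed S hF (charpoly_not_prime_field S hF) n hn ψ (sq_eq_of_fixed S hF ψ hψ)

theorem fpf13' (x : Lgrp S hF) (hx : orderOf x = 13) (X : Matrix (Fin 4) (Fin 4) F)
    (hX : x • X = X) : X = 0 :=
  fpf13 S hF (charpoly_not_prime_field S hF) (isUnit_of_intertwine) x hx X hX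

include S in
theorem hW (N : ℕ) (w : Fin N → Matrix (Fin 4) (Fin 4) F) : w + w = 0 := by
  ext i j k
  have h2 : (2 : F) = 0 := S.h2
  show w i j k + w i j k = 0
  rw [← two_mul, h2, zero_mul]

/-- odd primes dividing the order of `L` -/
theorem odd_prime_dvd {q : ℕ} (hq : q.Prime) (hq2 : q ≠ 2) (h : q ∣ 29120 * 3) :
    q = 3 ∨ q = 5 ∨ q = 7 ∨ q = 13 := by
  have h1 : (29120 * 3 : ℕ) = 2 ^ 6 * 3 * 5 * 7 * 13 := by norm_num
  rw [h1] at h
  rcases (Nat.Prime.dvd_mul hq).1 h with h | h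
  · rcases (Nat.Prime.dvd_mul hq).1 h with h | h
    · rcases (Nat.Prime.dvd_mul hq).1 h with h | h
      · rcases (Nat.Prime.dvd_mul hq).1 h with h | h
        · exact absurd ((Nat.prime_dvd_prime_iff_eq hq Nat.prime_two).1 (hq.dvd_of_dvd_pow h)) hq2
        · exact Or.inl ((Nat.prime_dvd_prime_iff_eq hq (by norm_num)).1 h)
      · exact Or.inr (Or.inl ((Nat.prime_dvd_prime_iff_eq hq (by norm_num)).1 h))
    · exact Or.inr (Or.inr (Or.inl ((Nat.prime_dvd_prime_iff_eq hq (by norm_num)).1 h)))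
  · exact Or.inr (Or.inr (Or.inr ((Nat.prime_dvd_prime_iff_eq hq (by norm_num)).1 h)))

/-- the `2 q` case -/
theorem H_two_mul {N : ℕ} {q : ℕ} (hq : q.Prime) (hq2 : q ≠ 2) (a : Hgrp S hF N)
    (hh : orderOf a = 2 * q) : q = 3 ∨ q = 5 ∨ q = 7 := by
  rcases aff_two_mul (hW S N) hq hq2 hh with h1 | ⟨h1, w, hw0, hw⟩
  · rcases L_orders' S hF a.g Nat.prime_two hq (Ne.symm hq2) h1 with ⟨_, h⟩ | ⟨h, _⟩ | ⟨h, _⟩ |
      ⟨h, _⟩
    · exact Or.inl h
    · omega
    · omega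
    · omega
  · have hdvd : q ∣ 29120 * 3 := by
      rw [← card_L S hF, ← h1]
      exact orderOf_dvd_natCard _
    rcases odd_prime_dvd hq hq2 hdvd with h | h | h | h
    · exact Or.inl h
    · exact Or.inr (Or.inl h)
    · exact Or.inr (Or.inr h)
    · exfalso
      apply hw0
      ext i : 1
      have hi : a.g • w i = w i := congrFun hw i
      rw [h] at h1
      exact fpf13' S hF a.g h1 (w i) hi

theorem H_edges {N : ℕ} (hN : 1 ≤ N) {p q : ℕ} (hp : p.Prime) (hq : q.Prime) (hpq : p ≠ q) :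
    (∃ h : Hgrp S hF N, orderOf h = p * q) ↔ Edge p q := by
  constructor
  · rintro ⟨h, hh⟩
    by_cases hp2 : p = 2
    · subst hp2
      rcases H_two_mul S hF hq (Ne.symm hpq) h hh with h | h | h <;> subst h <;> unfold Edge <;>
        omega
    · by_cases hq2 : q = 2
      · subst hq2
        rw [mul_comm] at hh
        rcases H_two_mul S hF hp hpq h hh with h | h | h <;> subst h <;> unfold Edge <;> omega
      · have hodd : ¬ 2 ∣ orderOf h := by
          rw [hh]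
          intro h2
          rcases (Nat.Prime.dvd_mul Nat.prime_two).1 h2 with h2 | h2
          · exact hp2 ((Nat.prime_dvd_prime_iff_eq Nat.prime_two hp).1 h2).symm
          · exact hq2 ((Nat.prime_dvd_prime_iff_eq Nat.prime_two hq).1 h2).symm
        have h1 : orderOf h.g = p * q := by
          rw [← hh]
          exact AffExt.orderOf_g_of_odd (hW S N) hodd
        rcases L_orders' S hF h.g hp hq hpq h1 with ⟨h, _⟩ | ⟨_, h⟩ | ⟨h1, h2⟩ | ⟨h1, h2⟩
        · exact absurd h hp2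
        · exact absurd h hq2
        · subst h1 h2; unfold Edge; omega
        · subst h1 h2; unfold Edge; omega
  · intro hE
    have hincl : ∀ x : Lgrp S hF, orderOf x = p * q → ∃ h : Hgrp S hF N, orderOf h = p * q := by
      intro x hx
      exact ⟨AffExt.incl x, by rw [orderOf_injective AffExt.incl AffExt.incl_injective, hx]⟩
    have hfix : ∀ s : ℕ, s.Prime → s ≠ 2 → (∃ x : Lgrp S hF, orderOf x = s ∧
        ∃ X : Matrix (Fin 4) (Fin 4) F, X ≠ 0 ∧ x • X = X) →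
        ∃ h : Hgrp S hF N, orderOf h = 2 * s := by
      rintro s hs hs2 ⟨x, hx, X, hX0, hX⟩
      have hw0 : (fun _ : Fin N => X) ≠ 0 := by
        intro h0
        exact hX0 (congrFun h0 ⟨0, hN⟩)
      have hw : x • (fun _ : Fin N => X) = fun _ : Fin N => X := by
        ext i : 1
        exact hX
      exact aff_exists_two_mul (hW S N) hs hs2 hx hw0 hw
    obtain ⟨x6, hx6⟩ := exists_six S hF
    obtain ⟨x15, hx15⟩ := exists_fifteen S hF
    have h10 := hfix 5 (by norm_num) (by norm_num) (exists_fix5_b S hF)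
    have h14 := hfix 7 (by norm_num) (by norm_num) (exists_fix7 S hF)
    rcases hE with ⟨rfl, rfl⟩ | ⟨rfl, rfl⟩ | ⟨rfl, rfl⟩ | ⟨rfl, rfl⟩ | ⟨rfl, rfl⟩ | ⟨rfl, rfl⟩ |
      ⟨rfl, rfl⟩ | ⟨rfl, rfl⟩
    · exact hincl x6 hx6
    · exact hincl x6 hx6
    · exact h10
    · obtain ⟨h, hh⟩ := h10
      exact ⟨h, by rw [hh]⟩
    · exact hincl x15 hx15
    · exact hincl x15 hx15
    · exact h14
    · obtain ⟨h, hh⟩ := h14
      exact ⟨h, by rw [hh]⟩

end Cfsg.Agent.Helper15.S64
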