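import Mathlib
import Cfsg.Agent.Lib.Helper15.S74Defs
import Cfsg.Agent.Lib.Helper15.S62Asm2
import Cfsg.Agent.Lib.Helper19.S62COMPL
import Cfsg.Agent.Lib.Helper28.S62ORTH
import Cfsg.Agent.Lib.Helper28.S62DETSPLIT
import Cfsg.Agent.Lib.Helper25.S74RESTR
import Cfsg.Agent.Lib.Helper4.S74NXCOMD
import Cfsg.Agent.Lib.Helper15.S74NXCCORE

/-!
# S2474 piece S74-NXCOM1 (helper15): structure of an element of order `2t` of `Ω_{2n+1}(q)`
when `t` is not small
-/

set_option autoImplicit false
set_option linter.style.haveILetI false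
set_option linter.unusedVariables false

open Cfsg.Agent.Helper15.S62

namespace Cfsg.Agent.Helper15.S74

universe u

variable {F : Type u} [Field F]

theorem nxC_orth_structure [Fintype F] {V : Type u} [AddCommGroup V] [Module F V]
    [FiniteDimensional F V] (h2 : (2 : F) ≠ 0) (B : LinearMap.BilinForm F V)
    (hsymm : ∀ a b, B a b = B b a) (hnd : LND B) (G : Module.End F V) (hG : Isom B G) (t : ℕ)
    (ht : t.Prime) (ht2 : t ≠ 2) (htF : (t : F) ≠ 0) (hord : orderOf G = 2 * t)
    (hdet : LinearMap.det G = 1) (n : ℕ) (hn : 1 ≤ n) (hdim : Module.finrank F V = 2 * n + 1)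
    (hns : ¬ Small (Fintype.card F) t (n - 1)) :
    ∃ E : ℕ, (E = Fintype.card F ^ n - 1 ∨ E = Fintype.card F ^ n + 1) ∧ t ∣ E ∧
      IsCompl (Cpart (G ^ 2)) (Wpart (G ^ 2) t) ∧
      (∀ w ∈ Wpart (G ^ 2) t, ∀ x ∈ Cpart (G ^ 2), B w x = 0) ∧
      (∀ x ∈ Cpart (G ^ 2), (G ^ t) x = x) ∧ (∀ w ∈ Wpart (G ^ 2) t, (G ^ t) w = -w) ∧
      (∀ c : F, c ≠ 0 → Nat.card {w : Wpart (G ^ 2) t // B (w : V) (w : V) = c} =
          E * Fintype.card F ^ (n - 1)) ∧
      ∃ n₀ : ℕ, Nat.card {w : Wpart (G ^ 2) t // w ≠ 0 ∧ B (w : V) (w : V) = 0} = E * n₀ := by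
  classical
  have ht3 : 3 ≤ t := by
    have := ht.two_le
    omega
  set y : Module.End F V := G ^ 2 with hy
  set z : Module.End F V := G ^ t with hz
  have hG2t : G ^ (2 * t) = 1 := by rw [← hord]; exact pow_orderOf_eq_one G
  have hyt : y ^ t = 1 := by rw [hy, ← pow_mul, hG2t]
  have hz2 : z ^ 2 = 1 := by rw [hz, ← pow_mul, mul_comm, hG2t]
  have hy1 : y ≠ 1 := by
    intro h
    have : 2 * t ∣ 2 := by rw [← hord]; exact orderOf_dvd_of_pow_eq_one h
    have := Nat.le_of_dvd (by norm_num) this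
    omega
  have hz1 : z ≠ 1 := by
    intro h
    have : 2 * t ∣ t := by rw [← hord]; exact orderOf_dvd_of_pow_eq_one h
    have := Nat.le_of_dvd ht.pos this
    omega
  have hyiso : Isom B y := isometry_pow B G hG 2
  have hziso : Isom B z := isometry_pow B G hG t
  have hzy : Commute z y := (Commute.refl G).pow_pow t 2
  have hdetz : LinearMap.det z = 1 := by rw [hz, map_pow, hdet, one_pow]
  obtain ⟨hWdim, hCdim⟩ := nxC_orth_dim h2 B hnd y hyiso t ht ht2 htF hyt hy1 n hn hdim hns
  have hcompl := isCompl_Cpart_Wpart y t ht.pos htF hyt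
  have horth : ∀ w ∈ Wpart y t, ∀ x ∈ Cpart y, B w x = 0 := fun w hw x hx =>
    orth_Wpart_Cpart B y hyiso t htF hw hx
  have hdec : ∀ v : V, ∃ x ∈ Cpart y, ∃ w ∈ Wpart y t, x + w = v := by
    intro v
    have : v ∈ Cpart y ⊔ Wpart y t := by rw [hcompl.sup_eq_top]; trivial
    exact Submodule.mem_sup.mp this
  -- restrictions to `W`
  have hWy : Invar y (Wpart y t) := invar_wpart y y t (Commute.refl y)
  have hWz : Invar z (Wpart y t) := invar_wpart y z t hzy
  have hCz : Invar z (Cpart y) := invar_cpart y z hzy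
  have hndW : LND (B.restrict (Wpart y t)) := lnd_restrict_wpart B hnd y hyiso t ht.pos htF hyt
  have hyW : Isom (B.restrict (Wpart y t)) (y.restrict hWy) :=
    isom_restrict B y (Wpart y t) hWy hyiso
  have hzW : Isom (B.restrict (Wpart y t)) (z.restrict hWz) :=
    isom_restrict B z (Wpart y t) hWz hziso
  have hsumW : ∑ i ∈ Finset.range t, (y.restrict hWy) ^ i = 0 :=
    restrict_geom_sum y (Wpart y t) hWy t le_rfl
  have hzyW : Commute (z.restrict hWz) (y.restrict hWy) :=
    restrict_commute z y (Wpart y t) hWz hWy hzy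
  have hz2W : (z.restrict hWz) ^ 2 = 1 := by
    rw [restrict_pow z (Wpart y t) hWz 2]
    apply LinearMap.ext
    intro w
    apply Subtype.ext
    show (z ^ 2) (w : V) = _
    rw [hz2]
    rfl
  have hz4W : (z.restrict hWz) ^ 4 = 1 := by
    have : (z.restrict hWz) ^ 4 = ((z.restrict hWz) ^ 2) ^ 2 := by rw [← pow_mul]
    rw [this, hz2W, one_pow]
  obtain ⟨E, hE, htE, hzpart, hcount⟩ :=
    nxC_core h2 (B.restrict (Wpart y t)) hndW (y.restrict hWy) hyW t ht ht2 htF hsumW n hn hWdim
      hns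
  obtain ⟨hzalt, -⟩ := hzpart (z.restrict hWz) hzyW hzW hz4W
  have hzalt' := hzalt hz2W
  -- the action on `C`
  have hCpos : 0 < Module.finrank F (Cpart y) := by omega
  obtain ⟨c₀, hc₀⟩ := (finrank_eq_one_iff' (K := F) (V := Cpart y)).mp hCdim
  obtain ⟨hc₀0, hc₀span⟩ := hc₀
  obtain ⟨lam, hlam⟩ := hc₀span ((z.restrict hCz) c₀)
  have hzC : z.restrict hCz = lam • (1 : Module.End F (Cpart y)) := by
    apply LinearMap.ext
    intro x
    obtain ⟨a, ha⟩ := hc₀span x
    rw [← ha, map_smul, ← hlam, LinearMap.smul_apply, Module.End.one_apply, smul_comm]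
  have hdetC : LinearMap.det (z.restrict hCz) = lam := by
    rw [hzC, LinearMap.det_smul, hCdim, pow_one, map_one, mul_one]
  have hdetW : LinearMap.det (z.restrict hWz) = 1 := by
    rcases hzalt' with h | h
    · rw [h, map_one]
    · have h' : (-1 : Module.End F (Wpart y t)) = (-1 : F) • (1 : Module.End F (Wpart y t)) := by
        apply LinearMap.ext
        intro w
        simp
      rw [h, h', LinearMap.det_smul, hWdim, map_one, mul_one, pow_mul]
      norm_num
  have hlam1 : lam = 1 := by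
    have := det_eq_mul_of_isCompl (Cpart y) (Wpart y t) hcompl z hCz hWz
    rw [hdetz, hdetC, hdetW, mul_one] at this
    exact this.symm
  have hzCfix : ∀ x ∈ Cpart y, z x = x := by
    intro x hx
    have := congrArg (fun f : Module.End F (Cpart y) => ((f ⟨x, hx⟩ : Cpart y) : V)) hzC
    simpa [hlam1] using this
  have hzWneg : ∀ w ∈ Wpart y t, z w = -w := by
    rcases hzalt' with h | h
    · exfalso
      apply hz1
      apply LinearMap.ext
      intro v
      obtain ⟨x, hx, w, hw, rfl⟩ := hdec v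
      have hw' : z w = w := by
        have := congrArg (fun f : Module.End F (Wpart y t) => ((f ⟨w, hw⟩ : Wpart y t) : V)) h
        simpa using this
      rw [map_add, hzCfix x hx, hw', Module.End.one_apply]
    · intro w hw
      have := congrArg (fun f : Module.End F (Wpart y t) => ((f ⟨w, hw⟩ : Wpart y t) : V)) h
      simpa using this
  have hsymmW : ∀ a b : Wpart y t, (B.restrict (Wpart y t)) a b = (B.restrict (Wpart y t)) b a :=
    fun a b => hsymm _ _
  obtain ⟨hcnt, hcnt0⟩ := hcount hsymmW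
  exact ⟨E, hE, htE, hcompl, horth, hzCfix, hzWneg, hcnt, hcnt0⟩

end Cfsg.Agent.Helper15.S74
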