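import Mathlib
import Cfsg.Agent.Lib.Helper15.S74Asm1
import Cfsg.Agent.Lib.Helper15.S62PiecesB
import Cfsg.Agent.Lib.Helper15.S74NXCOM1
import Cfsg.Agent.Lib.Helper13.S74NXCOM2

/-!
# S2474 assembly, part 3 (helper15): T1, `r * s ∈ ω(PΩ_{2n+1}(q)) → Phi`
-/

set_option autoImplicit false
set_option linter.style.haveILetI false
set_option linter.unusedVariables false

open Cfsg.Agent.Helper15.S62

namespace Cfsg.Agent.Helper15.S74

universe u

theorem finrank_idx {F : Type u} [Field F] (n : ℕ) :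
    Module.finrank F (Idx n → F) = 2 * n + 1 := by
  rw [Module.finrank_fintype_fun_eq_card]
  simp only [Idx, Fintype.card_sum, Fintype.card_unit, Fintype.card_fin]
  omega

/-- the `{2, t}` case for `POmega` -/
theorem phiC_of_POmega {F : Type u} [Field F] [Fintype F] (p : ℕ) [Fact p.Prime] [CharP F p]
    (hp2 : p ≠ 2) (n : ℕ) (hn : 3 ≤ n) (t : ℕ) (ht : t.Prime) (ht2 : t ≠ 2) (htp : t ≠ p)
    (x : Cfsg.POmega F (Cfsg.quadFormOdd n F)) (hx : orderOf x = 2 * t) :
    PhiC (Fintype.card F) n t := by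
  classical
  by_cases hns : Small (Fintype.card F) t (n - 1)
  · exact Or.inl hns
  right
  have hp : p.Prime := Fact.out
  have h2 : (2 : F) ≠ 0 := two_ne_zero_of_char p hp2
  have htF : (t : F) ≠ 0 := natCast_ne_zero_of_prime_ne p t ht htp
  obtain ⟨hqodd, hq3, hpq⟩ := card_odd (F := F) p hp2
  set q := Fintype.card F with hq
  obtain ⟨g0, hg0⟩ := exists_orderOf_eq_of_quotient
    (Subgroup.center (Cfsg.Omega F (Cfsg.quadFormOdd n F))) x
  set g : Cfsg.isometryGroup F (Cfsg.quadFormOdd n F) := g0.1 with hg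
  have hgmem : g ∈ commutator (Cfsg.isometryGroup F (Cfsg.quadFormOdd n F)) := g0.2
  have hog : orderOf g = 2 * t := by rw [hg, Subgroup.orderOf_coe, hg0, hx]
  obtain ⟨hpolar, hdiag, hbsymm, hbnd⟩ := bstd_facts (F := F) n h2
  set z := g ^ t with hz
  have hzmem : z ∈ commutator (Cfsg.isometryGroup F (Cfsg.quadFormOdd n F)) :=
    Subgroup.pow_mem _ hgmem t
  obtain ⟨hgiso, hgord, hgdet, hgpow, hgmul⟩ := toEnd_facts n hpolar g
  letI iFt : Fintype {v : Idx n → F // Cfsg.quadFormOdd n F v = 1} := Fintype.ofFinite _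
  obtain ⟨-, hdetg⟩ := sign_det_of_mem_commutator (Cfsg.quadFormOdd n F) (1 : F) g hgmem
  obtain ⟨hsign, -⟩ := sign_det_of_mem_commutator (Cfsg.quadFormOdd n F) (1 : F) z hzmem
  have h21 : (2 : F) * 1 ≠ 0 := by rw [mul_one]; exact h2
  obtain ⟨E, hE, htE, hcompl, horth, hzC, hzW, hcnt, hcnt0⟩ :=
    nxC_orth_structure h2 (bstd n F) hbsymm hbnd (toEnd g) hgiso t ht ht2 htF
      (by rw [hgord, hog]) (by rw [hgdet, hdetg]) n (by omega) (finrank_idx n) hns
  obtain ⟨hper, d, hd, hcard⟩ :=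
    nxC_orth_count h2 hqodd (bstd n F) hbsymm (Cpart (toEnd g ^ 2)) (Wpart (toEnd g ^ 2) t) hcompl
      horth (toEnd g ^ t) hzC hzW E n (by omega) hcnt hcnt0 (2 * 1) h21
  have hzend : toEnd z = toEnd g ^ t := by rw [hz, hgpow]
  have hqn : Odd (q ^ n) := hqodd.pow
  have hq1 : 1 ≤ q ^ n := Nat.one_le_pow _ _ (by omega)
  have hEeven : Even E := by
    rcases hE with h | h
    · rw [h]; exact Nat.Odd.sub_odd hqn odd_one
    · rw [h]; exact hqn.add_one
  obtain ⟨E', hE'⟩ := hEeven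
  have hE'2 : E = 2 * E' := by omega
  have h4 : 4 ∣ E := by
    by_contra h4
    have hE'odd : Odd E' := by
      rcases Nat.even_or_odd E' with he | ho
      · exfalso
        obtain ⟨k, hk⟩ := he
        exact h4 ⟨k, by omega⟩
      · exact ho
    have hpow2 : toEnd z ^ 2 = 1 := by
      rw [hzend, ← pow_mul, mul_comm]
      have : orderOf (toEnd g) = 2 * t := by rw [hgord, hog]
      rw [← this]
      exact pow_orderOf_eq_one _
    have hneg := sign_lvlPerm_eq_neg_one n h2 hdiag (1 : F) z 2 (E' * d) even_two (by norm_num)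
      (by rw [hzend]; exact hper) hpow2 (hE'odd.mul hd)
      (by rw [hzend, hcard, hE'2, mul_assoc])
    rw [hsign] at hneg
    exact absurd hneg (by decide)
  rcases hE with h | h
  · left
    exact ⟨h ▸ htE, h ▸ h4⟩
  · right
    exact ⟨h ▸ htE, h ▸ h4⟩

/-- T1 -/
theorem nx_POmega {F : Type u} [Field F] [Fintype F] (p : ℕ) [Fact p.Prime] [CharP F p]
    (hp2 : p ≠ 2) (n : ℕ) (hn : 3 ≤ n) (r s : ℕ) (hr : r.Prime) (hs : s.Prime) (hrs : r ≠ s)
    (h : r * s ∈ Set.range (orderOf : Cfsg.POmega F (Cfsg.quadFormOdd n F) → ℕ)) :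
    Phi (Fintype.card F) p n r s := by
  classical
  obtain ⟨x, hx⟩ := h
  by_cases hcase : r ≠ p ∧ s ≠ p ∧ (r = 2 ∨ s = 2)
  · obtain ⟨hrp, hsp, h2 | h2⟩ := hcase
    · have hs2 : s ≠ 2 := fun h => hrs (h2.trans h.symm)
      right; right; left
      refine ⟨hrp, hsp, h2, ?_⟩
      exact phiC_of_POmega p hp2 n hn s hs hs2 hsp x (by rw [hx, h2])
    · have hr2 : r ≠ 2 := fun h => hrs (h.trans h2.symm)
      right; right; right; left
      refine ⟨hrp, hsp, h2, ?_⟩
      exact phiC_of_POmega p hp2 n hn r hr hr2 hrp x (by rw [hx, h2, mul_comm])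
  · have h2 : (2 : F) ≠ 0 := two_ne_zero_of_char p hp2
    obtain ⟨g0, hg0⟩ := exists_orderOf_eq_of_quotient
      (Subgroup.center (Cfsg.Omega F (Cfsg.quadFormOdd n F))) x
    set g : Cfsg.isometryGroup F (Cfsg.quadFormOdd n F) := g0.1 with hg
    have hog : orderOf g = r * s := by rw [hg, Subgroup.orderOf_coe, hg0, hx]
    obtain ⟨hpolar, hdiag, hbsymm, hbnd⟩ := bstd_facts (F := F) n h2
    obtain ⟨hgiso, hgord, -, -, -⟩ := toEnd_facts n hpolar g
    exact phi_of_isom p hp2 (bstd n F) hbnd (toEnd g) hgiso r s hr hs hrs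
      (by rw [hgord, hog]) n (by omega) (by rw [finrank_idx]) hcase

end Cfsg.Agent.Helper15.S74
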