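import Mathlib
import Cfsg.Agent.Lib.Helper14.SADefs
import Cfsg.Agent.Lib.Helper14.SADefs2
import Cfsg.Agent.Lib.Helper16.SABURN
import Cfsg.Agent.Lib.Helper15.SAPT

/-!
# S4025, piece LN (helper15, for helper14's skeleton)

If all `p`-subgroups of equal order are conjugate and the Sylow `p`-subgroup `P` is elementary
abelian, the image of `N_G(P)` in `GL(V)` is transitive on the subspaces of order `p ^ 2`.
-/

set_option autoImplicit false
set_option linter.unusedSectionVars false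
set_option linter.unusedVariables false
set_option linter.style.haveILetI false

universe u

namespace Cfsg.Agent.Helper14.SA

section Group

variable {G : Type u} [Group G] [Finite G] {p : ℕ} [Fact p.Prime]

variable {V : Type*} [AddCommGroup V] [Module (ZMod p) V] [Finite V]

theorem Link.map_inv {P : Subgroup G} (L : Link p P V) (x : P) : L.ι x⁻¹ = - L.ι x := by
  have h := L.map_mul x x⁻¹
  rw [mul_inv_cancel, L.map_one] at h
  exact eq_neg_of_add_eq_zero_right h.symm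

/-- the subgroup of `G` corresponding to a subspace of `V` -/
def Link.toSubgroup {P : Subgroup G} (L : Link p P V) (U : Submodule (ZMod p) V) : Subgroup G where
  carrier := {g | ∃ x : P, L.ι x ∈ U ∧ (x : G) = g}
  one_mem' := ⟨1, by rw [L.map_one]; exact U.zero_mem, rfl⟩
  mul_mem' := by
    rintro _ _ ⟨x, hx, rfl⟩ ⟨y, hy, rfl⟩
    exact ⟨x * y, by rw [L.map_mul]; exact U.add_mem hx hy, rfl⟩
  inv_mem' := by
    rintro _ ⟨x, hx, rfl⟩
    exact ⟨x⁻¹, by rw [L.map_inv]; exact U.neg_mem hx, rfl⟩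

theorem Link.mem_toSubgroup {P : Subgroup G} (L : Link p P V) (U : Submodule (ZMod p) V) (g : G) :
    g ∈ L.toSubgroup U ↔ ∃ x : P, L.ι x ∈ U ∧ (x : G) = g := Iff.rfl

theorem Link.toSubgroup_le {P : Subgroup G} (L : Link p P V) (U : Submodule (ZMod p) V) :
    L.toSubgroup U ≤ P := by
  rintro _ ⟨x, -, rfl⟩
  exact x.2

theorem Link.card_toSubgroup {P : Subgroup G} (L : Link p P V) (U : Submodule (ZMod p) V) :
    Nat.card (L.toSubgroup U) = Nat.card U := by
  symm
  refine Nat.card_congr (Equiv.ofBijective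
    (fun u : U => (⟨((L.ι.symm u : P) : G), ⟨L.ι.symm u, by
      rw [Equiv.apply_symm_apply]; exact u.2, rfl⟩⟩ : L.toSubgroup U)) ⟨?_, ?_⟩)
  · intro u u' h
    have h1 : ((L.ι.symm u : P) : G) = ((L.ι.symm u' : P) : G) :=
      congrArg (fun t : L.toSubgroup U => (t : G)) h
    exact Subtype.ext (L.ι.symm.injective (Subtype.ext h1))
  · rintro ⟨_, x, hx, rfl⟩
    refine ⟨⟨L.ι x, hx⟩, ?_⟩
    apply Subtype.ext
    change ((L.ι.symm (L.ι x) : P) : G) = (x : G)
    rw [Equiv.symm_apply_apply]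

/-- PIECE LN -/
theorem lnTrans_of_conj (P : Sylow p G) (hel : Cfsg.IsElementaryAbelian p (P : Subgroup G))
    (hC : ∀ H K : Subgroup G, IsPGroup p H → IsPGroup p K → Nat.card H = Nat.card K →
      ∃ g : G, K = H.map (MulAut.conj g).toMonoidHom)
    (L : Link p (P : Subgroup G) V)
    (ρ : ↥(Subgroup.normalizer ((P : Subgroup G) : Set G)) →* (V ≃ₗ[ZMod p] V))
    (hρ : IsRep (P : Subgroup G) L ρ) : LnTrans ρ.range := by
  intro U W hU hW
  have hUp : IsPGroup p (L.toSubgroup U) := P.isPGroup'.to_le (L.toSubgroup_le U)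
  have hWp : IsPGroup p (L.toSubgroup W) := P.isPGroup'.to_le (L.toSubgroup_le W)
  obtain ⟨g, hg⟩ := hC _ _ hUp hWp (by rw [L.card_toSubgroup, L.card_toSubgroup, hU, hW])
  obtain ⟨n, hn, hnK⟩ :=
    burnside_conj P hel.1 _ _ (L.toSubgroup_le U) (L.toSubgroup_le W) g hg
  refine ⟨ρ ⟨n, hn⟩, ⟨_, rfl⟩, ?_⟩
  ext w
  rw [Submodule.mem_map]
  constructor
  · rintro ⟨u, hu, rfl⟩
    change ρ ⟨n, hn⟩ u ∈ W
    set x : (P : Subgroup G) := L.ι.symm u with hx
    have hxu : L.ι x = u := Equiv.apply_symm_apply _ _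
    have hxP : n * (x : G) * n⁻¹ ∈ (P : Subgroup G) := conj_mem_of_mem_normalizer hn x.2
    have h1 := hρ ⟨n, hn⟩ x hxP
    rw [hxu] at h1
    rw [h1]
    have h2 : n * (x : G) * n⁻¹ ∈ L.toSubgroup W := by
      rw [hnK]
      exact ⟨(x : G), ⟨x, by rw [hxu]; exact hu, rfl⟩, rfl⟩
    obtain ⟨x', hx'W, hx'⟩ := h2
    have : (⟨n * (x : G) * n⁻¹, hxP⟩ : (P : Subgroup G)) = x' := Subtype.ext hx'.symm
    rw [this]
    exact hx'W
  · intro hw
    set x' : (P : Subgroup G) := L.ι.symm w with hx'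
    have hx'w : L.ι x' = w := Equiv.apply_symm_apply _ _
    have h1 : (x' : G) ∈ L.toSubgroup W := ⟨x', by rw [hx'w]; exact hw, rfl⟩
    rw [hnK] at h1
    obtain ⟨g0, ⟨x, hxU, rfl⟩, hg0⟩ := h1
    have hg0' : n * (x : G) * n⁻¹ = (x' : G) := hg0
    have hxP : n * (x : G) * n⁻¹ ∈ (P : Subgroup G) := conj_mem_of_mem_normalizer hn x.2
    refine ⟨L.ι x, hxU, ?_⟩
    change ρ ⟨n, hn⟩ (L.ι x) = w
    rw [hρ ⟨n, hn⟩ x hxP]
    have : (⟨n * (x : G) * n⁻¹, hxP⟩ : (P : Subgroup G)) = x' := Subtype.ext hg0'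
    rw [this, hx'w]

end Group

end Cfsg.Agent.Helper14.SA
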