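import Mathlib
import Cfsg.Agent.Lib.Helper8.SDDefs
/-!
# SD-MODEL (helper15): the model family of blocks (binary digits of `n`)

Piece of helper8's farm-out S2221, plan `plans/SD_plan.md`.  `exists_model_of` is the statement
`Cfsg.Agent.Helper8.SD.exists_model` of `Lib/Helper8/SDWex.lean` with `exists_isW` as a hypothesis
(this file does not import `SDWex.lean`, so that file may import this one).
-/

set_option autoImplicit false
set_option linter.style.haveILetI false

namespace Cfsg.Agent.Helper8.SD.MODEL

open Equiv

/-- blocks of pairwise distinct sizes `2 ^ a`, `1 ≤ a < b`, inside a finset with fewer than `2 ^ b`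
points, covering all but at most one point -/
theorem exists_blocks {Ω : Type*} [DecidableEq Ω] (b : ℕ) : ∀ S : Finset Ω, S.card < 2 ^ b →
    ∃ (ι : Type) (_ : Fintype ι) (_ : DecidableEq ι) (B : ι → Finset Ω),
      (∀ i, B i ⊆ S) ∧ (∀ i, ∃ a, 1 ≤ a ∧ a < b ∧ (B i).card = 2 ^ a) ∧
      (∀ i j, i ≠ j → Disjoint (B i) (B j)) ∧
      (∀ i j, (B i).card = (B j).card → i = j) ∧ ∑ i, (B i).card = 2 * (S.card / 2) := by
  induction b with
  | zero =>
    intro S hS
    refine ⟨Empty, inferInstance, inferInstance, fun i => i.elim, fun i => i.elim, fun i => i.elim,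
      fun i => i.elim, fun i => i.elim, ?_⟩
    have : S.card = 0 := by simpa using hS
    simp [this]
  | succ b ih =>
    intro S hS
    by_cases h : S.card < 2 ^ b
    · obtain ⟨ι, hF, hD, B, h1, h2, h3, h4, h5⟩ := ih S h
      refine ⟨ι, hF, hD, B, h1, fun i => ?_, h3, h4, h5⟩
      obtain ⟨a, ha1, ha2, ha3⟩ := h2 i
      exact ⟨a, ha1, by omega, ha3⟩
    · rw [not_lt] at h
      by_cases hb : b = 0
      · subst hb
        refine ⟨Empty, inferInstance, inferInstance, fun i => i.elim, fun i => i.elim,
          fun i => i.elim, fun i => i.elim, fun i => i.elim, ?_⟩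
        have : S.card = 1 := by
          simp only [pow_zero, zero_add, pow_one] at h hS
          omega
        simp [this]
      · obtain ⟨T, hTS, hT⟩ := Finset.exists_subset_card_eq h
        have hpow : 2 ^ (b + 1) = 2 * 2 ^ b := by rw [pow_succ]; ring
        have hcard' : (S \ T).card = S.card - 2 ^ b := by
          rw [Finset.card_sdiff_of_subset hTS, hT]
        obtain ⟨ι, hF, hD, B, h1, h2, h3, h4, h5⟩ := ih (S \ T) (by rw [hcard']; omega)
        refine ⟨Option ι, inferInstance, inferInstance, fun o => o.elim T B, ?_, ?_, ?_, ?_, ?_⟩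
        · rintro (_ | i)
          · exact hTS
          · exact (h1 i).trans Finset.sdiff_subset
        · rintro (_ | i)
          · exact ⟨b, by omega, by omega, hT⟩
          · obtain ⟨a, ha1, ha2, ha3⟩ := h2 i
            exact ⟨a, ha1, by omega, ha3⟩
        · rintro (_ | i) (_ | j) hij
          · exact absurd rfl hij
          · exact Finset.disjoint_of_subset_right (h1 j) Finset.disjoint_sdiff
          · exact (Finset.disjoint_of_subset_right (h1 i) Finset.disjoint_sdiff).symm
          · exact h3 i j (fun h' => hij (by rw [h']))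
        · rintro (_ | i) (_ | j) hij
          · rfl
          · exfalso
            obtain ⟨a, ha1, ha2, ha3⟩ := h2 j
            simp only [Option.elim] at hij
            rw [hT, ha3] at hij
            have := Nat.pow_right_injective (le_refl 2) hij
            omega
          · exfalso
            obtain ⟨a, ha1, ha2, ha3⟩ := h2 i
            simp only [Option.elim] at hij
            rw [hT, ha3] at hij
            have := Nat.pow_right_injective (le_refl 2) hij
            omega
          · rw [h4 i j hij]
        · rw [Fintype.sum_option]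
          simp only [Option.elim]
          rw [h5, hT, hcard']
          obtain ⟨b', rfl⟩ : ∃ b', b = b' + 1 := ⟨b - 1, by omega⟩
          have hpow' : 2 ^ (b' + 1) = 2 * 2 ^ b' := by rw [pow_succ]; ring
          rw [hpow'] at h ⊢
          generalize 2 ^ b' = x at *
          omega

/-- the model: blocks of pairwise distinct sizes `2 ^ a ≥ 2` covering all but `n % 2` points,
each with an iterated wreath product -/
theorem exists_model_of (n : ℕ)
    (hW : ∀ (a : ℕ) (B : Finset (Fin n)), B.card = 2 ^ a →
      ∃ Q : Subgroup (Perm (Fin n)), IsW Q B) :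
    ∃ (ι : Type) (_ : Fintype ι) (_ : DecidableEq ι) (B : ι → Finset (Fin n))
      (Qs : ι → Subgroup (Perm (Fin n))),
      (∀ i, IsW (Qs i) (B i)) ∧ (∀ i, 2 ≤ (B i).card) ∧
      (∀ i j, i ≠ j → Disjoint (B i) (B j)) ∧
      (∀ i j, (B i).card = (B j).card → i = j) ∧ ∑ i, (B i).card = 2 * (n / 2) := by
  obtain ⟨ι, hF, hD, B, h1, h2, h3, h4, h5⟩ :=
    exists_blocks (Ω := Fin n) n (Finset.univ) (by
      rw [Finset.card_univ, Fintype.card_fin]
      exact Nat.lt_two_pow_self)
  have hQ : ∀ i, ∃ Q : Subgroup (Perm (Fin n)), IsW Q (B i) := by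
    intro i
    obtain ⟨a, ha1, ha2, ha3⟩ := h2 i
    exact hW a (B i) ha3
  choose Qs hQs using hQ
  refine ⟨ι, hF, hD, B, Qs, hQs, fun i => ?_, h3, h4, ?_⟩
  · obtain ⟨a, ha1, ha2, ha3⟩ := h2 i
    rw [ha3]
    calc 2 = 2 ^ 1 := by norm_num
      _ ≤ 2 ^ a := Nat.pow_le_pow_right (by norm_num) ha1
  · rw [h5, Finset.card_univ, Fintype.card_fin]

end Cfsg.Agent.Helper8.SD.MODEL
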