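import Mathlib
import Cfsg.Agent.Lib.Helper8.SDDefs
import Cfsg.Agent.Lib.Helper8.SDWex
import Cfsg.Agent.Lib.Helper15.SDModel
/-!
# SD-MODEL (helper15): `exists_model` with the statement of `Lib/Helper8/SDWex.lean`, from
`exists_isW` as stated there.
-/

set_option autoImplicit false

namespace Cfsg.Agent.Helper8.SD.MODEL

open Equiv

/-- the model: blocks of pairwise distinct sizes `2 ^ a ≥ 2` covering all but `n % 2` points,
each with an iterated wreath product -/
theorem exists_model (n : ℕ) :
    ∃ (ι : Type) (_ : Fintype ι) (_ : DecidableEq ι) (B : ι → Finset (Fin n))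
      (Qs : ι → Subgroup (Perm (Fin n))),
      (∀ i, IsW (Qs i) (B i)) ∧ (∀ i, 2 ≤ (B i).card) ∧
      (∀ i j, i ≠ j → Disjoint (B i) (B j)) ∧
      (∀ i j, (B i).card = (B j).card → i = j) ∧ ∑ i, (B i).card = 2 * (n / 2) :=
  exists_model_of n (fun a B h => exists_isW a B h)

end Cfsg.Agent.Helper8.SD.MODEL
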