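import Mathlib

/-!
# Elementary facts on `SL₂(F)` (helper15)

Entrywise computations in `SL₂(F)`:
* `sq_eq_one`: the only involution is `-1` (characteristic `≠ 2`);
* `tr_eq_two_of_pow_char_pow`: `p`-elements have trace `2` (characteristic `p`);
* `eq_one_or_neg_one_of_tr_sq`: an element of trace `±2` and of order prime to the characteristic
  is `±1`;
* `tr_sq_of_commute_unipotent`: an element commuting with a nontrivial element of trace `2` has
  trace `±2`;
* `eq_or_eq_inv_of_commute`: commuting elements with the same trace `t`, `t² ≠ 4`, are equal or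
  inverse to each other.
-/

set_option autoImplicit false

namespace Cfsg.Agent.Helper15.SL2Mat

open Matrix

variable {F : Type*} [Field F]

local notation "SL2" => Matrix.SpecialLinearGroup (Fin 2) F

/-- the trace of an element of `SL₂(F)` -/
def tr (x : SL2) : F := (x : Matrix (Fin 2) (Fin 2) F) 0 0 + (x : Matrix (Fin 2) (Fin 2) F) 1 1

theorem det_eq (x : SL2) : (x : Matrix (Fin 2) (Fin 2) F) 0 0 * (x : Matrix (Fin 2) (Fin 2) F) 1 1 -
    (x : Matrix (Fin 2) (Fin 2) F) 0 1 * (x : Matrix (Fin 2) (Fin 2) F) 1 0 = 1 := by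
  have := x.2
  rwa [Matrix.det_fin_two] at this

theorem tr_eq_trace (x : SL2) : tr x = Matrix.trace (x : Matrix (Fin 2) (Fin 2) F) := by
  rw [Matrix.trace_fin_two]; rfl

theorem tr_conj (a z : SL2) : tr (a * z * a⁻¹) = tr z := by
  rw [tr_eq_trace, tr_eq_trace]
  have h1 : ((a * z * a⁻¹ : SL2) : Matrix (Fin 2) (Fin 2) F) =
      (a : Matrix (Fin 2) (Fin 2) F) * ((z : Matrix (Fin 2) (Fin 2) F) *
        ((a⁻¹ : SL2) : Matrix (Fin 2) (Fin 2) F)) := by
    rw [Matrix.SpecialLinearGroup.coe_mul, Matrix.SpecialLinearGroup.coe_mul, Matrix.mul_assoc]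
  rw [h1, Matrix.trace_mul_comm, Matrix.mul_assoc]
  have h2 : ((a⁻¹ : SL2) : Matrix (Fin 2) (Fin 2) F) * (a : Matrix (Fin 2) (Fin 2) F) = 1 := by
    rw [← Matrix.SpecialLinearGroup.coe_mul, inv_mul_cancel, Matrix.SpecialLinearGroup.coe_one]
  rw [h2, Matrix.mul_one]

/-- extensionality by the four entries -/
theorem ext4 {x y : SL2}
    (h00 : (x : Matrix (Fin 2) (Fin 2) F) 0 0 = (y : Matrix (Fin 2) (Fin 2) F) 0 0)
    (h01 : (x : Matrix (Fin 2) (Fin 2) F) 0 1 = (y : Matrix (Fin 2) (Fin 2) F) 0 1)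
    (h10 : (x : Matrix (Fin 2) (Fin 2) F) 1 0 = (y : Matrix (Fin 2) (Fin 2) F) 1 0)
    (h11 : (x : Matrix (Fin 2) (Fin 2) F) 1 1 = (y : Matrix (Fin 2) (Fin 2) F) 1 1) : x = y := by
  ext i j
  fin_cases i <;> fin_cases j
  · exact h00
  · exact h01
  · exact h10
  · exact h11

theorem mul_entries (x y : SL2) :
    ((x * y : SL2) : Matrix (Fin 2) (Fin 2) F) 0 0 =
      (x : Matrix (Fin 2) (Fin 2) F) 0 0 * (y : Matrix (Fin 2) (Fin 2) F) 0 0 +
      (x : Matrix (Fin 2) (Fin 2) F) 0 1 * (y : Matrix (Fin 2) (Fin 2) F) 1 0 ∧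
    ((x * y : SL2) : Matrix (Fin 2) (Fin 2) F) 0 1 =
      (x : Matrix (Fin 2) (Fin 2) F) 0 0 * (y : Matrix (Fin 2) (Fin 2) F) 0 1 +
      (x : Matrix (Fin 2) (Fin 2) F) 0 1 * (y : Matrix (Fin 2) (Fin 2) F) 1 1 ∧
    ((x * y : SL2) : Matrix (Fin 2) (Fin 2) F) 1 0 =
      (x : Matrix (Fin 2) (Fin 2) F) 1 0 * (y : Matrix (Fin 2) (Fin 2) F) 0 0 +
      (x : Matrix (Fin 2) (Fin 2) F) 1 1 * (y : Matrix (Fin 2) (Fin 2) F) 1 0 ∧
    ((x * y : SL2) : Matrix (Fin 2) (Fin 2) F) 1 1 =
      (x : Matrix (Fin 2) (Fin 2) F) 1 0 * (y : Matrix (Fin 2) (Fin 2) F) 0 1 +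
      (x : Matrix (Fin 2) (Fin 2) F) 1 1 * (y : Matrix (Fin 2) (Fin 2) F) 1 1 := by
  simp [Matrix.SpecialLinearGroup.coe_mul, Matrix.mul_apply, Fin.sum_univ_two]

theorem inv_entries (x : SL2) :
    ((x⁻¹ : SL2) : Matrix (Fin 2) (Fin 2) F) 0 0 = (x : Matrix (Fin 2) (Fin 2) F) 1 1 ∧
    ((x⁻¹ : SL2) : Matrix (Fin 2) (Fin 2) F) 0 1 = -(x : Matrix (Fin 2) (Fin 2) F) 0 1 ∧
    ((x⁻¹ : SL2) : Matrix (Fin 2) (Fin 2) F) 1 0 = -(x : Matrix (Fin 2) (Fin 2) F) 1 0 ∧
    ((x⁻¹ : SL2) : Matrix (Fin 2) (Fin 2) F) 1 1 = (x : Matrix (Fin 2) (Fin 2) F) 0 0 := by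
  rw [Matrix.SpecialLinearGroup.coe_inv, Matrix.adjugate_fin_two]
  simp

/-- the only involution of `SL₂(F)` is `-1` -/
theorem sq_eq_one (h2 : (2 : F) ≠ 0) (x : SL2) (hx : x ^ 2 = 1) : x = 1 ∨ x = -1 := by
  have hd := det_eq x
  have hmul := mul_entries x x
  rw [← pow_two, hx] at hmul
  obtain ⟨e00, e01, e10, e11⟩ := hmul
  simp only [Matrix.SpecialLinearGroup.coe_one, Matrix.one_apply_eq, Matrix.one_apply_ne, ne_eq,
    Fin.isValue, zero_ne_one, one_ne_zero, not_false_eq_true] at e00 e01 e10 e11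
  set a := (x : Matrix (Fin 2) (Fin 2) F) 0 0
  set b := (x : Matrix (Fin 2) (Fin 2) F) 0 1
  set c := (x : Matrix (Fin 2) (Fin 2) F) 1 0
  set d := (x : Matrix (Fin 2) (Fin 2) F) 1 1
  by_cases hs : a + d = 0
  · exfalso
    have hd' : d = -a := by linear_combination hs
    have : (2 : F) = 0 := by
      rw [hd'] at hd
      linear_combination e00 - hd
    exact h2 this
  · have hb : b = 0 := by
      have : b * (a + d) = 0 := by linear_combination -e01
      rcases mul_eq_zero.1 this with h | h
      · exact h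
      · exact absurd h hs
    have hc : c = 0 := by
      have : c * (a + d) = 0 := by linear_combination -e10
      rcases mul_eq_zero.1 this with h | h
      · exact h
      · exact absurd h hs
    have ha : a * a = 1 := by rw [hb] at e00; linear_combination -e00
    have had : a * d = 1 := by rw [hb] at hd; linear_combination hd
    have hda : d = a := by
      have ha0 : a ≠ 0 := by intro h; rw [h] at ha; simp at ha
      apply mul_left_cancel₀ ha0
      rw [had, ha]
    have ha' : (a - 1) * (a + 1) = 0 := by linear_combination ha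
    rcases mul_eq_zero.1 ha' with h | h
    · left
      apply ext4 <;> simp
      · show a = 1; linear_combination h
      · exact hb
      · exact hc
      · show d = 1; rw [hda]; linear_combination h
    · right
      apply ext4 <;> simp
      · show a = -1; linear_combination h
      · exact hb
      · exact hc
      · show d = -1; rw [hda]; linear_combination h

/-- Cayley–Hamilton in `SL₂` -/
theorem cayley (x : SL2) : (x : Matrix (Fin 2) (Fin 2) F) * (x : Matrix (Fin 2) (Fin 2) F) =
    tr x • (x : Matrix (Fin 2) (Fin 2) F) - 1 := by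
  have hd := det_eq x
  unfold tr
  ext i j
  fin_cases i <;> fin_cases j <;>
    simp [Matrix.mul_apply, Fin.sum_univ_two] <;>
    first | linear_combination hd | linear_combination -hd | ring

theorem unip_pow (N : Matrix (Fin 2) (Fin 2) F) (hN : N * N = 0) (m : ℕ) :
    (1 + N) ^ m = 1 + (m : F) • N := by
  induction m with
  | zero => simp
  | succ m ih =>
    rw [pow_succ, ih, Matrix.mul_add, Matrix.mul_one, Matrix.add_mul, Matrix.one_mul,
      Matrix.smul_mul, hN, smul_zero, add_zero, Nat.cast_succ, add_smul, one_smul]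
    abel

theorem eq_one_of_tr_eq_two (x : SL2) (ht : tr x = 2) {k : ℕ} (hk : (k : F) ≠ 0)
    (hx : x ^ k = 1) : x = 1 := by
  set N : Matrix (Fin 2) (Fin 2) F := (x : Matrix (Fin 2) (Fin 2) F) - 1 with hNdef
  have hN : N * N = 0 := by
    have h1 : N * N = (x : Matrix (Fin 2) (Fin 2) F) * (x : Matrix (Fin 2) (Fin 2) F) -
        (2 : F) • (x : Matrix (Fin 2) (Fin 2) F) + 1 := by
      rw [hNdef]
      simp only [Matrix.sub_mul, Matrix.mul_sub, Matrix.mul_one, Matrix.one_mul, two_smul]
      abel
    rw [h1, cayley, ht]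
    abel
  have hx1 : (x : Matrix (Fin 2) (Fin 2) F) = 1 + N := by rw [hNdef]; abel
  have h1 : (x : Matrix (Fin 2) (Fin 2) F) ^ k = 1 := by
    rw [← Matrix.SpecialLinearGroup.coe_pow, hx, Matrix.SpecialLinearGroup.coe_one]
  rw [hx1, unip_pow N hN] at h1
  have h2 : (k : F) • N = 0 := by
    have := congrArg (fun M => M - 1) h1
    simpa using this
  have h3 : N = 0 := by
    rcases smul_eq_zero.mp h2 with h | h
    · exact absurd h hk
    · exact h
  apply Subtype.ext
  rw [hx1, h3, add_zero, Matrix.SpecialLinearGroup.coe_one]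

/-- an element of trace `±2` whose order is prime to the characteristic is `±1` -/
theorem eq_one_or_neg_one_of_tr_sq (h2 : (2 : F) ≠ 0) (x : SL2) (ht : tr x ^ 2 = 4) {k : ℕ}
    (hk : (k : F) ≠ 0) (hx : x ^ k = 1) : x = 1 ∨ x = -1 := by
  have h1 : (tr x - 2) * (tr x + 2) = 0 := by linear_combination ht
  rcases mul_eq_zero.mp h1 with h | h
  · left
    exact eq_one_of_tr_eq_two x (by linear_combination h) hk hx
  · right
    have h3 : tr (-x) = 2 := by
      unfold tr at h ⊢
      rw [Matrix.SpecialLinearGroup.coe_neg]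
      simp only [Matrix.neg_apply]
      linear_combination -h
    have h4 : (-x) ^ (2 * k) = 1 := by
      apply Subtype.ext
      rw [Matrix.SpecialLinearGroup.coe_pow, Matrix.SpecialLinearGroup.coe_neg,
        Even.neg_pow (even_two_mul k), pow_mul', ← Matrix.SpecialLinearGroup.coe_pow, hx]
      simp
    have h5 : ((2 * k : ℕ) : F) ≠ 0 := by
      rw [Nat.cast_mul]
      exact mul_ne_zero (by exact_mod_cast h2) hk
    have h6 := eq_one_of_tr_eq_two (-x) h3 h5 h4
    have : x = -(-x) := by rw [neg_neg]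
    rw [this, h6]

/-- `p`-elements of `SL₂(F)` have trace `2` -/
theorem tr_eq_two_of_pow_char_pow {p : ℕ} [Fact p.Prime] [CharP F p] (a : SL2) (k : ℕ)
    (ha : a ^ (p ^ k) = 1) : tr a = 2 := by
  set N : Matrix (Fin 2) (Fin 2) F := (a : Matrix (Fin 2) (Fin 2) F) - 1 with hNdef
  have h1 : (a : Matrix (Fin 2) (Fin 2) F) ^ (p ^ k) = 1 := by
    rw [← Matrix.SpecialLinearGroup.coe_pow, ha, Matrix.SpecialLinearGroup.coe_one]
  have h2 : N ^ (p ^ k) = 0 := by
    rw [hNdef, sub_pow_char_pow_of_commute p k (Commute.one_right _), h1, one_pow, sub_self]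
  have h3 : N.det = 0 := by
    have := congrArg Matrix.det h2
    rw [Matrix.det_pow, Matrix.det_zero] at this
    exact pow_eq_zero_iff (pow_ne_zero k (Fact.out : p.Prime).ne_zero) |>.mp this
  have hd := det_eq a
  rw [Matrix.det_fin_two, hNdef] at h3
  simp only [Matrix.sub_apply, Matrix.one_apply_eq, Matrix.one_apply_ne, ne_eq, Fin.isValue,
    zero_ne_one, one_ne_zero, not_false_eq_true, sub_zero] at h3
  unfold tr
  linear_combination hd - h3

/-- an element commuting with a nontrivial element of trace `2` has trace `±2` -/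
theorem tr_sq_of_commute_unipotent (h20 : (2 : F) ≠ 0) (a x : SL2) (hta : tr a = 2) (ha1 : a ≠ 1)
    (hc : a * x = x * a) : tr x ^ 2 = 4 := by
  have hda := det_eq a
  have hdx := det_eq x
  obtain ⟨l00, l01, l10, l11⟩ := mul_entries a x
  obtain ⟨r00, r01, r10, r11⟩ := mul_entries x a
  rw [hc] at l00 l01 l10 l11
  rw [r00] at l00
  rw [r01] at l01
  rw [r10] at l10
  unfold tr at hta ⊢
  set a0 := (a : Matrix (Fin 2) (Fin 2) F) 0 0
  set a1 := (a : Matrix (Fin 2) (Fin 2) F) 0 1
  set a2 := (a : Matrix (Fin 2) (Fin 2) F) 1 0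
  set a3 := (a : Matrix (Fin 2) (Fin 2) F) 1 1
  set e := (x : Matrix (Fin 2) (Fin 2) F) 0 0
  set f := (x : Matrix (Fin 2) (Fin 2) F) 0 1
  set g := (x : Matrix (Fin 2) (Fin 2) F) 1 0
  set h := (x : Matrix (Fin 2) (Fin 2) F) 1 1
  -- discriminant of `a` vanishes
  have hdisc : (a0 - a3) ^ 2 + 4 * a1 * a2 = 0 := by
    have : a0 + a3 = 2 := hta
    linear_combination (a0 + a3 + 2) * this - 4 * hda
  have key : (e - h) ^ 2 + 4 * f * g = 0 := by
    by_cases h1 : a1 = 0
    · by_cases h2 : a2 = 0
      · exfalso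
        apply ha1
        have hδ : a0 - a3 = 0 := by
          have : (a0 - a3) ^ 2 = 0 := by rw [h1] at hdisc; linear_combination hdisc
          exact pow_eq_zero_iff (two_ne_zero) |>.mp this
        apply ext4 <;> simp
        · show a0 = 1
          have : 2 * a0 = 2 := by linear_combination hta + hδ
          exact mul_left_cancel₀ h20 (by rw [this, mul_one])
        · exact h1
        · exact h2
        · show a3 = 1
          have : 2 * a3 = 2 := by linear_combination hta - hδ
          exact mul_left_cancel₀ h20 (by rw [this, mul_one])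
      · have : a2 ^ 2 * ((e - h) ^ 2 + 4 * f * g) = 0 := by
          linear_combination g ^ 2 * hdisc - (g * (a0 - a3) + a2 * (e - h)) * l10 +
            4 * a2 * g * l00
        rcases mul_eq_zero.mp this with h3 | h3
        · exact absurd (pow_eq_zero_iff two_ne_zero |>.mp h3) h2
        · exact h3
    · have : a1 ^ 2 * ((e - h) ^ 2 + 4 * f * g) = 0 := by
        linear_combination f ^ 2 * hdisc + (f * (a0 - a3) + a1 * (e - h)) * l01 -
          4 * a1 * f * l00
      rcases mul_eq_zero.mp this with h3 | h3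
      · exact absurd (pow_eq_zero_iff two_ne_zero |>.mp h3) h1
      · exact h3
  linear_combination key + 4 * hdx

/-- commuting elements of `SL₂(F)` with the same trace `t`, `t² ≠ 4`, are equal or mutually
inverse -/
theorem eq_or_eq_inv_of_commute (h20 : (2 : F) ≠ 0) (z z' : SL2) (hc : z * z' = z' * z)
    (ht : tr z' = tr z) (hD : tr z ^ 2 ≠ 4) : z' = z ∨ z' = z⁻¹ := by
  have hdz := det_eq z
  have hdz' := det_eq z'
  obtain ⟨l00, l01, l10, l11⟩ := mul_entries z z'
  obtain ⟨r00, r01, r10, r11⟩ := mul_entries z' z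
  obtain ⟨i00, i01, i10, i11⟩ := inv_entries z
  rw [hc] at l00 l01 l10 l11
  rw [r00] at l00
  rw [r01] at l01
  rw [r10] at l10
  unfold tr at ht hD
  set a := (z : Matrix (Fin 2) (Fin 2) F) 0 0
  set b := (z : Matrix (Fin 2) (Fin 2) F) 0 1
  set c := (z : Matrix (Fin 2) (Fin 2) F) 1 0
  set d := (z : Matrix (Fin 2) (Fin 2) F) 1 1
  set e := (z' : Matrix (Fin 2) (Fin 2) F) 0 0
  set f := (z' : Matrix (Fin 2) (Fin 2) F) 0 1
  set g := (z' : Matrix (Fin 2) (Fin 2) F) 1 0
  set h := (z' : Matrix (Fin 2) (Fin 2) F) 1 1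
  have C00 : b * g - f * c = 0 := by
    first | linear_combination l00 | linear_combination -l00
  have C01 : f * (a - d) - b * (e - h) = 0 := by
    first | linear_combination l01 | linear_combination -l01
  have C10 : c * (e - h) - g * (a - d) = 0 := by
    first | linear_combination l10 | linear_combination -l10
  set D : F := (a - d) ^ 2 + 4 * b * c with hDdef
  set B : F := (a - d) * (e - h) + 2 * b * g + 2 * c * f with hBdef
  have hD0 : D ≠ 0 := by
    intro h0
    apply hD
    rw [hDdef] at h0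
    linear_combination h0 + 4 * hdz
  have hD' : (e - h) ^ 2 + 4 * f * g = D := by
    rw [hDdef]
    linear_combination (e + h + a + d) * ht - 4 * hdz' + 4 * hdz
  have hε : D * (e - h) = B * (a - d) := by
    rw [hDdef, hBdef]; linear_combination 2 * b * C10 - 2 * c * C01
  have hf : D * f = B * b := by
    rw [hDdef, hBdef]; linear_combination (a - d) * C01 - 2 * b * C00
  have hg : D * g = B * c := by
    rw [hDdef, hBdef]; linear_combination -(a - d) * C10 + 2 * c * C00
  have hB2 : (B - D) * (B + D) = 0 := by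
    have h1 : D * (B ^ 2 - D ^ 2) = 0 := by
      have : D ^ 2 * ((e - h) ^ 2 + 4 * f * g) = B ^ 2 * D := by
        have : B ^ 2 * D = B ^ 2 * ((a - d) ^ 2 + 4 * b * c) := by rw [hDdef]
        rw [this]
        linear_combination (D * (e - h) + B * (a - d)) * hε + 4 * D * g * hf + 4 * B * b * hg
      rw [hD'] at this
      linear_combination -this
    rcases mul_eq_zero.mp h1 with h2 | h2
    · exact absurd h2 hD0
    · linear_combination h2
  rcases mul_eq_zero.mp hB2 with h1 | h1
  · left
    have hBD : B = D := by linear_combination h1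
    rw [hBD] at hε hf hg
    have e1 : e - h = a - d := mul_left_cancel₀ hD0 hε
    have e2 : f = b := mul_left_cancel₀ hD0 hf
    have e3 : g = c := mul_left_cancel₀ hD0 hg
    apply ext4
    · show e = a
      apply mul_left_cancel₀ h20
      linear_combination e1 + ht
    · exact e2
    · exact e3
    · show h = d
      apply mul_left_cancel₀ h20
      linear_combination ht - e1
  · right
    have hBD : B = -D := by linear_combination h1
    rw [hBD] at hε hf hg
    have e1 : e - h = -(a - d) := by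
      apply mul_left_cancel₀ hD0
      linear_combination hε
    have e2 : f = -b := by
      apply mul_left_cancel₀ hD0
      linear_combination hf
    have e3 : g = -c := by
      apply mul_left_cancel₀ hD0
      linear_combination hg
    apply ext4
    · rw [i00]
      show e = d
      apply mul_left_cancel₀ h20
      linear_combination e1 + ht
    · rw [i01]; exact e2
    · rw [i10]; exact e3
    · rw [i11]
      show h = a
      apply mul_left_cancel₀ h20
      linear_combination ht - e1

end Cfsg.Agent.Helper15.SL2Mat
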