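import Mathlib
import Cfsg.Agent.Lib.Helper15.SL2Mat
import Cfsg.Agent.Lib.Helper15.ConjAut
import Cfsg.Agent.Lib.Helper15.CoprimeGen
import Cfsg.Agent.Lib.Helper15.UIAut3

/-!
# A `p`-element of `SL₂(F)` normalizing a `p'`-subgroup (helper15)
-/

set_option autoImplicit false

namespace Cfsg.Agent.Helper15.SL2P

open Matrix Cfsg.Agent.Helper15.SL2Mat Cfsg.Agent.Helper15.ConjAut

variable {F : Type*} [Field F] [Fintype F] {p : ℕ} [Fact p.Prime] [CharP F p]

local notation "SL2" => Matrix.SpecialLinearGroup (Fin 2) F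

omit [Fintype F] in
theorem two_ne_zero_of_char (hp : p ≠ 2) : (2 : F) ≠ 0 := by
  intro h
  have h1 : ((2 : ℕ) : F) = 0 := by exact_mod_cast h
  rw [CharP.cast_eq_zero_iff F p 2] at h1
  exact hp ((Nat.prime_dvd_prime_iff_eq (Fact.out : p.Prime) Nat.prime_two).mp h1)

omit [Fintype F] in
theorem natCast_ne_zero_of_coprime {k : ℕ} (hk : k.Coprime p) : ((k : ℕ) : F) ≠ 0 := by
  intro h
  rw [CharP.cast_eq_zero_iff F p k] at h
  have h2 : p ∣ Nat.gcd k p := Nat.dvd_gcd h dvd_rfl
  rw [hk] at h2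
  exact (Fact.out : p.Prime).one_lt.ne' (Nat.dvd_one.mp h2)

omit [Fintype F] [Fact p.Prime] in
/-- an element of trace `2` has `p`-th power `1` -/
theorem pow_char_eq_one (a : SL2) (hta : tr a = 2) : a ^ p = 1 := by
  set N : Matrix (Fin 2) (Fin 2) F := (a : Matrix (Fin 2) (Fin 2) F) - 1 with hNdef
  have hN : N * N = 0 := by
    have h1 : N * N = (a : Matrix (Fin 2) (Fin 2) F) * (a : Matrix (Fin 2) (Fin 2) F) -
        (2 : F) • (a : Matrix (Fin 2) (Fin 2) F) + 1 := by
      rw [hNdef]
      simp only [Matrix.sub_mul, Matrix.mul_sub, Matrix.mul_one, Matrix.one_mul, two_smul]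
      abel
    rw [h1, cayley, hta]
    abel
  have hx1 : (a : Matrix (Fin 2) (Fin 2) F) = 1 + N := by rw [hNdef]; abel
  apply Subtype.ext
  rw [Matrix.SpecialLinearGroup.coe_pow, hx1, unip_pow N hN, CharP.cast_eq_zero F p, zero_smul,
    add_zero, Matrix.SpecialLinearGroup.coe_one]

omit [Fintype F] in
theorem tr_a (a : SL2) (ha : IsPGroup p ↥(Subgroup.zpowers a)) : tr a = 2 := by
  obtain ⟨k, hk⟩ := ha ⟨a, Subgroup.mem_zpowers a⟩
  have : a ^ (p ^ k) = 1 := by
    have := congrArg Subtype.val hk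
    simpa using this
  exact tr_eq_two_of_pow_char_pow a k this

omit [Fintype F] in
/-- the centralizer of `a` in `R` lies in `{±1}` -/
theorem eq_one_or_neg_one_of_commute (hp : p ≠ 2) (a : SL2)
    (ha : IsPGroup p ↥(Subgroup.zpowers a)) (R : Subgroup SL2)
    (hR : (Nat.card R).Coprime p) (ha1 : a ≠ 1) {x : SL2} (hx : x ∈ R)
    (hc : a * x = x * a) : x = 1 ∨ x = -1 := by
  have h20 := two_ne_zero_of_char (F := F) hp
  have h1 := tr_sq_of_commute_unipotent h20 a x (tr_a a ha) ha1 hc
  have h2 : x ^ Nat.card R = 1 := by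
    have h3 : (⟨x, hx⟩ : R) ^ Nat.card R = 1 := pow_card_eq_one'
    have h4 := congrArg Subtype.val h3
    rw [Subgroup.coe_pow, Subgroup.coe_one] at h4
    exact h4
  exact eq_one_or_neg_one_of_tr_sq h20 x h1 (natCast_ne_zero_of_coprime hR) h2

/-- no element of odd prime order of `R` commutes with `a` -/
theorem not_commute_of_orderOf (hp : p ≠ 2) (a : SL2)
    (ha : IsPGroup p ↥(Subgroup.zpowers a)) (R : Subgroup SL2)
    (hR : (Nat.card R).Coprime p) (ha1 : a ≠ 1) {z : SL2} (hz : z ∈ R) {r : ℕ} (hr : r.Prime)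
    (hr2 : r ≠ 2) (hzo : orderOf z = r) : a * z ≠ z * a := by
  intro hc
  have h1 : z ^ 2 = 1 := by
    rcases eq_one_or_neg_one_of_commute hp a ha R hR ha1 hz hc with h | h
    · rw [h, one_pow]
    · rw [h]; simp
  have h2 : r ∣ 2 := by rw [← hzo]; exact orderOf_dvd_of_pow_eq_one h1
  exact hr2 ((Nat.prime_dvd_prime_iff_eq hr Nat.prime_two).mp h2)

/-- `R` is a `2`-group -/
theorem isPGroup_two (hp : p ≠ 2) (a : SL2)
    (ha : IsPGroup p ↥(Subgroup.zpowers a)) (R : Subgroup SL2)
    (hR : (Nat.card R).Coprime p) (ha1 : a ≠ 1) (haR : a ∈ Subgroup.normalizer (R : Set SL2)) :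
    IsPGroup 2 R := by
  have h20 := two_ne_zero_of_char (F := F) hp
  have hpp : p.Prime := Fact.out
  have hap : a ^ p = 1 := pow_char_eq_one a (tr_a a ha)
  have key : ∀ r : ℕ, r.Prime → r ∣ Nat.card R → r = 2 := by
    intro r hr hrd
    by_contra hr2
    have : Fact r.Prime := ⟨hr⟩
    have hrp : r ≠ p := by
      intro h
      rw [h] at hrd
      have h2 : p ∣ Nat.gcd (Nat.card R) p := Nat.dvd_gcd hrd dvd_rfl
      rw [hR] at h2
      exact hpp.one_lt.ne' (Nat.dvd_one.mp h2)
    obtain ⟨P, hPR, hPr, hPcard, hPn⟩ :=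
      Cfsg.Agent.Helper15.exists_invariant_sylow_of_coprime (p := p) r
        (U := Subgroup.zpowers a) (R := R) ha hR (by
          rw [Subgroup.zpowers_le]; exact haR)
    have hfac : 1 ≤ (Nat.card R).factorization r :=
      (hr.dvd_iff_one_le_factorization Nat.card_pos.ne').mp hrd
    have hPnt : Nontrivial P := by
      rw [← Finite.one_lt_card_iff_nontrivial, hPcard]
      exact Nat.one_lt_pow (by omega) hr.one_lt
    have hZnt : Nontrivial (Subgroup.center P) := hPr.center_nontrivial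
    have hZcard : r ∣ Nat.card (Subgroup.center P) := by
      obtain ⟨m, hm⟩ := IsPGroup.iff_card.mp (hPr.to_subgroup (Subgroup.center P))
      rw [hm]
      have : 1 < Nat.card (Subgroup.center P) := Finite.one_lt_card_iff_nontrivial.mpr hZnt
      rw [hm] at this
      have hm0 : m ≠ 0 := by
        intro h0; rw [h0, pow_zero] at this; omega
      exact dvd_pow_self r hm0
    obtain ⟨z0, hz0⟩ := exists_prime_orderOf_dvd_card' r hZcard
    -- `z` in `SL₂`
    set z : SL2 := ((z0 : P) : SL2) with hzdef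
    have hzo : orderOf z = r := by
      rw [hzdef, Subgroup.orderOf_coe, Subgroup.orderOf_coe]; exact hz0
    have hzP : z ∈ P := (z0 : P).2
    have hzR : z ∈ R := hPR hzP
    have haP : a ∈ Subgroup.normalizer (P : Set SL2) := hPn (Subgroup.mem_zpowers a)
    have hz'P : a * z * a⁻¹ ∈ P := (Subgroup.mem_normalizer_iff.mp haP z).mp hzP
    have hcomm : z * (a * z * a⁻¹) = (a * z * a⁻¹) * z := by
      have h1 := (Subgroup.mem_center_iff.mp z0.2) ⟨a * z * a⁻¹, hz'P⟩
      have h2 := congrArg Subtype.val h1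
      simpa [hzdef] using h2.symm
    have htr : tr z ^ 2 ≠ 4 := by
      intro h4
      have hzr : z ^ r = 1 := by rw [← hzo]; exact pow_orderOf_eq_one z
      have hrF : ((r : ℕ) : F) ≠ 0 := by
        intro h
        rw [CharP.cast_eq_zero_iff F p r] at h
        exact hrp ((Nat.prime_dvd_prime_iff_eq hpp hr).mp h).symm
      have h1 : z ^ 2 = 1 := by
        rcases eq_one_or_neg_one_of_tr_sq h20 z h4 hrF hzr with h | h
        · rw [h, one_pow]
        · rw [h]; simp
      have h2 : r ∣ 2 := by rw [← hzo]; exact orderOf_dvd_of_pow_eq_one h1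
      exact hr2 ((Nat.prime_dvd_prime_iff_eq hr Nat.prime_two).mp h2)
    rcases eq_or_eq_inv_of_commute h20 z (a * z * a⁻¹) hcomm (tr_conj a z) htr with h | h
    · apply not_commute_of_orderOf hp a ha R hR ha1 hzR hr hr2 hzo
      calc a * z = a * z * a⁻¹ * a := by group
        _ = z * a := by rw [h]
    · -- `a ^ 2` commutes with `z`, hence so does `a`
      have h2 : a ^ 2 * z * (a ^ 2)⁻¹ = z := by
        calc a ^ 2 * z * (a ^ 2)⁻¹ = a * (a * z * a⁻¹) * a⁻¹ := by rw [pow_two]; group
          _ = a * z⁻¹ * a⁻¹ := by rw [h]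
          _ = (a * z * a⁻¹)⁻¹ := by group
          _ = z := by rw [h, inv_inv]
      have h3 : Commute (a ^ 2) z := by
        show a ^ 2 * z = z * a ^ 2
        calc a ^ 2 * z = a ^ 2 * z * (a ^ 2)⁻¹ * a ^ 2 := by group
          _ = z * a ^ 2 := by rw [h2]
      obtain ⟨m, hm⟩ := hpp.eq_two_or_odd'.resolve_left hp
      have h4 : (a ^ 2) ^ (m + 1) = a := by
        rw [← pow_mul, show 2 * (m + 1) = p + 1 by omega, pow_succ, hap, one_mul]
      apply not_commute_of_orderOf hp a ha R hR ha1 hzR hr hr2 hzo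
      have := h3.pow_left (m + 1)
      rw [h4] at this
      exact this.eq
  have hcard := Nat.eq_prime_pow_of_unique_prime_dvd (n := Nat.card R) (p := 2)
    Nat.card_pos.ne' (fun {d} hd hdd => key d hd hdd)
  exact IsPGroup.of_card hcard

omit [Fintype F] [Fact p.Prime] [CharP F p] in
theorem uniqueOrderP (R : Subgroup SL2) (hpF : (2 : F) ≠ 0) : Cfsg.Agent.Helper16.UniqueOrderP 2 R := by
  have key : ∀ x : R, orderOf x = 2 → (x : SL2) = -1 := by
    intro x hx
    have h1 : (x : SL2) ^ 2 = 1 := by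
      have := pow_orderOf_eq_one x
      rw [hx] at this
      have := congrArg Subtype.val this
      simpa using this
    rcases sq_eq_one hpF (x : SL2) h1 with h | h
    · exfalso
      have : x = 1 := Subtype.ext h
      rw [this, orderOf_one] at hx
      omega
    · exact h
  intro x y hx hy
  have : y = x := Subtype.ext (by rw [key x hx, key y hy])
  rw [this]
  exact Subgroup.mem_zpowers x

end Cfsg.Agent.Helper15.SL2P
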