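import Mathlib

/-!
# S3341 piece GRPE (helper15): `|N_G(P) : P| ∈ {2, 4}` gives `N_G(P) = C_G(P) ⟨g⟩`
-/

set_option autoImplicit false
set_option linter.unusedSectionVars false
set_option linter.unusedVariables false

namespace Cfsg.Agent.Helper16.SSC

open Cfsg

universe u

namespace GRPE

variable {G : Type u} [Group G] (P : Subgroup G)

theorem relIndex_pos' [Finite G] (H K : Subgroup G) : 0 < H.relIndex K :=
  Nat.pos_of_ne_zero (Subgroup.index_ne_zero_of_finite (H := H.subgroupOf K))

/-- `C_G(P) = P` -/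
theorem centralizer_eq' [Finite G]
    (hcomm : ∀ x y : P, x * y = y * x)
    (hcard : Nat.card P = 9)
    (hcent : ∀ s ∈ P, s ≠ 1 → Subgroup.centralizer ({s} : Set G) = P) :
    Subgroup.centralizer (P : Set G) = P := by
  have hnt : ∃ s ∈ P, s ≠ 1 := by
    by_contra hne
    push Not at hne
    have hbot : P = ⊥ := (Subgroup.eq_bot_iff_forall P).mpr hne
    rw [hbot, Subgroup.card_bot] at hcard
    omega
  obtain ⟨s, hs, hs1⟩ := hnt
  apply le_antisymm
  · intro g hg
    rw [← hcent s hs hs1, Subgroup.mem_centralizer_iff]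
    intro x hx
    rw [Set.mem_singleton_iff] at hx
    subst hx
    exact (Subgroup.mem_centralizer_iff.mp hg) x hs
  · intro g hg
    rw [Subgroup.mem_centralizer_iff]
    intro x hx
    have := hcomm ⟨x, hx⟩ ⟨g, hg⟩
    exact congrArg Subtype.val this

/-- an element of the normalizer outside `P` whose square is in `P` inverts `P` -/
theorem inverts
    (hcomm : ∀ x y : P, x * y = y * x)
    (hcent : ∀ s ∈ P, s ≠ 1 → Subgroup.centralizer ({s} : Set G) = P)
    {g : G} (hgN : g ∈ Subgroup.normalizer (P : Set G)) (hgP : g ∉ P) (hg2 : g * g ∈ P)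
    {a : G} (ha : a ∈ P) : g * a * g⁻¹ = a⁻¹ := by
  have hb : g * a * g⁻¹ ∈ P := (Subgroup.mem_normalizer_iff.mp hgN a).mp ha
  -- `c = a * (g a g⁻¹)` is centralized by `g`
  set b := g * a * g⁻¹ with hbdef
  have hgb : g * b * g⁻¹ = a := by
    -- `g b g⁻¹ = (g g) a (g g)⁻¹ = a`
    have h1 : g * b * g⁻¹ = (g * g) * a * (g * g)⁻¹ := by rw [hbdef]; group
    rw [h1]
    have := hcomm ⟨g * g, hg2⟩ ⟨a, ha⟩
    have h2 : (g * g) * a = a * (g * g) := congrArg Subtype.val this
    rw [h2]; group
  have hab : a * b = b * a := congrArg Subtype.val (hcomm ⟨a, ha⟩ ⟨b, hb⟩)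
  have hc : a * b ∈ P := P.mul_mem ha hb
  by_contra hne
  have hc1 : a * b ≠ 1 := by
    intro h
    apply hne
    exact (eq_inv_of_mul_eq_one_right h)
  have hgc : g ∈ Subgroup.centralizer ({a * b} : Set G) := by
    rw [Subgroup.mem_centralizer_iff]
    intro x hx
    rw [Set.mem_singleton_iff] at hx
    subst hx
    -- `g (a b) g⁻¹ = b a = a b`
    have h3 : g * (a * b) * g⁻¹ = a * b := by
      calc g * (a * b) * g⁻¹ = (g * a * g⁻¹) * (g * b * g⁻¹) := by group
        _ = b * a := by rw [hgb]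
        _ = a * b := hab.symm
    calc a * b * g = (g * (a * b) * g⁻¹) * g := by rw [h3]
      _ = g * (a * b) := by group
  rw [hcent (a * b) hc hc1] at hgc
  exact hgP hgc

/-- if every element of the normalizer squares into `P`, then `P` has index two in it -/
theorem index_two_of_sq [Finite G]
    (hcomm : ∀ x y : P, x * y = y * x)
    (hcard : Nat.card P = 9)
    (hcent : ∀ s ∈ P, s ≠ 1 → Subgroup.centralizer ({s} : Set G) = P)
    (hsq : ∀ g ∈ Subgroup.normalizer (P : Set G), g * g ∈ P)
    (hne : P.relIndex (Subgroup.normalizer (P : Set G)) ≠ 1) :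
    P.relIndex (Subgroup.normalizer (P : Set G)) = 2 := by
  have hPN : P ≤ Subgroup.normalizer (P : Set G) := Subgroup.le_normalizer
  -- an element outside `P`
  have hex : ∃ g ∈ Subgroup.normalizer (P : Set G), g ∉ P := by
    by_contra h
    push Not at h
    exact hne (Subgroup.relIndex_eq_one.mpr h)
  obtain ⟨g, hgN, hgP⟩ := hex
  have hnt : ∃ s ∈ P, s ≠ 1 := by
    by_contra hne'
    push Not at hne'
    have hbot : P = ⊥ := (Subgroup.eq_bot_iff_forall P).mpr hne'
    rw [hbot, Subgroup.card_bot] at hcard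
    omega
  obtain ⟨s, hs, hs1⟩ := hnt
  have hmul : ∀ h ∈ Subgroup.normalizer (P : Set G), h ∉ P → h * g ∈ P := by
    intro h hhN hhP
    have hgs : ∀ a ∈ P, g * a * g⁻¹ = a⁻¹ := fun a ha =>
      inverts P hcomm hcent hgN hgP (hsq g hgN) ha
    have hhs : ∀ a ∈ P, h * a * h⁻¹ = a⁻¹ := fun a ha =>
      inverts P hcomm hcent hhN hhP (hsq h hhN) ha
    rw [← hcent s hs hs1, Subgroup.mem_centralizer_iff]
    intro x hx
    rw [Set.mem_singleton_iff] at hx
    subst hx
    have h1 : (h * g) * x * (h * g)⁻¹ = x := by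
      calc (h * g) * x * (h * g)⁻¹ = h * (g * x * g⁻¹) * h⁻¹ := by group
        _ = h * x⁻¹ * h⁻¹ := by rw [hgs x hs]
        _ = (x⁻¹)⁻¹ := hhs x⁻¹ (P.inv_mem hs)
        _ = x := inv_inv x
    calc x * (h * g) = ((h * g) * x * (h * g)⁻¹) * (h * g) := by rw [h1]
      _ = (h * g) * x := by group
  change (P.subgroupOf (Subgroup.normalizer (P : Set G))).index = 2
  rw [Subgroup.index_eq_two_iff]
  refine ⟨⟨g, hgN⟩, ?_⟩
  intro b
  by_cases hb : (b : G) ∈ P
  · refine Or.inr ⟨?_, ?_⟩
    · rw [Subgroup.mem_subgroupOf]; exact hb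
    · rw [Subgroup.mem_subgroupOf]
      intro hbg
      apply hgP
      have : g = (b : G)⁻¹ * ((b : G) * g) := by group
      rw [this]
      exact P.mul_mem (P.inv_mem hb) hbg
  · refine Or.inl ⟨?_, ?_⟩
    · rw [Subgroup.mem_subgroupOf]; exact hmul b b.2 hb
    · rw [Subgroup.mem_subgroupOf]; exact hb

/-- `P ⊔ ⟨g⟩ = N` as soon as the index of `P` in `P ⊔ ⟨g⟩` is the full index -/
theorem sup_eq_of_relIndex [Finite G] {g : G} (hgN : g ∈ Subgroup.normalizer (P : Set G))
    (h : P.relIndex (P ⊔ Subgroup.zpowers g) = P.relIndex (Subgroup.normalizer (P : Set G))) :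
    P ⊔ Subgroup.zpowers g = Subgroup.normalizer (P : Set G) := by
  have hle : P ⊔ Subgroup.zpowers g ≤ Subgroup.normalizer (P : Set G) :=
    sup_le Subgroup.le_normalizer ((Subgroup.zpowers_le).mpr hgN)
  have hmul := Subgroup.relIndex_mul_relIndex P (P ⊔ Subgroup.zpowers g)
    (Subgroup.normalizer (P : Set G)) le_sup_left hle
  rw [h] at hmul
  have hpos : 0 < P.relIndex (Subgroup.normalizer (P : Set G)) :=
    relIndex_pos' _ _
  have h1 : (P ⊔ Subgroup.zpowers g).relIndex (Subgroup.normalizer (P : Set G)) = 1 := by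
    have := Nat.eq_of_mul_eq_mul_left hpos (hmul.trans (mul_one _).symm)
    exact this
  exact le_antisymm hle (Subgroup.relIndex_eq_one.mp h1)

end GRPE

section Grp

variable {G : Type u} [Group G] [Finite G] (P : Sylow 3 G)

/-- PIECE GRPE -/
theorem exists_gen
    (hcomm : ∀ x y : (P : Subgroup G), x * y = y * x)
    (hcard : Nat.card (P : Subgroup G) = 9)
    (hcent : ∀ s ∈ (P : Subgroup G), s ≠ 1 →
      Subgroup.centralizer ({s} : Set G) = (P : Subgroup G))
    (he : (P : Subgroup G).relIndex (Subgroup.normalizer ((P : Subgroup G) : Set G)) = 2 ∨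
      (P : Subgroup G).relIndex (Subgroup.normalizer ((P : Subgroup G) : Set G)) = 4) :
    ∃ g : G, g ∈ Subgroup.normalizer ((P : Subgroup G) : Set G) ∧
      Subgroup.centralizer ((P : Subgroup G) : Set G) ⊔ Subgroup.zpowers g =
        Subgroup.normalizer ((P : Subgroup G) : Set G) := by
  rw [GRPE.centralizer_eq' (P : Subgroup G) hcomm hcard hcent]
  have hne1 : (P : Subgroup G).relIndex (Subgroup.normalizer ((P : Subgroup G) : Set G)) ≠ 1 := by
    rcases he with h | h <;> rw [h] <;> norm_num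
  -- choose `g` outside `P`, with square outside `P` when the index is four
  have hex : ∃ g ∈ Subgroup.normalizer ((P : Subgroup G) : Set G), g ∉ (P : Subgroup G) ∧
      ((P : Subgroup G).relIndex (Subgroup.normalizer ((P : Subgroup G) : Set G)) = 4 →
        g * g ∉ (P : Subgroup G)) := by
    rcases he with h | h
    · have hex : ∃ g ∈ Subgroup.normalizer ((P : Subgroup G) : Set G), g ∉ (P : Subgroup G) := by
        by_contra h'
        push Not at h'
        exact hne1 (Subgroup.relIndex_eq_one.mpr h')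
      obtain ⟨g, hgN, hgP⟩ := hex
      exact ⟨g, hgN, hgP, fun h4 => by rw [h] at h4; omega⟩
    · by_contra hno
      push Not at hno
      have hsq : ∀ g ∈ Subgroup.normalizer ((P : Subgroup G) : Set G), g * g ∈ (P : Subgroup G) := by
        intro g hgN
        by_cases hgP : g ∈ (P : Subgroup G)
        · exact (P : Subgroup G).mul_mem hgP hgP
        · exact (hno g hgN hgP).2
      have := GRPE.index_two_of_sq (P : Subgroup G) hcomm hcard hcent hsq hne1
      omega
  obtain ⟨g, hgN, hgP, hg4⟩ := hex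
  refine ⟨g, hgN, GRPE.sup_eq_of_relIndex (P : Subgroup G) hgN ?_⟩
  -- the index of `P` in `K = P ⊔ ⟨g⟩`
  have hle : (P : Subgroup G) ⊔ Subgroup.zpowers g ≤
      Subgroup.normalizer ((P : Subgroup G) : Set G) :=
    sup_le Subgroup.le_normalizer ((Subgroup.zpowers_le).mpr hgN)
  have hmul := Subgroup.relIndex_mul_relIndex (P : Subgroup G) ((P : Subgroup G) ⊔ Subgroup.zpowers g)
    (Subgroup.normalizer ((P : Subgroup G) : Set G)) le_sup_left hle
  have hgK : g ∈ (P : Subgroup G) ⊔ Subgroup.zpowers g :=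
    le_sup_right (a := (P : Subgroup G)) (Subgroup.mem_zpowers g)
  have hk1 : (P : Subgroup G).relIndex ((P : Subgroup G) ⊔ Subgroup.zpowers g) ≠ 1 := by
    intro h1
    exact hgP (Subgroup.relIndex_eq_one.mp h1 hgK)
  have hk2 : (P : Subgroup G).relIndex (Subgroup.normalizer ((P : Subgroup G) : Set G)) = 4 →
      (P : Subgroup G).relIndex ((P : Subgroup G) ⊔ Subgroup.zpowers g) ≠ 2 := by
    intro h4 h2
    apply hg4 h4
    have h2' : ((P : Subgroup G).subgroupOf ((P : Subgroup G) ⊔ Subgroup.zpowers g)).index = 2 := h2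
    have := Subgroup.mul_self_mem_of_index_two h2' ⟨g, hgK⟩
    rw [Subgroup.mem_subgroupOf] at this
    exact this
  have hdvd : (P : Subgroup G).relIndex ((P : Subgroup G) ⊔ Subgroup.zpowers g) ∣
      (P : Subgroup G).relIndex (Subgroup.normalizer ((P : Subgroup G) : Set G)) :=
    ⟨_, hmul.symm⟩
  rcases he with h | h
  · rw [h] at hdvd ⊢
    have hle2 := Nat.le_of_dvd (by norm_num) hdvd
    have hpos : 0 < (P : Subgroup G).relIndex ((P : Subgroup G) ⊔ Subgroup.zpowers g) :=
      GRPE.relIndex_pos' _ _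
    omega
  · have hk2' := hk2 h
    rw [h] at hdvd ⊢
    have hle4 := Nat.le_of_dvd (by norm_num) hdvd
    have hpos : 0 < (P : Subgroup G).relIndex ((P : Subgroup G) ⊔ Subgroup.zpowers g) :=
      GRPE.relIndex_pos' _ _
    have h3 : (P : Subgroup G).relIndex ((P : Subgroup G) ⊔ Subgroup.zpowers g) ≠ 3 := by
      intro h3
      rw [h3] at hdvd
      omega
    omega

end Grp

end Cfsg.Agent.Helper16.SSC
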