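import Mathlib
import Cfsg.Prelude.Def_SubgroupEmbedding

set_option autoImplicit false

/-! Basic tools for Sidki pairs: odd-order elements, relative Sidki condition, quotients. -/

namespace Cfsg.Agent.Helper15.Sidki

variable {G : Type*} [Group G]

theorem mem_of_sq_mem_of_odd {K : Subgroup G} {g : G} (hodd : Odd (orderOf g))
    (h : g ^ 2 ∈ K) : g ∈ K := by
  obtain ⟨k, hk⟩ := hodd
  have e : g = (g ^ 2) ^ (k + 1) := by
    rw [← pow_mul]
    have : 2 * (k + 1) = orderOf g + 1 := by omega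
    rw [this, pow_succ, pow_orderOf_eq_one, one_mul]
  rw [e]
  exact K.pow_mem h _

theorem eq_one_of_sq_eq_one_of_odd {g : G} (hodd : Odd (orderOf g)) (h : g ^ 2 = 1) : g = 1 := by
  have := mem_of_sq_mem_of_odd (K := ⊥) hodd (by rw [h]; exact Subgroup.one_mem _)
  exact Subgroup.mem_bot.1 this

theorem odd_orderOf_mul {a b : G} (hc : Commute a b) (ha : Odd (orderOf a))
    (hb : Odd (orderOf b)) : Odd (orderOf (a * b)) :=
  Odd.of_dvd_nat (ha.mul hb) hc.orderOf_mul_dvd_mul_orderOf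

theorem odd_orderOf_conj {a : G} (g : G) (ha : Odd (orderOf a)) : Odd (orderOf (g * a * g⁻¹)) := by
  have := MulEquiv.orderOf_eq (MulAut.conj g) a
  rw [MulAut.conj_apply] at this
  rwa [this]

theorem odd_orderOf_inv {a : G} (ha : Odd (orderOf a)) : Odd (orderOf a⁻¹) := by
  rwa [orderOf_inv]

/-- elements of a join `M ⊔ A` with `A` normalizing `M` are products -/
theorem exists_mul_of_mem_sup {M A : Subgroup G} (hA : A ≤ Subgroup.normalizer (M : Set G))
    {g : G} (hg : g ∈ M ⊔ A) : ∃ m ∈ M, ∃ a ∈ A, g = m * a := by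
  rw [Subgroup.sup_eq_closure] at hg
  induction hg using Subgroup.closure_induction with
  | mem x hx =>
    rcases hx with hx | hx
    · exact ⟨x, hx, 1, A.one_mem, by simp⟩
    · exact ⟨1, M.one_mem, x, hx, by simp⟩
  | one => exact ⟨1, M.one_mem, 1, A.one_mem, by simp⟩
  | mul x y _ _ ihx ihy =>
    obtain ⟨m, hm, a, ha, rfl⟩ := ihx
    obtain ⟨m', hm', a', ha', rfl⟩ := ihy
    refine ⟨m * (a * m' * a⁻¹), M.mul_mem hm ((Subgroup.mem_normalizer_iff.1 (hA ha) m').1 hm'),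
      a * a', A.mul_mem ha ha', by group⟩
  | inv x _ ih =>
    obtain ⟨m, hm, a, ha, rfl⟩ := ih
    refine ⟨a⁻¹ * m⁻¹ * a, ?_, a⁻¹, A.inv_mem ha, by group⟩
    have := (Subgroup.mem_normalizer_iff.1 (hA (A.inv_mem ha)) m⁻¹).1 (M.inv_mem hm)
    simpa using this

/-- odd-order elements of `M ⊔ A`, `A` of exponent two normalizing `M`, lie in `M` -/
theorem mem_of_odd_of_mem_sup {M A : Subgroup G} (hA : A ≤ Subgroup.normalizer (M : Set G))
    (hA2 : ∀ a ∈ A, a ^ 2 = 1) {g : G} (hg : g ∈ M ⊔ A) (hodd : Odd (orderOf g)) : g ∈ M := by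
  obtain ⟨m, hm, a, ha, rfl⟩ := exists_mul_of_mem_sup hA hg
  apply mem_of_sq_mem_of_odd hodd
  have e : (m * a) ^ 2 = m * (a * m * a⁻¹) * a ^ 2 := by
    rw [sq, sq]; group
  rw [e, hA2 a ha, mul_one]
  exact M.mul_mem hm ((Subgroup.mem_normalizer_iff.1 (hA ha) m).1 hm)

/-- an odd-order element inverted by an element of a normal subgroup lies in it -/
theorem mem_of_inverted {C : Subgroup G} [hC : C.Normal] {v h : G} (hv : v ∈ C)
    (hodd : Odd (orderOf h)) (hinv : v * h * v⁻¹ = h⁻¹) : h ∈ C := by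
  apply mem_of_sq_mem_of_odd hodd
  have h1 : v * (h * v⁻¹ * h⁻¹) ∈ C := C.mul_mem hv (hC.conj_mem _ (C.inv_mem hv) h)
  have e : v * (h * v⁻¹ * h⁻¹) = (h ^ 2)⁻¹ := by
    calc v * (h * v⁻¹ * h⁻¹) = (v * h * v⁻¹) * h⁻¹ := by group
      _ = h⁻¹ * h⁻¹ := by rw [hinv]
      _ = (h ^ 2)⁻¹ := by group
  rw [e] at h1
  simpa using C.inv_mem h1

/-- the Sidki condition relative to a subgroup `H` -/
def SidkiIn (H V : Subgroup G) : Prop :=
  ∀ h ∈ H, ∀ v ∈ V, Odd (orderOf h) → v * h * v⁻¹ = h⁻¹ → ∃ w ∈ V, w ≠ 1 ∧ w * h = h * w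

theorem sidkiIn_of_isSidkiPair {V : Subgroup G} (h : Cfsg.IsSidkiPair V) (H : Subgroup G) :
    SidkiIn H V := fun g _ v hv hodd hinv => h g v hv hodd hinv

theorem isSidkiPair_subgroupOf {H V : Subgroup G} (hVH : V ≤ H) (h : SidkiIn H V) :
    Cfsg.IsSidkiPair (V.subgroupOf H) := by
  intro g v hv hodd hinv
  have hodd' : Odd (orderOf (g : G)) := by rwa [Subgroup.orderOf_coe]
  have hinv' : (v : G) * (g : G) * (v : G)⁻¹ = (g : G)⁻¹ := by
    have := congrArg Subtype.val hinv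
    simpa using this
  obtain ⟨w, hw, hw1, hwc⟩ := h (g : G) g.2 (v : G) (Subgroup.mem_subgroupOf.1 hv) hodd' hinv'
  refine ⟨⟨w, hVH hw⟩, Subgroup.mem_subgroupOf.2 hw, ?_, Subtype.ext hwc⟩
  intro h1
  exact hw1 (congrArg Subtype.val h1)

/-- the Sidki condition passes to quotients by normal subgroups meeting `V` trivially -/
theorem isSidkiPair_map_mk [Finite G] {V : Subgroup G} (N : Subgroup G) [N.Normal]
    (hV2 : ∀ a ∈ V, a ^ 2 = 1) (hS : Cfsg.IsSidkiPair V) (hNV : N ⊓ V = ⊥) :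
    Cfsg.IsSidkiPair (V.map (QuotientGroup.mk' N)) := by
  intro hb vb hvb hodd hinv
  obtain ⟨v, hv, rfl⟩ := hvb
  obtain ⟨k, hk⟩ := hodd
  -- `hb` is a commutator of `v` with a power of `hb`
  have hconj : ∀ n : ℕ, (QuotientGroup.mk' N v) * hb ^ n * (QuotientGroup.mk' N v)⁻¹ = (hb⁻¹) ^ n := by
    intro n
    rw [← conj_pow, hinv]
  obtain ⟨g, hg⟩ := QuotientGroup.mk'_surjective N (hb ^ k)
  set h1 : G := v * g * v⁻¹ * g⁻¹ with hh1
  have hmk1 : QuotientGroup.mk' N h1 = hb := by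
    rw [hh1, map_mul, map_mul, map_mul, map_inv, map_inv, hg, hconj k]
    have e : (hb⁻¹) ^ k * (hb ^ k)⁻¹ = hb * (hb ^ (2 * k + 1))⁻¹ := by
      rw [inv_pow, pow_succ, two_mul, pow_add]
      group
    rw [e, ← hk, pow_orderOf_eq_one, inv_one, mul_one]
  have hv2 : v⁻¹ = v := by
    have := hV2 v hv
    rw [sq] at this
    exact inv_eq_of_mul_eq_one_left this
  have hinv1 : v * h1 * v⁻¹ = h1⁻¹ := by
    rw [hh1, hv2]
    have e1 : v * (v * g * v * g⁻¹) * v = (v * v) * g * v * g⁻¹ * v := by group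
    have e2 : (v * g * v * g⁻¹)⁻¹ = g * v⁻¹ * g⁻¹ * v⁻¹ := by group
    have hvv : v * v = 1 := by rw [← sq]; exact hV2 v hv
    rw [e1, e2, hvv, hv2, one_mul]
  -- the odd part of `h1`
  have hne : orderOf h1 ≠ 0 := (orderOf_pos h1).ne'
  obtain ⟨a, m', hm'odd, ham⟩ := Nat.exists_eq_two_pow_mul_odd hne
  set h2 : G := h1 ^ (2 ^ a) with hh2
  have hord2 : orderOf h2 = m' := by
    rw [hh2, orderOf_pow_of_dvd (by positivity) (Dvd.intro _ ham.symm), ham,
      Nat.mul_div_cancel_left _ (by positivity)]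
  have hinv2 : v * h2 * v⁻¹ = h2⁻¹ := by
    rw [hh2, ← conj_pow, hinv1, inv_pow]
  obtain ⟨w, hw, hw1, hwc⟩ := hS h2 v hv (by rw [hord2]; exact hm'odd) hinv2
  refine ⟨QuotientGroup.mk' N w, ⟨w, hw, rfl⟩, ?_, ?_⟩
  · intro h1'
    apply hw1
    have hwN : w ∈ N := by
      have := (QuotientGroup.eq_one_iff (N := N) w).1 h1'
      exact this
    have : w ∈ N ⊓ V := ⟨hwN, hw⟩
    rw [hNV] at this
    exact Subgroup.mem_bot.1 this
  · have hc : Commute (QuotientGroup.mk' N w) (hb ^ (2 ^ a)) := by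
      have : QuotientGroup.mk' N h2 = hb ^ (2 ^ a) := by rw [hh2, map_pow, hmk1]
      rw [← this]
      unfold Commute SemiconjBy
      rw [← map_mul, ← map_mul, hwc]
    have hcop : Nat.Coprime (2 ^ a) (orderOf hb) := by
      rw [hk]
      apply Nat.Coprime.pow_left
      rw [Nat.coprime_two_left]
      exact ⟨k, rfl⟩
    obtain ⟨t, ht⟩ := exists_pow_eq_self_of_coprime hcop
    have := hc.pow_right t
    rw [ht] at this
    exact this.eq

end Cfsg.Agent.Helper15.Sidki
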