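import Mathlib
import Cfsg.Prelude.Def_SubgroupEmbedding
import Cfsg.Prelude.Def_Local
import Cfsg.Prelude.Def_Transfer
import Cfsg.Agent.Lib.Helper15.Sidki1
import Cfsg.Agent.Lib.Helper7.Bender

set_option autoImplicit false

/-! The minimal counterexample to the Sidki pair problem: first reductions. -/

namespace Cfsg.Agent.Helper15.Sidki

open Cfsg.Agent.Helper7 (pCore_isPGroup card_lt_of_lt_top)

universe u

/-- a minimal counterexample -/
structure MinCE (G : Type u) [Group G] (V : Subgroup G) : Prop where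
  hV : Cfsg.IsElementaryAbelian 2 V
  hV1 : V ≠ ⊥
  hS : Cfsg.IsSidkiPair V
  hVO : V ⊓ Cfsg.pCore 2 G = ⊥
  hminG : ∀ (H : Type u) [Group H] [Finite H] (W : Subgroup H), Nat.card H < Nat.card G →
    Cfsg.IsElementaryAbelian 2 W → W ≠ ⊥ → Cfsg.IsSidkiPair W → W ⊓ Cfsg.pCore 2 H ≠ ⊥
  hminV : ∀ W : Subgroup G, Nat.card W < Nat.card V → Cfsg.IsElementaryAbelian 2 W → W ≠ ⊥ →
    Cfsg.IsSidkiPair W → W ⊓ Cfsg.pCore 2 G ≠ ⊥

variable {G : Type u} [Group G] {V : Subgroup G}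

theorem MinCE.sq (h : MinCE G V) {a : G} (ha : a ∈ V) : a ^ 2 = 1 := h.hV.2 a ha

theorem MinCE.comm (h : MinCE G V) {a b : G} (ha : a ∈ V) (hb : b ∈ V) : a * b = b * a := by
  haveI := h.hV.1
  exact congrArg Subtype.val (mul_comm' (⟨a, ha⟩ : ↥V) ⟨b, hb⟩)

theorem MinCE.mul_self (h : MinCE G V) {a : G} (ha : a ∈ V) : a * a = 1 := by
  have := h.sq ha
  rwa [pow_two] at this

theorem MinCE.inv_eq (h : MinCE G V) {a : G} (ha : a ∈ V) : a⁻¹ = a :=
  inv_eq_of_mul_eq_one_left (h.mul_self ha)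

theorem MinCE.isElementaryAbelian_of_le (h : MinCE G V) {W : Subgroup G} (hWV : W ≤ V) :
    Cfsg.IsElementaryAbelian 2 W :=
  ⟨⟨⟨fun a b => Subtype.ext (h.comm (hWV a.2) (hWV b.2))⟩⟩, fun _ ha => h.sq (hWV ha)⟩

theorem MinCE.isElementaryAbelian_subgroupOf (h : MinCE G V) {W : Subgroup G} (hWV : W ≤ V)
    (H : Subgroup G) : Cfsg.IsElementaryAbelian 2 (W.subgroupOf H) := by
  refine ⟨⟨⟨fun a b => ?_⟩⟩, fun a ha => ?_⟩
  · apply Subtype.ext
    apply Subtype.ext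
    exact h.comm (hWV (Subgroup.mem_subgroupOf.1 a.2)) (hWV (Subgroup.mem_subgroupOf.1 b.2))
  · apply Subtype.ext
    have := h.sq (hWV (Subgroup.mem_subgroupOf.1 ha))
    simpa using this

theorem MinCE.isElementaryAbelian_map (h : MinCE G V) {K : Type*} [Group K] (f : G →* K) :
    Cfsg.IsElementaryAbelian 2 (V.map f) := by
  refine ⟨⟨⟨?_⟩⟩, ?_⟩
  · rintro ⟨a, a', ha', rfl⟩ ⟨b, b', hb', rfl⟩
    apply Subtype.ext
    show f a' * f b' = f b' * f a'
    rw [← map_mul, ← map_mul, h.comm ha' hb']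
  · rintro a ⟨a', ha', rfl⟩
    rw [← map_pow, h.sq ha', map_one]

variable [Finite G]

omit [Finite G] in
theorem pCore_quotient_pCore_eq_bot (p : ℕ) [Fact p.Prime] :
    Cfsg.pCore p (G ⧸ Cfsg.pCore p G) = ⊥ := by
  set Q := Cfsg.pCore p G with hQ
  set π := QuotientGroup.mk' Q with hπ
  have hker : IsPGroup p ↥π.ker := by
    rw [hπ, QuotientGroup.ker_mk']; exact pCore_isPGroup p
  have hT : IsPGroup p ↥((Cfsg.pCore p (G ⧸ Q)).comap π) :=
    (pCore_isPGroup p).comap_of_ker_isPGroup π hker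
  have hTn : ((Cfsg.pCore p (G ⧸ Q)).comap π).Normal := Subgroup.Normal.comap inferInstance π
  have hle : (Cfsg.pCore p (G ⧸ Q)).comap π ≤ Q := Cfsg.Agent.Helper7.le_pCore hTn hT
  rw [eq_bot_iff, ← Subgroup.map_comap_eq_self_of_surjective (QuotientGroup.mk'_surjective Q)
    (Cfsg.pCore p (G ⧸ Q))]
  refine (Subgroup.map_mono hle).trans ?_
  rw [le_bot_iff, Subgroup.map_eq_bot_iff, QuotientGroup.ker_mk']

theorem MinCE.pCore_eq_bot (h : MinCE G V) : Cfsg.pCore 2 G = ⊥ := by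
  by_contra hne
  haveI : Fact (Nat.Prime 2) := ⟨Nat.prime_two⟩
  set Q := Cfsg.pCore 2 G with hQ
  have hcard : Nat.card (G ⧸ Q) < Nat.card G := by
    rw [Subgroup.card_eq_card_quotient_mul_card_subgroup Q]
    have h1 : 1 < Nat.card ↥Q := by
      rw [Subgroup.one_lt_card_iff_ne_bot]; exact hne
    have h2 : 0 < Nat.card (G ⧸ Q) := Nat.card_pos
    nlinarith
  have hNV : Q ⊓ V = ⊥ := by rw [inf_comm]; exact h.hVO
  have hW1 : V.map (QuotientGroup.mk' Q) ≠ ⊥ := by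
    intro hbot
    apply h.hV1
    rw [eq_bot_iff]
    intro v hv
    have h1 : QuotientGroup.mk' Q v ∈ V.map (QuotientGroup.mk' Q) := ⟨v, hv, rfl⟩
    rw [hbot, Subgroup.mem_bot] at h1
    have hvQ : v ∈ Q := (QuotientGroup.eq_one_iff (N := Q) v).1 h1
    have : v ∈ Q ⊓ V := ⟨hvQ, hv⟩
    rwa [hNV] at this
  have := h.hminG (G ⧸ Q) (V.map (QuotientGroup.mk' Q)) hcard (h.isElementaryAbelian_map _) hW1
    (isSidkiPair_map_mk Q (fun a ha => h.sq ha) h.hS hNV)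
  have hb : Cfsg.pCore 2 (G ⧸ Q) = ⊥ := pCore_quotient_pCore_eq_bot 2
  rw [hb, inf_bot_eq] at this
  exact this rfl

/-- the minimality hypothesis relative to a proper subgroup -/
theorem MinCE.exists_of_sidkiIn (h : MinCE G V) {H W : Subgroup G} (hWH : W ≤ H) (hWV : W ≤ V)
    (hlt : H < ⊤) (hW1 : W ≠ ⊥) (hS : SidkiIn H W) :
    ∃ w ∈ W, w ≠ 1 ∧ w ∈ (Cfsg.pCore 2 ↥H).map H.subtype := by
  have hcard : Nat.card ↥H < Nat.card G := card_lt_of_lt_top hlt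
  have hW1' : W.subgroupOf H ≠ ⊥ := by
    intro hbot
    apply hW1
    rw [eq_bot_iff]
    intro w hw
    have : (⟨w, hWH hw⟩ : ↥H) ∈ W.subgroupOf H := Subgroup.mem_subgroupOf.2 hw
    rw [hbot, Subgroup.mem_bot] at this
    exact Subgroup.mem_bot.2 (congrArg Subtype.val this)
  have := h.hminG ↥H (W.subgroupOf H) hcard (h.isElementaryAbelian_subgroupOf hWV H) hW1'
    (isSidkiPair_subgroupOf hWH hS)
  rw [Ne, eq_bot_iff, SetLike.le_def] at this
  push Not at this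
  obtain ⟨w, hw, hw1⟩ := this
  refine ⟨(w : G), Subgroup.mem_subgroupOf.1 hw.1, ?_, ⟨w, hw.2, rfl⟩⟩
  intro h1
  apply hw1
  rw [Subgroup.mem_bot]
  exact Subtype.ext h1

theorem MinCE.normalClosure_eq_top (h : MinCE G V) : Subgroup.normalClosure (V : Set G) = ⊤ := by
  by_contra hne
  haveI : Fact (Nat.Prime 2) := ⟨Nat.prime_two⟩
  set M := Subgroup.normalClosure (V : Set G) with hM
  have hVM : V ≤ M := Subgroup.le_normalClosure
  have hlt : M < ⊤ := lt_top_iff_ne_top.2 hne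
  obtain ⟨w, hwV, hw1, hwQ⟩ := h.exists_of_sidkiIn hVM le_rfl hlt h.hV1
    (sidkiIn_of_isSidkiPair h.hS M)
  have hle := Cfsg.Agent.Helper7.map_subtype_pCore_le 2 M
  rw [h.pCore_eq_bot] at hle
  exact hw1 (Subgroup.mem_bot.1 (hle hwQ))

/-- the key consequence of minimality: a nontrivial element of `A` centralizing `M` -/
theorem MinCE.exists_centralizing (h : MinCE G V) {M A : Subgroup G} (hAV : A ≤ V)
    (hAM : A ≤ Subgroup.normalizer (M : Set G)) (hMsn : M.IsSubnormal) (hlt : M ⊔ A < ⊤)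
    (hS : SidkiIn (M ⊔ A) A) (hA1 : A ≠ ⊥) :
    ∃ w ∈ A, w ≠ 1 ∧ w ∈ Subgroup.centralizer (M : Set G) := by
  haveI : Fact (Nat.Prime 2) := ⟨Nat.prime_two⟩
  set H := M ⊔ A with hH
  obtain ⟨w, hwA, hw1, hwQ⟩ := h.exists_of_sidkiIn le_sup_right hAV hlt hA1 hS
  refine ⟨w, hwA, hw1, ?_⟩
  set Q := (Cfsg.pCore 2 ↥H).map H.subtype with hQ
  have hQH : Q ≤ H := Subgroup.map_subtype_le _
  have hQ2 : IsPGroup 2 ↥Q := (pCore_isPGroup 2).map _
  have hQn : ∀ x ∈ H, ∀ q ∈ Q, x * q * x⁻¹ ∈ Q := by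
    rintro x hx q ⟨q', hq', rfl⟩
    refine ⟨⟨x, hx⟩ * q' * ⟨x, hx⟩⁻¹, ?_, by simp⟩
    exact (inferInstance : (Cfsg.pCore 2 ↥H).Normal).conj_mem q' hq' ⟨x, hx⟩
  have hMH : M ≤ H := le_sup_left
  have hHN : H ≤ Subgroup.normalizer (M : Set G) := sup_le Subgroup.le_normalizer hAM
  have hMn : ∀ x ∈ H, ∀ m ∈ M, x * m * x⁻¹ ∈ M := fun x hx m hm =>
    (Subgroup.mem_normalizer_iff.1 (hHN hx) m).1 hm
  set D := Q ⊓ M with hD
  have hD2 : IsPGroup 2 ↥D := hQ2.to_le inf_le_left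
  have hDn : (D.subgroupOf M).Normal := by
    constructor
    intro d hd m
    rw [Subgroup.mem_subgroupOf] at hd ⊢
    refine ⟨?_, ?_⟩
    · have := hQn (m : G) (hMH m.2) (d : G) hd.1
      simpa using this
    · have := M.mul_mem (M.mul_mem m.2 d.2) (M.inv_mem m.2)
      simpa using this
  have hDsn : D.IsSubnormal := Subgroup.IsSubnormal.trans inf_le_right hDn.isSubnormal hMsn
  have hDbot : D ≤ ⊥ := by
    have := Cfsg.Agent.Helper7.subnormal_isPGroup_le_pCore 2 D hDsn hD2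
    rwa [h.pCore_eq_bot] at this
  rw [Subgroup.mem_centralizer_iff]
  intro m hm
  have hwH : w ∈ H := hQH hwQ
  have h1 : w * m * w⁻¹ * m⁻¹ ∈ D := by
    refine ⟨?_, ?_⟩
    · have h2 := hQn m (hMH hm) w⁻¹ (Q.inv_mem hwQ)
      have h3 := Q.mul_mem hwQ h2
      have e : w * (m * w⁻¹ * m⁻¹) = w * m * w⁻¹ * m⁻¹ := by group
      rwa [e] at h3
    · exact M.mul_mem (hMn w hwH m hm) (M.inv_mem hm)
  have h2 := Subgroup.mem_bot.1 (hDbot h1)
  have e : w * m = (w * m * w⁻¹ * m⁻¹) * (m * w) := by group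
  rw [e, h2, one_mul]

end Cfsg.Agent.Helper15.Sidki
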