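import Mathlib
import Cfsg.Prelude.Def_SubgroupEmbedding
import Cfsg.Prelude.Def_Local
import Cfsg.Prelude.Def_Transfer
import Cfsg.Agent.Lib.Helper15.Sidki2

set_option autoImplicit false

/-! The minimal counterexample to the Sidki pair problem: `G = V F*(G)` and normal subgroups
with trivial centre. -/

namespace Cfsg.Agent.Helper15.Sidki

universe u

variable {G : Type u} [Group G] [Finite G] {V : Subgroup G}

/-- no nontrivial element of `V` lies in the Fitting subgroup -/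
theorem MinCE.eq_one_of_mem_fitting (h : MinCE G V) {w : G} (hwV : w ∈ V)
    (hwR : w ∈ Cfsg.fittingSubgroup G) : w = 1 := by
  haveI : Fact (Nat.Prime 2) := ⟨Nat.prime_two⟩
  have := Cfsg.Agent.Helper7.mem_pCore_of_mem_fittingSubgroup 2 hwR
    ⟨1, by rw [pow_one]; exact h.sq hwV⟩
  rw [h.pCore_eq_bot] at this
  exact Subgroup.mem_bot.1 this

omit [Finite G] in
/-- a normal abelian subgroup lies in the Fitting subgroup -/
theorem le_fitting_of_abelian (Z : Subgroup G) [Z.Normal] (hab : ∀ a ∈ Z, ∀ b ∈ Z, a * b = b * a) :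
    Z ≤ Cfsg.fittingSubgroup G := by
  haveI : IsMulCommutative ↥Z := ⟨⟨fun a b => Subtype.ext (hab a a.2 b b.2)⟩⟩
  exact Cfsg.Agent.Helper7.le_fittingSubgroup Z (Cfsg.Agent.Helper7.isNilpotent_of_isMulCommutative _)

theorem MinCE.eq_one_of_mem_normal_abelian (h : MinCE G V) (Z : Subgroup G) [Z.Normal]
    (hab : ∀ a ∈ Z, ∀ b ∈ Z, a * b = b * a) {w : G} (hwV : w ∈ V) (hwZ : w ∈ Z) : w = 1 :=
  h.eq_one_of_mem_fitting hwV (le_fitting_of_abelian Z hab hwZ)

theorem MinCE.sup_fstar_eq_top (h : MinCE G V) :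
    V ⊔ Cfsg.generalizedFittingSubgroup G = ⊤ := by
  by_contra hne
  set F := Cfsg.generalizedFittingSubgroup G with hF
  have hlt : F ⊔ V < ⊤ := by rw [sup_comm]; exact lt_top_iff_ne_top.2 hne
  obtain ⟨w, hwV, hw1, hwC⟩ := h.exists_centralizing (M := F) (A := V) le_rfl
    (by rw [Subgroup.normalizer_eq_top]; exact le_top)
    (inferInstance : F.Normal).isSubnormal hlt (sidkiIn_of_isSidkiPair h.hS _) h.hV1
  have hwF : w ∈ F := Cfsg.Agent.Helper7.centralizer_generalizedFittingSubgroup_le hwC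
  set Z := F ⊓ Subgroup.centralizer (F : Set G) with hZ
  haveI : Z.Normal := inferInstance
  have hab : ∀ a ∈ Z, ∀ b ∈ Z, a * b = b * a := by
    intro a ha b hb
    exact ((Subgroup.mem_centralizer_iff.1 ha.2) b hb.1).symm
  exact hw1 (h.eq_one_of_mem_normal_abelian Z hab hwV ⟨hwF, hwC⟩)

/-- a normal subgroup `M` with `M V < G` and trivial centre is trivial -/
theorem MinCE.eq_bot_of_normal (h : MinCE G V) (M : Subgroup G) [hMn : M.Normal]
    (hlt : M ⊔ V < ⊤) (hZ : M ⊓ Subgroup.centralizer (M : Set G) = ⊥) : M = ⊥ := by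
  set C := Subgroup.centralizer (M : Set G) with hC
  haveI hCn : C.Normal := inferInstance
  set V₁ := V ⊓ C with hV₁def
  have hS1 : Cfsg.IsSidkiPair V₁ := by
    intro g v₁ hv₁ hodd hinv
    have hgC : g ∈ C := mem_of_inverted hv₁.2 hodd hinv
    set A := V ⊓ Subgroup.centralizer ({g} : Set G) with hA
    obtain ⟨w₀, hw₀V, hw₀1, hw₀c⟩ := h.hS g v₁ hv₁.1 hodd hinv
    have hmemA : ∀ {w : G}, w ∈ V → w * g = g * w → w ∈ A := by
      intro w hwV hwc
      refine ⟨hwV, ?_⟩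
      show w ∈ Subgroup.centralizer ({g} : Set G)
      rw [Subgroup.mem_centralizer_iff]
      intro y hy
      rw [Set.mem_singleton_iff] at hy
      rw [hy]; exact hwc.symm
    have hcommA : ∀ {w : G}, w ∈ A → w * g = g * w := by
      intro w hw
      exact ((Subgroup.mem_centralizer_iff.1 hw.2) g rfl).symm
    have hA1 : A ≠ ⊥ := by
      intro hb
      have := hmemA hw₀V hw₀c
      rw [hb] at this
      exact hw₀1 (Subgroup.mem_bot.1 this)
    have hAV : A ≤ V := inf_le_left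
    have hAM : A ≤ Subgroup.normalizer (M : Set G) := by
      rw [Subgroup.normalizer_eq_top]; exact le_top
    have hltA : M ⊔ A < ⊤ := lt_of_le_of_lt (sup_le_sup_left hAV M) hlt
    have hSA : SidkiIn (M ⊔ A) A := by
      intro x hx a ha hxodd hxinv
      have hxM : x ∈ M := mem_of_odd_of_mem_sup hAM (fun a ha => h.sq (hAV ha)) hx hxodd
      have hxg : x * g = g * x := (Subgroup.mem_centralizer_iff.1 hgC) x hxM
      have hv₁x : v₁ * x⁻¹ * v₁⁻¹ = x⁻¹ := by
        have := (Subgroup.mem_centralizer_iff.1 hv₁.2) x⁻¹ (M.inv_mem hxM)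
        rw [← this, mul_inv_cancel_right]
      have hag : a * g * a⁻¹ = g := by
        rw [hcommA ha, mul_inv_cancel_right]
      have hinv' : (v₁ * a) * (x * g) * (v₁ * a)⁻¹ = (x * g)⁻¹ := by
        calc (v₁ * a) * (x * g) * (v₁ * a)⁻¹
            = (v₁ * (a * x * a⁻¹) * v₁⁻¹) * (v₁ * (a * g * a⁻¹) * v₁⁻¹) := by group
          _ = (v₁ * x⁻¹ * v₁⁻¹) * (v₁ * g * v₁⁻¹) := by rw [hxinv, hag]
          _ = x⁻¹ * g⁻¹ := by rw [hinv, hv₁x]
          _ = (g * x)⁻¹ := by group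
          _ = (x * g)⁻¹ := by rw [hxg]
      have hoddxg : Odd (orderOf (x * g)) := odd_orderOf_mul hxg hxodd hodd
      obtain ⟨w, hwV, hw1, hwc⟩ := h.hS (x * g) (v₁ * a) (V.mul_mem hv₁.1 ha.1) hoddxg hinv'
      have e : (w * x * w⁻¹) * (w * g * w⁻¹) = x * g := by
        calc (w * x * w⁻¹) * (w * g * w⁻¹) = w * (x * g) * w⁻¹ := by group
          _ = (x * g) * w * w⁻¹ := by rw [hwc]
          _ = x * g := by group
      have hz : x⁻¹ * (w * x * w⁻¹) = g * (w * g * w⁻¹)⁻¹ := by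
        calc x⁻¹ * (w * x * w⁻¹)
            = x⁻¹ * ((w * x * w⁻¹) * (w * g * w⁻¹)) * (w * g * w⁻¹)⁻¹ := by group
          _ = x⁻¹ * (x * g) * (w * g * w⁻¹)⁻¹ := by rw [e]
          _ = g * (w * g * w⁻¹)⁻¹ := by group
      have hzM : x⁻¹ * (w * x * w⁻¹) ∈ M := M.mul_mem (M.inv_mem hxM) (hMn.conj_mem x hxM w)
      have hzC : x⁻¹ * (w * x * w⁻¹) ∈ C := by
        rw [hz]
        exact C.mul_mem hgC (C.inv_mem (hCn.conj_mem g hgC w))
      have hz1 : x⁻¹ * (w * x * w⁻¹) = 1 := by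
        have : x⁻¹ * (w * x * w⁻¹) ∈ M ⊓ C := ⟨hzM, hzC⟩
        rw [hZ] at this
        exact Subgroup.mem_bot.1 this
      have hwx : w * x = x * w := by
        have e1 : w * x = x * (x⁻¹ * (w * x * w⁻¹)) * w := by group
        rw [e1, hz1, mul_one]
      have hwg : w * g = g * w := by
        rw [hz] at hz1
        have e1 : g * w = (g * (w * g * w⁻¹)⁻¹) * (w * g) := by group
        rw [e1, hz1, one_mul]
      exact ⟨w, hmemA hwV hwg, hw1, hwx⟩
    obtain ⟨w, hwA, hw1, hwC⟩ := h.exists_centralizing hAV hAM hMn.isSubnormal hltA hSA hA1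
    exact ⟨w, ⟨hwA.1, hwC⟩, hw1, hcommA hwA⟩
  have hV₁ : V₁ = V := by
    by_contra hne
    have hlt' : V₁ < V := lt_of_le_of_ne inf_le_left hne
    have hcard : Nat.card ↥V₁ < Nat.card ↥V := by
      refine lt_of_le_of_ne (Subgroup.card_le_of_le hlt'.le) ?_
      intro hc
      exact hlt'.ne (Subgroup.eq_of_le_of_card_ge hlt'.le hc.ge)
    have hV₁1 : V₁ ≠ ⊥ := by
      intro hb
      obtain ⟨w, hw, hw1, _⟩ := hS1 1 1 (Subgroup.one_mem _) (by rw [orderOf_one]; exact odd_one)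
        (by simp)
      rw [hb] at hw
      exact hw1 (Subgroup.mem_bot.1 hw)
    have := h.hminV V₁ hcard (h.isElementaryAbelian_of_le inf_le_left) hV₁1 hS1
    rw [h.pCore_eq_bot, inf_bot_eq] at this
    exact this rfl
  have hVC : V ≤ C := by rw [← hV₁]; exact inf_le_right
  have hCtop : C = ⊤ := by
    rw [eq_top_iff, ← h.normalClosure_eq_top]
    exact Subgroup.normalClosure_le_normal hVC
  rw [eq_bot_iff, ← hZ]
  intro m hm
  exact ⟨hm, by rw [hCtop]; exact Subgroup.mem_top m⟩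

end Cfsg.Agent.Helper15.Sidki
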