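import Mathlib
import Cfsg.Prelude.Def_SubgroupEmbedding
import Cfsg.Prelude.Def_Local
import Cfsg.Prelude.Def_Transfer
import Cfsg.Agent.Lib.Helper15.Sidki3

set_option autoImplicit false

/-! The minimal counterexample to the Sidki pair problem: the Fitting subgroup is trivial. -/

namespace Cfsg.Agent.Helper15.Sidki

open scoped commutatorElement

universe u

variable {G : Type u} [Group G] [Finite G] {V : Subgroup G}

/-- elements of the Fitting subgroup have odd order -/
theorem MinCE.odd_of_mem_fitting (h : MinCE G V) {r : G} (hr : r ∈ Cfsg.fittingSubgroup G) :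
    Odd (orderOf r) := by
  haveI : Fact (Nat.Prime 2) := ⟨Nat.prime_two⟩
  have hne : orderOf r ≠ 0 := (orderOf_pos r).ne'
  obtain ⟨a, m, hm, ham⟩ := Nat.exists_eq_two_pow_mul_odd hne
  have h1 : r ^ m ∈ Cfsg.pCore 2 G := by
    apply Cfsg.Agent.Helper7.mem_pCore_of_mem_fittingSubgroup 2
      ((Cfsg.fittingSubgroup G).pow_mem hr m)
    refine ⟨a, ?_⟩
    rw [← pow_mul, mul_comm, ← ham, pow_orderOf_eq_one]
  rw [h.pCore_eq_bot, Subgroup.mem_bot] at h1
  have h2 : orderOf r ∣ m := orderOf_dvd_of_pow_eq_one h1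
  exact Odd.of_dvd_nat hm h2

/-- the case of a central subgroup of odd order -/
theorem MinCE.false_of_central (h : MinCE G V) (N : Subgroup G) (hN1 : N ≠ ⊥)
    (hNc : N ≤ Subgroup.center G) (hNodd : ∀ n ∈ N, Odd (orderOf n)) : False := by
  haveI : Fact (Nat.Prime 2) := ⟨Nat.prime_two⟩
  haveI hNn : N.Normal := by
    constructor
    intro n hn g
    have := Subgroup.mem_center_iff.1 (hNc hn) g
    have e : g * n * g⁻¹ = n := by rw [this, mul_inv_cancel_right]
    rw [e]; exact hn
  have hNV : N ⊓ V = ⊥ := by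
    rw [eq_bot_iff]
    rintro x ⟨hxN, hxV⟩
    exact Subgroup.mem_bot.2 (eq_one_of_sq_eq_one_of_odd (hNodd x hxN) (h.sq hxV))
  have hcard : Nat.card (G ⧸ N) < Nat.card G := by
    rw [Subgroup.card_eq_card_quotient_mul_card_subgroup N]
    have h1 : 1 < Nat.card ↥N := by
      rw [Subgroup.one_lt_card_iff_ne_bot]; exact hN1
    have h2 : 0 < Nat.card (G ⧸ N) := Nat.card_pos
    nlinarith
  have hW1 : V.map (QuotientGroup.mk' N) ≠ ⊥ := by
    intro hbot
    apply h.hV1
    rw [eq_bot_iff]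
    intro v hv
    have h1 : QuotientGroup.mk' N v ∈ V.map (QuotientGroup.mk' N) := ⟨v, hv, rfl⟩
    rw [hbot, Subgroup.mem_bot] at h1
    have hvN : v ∈ N := (QuotientGroup.eq_one_iff (N := N) v).1 h1
    have : v ∈ N ⊓ V := ⟨hvN, hv⟩
    rwa [hNV] at this
  have hmin := h.hminG (G ⧸ N) (V.map (QuotientGroup.mk' N)) hcard (h.isElementaryAbelian_map _)
    hW1 (isSidkiPair_map_mk N (fun a ha => h.sq ha) h.hS hNV)
  apply hmin
  rw [eq_bot_iff]
  rintro ub ⟨⟨u, huV, rfl⟩, huQ⟩
  rw [Subgroup.mem_bot]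
  -- the preimage of `O_2(G/N)` is nilpotent
  set T := (Cfsg.pCore 2 (G ⧸ N)).comap (QuotientGroup.mk' N) with hT
  haveI hTn : T.Normal := Subgroup.Normal.comap inferInstance _
  have huT : u ∈ T := huQ
  set f := (QuotientGroup.mk' N).subgroupComap (Cfsg.pCore 2 (G ⧸ N)) with hf
  have hker : f.ker ≤ Subgroup.center ↥T := by
    intro x hx
    rw [MonoidHom.mem_ker] at hx
    have hx1 : QuotientGroup.mk' N (x : G) = 1 := by
      have := congrArg Subtype.val hx
      exact this
    have hxN : (x : G) ∈ N := (QuotientGroup.eq_one_iff (N := N) (x : G)).1 hx1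
    rw [Subgroup.mem_center_iff]
    intro y
    apply Subtype.ext
    exact Subgroup.mem_center_iff.1 (hNc hxN) (y : G)
  haveI hnilQ : Group.IsNilpotent ↥(Cfsg.pCore 2 (G ⧸ N)) :=
    (Cfsg.Agent.Helper7.pCore_isPGroup 2).isNilpotent
  have hnilT : Group.IsNilpotent ↥T := Subgroup.isNilpotent_of_ker_le_center f hker
  have hTR : T ≤ Cfsg.fittingSubgroup G := Cfsg.Agent.Helper7.le_fittingSubgroup T hnilT
  have hu1 : u = 1 := h.eq_one_of_mem_fitting huV (hTR huT)
  rw [hu1, map_one]

theorem MinCE.fitting_eq_bot (h : MinCE G V) : Cfsg.fittingSubgroup G = ⊥ := by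
  by_contra hne
  set R := Cfsg.fittingSubgroup G with hR
  haveI hRn : R.Normal := Cfsg.Agent.Helper7.fittingSubgroup_normal'
  haveI hRnil : Group.IsNilpotent ↥R := Cfsg.Agent.Helper7.fittingSubgroup_isNilpotent
  haveI : Nontrivial ↥R := (Subgroup.nontrivial_iff_ne_bot R).2 hne
  have hZne : Subgroup.center ↥R ≠ ⊥ := Group.IsNilpotent.center_ne_bot ↥R
  set Z := (Subgroup.center ↥R).map R.subtype with hZ
  haveI hZn : Z.Normal := ConjAct.normal_of_characteristic_of_normal
  have hZ1 : Z ≠ ⊥ := by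
    rw [hZ, Ne, Subgroup.map_eq_bot_iff_of_injective _ R.subtype_injective]; exact hZne
  have hZR : Z ≤ R := Subgroup.map_subtype_le _
  have hZc : ∀ z ∈ Z, ∀ r ∈ R, z * r = r * z := by
    rintro z ⟨z', hz', rfl⟩ r hr
    have := (Subgroup.mem_center_iff.1 hz') ⟨r, hr⟩
    exact (congrArg Subtype.val this).symm
  -- a minimal normal subgroup inside `Z`
  let S : Set (Subgroup G) := {N | N.Normal ∧ N ≠ ⊥ ∧ N ≤ Z}
  obtain ⟨N, hNS, hNmin⟩ := Set.exists_min_image S (fun N : Subgroup G => Nat.card N)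
    (Set.toFinite S) ⟨Z, hZn, hZ1, le_rfl⟩
  obtain ⟨hNn, hN1, hNZ⟩ := hNS
  haveI := hNn
  have hmin : ∀ N' : Subgroup G, N'.Normal → N' ≠ ⊥ → N' ≤ N → N' = N := by
    intro N' hN'n hN'1 hle
    have := hNmin N' ⟨hN'n, hN'1, hle.trans hNZ⟩
    exact Subgroup.eq_of_le_of_card_ge hle this
  have hNodd : ∀ n ∈ N, Odd (orderOf n) := fun n hn => h.odd_of_mem_fitting (hZR (hNZ hn))
  have hNab : ∀ a ∈ N, ∀ b ∈ N, a * b = b * a :=
    fun a ha b hb => hZc a (hNZ ha) b (hZR (hNZ hb))
  set C := Subgroup.centralizer (N : Set G) with hC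
  haveI hCn : C.Normal := inferInstance
  have hRC : R ≤ C := by
    intro r hr
    rw [hC, Subgroup.mem_centralizer_iff]
    intro n hn
    exact hZc n (hNZ hn) r hr
  have hEC : Cfsg.layer G ≤ C := by
    have := Cfsg.Agent.Helper7.layer_commutator_fittingSubgroup (G := G)
    have h1 := Subgroup.commutator_eq_bot_iff_le_centralizer.1 this
    exact h1.trans (Subgroup.centralizer_le (hNZ.trans hZR))
  have hFC : Cfsg.generalizedFittingSubgroup G ≤ C := sup_le hEC hRC
  have hCV : C ⊔ V = ⊤ := by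
    rw [eq_top_iff, ← h.sup_fstar_eq_top, sup_comm]
    exact sup_le_sup_right hFC V
  have hdecomp : ∀ x : G, ∃ c ∈ C, ∃ v ∈ V, c * v = x := by
    intro x
    have : x ∈ C ⊔ V := by rw [hCV]; exact Subgroup.mem_top x
    exact Subgroup.mem_sup_of_normal_left.1 this
  -- each element of `V` centralizes or inverts `N`
  have hdich : ∀ u ∈ V, (∀ n ∈ N, u * n = n * u) ∨ (∀ n ∈ N, u * n * u⁻¹ = n⁻¹) := by
    intro u hu
    set Np := N ⊓ Subgroup.centralizer ({u} : Set G) with hNp
    have hmemNp : ∀ {m : G}, m ∈ N → u * m = m * u → m ∈ Np := by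
      intro m hm hc
      refine ⟨hm, ?_⟩
      show m ∈ Subgroup.centralizer ({u} : Set G)
      rw [Subgroup.mem_centralizer_iff]
      intro y hy
      rw [Set.mem_singleton_iff] at hy
      rw [hy]; exact hc
    have hcommNp : ∀ {m : G}, m ∈ Np → u * m = m * u := fun hm =>
      (Subgroup.mem_centralizer_iff.1 hm.2) u rfl
    have hNpn : Np.Normal := by
      constructor
      intro n hn x
      obtain ⟨c, hc, v, hv, rfl⟩ := hdecomp x
      have hvn : v * n * v⁻¹ ∈ N := hNn.conj_mem n hn.1 v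
      have e : c * v * n * (c * v)⁻¹ = v * n * v⁻¹ := by
        have := (Subgroup.mem_centralizer_iff.1 hc) (v * n * v⁻¹) hvn
        calc c * v * n * (c * v)⁻¹ = c * (v * n * v⁻¹) * c⁻¹ := by group
          _ = (v * n * v⁻¹) * c * c⁻¹ := by rw [this]
          _ = v * n * v⁻¹ := by group
      rw [e]
      apply hmemNp hvn
      have huv : v * u * v⁻¹ = u := by rw [← h.comm hu hv, mul_inv_cancel_right]
      calc u * (v * n * v⁻¹) = (v * u * v⁻¹) * (v * n * v⁻¹) := by rw [huv]
        _ = v * (u * n) * v⁻¹ := by group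
        _ = v * (n * u) * v⁻¹ := by rw [hcommNp hn]
        _ = (v * n * v⁻¹) * (v * u * v⁻¹) := by group
        _ = (v * n * v⁻¹) * u := by rw [huv]
    by_cases hNpb : Np = ⊥
    · right
      intro n hn
      have hun : u * n * u⁻¹ ∈ N := hNn.conj_mem n hn u
      have hp : n * (u * n * u⁻¹) ∈ Np := by
        apply hmemNp (N.mul_mem hn hun)
        have e1 : u * (n * (u * n * u⁻¹)) = (u * n * u⁻¹) * ((u * u) * n * (u * u)⁻¹) * u := by
          group
        rw [e1, h.mul_self hu, one_mul, inv_one, mul_one, hNab _ hun n hn]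
      rw [hNpb, Subgroup.mem_bot] at hp
      exact (eq_inv_of_mul_eq_one_right hp)
    · left
      have := hmin Np hNpn hNpb inf_le_left
      intro n hn
      exact hcommNp (this ▸ hn)
  by_cases hVC : V ≤ C
  · have hCtop : C = ⊤ := by
      rw [eq_top_iff, ← h.normalClosure_eq_top]
      exact Subgroup.normalClosure_le_normal hVC
    have hNc : N ≤ Subgroup.center G := by
      intro n hn
      rw [Subgroup.mem_center_iff]
      intro g
      have hg : g ∈ C := by rw [hCtop]; exact Subgroup.mem_top g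
      exact ((Subgroup.mem_centralizer_iff.1 hg) n hn).symm
    exact h.false_of_central N hN1 hNc hNodd
  · obtain ⟨u, huV, huC⟩ := SetLike.not_le_iff_exists.1 hVC
    have hmemC : ∀ {w : G}, (∀ n ∈ N, w * n = n * w) → w ∈ C := by
      intro w hw
      rw [hC, Subgroup.mem_centralizer_iff]
      intro n hn
      exact (hw n hn).symm
    have hinvOf : ∀ {w : G}, w ∈ V → w ∉ C → ∀ n ∈ N, w * n * w⁻¹ = n⁻¹ := by
      intro w hwV hwC
      rcases hdich w hwV with h1 | h1
      · exact absurd (hmemC h1) hwC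
      · exact h1
    have hE1 : ∀ {w n : G}, w ∈ V → n ∈ N → n ≠ 1 → w * n = n * w → w ∈ C := by
      intro w n hwV hn hn1 hc
      by_contra hwC
      have := hinvOf hwV hwC n hn
      rw [hc, mul_inv_cancel_right] at this
      apply hn1
      apply eq_one_of_sq_eq_one_of_odd (hNodd n hn)
      have h2 : n * n = 1 := by
        calc n * n = n⁻¹ * n := by rw [← this]
          _ = 1 := inv_mul_cancel n
      rw [pow_two]; exact h2
    obtain ⟨n, hnN, hn1⟩ : ∃ n ∈ N, n ≠ 1 := by
      by_contra hcon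
      push Not at hcon
      apply hN1
      rw [eq_bot_iff]
      intro n hn
      exact Subgroup.mem_bot.2 (hcon n hn)
    set V₁ := V ⊓ C with hV₁def
    have hS1 : Cfsg.IsSidkiPair V₁ := by
      intro g v₁ hv₁ hodd hinv
      have hgC : g ∈ C := mem_of_inverted hv₁.2 hodd hinv
      have hgn : g * n = n * g := ((Subgroup.mem_centralizer_iff.1 hgC) n hnN).symm
      obtain ⟨a, haV, ha1, hac⟩ := h.hS g v₁ hv₁.1 hodd hinv
      by_cases haC : a ∈ C
      · exact ⟨a, ⟨haV, haC⟩, ha1, hac⟩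
      have han := hinvOf haV haC
      have hv₁n : v₁ * n * v₁⁻¹ = n := by
        have := (Subgroup.mem_centralizer_iff.1 hv₁.2) n hnN
        rw [← this, mul_inv_cancel_right]
      have hag : a * g * a⁻¹ = g := by rw [hac, mul_inv_cancel_right]
      have hinv' : (v₁ * a) * (g * n) * (v₁ * a)⁻¹ = (g * n)⁻¹ := by
        calc (v₁ * a) * (g * n) * (v₁ * a)⁻¹
            = (v₁ * (a * g * a⁻¹) * v₁⁻¹) * (v₁ * (a * n * a⁻¹) * v₁⁻¹) := by group
          _ = (v₁ * g * v₁⁻¹) * (v₁ * n⁻¹ * v₁⁻¹) := by rw [hag, han n hnN]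
          _ = g⁻¹ * (v₁ * n * v₁⁻¹)⁻¹ := by rw [hinv]; group
          _ = g⁻¹ * n⁻¹ := by rw [hv₁n]
          _ = (n * g)⁻¹ := by group
          _ = (g * n)⁻¹ := by rw [hgn]
      have hoddgn : Odd (orderOf (g * n)) := odd_orderOf_mul hgn hodd (hNodd n hnN)
      obtain ⟨w, hwV, hw1, hwc⟩ := h.hS (g * n) (v₁ * a) (V.mul_mem hv₁.1 haV) hoddgn hinv'
      by_cases hwC : w ∈ C
      · have hwn : w * n = n * w := ((Subgroup.mem_centralizer_iff.1 hwC) n hnN).symm
        refine ⟨w, ⟨hwV, hwC⟩, hw1, ?_⟩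
        have e1 : w * g = (w * (g * n)) * n⁻¹ := by group
        rw [e1, hwc]
        have e2 : g * n * w * n⁻¹ = g * (n * w) * n⁻¹ := by group
        rw [e2, ← hwn]
        group
      exfalso
      have hwn := hinvOf hwV hwC
      -- `w g w⁻¹ = g n²`
      have hwg : w * g * w⁻¹ = g * n * n := by
        have e1 : w * g * w⁻¹ = (w * (g * n) * w⁻¹) * (w * n * w⁻¹)⁻¹ := by group
        rw [e1, hwc, hwn n hnN]
        group
      -- `b = w a` centralizes `N` and moves `g` to `g n²`
      have hbn : (w * a) * n * (w * a)⁻¹ = n := by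
        calc (w * a) * n * (w * a)⁻¹ = w * (a * n * a⁻¹) * w⁻¹ := by group
          _ = w * n⁻¹ * w⁻¹ := by rw [han n hnN]
          _ = (w * n * w⁻¹)⁻¹ := by group
          _ = n := by rw [hwn n hnN, inv_inv]
      have hbg : (w * a) * g * (w * a)⁻¹ = g * n * n := by
        calc (w * a) * g * (w * a)⁻¹ = w * (a * g * a⁻¹) * w⁻¹ := by group
          _ = w * g * w⁻¹ := by rw [hag]
          _ = g * n * n := hwg
      have hbb : (w * a) * (w * a) = 1 := h.mul_self (V.mul_mem hwV haV)
      have h4 : g = g * n * n * n * n := by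
        calc g = ((w * a) * (w * a)) * g * ((w * a) * (w * a))⁻¹ := by rw [hbb]; group
          _ = (w * a) * ((w * a) * g * (w * a)⁻¹) * (w * a)⁻¹ := by group
          _ = (w * a) * (g * n * n) * (w * a)⁻¹ := by rw [hbg]
          _ = ((w * a) * g * (w * a)⁻¹) * ((w * a) * n * (w * a)⁻¹) *
              ((w * a) * n * (w * a)⁻¹) := by group
          _ = g * n * n * n * n := by rw [hbg, hbn]
      have h5 : (n ^ 2) ^ 2 = 1 := by
        have : g * 1 = g * (n * n * n * n) := by
          rw [mul_one]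
          calc g = g * n * n * n * n := h4
            _ = g * (n * n * n * n) := by group
        have h6 := mul_left_cancel this
        rw [pow_two, pow_two, h6]; group
      have hn2odd : Odd (orderOf (n ^ 2)) := hNodd _ (N.pow_mem hnN 2)
      have h7 := eq_one_of_sq_eq_one_of_odd hn2odd h5
      exact hn1 (eq_one_of_sq_eq_one_of_odd (hNodd n hnN) h7)
    have hlt' : V₁ < V := by
      refine lt_of_le_of_ne inf_le_left ?_
      intro he
      apply huC
      have : u ∈ V₁ := by rw [he]; exact huV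
      exact this.2
    have hcard : Nat.card ↥V₁ < Nat.card ↥V := by
      refine lt_of_le_of_ne (Subgroup.card_le_of_le hlt'.le) ?_
      intro hc
      exact hlt'.ne (Subgroup.eq_of_le_of_card_ge hlt'.le hc.ge)
    have hV₁1 : V₁ ≠ ⊥ := by
      intro hb
      obtain ⟨w, hw, hw1, _⟩ := hS1 1 1 (Subgroup.one_mem _) (by rw [orderOf_one]; exact odd_one)
        (by simp)
      rw [hb] at hw
      exact hw1 (Subgroup.mem_bot.1 hw)
    have := h.hminV V₁ hcard (h.isElementaryAbelian_of_le inf_le_left) hV₁1 hS1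
    rw [h.pCore_eq_bot, inf_bot_eq] at this
    exact this rfl

end Cfsg.Agent.Helper15.Sidki
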