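import Mathlib
import Cfsg.Prelude.Def_SubgroupEmbedding
import Cfsg.Prelude.Def_Local
import Cfsg.Prelude.Def_Transfer
import Cfsg.Agent.Lib.Helper15.Sidki4
import Cfsg.Agent.Lib.Helper15.SylowIn

set_option autoImplicit false

/-! The minimal counterexample to the Sidki pair problem: components. -/

namespace Cfsg.Agent.Helper15.Sidki

open Cfsg.Agent.Helper15
open scoped commutatorElement

universe u

variable {G : Type u} [Group G] [Finite G] {V : Subgroup G}

theorem MinCE.center_component (h : MinCE G V) {L : Subgroup G} (hL : Cfsg.IsComponent L) :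
    Subgroup.center ↥L = ⊥ := by
  have hsn : ((Subgroup.center ↥L).map L.subtype).IsSubnormal :=
    (inferInstance : (Subgroup.center ↥L).Normal).isSubnormal.trans' hL.1
  have hnil : Group.IsNilpotent ↥((Subgroup.center ↥L).map L.subtype) :=
    Cfsg.Agent.Helper7.isNilpotent_map_subtype _
      (Cfsg.Agent.Helper7.isNilpotent_of_isMulCommutative _)
  have := Cfsg.Agent.Helper7.subnormal_nilpotent_le_fittingSubgroup _ hsn hnil
  rw [h.fitting_eq_bot, le_bot_iff, Subgroup.map_eq_bot_iff_of_injective _ L.subtype_injective]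
    at this
  exact this

/-- an element of a component centralizing it is trivial -/
theorem MinCE.eq_one_of_central (h : MinCE G V) {L : Subgroup G} (hL : Cfsg.IsComponent L)
    {a : G} (ha : a ∈ L) (hc : ∀ x ∈ L, x * a = a * x) : a = 1 := by
  have hmem : (⟨a, ha⟩ : ↥L) ∈ Subgroup.center ↥L := by
    rw [Subgroup.mem_center_iff]
    intro x
    exact Subtype.ext (hc x x.2)
  rw [h.center_component hL, Subgroup.mem_bot] at hmem
  exact congrArg Subtype.val hmem

theorem commute_of_ne {L L' : Subgroup G} (hL : Cfsg.IsComponent L)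
    (hL' : Cfsg.IsComponent L') (hne : L ≠ L') {a b : G} (ha : a ∈ L) (hb : b ∈ L') :
    a * b = b * a := by
  have hcomm := Cfsg.Agent.Helper7.component_commutator_eq_bot_of_ne hL hL' hne
  have := (Subgroup.commutator_eq_bot_iff_le_centralizer.1 hcomm) ha
  exact ((Subgroup.mem_centralizer_iff.1 this) b hb).symm

theorem MinCE.eq_one_of_mem_of_ne (h : MinCE G V) {L L' : Subgroup G} (hL : Cfsg.IsComponent L)
    (hL' : Cfsg.IsComponent L') (hne : L ≠ L') {a : G} (ha : a ∈ L) (ha' : a ∈ L') : a = 1 :=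
  h.eq_one_of_central hL ha (fun x hx => commute_of_ne hL hL' hne hx ha')

/-- uniqueness of the decomposition in a product of two distinct components -/
theorem MinCE.eq_of_mul_eq (h : MinCE G V) {L L' : Subgroup G} (hL : Cfsg.IsComponent L)
    (hL' : Cfsg.IsComponent L') (hne : L ≠ L') {x x₁ y y₁ : G} (hx : x ∈ L) (hx₁ : x₁ ∈ L)
    (hy : y ∈ L') (hy₁ : y₁ ∈ L') (he : x * y = x₁ * y₁) : x = x₁ := by
  have e : x₁⁻¹ * x = y₁ * y⁻¹ := by
    calc x₁⁻¹ * x = x₁⁻¹ * (x * y) * y⁻¹ := by group
      _ = x₁⁻¹ * (x₁ * y₁) * y⁻¹ := by rw [he]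
      _ = y₁ * y⁻¹ := by group
  have h1 : x₁⁻¹ * x = 1 := h.eq_one_of_mem_of_ne hL hL' hne (L.mul_mem (L.inv_mem hx₁) hx)
    (by rw [e]; exact L'.mul_mem hy₁ (L'.inv_mem hy))
  calc x = x₁ * (x₁⁻¹ * x) := by group
    _ = x₁ := by rw [h1, mul_one]

/-- a component has a nontrivial element of odd order -/
theorem exists_odd_of_component {L : Subgroup G} (hL : Cfsg.IsComponent L) :
    ∃ a ∈ L, a ≠ 1 ∧ Odd (orderOf a) := by
  by_contra hcon
  push Not at hcon
  haveI : Fact (Nat.Prime 2) := ⟨Nat.prime_two⟩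
  have hL2 : IsPGroup 2 ↥L := by
    intro x
    have hne : orderOf (x : G) ≠ 0 := (orderOf_pos (x : G)).ne'
    obtain ⟨a, m, hm, ham⟩ := Nat.exists_eq_two_pow_mul_odd hne
    refine ⟨a, ?_⟩
    have hord : orderOf ((x : G) ^ (2 ^ a)) = m := by
      rw [orderOf_pow_of_dvd (by positivity) (Dvd.intro _ ham.symm), ham,
        Nat.mul_div_cancel_left _ (by positivity)]
    by_contra hx1
    have hx1' : (x : G) ^ (2 ^ a) ≠ 1 := by
      intro h1
      apply hx1
      exact Subtype.ext (by simpa using h1)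
    exact hcon _ (L.pow_mem x.2 _) hx1' (by rw [hord]; exact hm)
  apply Cfsg.Agent.Helper7.not_isSolvable_of_component hL
  haveI : Group.IsNilpotent ↥L := hL2.isNilpotent
  infer_instance

end Cfsg.Agent.Helper15.Sidki
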