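import Mathlib
import Cfsg.Prelude.Def_SubgroupEmbedding
import Cfsg.Prelude.Def_Local
import Cfsg.Prelude.Def_Transfer
import Cfsg.Agent.Lib.Helper15.Sidki5

set_option autoImplicit false

/-! The minimal counterexample to the Sidki pair problem: `V` normalizes every component. -/

namespace Cfsg.Agent.Helper15.Sidki

open Cfsg.Agent.Helper15
open scoped commutatorElement

universe u

variable {G : Type u} [Group G] [Finite G] {V : Subgroup G}

omit [Finite G] in
theorem isComponent_map_conj {L : Subgroup G} (hL : Cfsg.IsComponent L) (g : G) :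
    Cfsg.IsComponent (L.map (MulAut.conj g).toMonoidHom) :=
  Cfsg.Agent.Helper7.isComponent_map_mulEquiv (MulAut.conj g) hL

/-- if `v ∈ V` moves the component `L`, every nontrivial odd-order element of `L` is centralized
by a nontrivial element of `N_V(L)` -/
theorem MinCE.exists_centralizing_of_moved (h : MinCE G V) {L : Subgroup G}
    (hL : Cfsg.IsComponent L) {v : G} (hv : v ∈ V)
    (hvL : L.map (MulAut.conj v).toMonoidHom ≠ L) {a : G} (ha : a ∈ L) (ha1 : a ≠ 1)
    (hodd : Odd (orderOf a)) :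
    ∃ w ∈ V ⊓ Subgroup.normalizer (L : Set G), w ≠ 1 ∧ w * a = a * w := by
  set L' := L.map (MulAut.conj v).toMonoidHom with hL'def
  have hL' : Cfsg.IsComponent L' := isComponent_map_conj hL v
  have hne : L ≠ L' := Ne.symm hvL
  set a' := v * a * v⁻¹ with ha'def
  have ha' : a' ∈ L' := conj_mem_map_conj v ha
  have hcomm : a⁻¹ * a' = a' * a⁻¹ := commute_of_ne hL hL' hne (L.inv_mem ha) ha'
  set g := a⁻¹ * a' with hg
  have hinv : v * g * v⁻¹ = g⁻¹ := by
    rw [hg, ha'def]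
    calc v * (a⁻¹ * (v * a * v⁻¹)) * v⁻¹
        = (v * a * v⁻¹)⁻¹ * ((v * v) * a * (v * v)⁻¹) := by group
      _ = (v * a * v⁻¹)⁻¹ * a := by rw [h.mul_self hv]; group
      _ = (a⁻¹ * (v * a * v⁻¹))⁻¹ := by group
  have hoddg : Odd (orderOf g) :=
    odd_orderOf_mul hcomm (odd_orderOf_inv hodd) (odd_orderOf_conj v hodd)
  obtain ⟨w, hwV, hw1, hwc⟩ := h.hS g v hv hoddg hinv
  set L₁ := L.map (MulAut.conj w).toMonoidHom with hL₁def
  set L₂ := L'.map (MulAut.conj w).toMonoidHom with hL₂def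
  have hX : w * a⁻¹ * w⁻¹ ∈ L₁ := conj_mem_map_conj w (L.inv_mem ha)
  have hY : w * a' * w⁻¹ ∈ L₂ := conj_mem_map_conj w ha'
  have hXY : (w * a⁻¹ * w⁻¹) * (w * a' * w⁻¹) = a⁻¹ * a' := by
    calc (w * a⁻¹ * w⁻¹) * (w * a' * w⁻¹) = w * g * w⁻¹ := by rw [hg]; group
      _ = g * w * w⁻¹ := by rw [hwc]
      _ = a⁻¹ * a' := by rw [hg]; group
  have hwv : w * v = v * w := h.comm hwV hv
  have hL₂ : L₂ = L₁.map (MulAut.conj v).toMonoidHom := by
    rw [hL₂def, hL'def, hL₁def, map_conj_map_conj, map_conj_map_conj, hwv]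
  by_cases h1 : L₁ = L
  · have hwN : w ∈ Subgroup.normalizer (L : Set G) := mem_normalizer_of_map_conj_eq h1
    have hL₂' : L₂ = L' := by rw [hL₂, h1]
    have hXL : w * a⁻¹ * w⁻¹ ∈ L := by rw [← h1]; exact hX
    have hYL' : w * a' * w⁻¹ ∈ L' := by rw [← hL₂']; exact hY
    have hXa := h.eq_of_mul_eq hL hL' hne hXL (L.inv_mem ha) hYL' ha' hXY
    refine ⟨w, ⟨hwV, hwN⟩, hw1, ?_⟩
    have e1 : w * a = (w * a⁻¹ * w⁻¹)⁻¹ * w := by group
    rw [e1, hXa, inv_inv]
  · have hL₁c : Cfsg.IsComponent L₁ := isComponent_map_conj hL w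
    by_cases h2 : L₂ = L
    · have hL₁' : L₁ = L' := by
        have e : (L₁.map (MulAut.conj v).toMonoidHom).map (MulAut.conj v⁻¹).toMonoidHom
            = L.map (MulAut.conj v⁻¹).toMonoidHom := by rw [← hL₂, h2]
        rw [map_conj_inv_map_conj] at e
        rw [e, h.inv_eq hv]
      have hXL' : w * a⁻¹ * w⁻¹ ∈ L' := by rw [← hL₁']; exact hX
      have hYL : w * a' * w⁻¹ ∈ L := by rw [← h2]; exact hY
      have hYX : (w * a' * w⁻¹) * (w * a⁻¹ * w⁻¹) = a⁻¹ * a' := by
        rw [← hXY]; exact commute_of_ne hL hL' hne hYL hXL'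
      have hYa := h.eq_of_mul_eq hL hL' hne hYL (L.inv_mem ha) hXL' ha' hYX
      have hw₀V : w * v ∈ V := V.mul_mem hwV hv
      have hw₀inv : (w * v) * a * (w * v)⁻¹ = a⁻¹ := by
        calc (w * v) * a * (w * v)⁻¹ = w * (v * a * v⁻¹) * w⁻¹ := by group
          _ = a⁻¹ := hYa
      obtain ⟨w', hw'V, hw'1, hw'c⟩ := h.hS a (w * v) hw₀V hodd hw₀inv
      refine ⟨w', ⟨hw'V, ?_⟩, hw'1, hw'c⟩
      by_contra hw'N
      have hne' : L.map (MulAut.conj w').toMonoidHom ≠ L :=
        fun he => hw'N (mem_normalizer_of_map_conj_eq he)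
      have ha'' : a ∈ L.map (MulAut.conj w').toMonoidHom := by
        have := conj_mem_map_conj w' ha
        rwa [hw'c, mul_inv_cancel_right] at this
      exact ha1 (h.eq_one_of_mem_of_ne hL (isComponent_map_conj hL w') (Ne.symm hne') ha ha'')
    · exfalso
      have hL₂c : Cfsg.IsComponent L₂ := isComponent_map_conj hL' w
      apply ha1
      have hainv : a⁻¹ = 1 := by
        apply h.eq_one_of_central hL (L.inv_mem ha)
        intro x hx
        have hxX : x * (w * a⁻¹ * w⁻¹) = (w * a⁻¹ * w⁻¹) * x :=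
          commute_of_ne hL hL₁c (Ne.symm h1) hx hX
        have hxY : x * (w * a' * w⁻¹) = (w * a' * w⁻¹) * x :=
          commute_of_ne hL hL₂c (Ne.symm h2) hx hY
        have hxa' : x * a' = a' * x := commute_of_ne hL hL' hne hx ha'
        have hxg : x * (a⁻¹ * a') = (a⁻¹ * a') * x := by
          rw [← hXY]
          calc x * ((w * a⁻¹ * w⁻¹) * (w * a' * w⁻¹))
              = (x * (w * a⁻¹ * w⁻¹)) * (w * a' * w⁻¹) := by group
            _ = (w * a⁻¹ * w⁻¹) * (x * (w * a' * w⁻¹)) := by rw [hxX]; group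
            _ = (w * a⁻¹ * w⁻¹) * (w * a' * w⁻¹) * x := by rw [hxY]; group
        calc x * a⁻¹ = x * (a⁻¹ * a') * a'⁻¹ := by group
          _ = (a⁻¹ * a') * x * a'⁻¹ := by rw [hxg]
          _ = a⁻¹ * (a' * x) * a'⁻¹ := by group
          _ = a⁻¹ * (x * a') * a'⁻¹ := by rw [hxa']
          _ = a⁻¹ * x := by group
      exact inv_eq_one.1 hainv

end Cfsg.Agent.Helper15.Sidki
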