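import Mathlib
import Cfsg.Prelude.Def_SubgroupEmbedding
import Cfsg.Prelude.Def_Local
import Cfsg.Prelude.Def_Transfer
import Cfsg.Agent.Lib.Helper15.Sidki6

set_option autoImplicit false

/-! The minimal counterexample to the Sidki pair problem: the conclusion. -/

namespace Cfsg.Agent.Helper15.Sidki

open Cfsg.Agent.Helper15
open scoped commutatorElement

universe u

variable {G : Type u} [Group G] [Finite G] {V : Subgroup G}

theorem MinCE.fstar_eq_layer (h : MinCE G V) :
    Cfsg.generalizedFittingSubgroup G = Cfsg.layer G := by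
  unfold Cfsg.generalizedFittingSubgroup
  rw [h.fitting_eq_bot, sup_bot_eq]

theorem MinCE.exists_mul_layer (h : MinCE G V) (g : G) :
    ∃ f ∈ Cfsg.layer G, ∃ u ∈ V, f * u = g := by
  haveI : (Cfsg.layer G).Characteristic := Cfsg.Agent.Helper7.layer_characteristic
  haveI : (Cfsg.layer G).Normal := Subgroup.normal_of_characteristic _
  have : g ∈ Cfsg.layer G ⊔ V := by
    rw [← h.fstar_eq_layer, sup_comm, h.sup_fstar_eq_top]
    exact Subgroup.mem_top g
  exact Subgroup.mem_sup_of_normal_left.1 this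

theorem MinCE.inf_centralizer_eq_bot (h : MinCE G V) (M : Subgroup G) [M.Normal] :
    M ⊓ Subgroup.centralizer (M : Set G) = ⊥ := by
  rw [eq_bot_iff]
  have hle := le_fitting_of_abelian (M ⊓ Subgroup.centralizer (M : Set G))
    (fun a ha b hb => ((Subgroup.mem_centralizer_iff.1 ha.2) b hb.1).symm)
  rwa [h.fitting_eq_bot] at hle

theorem MinCE.le_normalizer_component (h : MinCE G V) {L : Subgroup G}
    (hL : Cfsg.IsComponent L) : V ≤ Subgroup.normalizer (L : Set G) := by
  by_contra hcon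
  obtain ⟨v, hvV, hvN⟩ := SetLike.not_le_iff_exists.1 hcon
  have hvL : L.map (MulAut.conj v).toMonoidHom ≠ L :=
    fun he => hvN (mem_normalizer_of_map_conj_eq he)
  set V₀ := V ⊓ Subgroup.normalizer (L : Set G) with hV₀
  obtain ⟨a₀, ha₀, ha₀1, ha₀odd⟩ := exists_odd_of_component hL
  obtain ⟨w₀, hw₀, hw₀1, _⟩ := h.exists_centralizing_of_moved hL hvV hvL ha₀ ha₀1 ha₀odd
  have hV₀1 : V₀ ≠ ⊥ := by
    intro hb
    have hw₀' : w₀ ∈ V₀ := hw₀
    rw [hb] at hw₀'
    exact hw₀1 (Subgroup.mem_bot.1 hw₀')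
  have hV₀V : V₀ ≤ V := inf_le_left
  have hV₀N : V₀ ≤ Subgroup.normalizer (L : Set G) := inf_le_right
  have hS : SidkiIn (L ⊔ V₀) V₀ := by
    intro x hx v₀ _ hxodd _
    have hxL : x ∈ L := mem_of_odd_of_mem_sup hV₀N (fun a ha => h.sq (hV₀V ha)) hx hxodd
    by_cases hx1 : x = 1
    · exact ⟨w₀, hw₀, hw₀1, by rw [hx1, mul_one, one_mul]⟩
    · exact h.exists_centralizing_of_moved hL hvV hvL hxL hx1 hxodd
  have hlt : L ⊔ V₀ < ⊤ := by
    rw [lt_top_iff_ne_top]
    intro he
    apply hvN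
    have hle : L ⊔ V₀ ≤ Subgroup.normalizer (L : Set G) := sup_le Subgroup.le_normalizer hV₀N
    rw [he] at hle
    exact hle (Subgroup.mem_top v)
  obtain ⟨w, hwV₀, hw1, hwC⟩ := h.exists_centralizing hV₀V hV₀N hL.1 hlt hS hV₀1
  have hwV : w ∈ V := hV₀V hwV₀
  set M := Subgroup.normalClosure (L : Set G) with hM
  have hLM : L ≤ M := Subgroup.le_normalClosure
  have hMV : M ⊔ V = ⊤ := by
    by_contra hne
    have := h.eq_bot_of_normal M (lt_top_iff_ne_top.2 hne) (h.inf_centralizer_eq_bot M)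
    rw [this] at hLM
    exact Cfsg.Agent.Helper7.component_ne_bot hL (le_bot_iff.1 hLM)
  -- `w` centralizes every conjugate of `L`
  have hwM : M ≤ Subgroup.centralizer ({w} : Set G) := by
    rw [hM, Subgroup.normalClosure, Subgroup.closure_le]
    intro y hy
    obtain ⟨x, hxL, hxy⟩ := Group.mem_conjugatesOfSet_iff.1 hy
    obtain ⟨g, hg⟩ := isConj_iff.1 hxy
    obtain ⟨f, hf, u, hu, rfl⟩ := h.exists_mul_layer g
    -- `y = f (u x u⁻¹) f⁻¹` lies in the component `u L u⁻¹`
    have hLu : Cfsg.IsComponent (L.map (MulAut.conj u).toMonoidHom) := isComponent_map_conj hL u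
    have hx₁ : u * x * u⁻¹ ∈ L.map (MulAut.conj u).toMonoidHom := conj_mem_map_conj u hxL
    have hfN := Cfsg.Agent.Helper7.layer_le_normalizer_component hLu hf
    have hyLu : y ∈ L.map (MulAut.conj u).toMonoidHom := by
      have := (Subgroup.mem_normalizer_iff.1 hfN (u * x * u⁻¹)).1 hx₁
      have e : f * (u * x * u⁻¹) * f⁻¹ = f * u * x * (f * u)⁻¹ := by group
      rw [e, hg] at this
      exact this
    obtain ⟨z₀, hz₀, rfl⟩ := hyLu
    rw [SetLike.mem_coe, Subgroup.mem_centralizer_iff]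
    intro t ht
    rw [Set.mem_singleton_iff] at ht
    subst ht
    simp only [MulEquiv.coe_toMonoidHom, MulAut.conj_apply]
    have hwz : z₀ * t = t * z₀ := (Subgroup.mem_centralizer_iff.1 hwC) z₀ hz₀
    have htu : t * u = u * t := h.comm hwV hu
    have htu' : t * u⁻¹ = u⁻¹ * t := by
      calc t * u⁻¹ = u⁻¹ * (u * t) * u⁻¹ := by group
        _ = u⁻¹ * (t * u) * u⁻¹ := by rw [htu]
        _ = u⁻¹ * t := by group
    calc t * (u * z₀ * u⁻¹) = (t * u) * z₀ * u⁻¹ := by group
      _ = u * (t * z₀) * u⁻¹ := by rw [htu]; group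
      _ = u * (z₀ * t) * u⁻¹ := by rw [hwz]
      _ = u * z₀ * (t * u⁻¹) := by group
      _ = u * z₀ * (u⁻¹ * t) := by rw [htu']
      _ = u * z₀ * u⁻¹ * t := by group
  have hwVc : V ≤ Subgroup.centralizer ({w} : Set G) := by
    intro u hu
    rw [Subgroup.mem_centralizer_iff]
    intro t ht
    rw [Set.mem_singleton_iff] at ht
    rw [ht]
    exact h.comm hwV hu
  have htop : (⊤ : Subgroup G) ≤ Subgroup.centralizer ({w} : Set G) := by
    rw [← hMV]; exact sup_le hwM hwVc
  have hwc : w ∈ Subgroup.center G := by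
    rw [Subgroup.mem_center_iff]
    intro g
    have := (Subgroup.mem_centralizer_iff.1 (htop (Subgroup.mem_top g))) w rfl
    exact this.symm
  apply hw1
  exact h.eq_one_of_mem_normal_abelian (Subgroup.center G)
    (fun a ha b _ => ((Subgroup.mem_center_iff.1 ha) b).symm) hwV hwc

theorem MinCE.final (h : MinCE G V) :
    IsSimpleGroup ↥(Cfsg.generalizedFittingSubgroup G) ∧
      ¬ IsMulCommutative ↥(Cfsg.generalizedFittingSubgroup G) ∧
      V ⊔ Cfsg.generalizedFittingSubgroup G = ⊤ := by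
  -- there is a component
  have hex : ∃ L : Subgroup G, Cfsg.IsComponent L := by
    by_contra hno
    have hno' : ∀ L : Subgroup G, ¬ Cfsg.IsComponent L := fun L hL => hno ⟨L, hL⟩
    have hlayer : Cfsg.layer G = ⊥ := Cfsg.Agent.Helper7.layer_eq_bot_iff.2 hno'
    have hF : Cfsg.generalizedFittingSubgroup G = ⊥ := by rw [h.fstar_eq_layer, hlayer]
    have := h.sup_fstar_eq_top
    rw [hF, sup_bot_eq] at this
    -- `G = V` is a 2-group
    have hle := Cfsg.Agent.Helper7.centralizer_generalizedFittingSubgroup_le (G := G)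
    rw [hF] at hle
    apply h.hV1
    rw [eq_bot_iff]
    intro v _
    apply hle
    rw [Subgroup.mem_centralizer_iff]
    intro a ha
    have : a = 1 := Subgroup.mem_bot.1 ha
    rw [this, one_mul, mul_one]
  obtain ⟨L, hL⟩ := hex
  -- `L` is normal
  have hLN : Subgroup.normalizer (L : Set G) = ⊤ := by
    rw [eq_top_iff, ← h.sup_fstar_eq_top, h.fstar_eq_layer]
    exact sup_le (h.le_normalizer_component hL)
      (Cfsg.Agent.Helper7.layer_le_normalizer_component hL)
  haveI hLn : L.Normal := Subgroup.normalizer_eq_top_iff.1 hLN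
  have hLV : L ⊔ V = ⊤ := by
    by_contra hne
    have := h.eq_bot_of_normal L (lt_top_iff_ne_top.2 hne) (h.inf_centralizer_eq_bot L)
    exact Cfsg.Agent.Helper7.component_ne_bot hL this
  -- commutators lie in `L`
  have hcomm : ⁅(⊤ : Subgroup G), (⊤ : Subgroup G)⁆ ≤ L := by
    rw [Subgroup.commutator_le]
    intro x _ y _
    have hx : x ∈ L ⊔ V := by rw [hLV]; exact Subgroup.mem_top x
    have hy : y ∈ L ⊔ V := by rw [hLV]; exact Subgroup.mem_top y
    obtain ⟨l, hl, u, hu, rfl⟩ := Subgroup.mem_sup_of_normal_left.1 hx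
    obtain ⟨l', hl', u', hu', rfl⟩ := Subgroup.mem_sup_of_normal_left.1 hy
    rw [← QuotientGroup.eq_one_iff]
    have e0 : ((⁅l * u, l' * u'⁆ : G) : G ⧸ L) =
        ⁅(QuotientGroup.mk (l * u) : G ⧸ L), QuotientGroup.mk (l' * u')⁆ :=
      map_commutatorElement (QuotientGroup.mk' L) _ _
    rw [e0]
    have e1 : (QuotientGroup.mk (l * u) : G ⧸ L) = QuotientGroup.mk u := by
      rw [QuotientGroup.mk_mul, (QuotientGroup.eq_one_iff l).2 hl, one_mul]
    have e2 : (QuotientGroup.mk (l' * u') : G ⧸ L) = QuotientGroup.mk u' := by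
      rw [QuotientGroup.mk_mul, (QuotientGroup.eq_one_iff l').2 hl', one_mul]
    rw [e1, e2]
    have e3 : ⁅(QuotientGroup.mk u : G ⧸ L), QuotientGroup.mk u'⁆ =
        ((⁅u, u'⁆ : G) : G ⧸ L) := (map_commutatorElement (QuotientGroup.mk' L) _ _).symm
    rw [e3, commutatorElement_def, h.comm hu hu']
    have : u' * u * u⁻¹ * u'⁻¹ = 1 := by group
    rw [this]
    rfl
  have huniq : ∀ L' : Subgroup G, Cfsg.IsComponent L' → L' = L := by
    intro L' hL'
    apply Cfsg.Agent.Helper7.component_eq_of_le hL' hL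
    calc L' = ⁅L', L'⁆ := (Cfsg.Agent.Helper7.component_perfect hL').symm
      _ ≤ ⁅(⊤ : Subgroup G), ⊤⁆ := Subgroup.commutator_mono le_top le_top
      _ ≤ L := hcomm
  have hlayer : Cfsg.layer G = L := by
    unfold Cfsg.layer
    apply le_antisymm
    · apply sSup_le
      intro L' hL'
      rw [huniq L' hL']
    · exact le_sSup hL
  have hF : Cfsg.generalizedFittingSubgroup G = L := by rw [h.fstar_eq_layer, hlayer]
  refine ⟨?_, ?_, h.sup_fstar_eq_top⟩
  · rw [hF]
    haveI := Cfsg.Agent.Helper7.quasisimple_nontrivial hL.2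
    refine ⟨fun N hN => ?_⟩
    rcases Cfsg.Agent.Helper7.quasisimple_normal_eq_top_or_le_center hL.2 N with h1 | h1
    · right; exact h1
    · left
      rw [h.center_component hL] at h1
      exact le_bot_iff.1 h1
  · rw [hF]
    exact Cfsg.Agent.Helper7.quasisimple_not_isMulCommutative hL.2

end Cfsg.Agent.Helper15.Sidki
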