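import Mathlib
import Cfsg.Agent.Lib.Helper7.ZStar3
import Cfsg.Agent.Lib.Helper15.StronglyEmbedded

set_option autoImplicit false

/-! Strongly closed `2`-subgroups acting on a subgroup without odd normal subgroups
(helper15's library): a consequence of the `Z*`-theorem. -/

namespace Cfsg.Agent.Helper15.StrongClosed

universe u

open Cfsg

/-- the configuration `G = A H` with `H` normal, `A` strongly closed in a Sylow `2`-subgroup `T`,
`A ∩ H = 1` and no nontrivial normal subgroup of `G` of odd order inside `H` -/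
structure Hyp {G : Type u} [Group G] (T : Sylow 2 G) (A H : Subgroup G) : Prop where
  hH : H.Normal
  sup : A ⊔ H = ⊤
  sc : IsStronglyClosed A (T : Subgroup G)
  odd : ∀ N : Subgroup G, N.Normal → N ≤ H → Odd (Nat.card N) → N = ⊥
  disj : A ⊓ H = ⊥

variable {G : Type u} [Group G] {T : Sylow 2 G} {A H : Subgroup G}

theorem Hyp.exists_mul (h : Hyp T A H) (g : G) : ∃ b ∈ A, ∃ k ∈ H, g = b * k := by
  have := h.hH
  have hg : g ∈ A ⊔ H := by rw [h.sup]; exact Subgroup.mem_top g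
  obtain ⟨b, hb, k, hk, e⟩ := Subgroup.mem_sup_of_normal_right.1 hg
  exact ⟨b, hb, k, hk, e.symm⟩

theorem Hyp.eq_one_of_mem (h : Hyp T A H) {x : G} (hA : x ∈ A) (hH : x ∈ H) : x = 1 := by
  have : x ∈ A ⊓ H := ⟨hA, hH⟩
  rw [h.disj] at this
  exact Subgroup.mem_bot.1 this

/-- an involution of `A` centralized by `T` is isolated -/
theorem Hyp.isIsolated [Finite G] (h : Hyp T A H) {a : G} (haA : a ∈ A) (ha : orderOf a = 2)
    (hc : ∀ t ∈ (T : Subgroup G), t * a = a * t) : IsIsolated a := by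
  apply Cfsg.Agent.Helper7.ZStar.isIsolated_of_sylow T a ha (h.sc.1 haA)
  intro g hg
  have hgA : g * a * g⁻¹ ∈ A := h.sc.2 a haA g hg
  obtain ⟨b, hb, k, hk, rfl⟩ := h.exists_mul g
  have hba : b * a * b⁻¹ = a := by
    rw [hc b (h.sc.1 hb), mul_inv_cancel_right]
  have h1 : k * a * k⁻¹ * a⁻¹ ∈ H := by
    have e : k * a * k⁻¹ * a⁻¹ = k * (a * k⁻¹ * a⁻¹) := by group
    rw [e]
    exact H.mul_mem hk (h.hH.conj_mem _ (H.inv_mem hk) a)
  have h2 : b * (k * a * k⁻¹ * a⁻¹) * b⁻¹ ∈ H := h.hH.conj_mem _ h1 b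
  have e : b * (k * a * k⁻¹ * a⁻¹) * b⁻¹ = (b * k) * a * (b * k)⁻¹ * (b * a * b⁻¹)⁻¹ := by
    group
  rw [e, hba] at h2
  have h3 : (b * k) * a * (b * k)⁻¹ * a⁻¹ ∈ A := A.mul_mem hgA (A.inv_mem haA)
  have h4 := h.eq_one_of_mem h3 h2
  exact mul_inv_eq_one.1 h4

/-- such an involution centralizes `H` -/
theorem Hyp.commute [Finite G] (h : Hyp T A H) {a : G} (haA : a ∈ A) (ha : orderOf a = 2)
    (hc : ∀ t ∈ (T : Subgroup G), t * a = a * t) : ∀ k ∈ H, k * a = a * k := by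
  have hz := Cfsg.Agent.Helper7.ZStar.zstar a ha (h.isIsolated haA ha hc)
  have hON : (Cfsg.pPrimeCore 2 G).Normal := Cfsg.Agent.Helper22.pPrimeCore_normal 2
  have := h.hH
  have hN : (H ⊓ Cfsg.pPrimeCore 2 G).Normal := inferInstance
  have hodd : Odd (Nat.card ↥(H ⊓ Cfsg.pPrimeCore 2 G)) := by
    have h1 : Nat.card ↥(H ⊓ Cfsg.pPrimeCore 2 G) ∣ Nat.card ↥(Cfsg.pPrimeCore 2 G) :=
      Subgroup.card_dvd_of_le inf_le_right
    have h2 : Odd (Nat.card ↥(Cfsg.pPrimeCore 2 G)) :=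
      Nat.coprime_two_right.1 (Cfsg.Agent.Helper22.card_pPrimeCore_coprime 2)
    exact Odd.of_dvd_nat h2 h1
  have hbot := h.odd _ hN inf_le_left hodd
  intro k hk
  have h1 : k * a * k⁻¹ * a⁻¹ ∈ H := by
    have e : k * a * k⁻¹ * a⁻¹ = k * (a * k⁻¹ * a⁻¹) := by group
    rw [e]
    exact H.mul_mem hk (h.hH.conj_mem _ (H.inv_mem hk) a)
  have h2 : k * a * k⁻¹ * a⁻¹ ∈ H ⊓ Cfsg.pPrimeCore 2 G := ⟨h1, hz k⟩
  rw [hbot, Subgroup.mem_bot] at h2
  have h3 : k * a * k⁻¹ = a := mul_inv_eq_one.1 h2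
  calc k * a = (k * a * k⁻¹) * k := by group
    _ = a * k := by rw [h3]

/-- `A` is normal in `T` -/
theorem Hyp.le_normalizer (h : Hyp T A H) :
    (T : Subgroup G) ≤ Subgroup.normalizer (A : Set G) := by
  intro t ht
  have key : ∀ s ∈ (T : Subgroup G), ∀ x ∈ A, s * x * s⁻¹ ∈ A := by
    intro s hs x hx
    exact h.sc.2 x hx s ((T : Subgroup G).mul_mem ((T : Subgroup G).mul_mem hs (h.sc.1 hx))
      ((T : Subgroup G).inv_mem hs))
  rw [Subgroup.mem_normalizer_iff]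
  intro x
  constructor
  · intro hx
    exact key t ht x hx
  · intro hx
    have := key t⁻¹ ((T : Subgroup G).inv_mem ht) _ hx
    have e : t⁻¹ * (t * x * t⁻¹) * t⁻¹⁻¹ = x := by group
    rwa [e] at this

/-- if `A` is nontrivial, some involution of `A` centralizes `H` -/
theorem Hyp.exists_involution [Finite G] (h : Hyp T A H) (hA : A ≠ ⊥) :
    ∃ a ∈ A, orderOf a = 2 ∧ ∀ k ∈ H, k * a = a * k := by
  haveI : Fact (Nat.Prime 2) := ⟨Nat.prime_two⟩
  obtain ⟨z, hzA, hz2, hzc⟩ :=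
    Cfsg.Agent.Helper15.exists_orderOf_eq_prime_centralized (p := 2) T.isPGroup' h.sc.1
      h.le_normalizer hA
  refine ⟨z, hzA, hz2, h.commute hzA hz2 ?_⟩
  intro t ht
  have := Subgroup.mem_centralizer_iff.1 (hzc ht) z (Set.mem_singleton z)
  exact this.symm

/-- `C_A(H)` is normal in `G` -/
theorem Hyp.normal_inf_centralizer (h : Hyp T A H) :
    (A ⊓ Subgroup.centralizer (H : Set G)).Normal := by
  constructor
  intro x hx g
  obtain ⟨b, hb, k, hk, rfl⟩ := h.exists_mul g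
  have hkx : k * x * k⁻¹ = x := by
    have := Subgroup.mem_centralizer_iff.1 hx.2 k hk
    rw [this, mul_inv_cancel_right]
  have e : (b * k) * x * (b * k)⁻¹ = b * (k * x * k⁻¹) * b⁻¹ := by group
  rw [e, hkx]
  refine Subgroup.mem_inf.2 ⟨A.mul_mem (A.mul_mem hb hx.1) (A.inv_mem hb), ?_⟩
  rw [Subgroup.mem_centralizer_iff]
  intro y hy
  have hy' : b⁻¹ * y * b ∈ H := by
    have := h.hH.conj_mem y hy b⁻¹
    rwa [inv_inv] at this
  have h1 := Subgroup.mem_centralizer_iff.1 hx.2 _ hy'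
  calc y * (b * x * b⁻¹) = b * ((b⁻¹ * y * b) * x) * b⁻¹ := by group
    _ = b * (x * (b⁻¹ * y * b)) * b⁻¹ := by rw [h1]
    _ = b * x * b⁻¹ * y := by group

end Cfsg.Agent.Helper15.StrongClosed
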