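import Mathlib
import Cfsg.Agent.Lib.Helper15.StrongClosed1

set_option autoImplicit false

/-! Strongly closed `2`-subgroups acting on a subgroup without odd normal subgroups, part 2:
quotients and the induction. -/

namespace Cfsg.Agent.Helper15.StrongClosed

universe u

open Cfsg

variable {G : Type u} [Group G] {T : Sylow 2 G} {A H : Subgroup G}

/-- the configuration passes to `G / N` for a normal subgroup `N ≤ A` -/
theorem Hyp.quotient [Finite G] (h : Hyp T A H) (N : Subgroup G) [N.Normal] (hN : N ≤ A) :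
    Hyp (T.mapSurjective (QuotientGroup.mk'_surjective N))
      (A.map (QuotientGroup.mk' N)) (H.map (QuotientGroup.mk' N)) := by
  have hsurj := QuotientGroup.mk'_surjective N
  refine ⟨?_, ?_, ?_, ?_, ?_⟩
  · exact Subgroup.Normal.map h.hH _ hsurj
  · rw [← Subgroup.map_sup, h.sup, ← MonoidHom.range_eq_map, MonoidHom.range_eq_top]
    exact hsurj
  · constructor
    · rw [Sylow.coe_mapSurjective]
      exact Subgroup.map_mono h.sc.1
    · rintro _ ⟨x, hx, rfl⟩ g hg
      obtain ⟨g, rfl⟩ := hsurj g
      rw [Sylow.coe_mapSurjective] at hg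
      obtain ⟨t, ht, e⟩ := hg
      have e' : (QuotientGroup.mk' N) (t⁻¹ * (g * x * g⁻¹)) = 1 := by
        rw [map_mul, map_inv, e, map_mul, map_mul, map_inv]
        group
      have h1 : t⁻¹ * (g * x * g⁻¹) ∈ N := (QuotientGroup.eq_one_iff _).1 e'
      have h2 : g * x * g⁻¹ ∈ (T : Subgroup G) := by
        have := (T : Subgroup G).mul_mem ht (h.sc.1 (hN h1))
        rwa [mul_inv_cancel_left] at this
      refine ⟨g * x * g⁻¹, h.sc.2 x hx g h2, ?_⟩
      rw [map_mul, map_mul, map_inv]
  · intro M hM hMH hodd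
    set M₀ : Subgroup G := M.comap (QuotientGroup.mk' N) ⊓ H with hM₀
    have hM₀n : M₀.Normal := by
      have := h.hH
      have : (M.comap (QuotientGroup.mk' N)).Normal := Subgroup.Normal.comap hM _
      exact inferInstance
    have hinj : ∀ x ∈ M₀, (QuotientGroup.mk' N) x = 1 → x = 1 := by
      intro x hx hx1
      have : x ∈ N := (QuotientGroup.eq_one_iff _).1 hx1
      exact h.eq_one_of_mem (hN this) hx.2
    -- the restriction of the projection to `M₀` is an injective homomorphism into `M`
    let f : ↥M₀ →* ↥M :=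
      ((QuotientGroup.mk' N).comp M₀.subtype).codRestrict M (fun x => x.2.1)
    have hf : Function.Injective f := by
      rw [injective_iff_map_eq_one]
      intro x hx
      have h1 : (QuotientGroup.mk' N) (x : G) = 1 := congrArg Subtype.val hx
      exact Subtype.ext (hinj x x.2 h1)
    have hdvd : Nat.card ↥M₀ ∣ Nat.card ↥M := Subgroup.card_dvd_of_injective f hf
    have hM₀bot : M₀ = ⊥ := h.odd M₀ hM₀n inf_le_right (Odd.of_dvd_nat hodd hdvd)
    rw [eq_bot_iff]
    intro y hy
    obtain ⟨k, hk, rfl⟩ := hMH hy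
    have : k ∈ M₀ := ⟨hy, hk⟩
    rw [hM₀bot, Subgroup.mem_bot] at this
    rw [this, map_one]
    exact Subgroup.one_mem _
  · rw [eq_bot_iff]
    rintro y ⟨⟨a, ha, rfl⟩, ⟨k, hk, e⟩⟩
    have e' : (QuotientGroup.mk' N) (a⁻¹ * k) = 1 := by
      rw [map_mul, map_inv, e]
      group
    have h1 : a⁻¹ * k ∈ N := (QuotientGroup.eq_one_iff _).1 e'
    have h2 : k ∈ A := by
      have := A.mul_mem ha (hN h1)
      rwa [mul_inv_cancel_left] at this
    have h3 := h.eq_one_of_mem h2 hk
    rw [← e, h3, map_one]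
    exact Subgroup.one_mem _

theorem main_aux : ∀ n : ℕ, ∀ (G : Type u) [Group G] [Finite G] (T : Sylow 2 G)
    (A H : Subgroup G), Nat.card G = n → Hyp T A H →
    A ≤ Subgroup.centralizer (H : Set G) := by
  intro n
  induction n using Nat.strong_induction_on with
  | _ n ih =>
    intro G _ _ T A H hn h
    by_cases hA : A = ⊥
    · rw [hA]; exact bot_le
    obtain ⟨a, haA, ha2, hac⟩ := h.exists_involution hA
    set N : Subgroup G := A ⊓ Subgroup.centralizer (H : Set G) with hNdef
    haveI hNn : N.Normal := h.normal_inf_centralizer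
    have haN : a ∈ N := by
      refine Subgroup.mem_inf.2 ⟨haA, ?_⟩
      rw [Subgroup.mem_centralizer_iff]
      intro k hk
      exact hac k hk
    have hNne : N ≠ ⊥ := by
      intro hb
      rw [hb, Subgroup.mem_bot] at haN
      rw [haN, orderOf_one] at ha2
      omega
    have hlt : Nat.card (G ⧸ N) < n := by
      rw [← hn, Subgroup.card_eq_card_quotient_mul_card_subgroup N]
      have h1 : 1 < Nat.card N := (Subgroup.one_lt_card_iff_ne_bot N).2 hNne
      have h2 : 0 < Nat.card (G ⧸ N) := Nat.card_pos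
      nlinarith
    have hq := h.quotient N inf_le_left
    have hres := ih _ hlt (G ⧸ N) _ _ _ rfl hq
    intro x hx
    rw [Subgroup.mem_centralizer_iff]
    intro k hk
    have h1 : (QuotientGroup.mk' N) x ∈ Subgroup.centralizer
        ((H.map (QuotientGroup.mk' N) : Subgroup (G ⧸ N)) : Set (G ⧸ N)) :=
      hres ⟨x, hx, rfl⟩
    have h2 := Subgroup.mem_centralizer_iff.1 h1 _ ⟨k, hk, rfl⟩
    have h3 : (QuotientGroup.mk' N) (x * k * x⁻¹ * k⁻¹) = 1 := by
      rw [map_mul, map_mul, map_mul, map_inv, map_inv, ← h2]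
      group
    have h4 : x * k * x⁻¹ * k⁻¹ ∈ N := (QuotientGroup.eq_one_iff _).1 h3
    have h5 : x * k * x⁻¹ * k⁻¹ ∈ H :=
      H.mul_mem (h.hH.conj_mem k hk x) (H.inv_mem hk)
    have h6 := h.eq_one_of_mem h4.1 h5
    have h7 : x * k * x⁻¹ = k := mul_inv_eq_one.1 h6
    calc k * x = (x * k * x⁻¹) * x := by rw [h7]
      _ = x * k := by group

/-- **main lemma**: in the configuration `Hyp`, `A` centralizes `H` -/
theorem Hyp.le_centralizer [Finite G] (h : Hyp T A H) :
    A ≤ Subgroup.centralizer (H : Set G) :=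
  main_aux _ G T A H rfl h

end Cfsg.Agent.Helper15.StrongClosed
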