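import Mathlib
import Cfsg.Agent.Lib.Helper15.SylGen1

set_option autoImplicit false

/-!
# Subgroups generated by a few elements, bounded by an explicit list (helper15)
-/

namespace Cfsg.Agent.Helper15.SylGen

section

variable {Γ M : Type*} [Group Γ] [Finite Γ] [Monoid M] (ι : Γ →* M)
  {n N : ℕ} (gen : Fin n → Γ) (Lm : Fin N → M) (tbl : Fin n → Fin N → Fin N) (z : Fin N)

include tbl in
/-- every element of the subgroup generated by `gen` has its image in the list `Lm`, provided the
list contains `1` and is stable under left multiplication by the generators. -/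
theorem closure_subset_list (h0 : Lm z = 1) (h1 : ∀ k a, ι (gen k) * Lm a = Lm (tbl k a))
    (t : Γ) (ht : t ∈ Subgroup.closure (Set.range gen)) : ∃ a, ι t = Lm a := by
  have hpow : ∀ (k : Fin n) (j : ℕ) (y : Γ), (∃ a, ι y = Lm a) → ∃ b, ι (gen k ^ j * y) = Lm b := by
    intro k j
    induction j with
    | zero => intro y hy; simpa using hy
    | succ j ih =>
      intro y hy
      obtain ⟨b, hb⟩ := ih y hy
      refine ⟨tbl k b, ?_⟩
      rw [pow_succ', mul_assoc, map_mul, hb, h1]
  induction ht using Subgroup.closure_induction_left with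
  | one => exact ⟨z, by rw [map_one, h0]⟩
  | mul_left x hx y _ ih =>
    obtain ⟨k, rfl⟩ := hx
    have := hpow k 1 y ih
    simpa using this
  | inv_mul_cancel x hx y _ ih =>
    obtain ⟨k, rfl⟩ := hx
    have hfin : IsOfFinOrder (gen k) := isOfFinOrder_of_finite _
    have hinv : (gen k)⁻¹ = gen k ^ (orderOf (gen k) - 1) := by
      apply inv_eq_of_mul_eq_one_right
      rw [← pow_succ', Nat.sub_add_cancel hfin.orderOf_pos, pow_orderOf_eq_one]
    rw [hinv]
    exact hpow k _ y ih

end

section

variable {G : Type*} [Group G] [Finite G] {n N : ℕ} (σ : Fin n → G) (pm : Fin N → G)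
  (tbl : Fin n → Fin N → Fin N) (z : Fin N)

include tbl in
/-- the subgroup generated by `σ` is exactly the list `pm`. -/
theorem closure_eq_list (h0 : pm z = 1) (h1 : ∀ k a, σ k * pm a = pm (tbl k a))
    (h2 : ∀ a : Fin N, a ≠ z → ∃ k, ∃ a' : Fin N, a'.val < a.val ∧ pm a = σ k * pm a')
    (t : G) : t ∈ Subgroup.closure (Set.range σ) ↔ ∃ a, t = pm a := by
  constructor
  · intro ht
    exact closure_subset_list (MonoidHom.id G) σ pm tbl z h0 h1 t ht
  · rintro ⟨a, rfl⟩
    induction hn : a.val using Nat.strong_induction_on generalizing a with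
    | _ m ih =>
      by_cases haz : a = z
      · rw [haz, h0]; exact one_mem _
      · obtain ⟨k, a', hlt, he⟩ := h2 a haz
        rw [he]
        exact mul_mem (Subgroup.subset_closure ⟨k, rfl⟩) (ih a'.val (hn ▸ hlt) a' rfl)

include tbl in
theorem card_closure_list (h0 : pm z = 1) (h1 : ∀ k a, σ k * pm a = pm (tbl k a))
    (h2 : ∀ a : Fin N, a ≠ z → ∃ k, ∃ a' : Fin N, a'.val < a.val ∧ pm a = σ k * pm a')
    (h3 : Function.Injective pm) : Nat.card (Subgroup.closure (Set.range σ)) = N := by
  have hmem := closure_eq_list σ pm tbl z h0 h1 h2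
  let f : Fin N → Subgroup.closure (Set.range σ) := fun a => ⟨pm a, (hmem _).2 ⟨a, rfl⟩⟩
  have hf : Function.Bijective f := by
    constructor
    · intro a b hab
      exact h3 (congrArg Subtype.val hab)
    · rintro ⟨t, ht⟩
      obtain ⟨a, rfl⟩ := (hmem t).1 ht
      exact ⟨a, rfl⟩
  rw [← Nat.card_congr (Equiv.ofBijective f hf), Nat.card_eq_fintype_card, Fintype.card_fin]

end

end Cfsg.Agent.Helper15.SylGen
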