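import Mathlib
import Cfsg.Agent.Lib.Helper15.SylGen2

set_option autoImplicit false

/-!
# A Sylow 2-subgroup of `PSp₄(3)` acting on eight matrices: the permutation side (helper15)

Data produced by an external search; everything is re-checked by the kernel.
-/

namespace Cfsg.Agent.Helper15.Syl8A

/-- decode a permutation of `Fin 8` from its base-8 code. -/
def pf (c : ℕ) (i : Fin 8) : Fin 8 := Fin.ofNat 8 (c / 8 ^ i.val % 8)

def pmC : List ℕ := [16434824, 8629593, 1371874, 12297992, 4608499, 13122172, 4378073, 4032917, 1895124, 14834841, 3424162, 11367174, 7541807, 8745331, 13647466, 10985779, 6875708, 3507623, 3248042, 4346846, 727804, 10583321, 8185877, 3947412, 15618694, 7018557, 5161926, 13730927, 583933, 12153099, 3159471, 15122611, 13995618, 7401002, 8329748, 8890224, 10199371, 2722748, 10843952, 8483678, 1253098, 7660583, 10057544, 2037973, 13907047, 15649921, 9413446, 13207677, 5135809, 1107183, 14860958, 16404619,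 2636221, 14518868, 7806498, 4638704, 5947851, 15095472, 5920712, 1512679, 14432341, 11513089, 9272641, 10724126]

def ivL : List ℕ := [0, 11, 12, 3, 4, 7, 26, 5, 27, 24, 25, 1, 2, 13, 22, 15, 18, 20, 16, 19, 17, 46, 14, 47, 9, 10, 6, 8, 30, 36, 28, 31, 34, 33, 32, 38, 29, 37, 35, 39, 41, 40, 42, 44, 43, 45, 21, 23, 48, 49, 50, 51, 52, 53, 54, 55, 56, 57, 58, 59, 60, 61, 62, 63]

def tblL : List (List ℕ) := [[1, 4, 7, 9, 11, 2, 15, 12, 18, 13, 22, 0, 5, 26, 28, 24, 32, 34, 25, 38, 10, 31, 27, 33, 42, 44, 3, 20, 17, 50, 16, 46, 43, 47, 14, 48, 19, 54, 45, 55, 52, 53, 6, 30, 8, 36, 58, 59, 29, 37, 35, 39, 41, 40, 60, 61, 63, 62, 21, 23, 49, 51, 56, 57], [2, 5, 4, 10, 12, 11, 16, 1, 19, 20, 13, 7, 0, 27, 29, 30, 24, 35, 36, 25, 26, 37, 9, 39, 43, 45, 22, 3, 48, 17, 42, 49, 15, 51, 50, 14, 44, 46, 18, 47, 56, 57, 32, 6, 38, 8, 60, 61, 34, 58, 28, 59, 62, 63, 31, 33, 41, 40, 54, 55, 21, 23, 53, 52], [3, 6, 8, 0, 13, 14, 1, 17,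 2, 21, 23, 24, 25, 4, 5, 31, 33, 7, 37, 39, 40, 9, 41, 10, 11, 12, 46, 47, 49, 51, 52, 15, 53, 16, 54, 55, 56, 18, 57, 19, 20, 22, 58, 59, 60, 61, 26, 27, 62, 28, 63, 29, 30, 32, 34, 35, 36, 38, 42, 43, 44, 45, 48, 50]]

def parKL : List ℕ := [0, 0, 1, 2, 0, 1, 2, 0, 2, 0, 1, 0, 1, 2, 2, 0, 1, 2, 0, 1, 1, 2, 0, 2, 2, 2, 0, 1, 0, 1, 1, 2, 0, 2, 0, 1, 1, 2, 0, 2, 2, 2, 0, 1, 0, 1, 2, 2, 1, 2, 0, 2, 2, 2, 2, 2, 2, 2, 2, 2, 2, 2, 2, 2]

def parAL : List ℕ := [0, 0, 0, 0, 1, 1, 1, 2, 2, 3, 3, 4, 4, 4, 5, 6, 6, 7, 8, 8, 9, 9, 10, 10, 11, 12, 13, 13, 14, 14, 15, 15, 16, 16, 17, 17, 18, 18, 19, 19, 20, 22, 24, 24, 25, 25, 26, 27, 28, 28, 29, 29, 30, 32, 34, 35, 36, 38, 42, 43, 44, 45, 48, 50]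

def iv (a : Fin 64) : Fin 64 := Fin.ofNat 64 (ivL.getD a.val 0)

def tbl (k : Fin 3) (a : Fin 64) : Fin 64 := Fin.ofNat 64 ((tblL.getD k.val []).getD a.val 0)

def parK (a : Fin 64) : Fin 3 := Fin.ofNat 3 (parKL.getD a.val 0)

def parA (a : Fin 64) : Fin 64 := Fin.ofNat 64 (parAL.getD a.val 0)

def pc (a : Fin 64) : ℕ := pmC.getD a.val 0

set_option maxRecDepth 100000 in
lemma pf_inv : ∀ a : Fin 64, ∀ i : Fin 8, pf (pc (iv a)) (pf (pc a) i) = i := by decide +kernel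

set_option maxRecDepth 100000 in
lemma iv_iv : ∀ a : Fin 64, iv (iv a) = a := by decide +kernel

/-- the list of 64 permutations. -/
def pm (a : Fin 64) : Equiv.Perm (Fin 8) where
  toFun := pf (pc a)
  invFun := pf (pc (iv a))
  left_inv := pf_inv a
  right_inv i := by
    have h := pf_inv (iv a) i
    rwa [iv_iv] at h

/-- the three generators: elements number 1, 2, 3 of the list. -/
def sg (k : Fin 3) : Equiv.Perm (Fin 8) := pm (Fin.ofNat 64 (k.val + 1))

lemma pm_zero : pm 0 = 1 := by decide +kernel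

set_option maxRecDepth 100000 in
lemma sg_mul : ∀ (k : Fin 3) (a : Fin 64), sg k * pm a = pm (tbl k a) := by decide +kernel

set_option maxRecDepth 100000 in
lemma pm_par : ∀ a : Fin 64, a ≠ 0 →
    (parA a).val < a.val ∧ pm a = sg (parK a) * pm (parA a) := by decide +kernel

set_option maxRecDepth 100000 in
lemma pm_inj : ∀ a b : Fin 64, pm a = pm b → a = b := by decide +kernel

lemma sg_sign : ∀ k : Fin 3, Equiv.Perm.sign (sg k) = 1 := by decide +kernel

/-- the permutation group generated by the three generators has order 64. -/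
theorem card_R : Nat.card (Subgroup.closure (Set.range sg)) = 64 := by
  apply SylGen.card_closure_list sg pm tbl 0 pm_zero sg_mul
  · intro a ha
    exact ⟨parK a, parA a, (pm_par a ha).1, (pm_par a ha).2⟩
  · intro a b h
    exact pm_inj a b h

theorem R_le : Subgroup.closure (Set.range sg) ≤ alternatingGroup (Fin 8) := by
  rw [Subgroup.closure_le]
  rintro _ ⟨k, rfl⟩
  exact Equiv.Perm.mem_alternatingGroup.mpr (sg_sign k)

end Cfsg.Agent.Helper15.Syl8A
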