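import Mathlib
import Cfsg.Prelude.Def_Classical
import Cfsg.Agent.Lib.Helper15.Syl8A2

set_option autoImplicit false

/-!
# Sylow 2-subgroups of `PSp₄(3)` and of `A₈` are isomorphic: the model over `ZMod 3` (helper15)
-/

namespace Cfsg.Agent.Helper15.Syl8A

open Matrix

/-- the symplectic group over `ZMod 3`. -/
abbrev Γ3 : Submonoid (Matrix I4 I4 (ZMod 3)) := Matrix.symplecticGroup (Fin 2) (ZMod 3)

/-- the matrix of an element. -/
def ιM : Γ3 →* Matrix I4 I4 (ZMod 3) := Submonoid.subtype _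

lemma ιM_injective : Function.Injective ιM := Subtype.val_injective

/-- the generators as elements of the symplectic group. -/
def gG (k : Fin 3) : Γ3 := ⟨gM k, SymplecticGroup.mem_iff.mpr (gM_symp k)⟩

lemma ιM_gG (k : Fin 3) : ιM (gG k) = gM k := rfl

lemma Om_injective : Function.Injective Om := fun i j h => Om_inj i j h

/-- the stabiliser of the family of eight matrices. -/
abbrev NA : Subgroup Γ3 := SylGen.stabFam ιM Om

lemma gG_mem (k : Fin 3) : gG k ∈ NA :=
  ⟨sg k, fun i => by rw [ιM_gG]; exact gM_Om k i⟩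

/-- the generators inside the stabiliser. -/
def gN (k : Fin 3) : NA := ⟨gG k, gG_mem k⟩

/-- the 2-group of order 128. -/
def TN : Subgroup NA := Subgroup.closure (Set.range gN)

/-- the permutation representation. -/
noncomputable def ψ : NA →* Equiv.Perm (Fin 8) := SylGen.permHom ιM Om Om_injective

lemma ψ_gN (k : Fin 3) : ψ (gN k) = sg k :=
  SylGen.permHom_eq ιM Om Om_injective (gN k) (sg k) (fun i => by
    change ιM (gG k) * Om i = _
    rw [ιM_gG]; exact gM_Om k i)

lemma map_TN : TN.map ψ = Subgroup.closure (Set.range sg) := by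
  unfold TN
  rw [MonoidHom.map_closure]
  congr 1
  ext x
  constructor
  · rintro ⟨_, ⟨k, rfl⟩, rfl⟩
    exact ⟨k, (ψ_gN k).symm⟩
  · rintro ⟨k, rfl⟩
    exact ⟨gN k, ⟨k, rfl⟩, ψ_gN k⟩

lemma TN_list (t : NA) (ht : t ∈ TN) : ∃ a, ιM (t : Γ3) = Lm a := by
  have := SylGen.closure_subset_list (ιM.comp (Subgroup.subtype NA)) gN Lm gtbl 0 Lm_zero
    (fun k a => by
      change ιM (gG k) * Lm a = _
      rw [ιM_gG]; exact gM_mul k a) t ht
  exact this

/-- the restriction of `ψ` to the 2-group. -/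
noncomputable def β : TN →* Equiv.Perm (Fin 8) := ψ.comp TN.subtype

lemma β_range : β.range = Subgroup.closure (Set.range sg) := by
  rw [← map_TN]
  unfold β
  rw [MonoidHom.range_comp, Subgroup.range_subtype]

/-- the projection to `PSp₄(3)`. -/
def α : TN →* Cfsg.PSp 2 (ZMod 3) :=
  (QuotientGroup.mk' (Subgroup.center Γ3)).comp ((Subgroup.subtype NA).comp TN.subtype)

lemma central_of_pm (t : Γ3) (h : ιM t = 1 ∨ ιM t = -1) : t ∈ Subgroup.center Γ3 := by
  rw [Subgroup.mem_center_iff]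
  intro g
  apply ιM_injective
  rw [map_mul, map_mul]
  rcases h with h | h
  · rw [h, mul_one, one_mul]
  · rw [h, mul_neg, mul_one, neg_mul, one_mul]

lemma ker_α (t : TN) : t ∈ α.ker ↔ (ιM ((t : NA) : Γ3) = 1 ∨ ιM ((t : NA) : Γ3) = -1) := by
  rw [MonoidHom.mem_ker]
  change QuotientGroup.mk' (Subgroup.center Γ3) ((t : NA) : Γ3) = 1 ↔ _
  rw [QuotientGroup.mk'_apply, QuotientGroup.eq_one_iff]
  constructor
  · intro hc
    obtain ⟨a, ha⟩ := TN_list t.1 t.2
    rw [ha]
    apply Lm_central a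
    intro k
    have h := Subgroup.mem_center_iff.mp hc (gG k)
    have h2 := congrArg ιM h
    rw [map_mul, map_mul, ιM_gG, ha] at h2
    exact h2.symm
  · exact central_of_pm _

lemma ker_β (t : TN) : t ∈ β.ker ↔ (ιM ((t : NA) : Γ3) = 1 ∨ ιM ((t : NA) : Γ3) = -1) := by
  rw [MonoidHom.mem_ker]
  change ψ (t : NA) = 1 ↔ _
  unfold ψ
  rw [SylGen.permHom_eq_one_iff]
  constructor
  · intro h
    obtain ⟨a, ha⟩ := TN_list t.1 t.2
    rw [ha] at h ⊢
    exact Lm_comm a h
  · rintro (h | h) i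
    · rw [h, mul_one, one_mul]
    · rw [h, mul_neg, mul_one, neg_mul, one_mul]

/-- the Sylow 2-subgroup of `PSp₄(ZMod 3)` is isomorphic to the permutation group. -/
theorem range_equiv : Nonempty (α.range ≃* Subgroup.closure (Set.range sg)) := by
  have h : α.ker = β.ker := by
    ext t
    rw [ker_α, ker_β]
  obtain ⟨e⟩ := SylGen.range_equiv_of_ker_eq α β h
  exact ⟨e.trans (MulEquiv.subgroupCongr β_range)⟩

end Cfsg.Agent.Helper15.Syl8A
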