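import Mathlib
import Cfsg.Prelude.Def_Classical
import Cfsg.Agent.Lib.Helper15.Syl8A3
import Cfsg.Agent.S0245
import Cfsg.Agent.S0246
import Cfsg.Agent.S0247

set_option autoImplicit false

/-!
# Sylow 2-subgroups of `PSp₄(3)` and of `A₈` are isomorphic: transport to an abstract field
(helper15)
-/

namespace Cfsg.Agent.Helper15.Syl8A

open Matrix

lemma map_center_equiv {G H : Type*} [Group G] [Group H] (f : G ≃* H) :
    (Subgroup.center G).map (f : G →* H) = Subgroup.center H := by
  ext y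
  constructor
  · rintro ⟨x, hx, rfl⟩
    rw [Subgroup.mem_center_iff]
    intro h
    obtain ⟨g, rfl⟩ := f.surjective h
    have := Subgroup.mem_center_iff.mp hx g
    change f g * f x = f x * f g
    rw [← map_mul, ← map_mul, this]
  · intro hy
    refine ⟨f.symm y, ?_, f.apply_symm_apply y⟩
    rw [SetLike.mem_coe, Subgroup.mem_center_iff]
    intro g
    apply f.injective
    rw [map_mul, map_mul, f.apply_symm_apply]
    exact Subgroup.mem_center_iff.mp hy (f g)

lemma not_dvd_card_alt8 : ¬ 2 ^ (6 + 1) ∣ Nat.card (alternatingGroup (Fin 8)) := by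
  rw [nat_card_alternatingGroup, Nat.card_eq_fintype_card, Fintype.card_fin]
  decide

lemma card_PSp {F : Type*} [Field F] [Fintype F] (hF : Fintype.card F = 3) :
    Nat.card (Cfsg.PSp 2 F) = 25920 := by
  have h1 := Cfsg.Agent.S0245.result hF 2
  have h2 := Cfsg.Agent.S0246.result hF 2 (by norm_num)
  have h3 := Subgroup.card_eq_card_quotient_mul_card_subgroup
    (Subgroup.center (Matrix.symplecticGroup (Fin 2) F))
  rw [h1, h2] at h3
  norm_num [Finset.prod_range_succ] at h3
  change Nat.card (Matrix.symplecticGroup (Fin 2) F ⧸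
    Subgroup.center (Matrix.symplecticGroup (Fin 2) F)) = 25920
  omega

theorem partA (F : Type) [Field F] [Fintype F] (hF : Fintype.card F = 3)
    (P : Sylow 2 ↥(alternatingGroup (Fin 8))) (Q : Sylow 2 (Cfsg.PSp 2 F)) :
    Nonempty (↥(P : Subgroup ↥(alternatingGroup (Fin 8))) ≃* ↥(Q : Subgroup (Cfsg.PSp 2 F))) := by
  have : Fact (Nat.Prime 2) := ⟨Nat.prime_two⟩
  let e : ZMod 3 ≃+* F := ZMod.ringEquivOfPrime F Nat.prime_three hF
  let f : Γ3 ≃* Matrix.symplecticGroup (Fin 2) F := Cfsg.Agent.S0247.spMapEquiv e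
  let j : Cfsg.PSp 2 (ZMod 3) ≃* Cfsg.PSp 2 F :=
    QuotientGroup.congr (Subgroup.center Γ3) (Subgroup.center (Matrix.symplecticGroup (Fin 2) F)) f
      (map_center_equiv f)
  obtain ⟨e0⟩ := range_equiv
  -- the subgroup of `A₈`
  let R := Subgroup.closure (Set.range sg)
  let B : Subgroup (alternatingGroup (Fin 8)) := R.subgroupOf (alternatingGroup (Fin 8))
  have eB : B ≃* R := Subgroup.subgroupOfEquivOfLe R_le
  -- the subgroup of `PSp₄(F)`
  let A : Subgroup (Cfsg.PSp 2 F) := α.range.map (j : Cfsg.PSp 2 (ZMod 3) →* Cfsg.PSp 2 F)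
  have eA : α.range ≃* A := Subgroup.equivMapOfInjective α.range _ j.injective
  have e1 : B ≃* A := eB.trans (e0.symm.trans eA)
  have hcard : Nat.card B = 2 ^ 6 := by
    rw [Nat.card_congr eB.toEquiv, card_R]; norm_num
  have hH : ¬ 2 ^ (6 + 1) ∣ Nat.card (Cfsg.PSp 2 F) := by
    rw [card_PSp hF]; decide
  exact SylGen.sylow_iso_of_sub 2 6 B A e1 hcard not_dvd_card_alt8 hH P Q

end Cfsg.Agent.Helper15.Syl8A
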