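import Mathlib
import Cfsg.Agent.Lib.Helper15.Syl8B1

set_option autoImplicit false

/-!
# A Sylow 2-subgroup of `O⁻₆(2)` acting on eight reflections: order of the permutation group
(helper15)
-/

namespace Cfsg.Agent.Helper15.Syl8B

lemma pm_zero : pm 0 = 1 := by decide +kernel

set_option maxRecDepth 100000 in
lemma sg_mul : ∀ (k : Fin 3) (a : Fin 128), sg k * pm a = pm (tbl k a) := by decide +kernel

set_option maxRecDepth 100000 in
lemma pm_par : ∀ a : Fin 128, a ≠ 0 →
    (parA a).val < a.val ∧ pm a = sg (parK a) * pm (parA a) := by decide +kernel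

set_option maxRecDepth 100000 in
lemma pm_inj : ∀ a b : Fin 128, pm a = pm b → a = b := by decide +kernel

/-- the permutation group generated by the three generators has order 128. -/
theorem card_R : Nat.card (Subgroup.closure (Set.range sg)) = 128 := by
  apply SylGen.card_closure_list sg pm tbl 0 pm_zero sg_mul
  · intro a ha
    exact ⟨parK a, parA a, (pm_par a ha).1, (pm_par a ha).2⟩
  · intro a b h
    exact pm_inj a b h

end Cfsg.Agent.Helper15.Syl8B
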