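import Mathlib
import Cfsg.Prelude.Def_Classical
import Cfsg.Agent.Lib.Helper15.Syl8B2

set_option autoImplicit false

/-!
# A Sylow 2-subgroup of `O⁻₆(2)` acting on eight reflections: the matrix side (helper15)
-/

namespace Cfsg.Agent.Helper15.Syl8B

open Matrix

abbrev I6 := (Fin 2 ⊕ Fin 2) ⊕ Fin 2

/-- position of an index. -/
def ix : I6 → ℕ
  | .inl (.inl i) => i.val
  | .inl (.inr i) => 2 + i.val
  | .inr i => 4 + i.val

/-- decode a matrix over `𝔽₂` from its code: entry `(i, j)` is bit `6 j + i`. -/
def mat (c : ℕ) : Matrix I6 I6 (ZMod 2) := fun i j => if c.testBit (6 * ix j + ix i) then 1 else 0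

def LC : List ℕ := [34630287489, 17718853761, 19912986756, 34831616677, 36824420484, 30603758245, 58157849220, 17920181909, 19761994391, 11651406468, 47515190933, 27160746647, 58161976964, 55707531905, 37210298023, 30805086141, 58812158103, 11655534212, 60992354945, 44609050279, 47716519869, 53527335063, 55711790721, 19899604868, 55640420517, 10963541931, 27546620495, 58816286887, 60996613761, 36811038596, 56697385125, 14134435755, 44458054223, 53531463847, 55643652005, 34629022273, 55644680341, 10967670683, 61193679470, 52839471939, 19748608683, 56700616613, 17717588545, 56701644949, 14138564507, 68592431726, 14788746051, 27147360939, 55639392149, 58809836119, 34833447781, 55710759613, 61197939294, 37196912283, 56898714438, 52843599683, 34830351022, 56696356757, 53525013079, 30605589349, 60995582653, 68596691550, 44595664539, 68525325126, 14792873795, 30602492590, 58813964903, 55706498749, 19762801495, 17922013013, 58155526799, 56901942138, 17918916254, 56902973254, 27533237583, 34632118406, 53529141863, 60991321789, 27161553751, 47517022037, 11649084047, 68528552826, 47513925278, 68529583942, 44444671311,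 17720684678, 19747285867, 58159654543, 37211105127, 30803819901, 19913793667, 56897681274, 52837149512, 30806917050, 61196909934, 27146038123, 11653211791, 44609857383, 47715253629, 36825227395, 68524291962, 14786423624, 47718350778, 68595662190, 37195589467, 34830584686, 19898281859, 10961218923, 52841277256, 61192650078, 27547427400, 44594341723, 30602726254, 36809715587, 14132112747, 14790551368, 68591402334, 44458861128, 17919149918, 10965347675, 34629255750, 27531914568, 47514158942, 14136241499, 17717822022, 44443348296, 30804053370, 47715487098]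

def omC : List ℕ := [34630275204, 34629763855, 52883968129, 58258374807, 35184070785, 35277783207, 19912999041, 27533762241]

/-- the list of 128 matrices. -/
def Lm (a : Fin 128) : Matrix I6 I6 (ZMod 2) := mat (LC.getD a.val 0)

/-- the eight reflections. -/
def Om (i : Fin 8) : Matrix I6 I6 (ZMod 2) := mat (omC.getD i.val 0)

/-- the three generators. -/
def gM (k : Fin 3) : Matrix I6 I6 (ZMod 2) := Lm (Fin.ofNat 128 (k.val + 1))

/-- the quadratic form. -/
abbrev Q2 : (I6 → ZMod 2) → ZMod 2 := Cfsg.quadFormMinus 2 (ZMod 2) 1 1

lemma Lm_zero : Lm 0 = 1 := by decide +kernel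

set_option maxRecDepth 100000 in
lemma gM_mul : ∀ (k : Fin 3) (a : Fin 128), gM k * Lm a = Lm (tbl k a) := by decide +kernel

lemma gM_sq : ∀ k : Fin 3, gM k * gM k = 1 := by decide +kernel

set_option maxRecDepth 100000 in
lemma gM_Q : ∀ (k : Fin 3) (u : I6 → ZMod 2), Q2 (gM k *ᵥ u) = Q2 u := by decide +kernel

lemma gM_Om : ∀ (k : Fin 3) (i : Fin 8), gM k * Om i = Om (sg k i) * gM k := by decide +kernel

set_option maxRecDepth 100000 in
lemma Lm_comm : ∀ a : Fin 128, (∀ i : Fin 8, Lm a * Om i = Om i * Lm a) → a = 0 := by
  decide +kernel

lemma Om_inj : ∀ i j : Fin 8, Om i = Om j → i = j := by decide +kernel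

end Cfsg.Agent.Helper15.Syl8B
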