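import Mathlib
import Cfsg.Prelude.Def_Classical
import Cfsg.Agent.Lib.Helper15.Syl8B3
import Cfsg.Agent.Lib.Helper13.IsomFieldMap
import Cfsg.Agent.Lib.Helper2.OrthOrders

set_option autoImplicit false

/-!
# Sylow 2-subgroups of `O⁻₆(2)` and of `S₈` are isomorphic (helper15)
-/

namespace Cfsg.Agent.Helper15.Syl8B

open Matrix

/-- the isometry group over `ZMod 2`. -/
abbrev Γ2 : Subgroup (GL I6 (ZMod 2)) := Cfsg.isometryGroup (ZMod 2) Q2

/-- the matrix of an element. -/
def ιM : Γ2 →* Matrix I6 I6 (ZMod 2) := (Units.coeHom _).comp (Subgroup.subtype _)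

lemma ιM_injective : Function.Injective ιM := by
  intro a b h
  exact Subtype.ext (Units.ext h)

/-- the generators as elements of the isometry group. -/
def gG (k : Fin 3) : Γ2 :=
  ⟨⟨gM k, gM k, gM_sq k, gM_sq k⟩, by
    rw [Cfsg.Agent.Helper13.mem_isometryGroup_iff]
    exact gM_Q k⟩

lemma ιM_gG (k : Fin 3) : ιM (gG k) = gM k := rfl

lemma Om_injective : Function.Injective Om := fun i j h => Om_inj i j h

/-- the stabiliser of the family of eight reflections. -/
abbrev NB : Subgroup Γ2 := SylGen.stabFam ιM Om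

lemma gG_mem (k : Fin 3) : gG k ∈ NB :=
  ⟨sg k, fun i => by rw [ιM_gG]; exact gM_Om k i⟩

/-- the generators inside the stabiliser. -/
def gN (k : Fin 3) : NB := ⟨gG k, gG_mem k⟩

/-- the 2-group. -/
def TN : Subgroup NB := Subgroup.closure (Set.range gN)

/-- the permutation representation. -/
noncomputable def ψ : NB →* Equiv.Perm (Fin 8) := SylGen.permHom ιM Om Om_injective

lemma ψ_gN (k : Fin 3) : ψ (gN k) = sg k :=
  SylGen.permHom_eq ιM Om Om_injective (gN k) (sg k) (fun i => by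
    change ιM (gG k) * Om i = _
    rw [ιM_gG]; exact gM_Om k i)

lemma map_TN : TN.map ψ = Subgroup.closure (Set.range sg) := by
  unfold TN
  rw [MonoidHom.map_closure]
  congr 1
  ext x
  constructor
  · rintro ⟨_, ⟨k, rfl⟩, rfl⟩
    exact ⟨k, (ψ_gN k).symm⟩
  · rintro ⟨k, rfl⟩
    exact ⟨gN k, ⟨k, rfl⟩, ψ_gN k⟩

lemma TN_list (t : NB) (ht : t ∈ TN) : ∃ a, ιM (t : Γ2) = Lm a := by
  have := SylGen.closure_subset_list (ιM.comp (Subgroup.subtype NB)) gN Lm tbl 0 Lm_zero
    (fun k a => by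
      change ιM (gG k) * Lm a = _
      rw [ιM_gG]; exact gM_mul k a) t ht
  exact this

/-- the restriction of `ψ` to the 2-group. -/
noncomputable def β : TN →* Equiv.Perm (Fin 8) := ψ.comp TN.subtype

lemma β_injective : Function.Injective β := by
  rw [injective_iff_map_eq_one]
  intro t ht
  have h1 : ∀ i, ιM ((t : NB) : Γ2) * Om i = Om i * ιM ((t : NB) : Γ2) :=
    (SylGen.permHom_eq_one_iff ιM Om Om_injective (t : NB)).mp ht
  obtain ⟨a, ha⟩ := TN_list t.1 t.2
  rw [ha] at h1
  have h2 := Lm_comm a h1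
  rw [h2, Lm_zero] at ha
  have h3 : ((t : NB) : Γ2) = 1 := ιM_injective (by rw [ha, map_one])
  exact Subtype.ext (Subtype.ext h3)

lemma β_range : β.range = Subgroup.closure (Set.range sg) := by
  rw [← map_TN]
  unfold β
  rw [MonoidHom.range_comp, Subgroup.range_subtype]

end Cfsg.Agent.Helper15.Syl8B
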