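import Mathlib
import Cfsg.Prelude.Def_Classical
import Cfsg.Agent.Lib.Helper15.Syl8B4

set_option autoImplicit false

/-!
# Sylow 2-subgroups of `O⁻₆(2)` and of `S₈` are isomorphic: transport to an abstract field
(helper15)
-/

namespace Cfsg.Agent.Helper15.Syl8B

open Matrix

lemma not_dvd_card_perm8 : ¬ 2 ^ (7 + 1) ∣ Nat.card (Equiv.Perm (Fin 8)) := by
  rw [Nat.card_perm, Nat.card_eq_fintype_card, Fintype.card_fin]
  decide

lemma zmod2_cases : ∀ y : ZMod 2, y = 0 ∨ y = 1 := by decide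

lemma zmod2_two : (2 : ZMod 2) = 0 := by decide

theorem partB (K : Type) [Field K] [Fintype K] (hK : Fintype.card K = 2) (a b : K)
    (hab : ∀ z₁ z₂ : K, z₁ ^ 2 + a * z₁ * z₂ + b * z₂ ^ 2 = 0 → z₁ = 0 ∧ z₂ = 0)
    (P' : Sylow 2 (Equiv.Perm (Fin 8)))
    (Q' : Sylow 2 ↥(Cfsg.isometryGroup K (Cfsg.quadFormMinus 2 K a b))) :
    Nonempty (↥(P' : Subgroup (Equiv.Perm (Fin 8))) ≃*
      ↥(Q' : Subgroup ↥(Cfsg.isometryGroup K (Cfsg.quadFormMinus 2 K a b)))) := by
  have : Fact (Nat.Prime 2) := ⟨Nat.prime_two⟩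
  let e : ZMod 2 ≃+* K := ZMod.ringEquivOfPrime K Nat.prime_two hK
  have h01 : ∀ x : K, x = 0 ∨ x = 1 := by
    intro x
    have hx : x = e (e.symm x) := (e.apply_symm_apply x).symm
    rcases zmod2_cases (e.symm x) with h | h
    · left; rw [hx, h, map_zero]
    · right; rw [hx, h, map_one]
  have h2 : (2 : K) = 0 := by
    have h := congrArg e zmod2_two
    rwa [map_ofNat, map_zero] at h
  have hb : b = 1 := by
    rcases h01 b with h | h
    · exfalso
      have := (hab 0 1 (by rw [h]; ring)).2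
      exact one_ne_zero this
    · exact h
  have ha : a = 1 := by
    rcases h01 a with h | h
    · exfalso
      have := (hab 1 1 (by rw [h, hb]; linear_combination h2)).1
      exact one_ne_zero this
    · exact h
  subst ha hb
  have hQ : ∀ u : I6 → ZMod 2,
      Cfsg.quadFormMinus 2 K 1 1 (fun i => e (u i)) = e (Q2 u) := by
    intro u
    have := Cfsg.Agent.Helper13.quadFormMinus_map e 2 1 1 u
    rwa [map_one] at this
  let f : Γ2 ≃* Cfsg.isometryGroup K (Cfsg.quadFormMinus 2 K 1 1) :=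
    Cfsg.Agent.Helper13.isomMapEquiv e Q2 (Cfsg.quadFormMinus 2 K 1 1) hQ
  let φ : TN →* Cfsg.isometryGroup K (Cfsg.quadFormMinus 2 K 1 1) :=
    f.toMonoidHom.comp ((Subgroup.subtype NB).comp TN.subtype)
  have hφ : Function.Injective φ := by
    intro x y h
    have h1 := f.injective h
    exact Subtype.ext (Subtype.ext h1)
  have e1 : TN ≃* φ.range := MonoidHom.ofInjective hφ
  have e2 : TN ≃* β.range := MonoidHom.ofInjective β_injective
  have e3 : β.range ≃* φ.range := e2.symm.trans e1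
  have hcard : Nat.card β.range = 2 ^ 7 := by rw [β_range, card_R]; norm_num
  have hG := not_dvd_card_perm8
  have hH : ¬ 2 ^ (7 + 1) ∣ Nat.card (Cfsg.isometryGroup K (Cfsg.quadFormMinus 2 K 1 1)) := by
    rw [Cfsg.Agent.Helper2.Orth.card_minus 1 1 hab 2, hK]
    norm_num [Finset.prod_range_succ]
  exact SylGen.sylow_iso_of_sub 2 7 β.range φ.range e3 hcard hG hH P' Q'

end Cfsg.Agent.Helper15.Syl8B
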