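import Mathlib
import Cfsg.Prelude.Def_LieTypeChar
import Cfsg.Agent.Lib.Helper14.SylAbDefs
import Cfsg.Agent.Lib.Helper2.SzSylow
import Cfsg.Agent.Lib.Helper2.SzBridge

/-!
# S4625 piece SZ (helper15 for helper14): `Good (Sz(q))`, `q = 2^(2m+1) ≥ 8`.

The unipotent subgroup `Q = {S(a,b)}` is a Sylow 2-subgroup; squares `S(a,b)² = S(0, a^θ a)` are central, and
the centre of `Q` equals its derived subgroup (`TData.center_eq_commutator`).
-/

set_option autoImplicit false
set_option linter.unusedSectionVars false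
set_option linter.unusedVariables false

namespace Cfsg.Agent.Helper14.SylAb

open Cfsg
open Cfsg.Agent.Helper2.Sz
open scoped commutatorElement

/-- the matrix model of the Suzuki group is `Good` -/
theorem sylabsz_good_model (F : Type*) [Field F] [Fintype F] (m : ℕ) (hm : 1 ≤ m)
    (hF : Fintype.card F = 2 ^ (2 * m + 1)) : Good (Cfsg.Sz F m) := by
  obtain ⟨S⟩ := nonempty_szData (m := m) hF
  refine ⟨S.QSz, S.isPGroup_QSz hF, S.not_two_dvd_index_QSz hm hF, ?_⟩
  intro x hx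
  have h3 : (commutator S.QSz).map S.QSz.subtype = ⁅S.QSz, S.QSz⁆ := by
    rw [commutator_def, Subgroup.map_commutator, ← MonoidHom.range_eq_map, Subgroup.range_subtype]
  rw [← h3]
  refine ⟨(⟨x, hx⟩ : S.QSz) ^ 2, ?_, rfl⟩
  rw [SetLike.mem_coe, ← S.tdataQ.center_eq_commutator hF hm]
  obtain ⟨a, b, hab⟩ := S.tdataQ.surj ⟨x, hx⟩
  rw [hab, S.tdataQ.sq]
  exact (S.tdataQ.mem_center_iff hF hm _ _).2 rfl

/-- PIECE SZ -/
theorem good_Sz (F : Type*) [Field F] [Fintype F] (m : ℕ) (hm : 1 ≤ m)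
    (hF : Fintype.card F = 2 ^ (2 * m + 1)) : Good (Lie.Sz F (2 ^ (m + 1))) := by
  obtain ⟨e⟩ := nonempty_bridge (F := F) hm hF
  exact good_of_mulEquiv e.symm (sylabsz_good_model F m hm hF)

end Cfsg.Agent.Helper14.SylAb
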