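import Mathlib
import Cfsg.Prelude.Def_LieTypeChar
import Cfsg.Agent.Lib.Helper14.SylAbDefs
import Cfsg.Agent.Lib.Helper2.D4ISURJ
import Cfsg.Agent.Lib.Lead.TwD4Order

/-!
# S4625 piece TWD4 (helper15 for helper14): `Good (³D₄(q))`, `q` even.

`U¹ = U ⊓ ³D₄(q)` has order `q^12` (a 2-group of odd index by the order formula), and by the twisted normal form
it is generated by the twisted root elements, all of which are involutions.
-/

set_option autoImplicit false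
set_option linter.unusedSectionVars false
set_option linter.unusedVariables false

namespace Cfsg.Agent.Helper14.SylAb

open Cfsg Cfsg.Lie Cfsg.Agent.Lead.Chev Cfsg.Agent.Lead.Tw Cfsg.Agent.Helper11.D4I

/-- a prime power `q` with `q ^ 3 = |K|`, `K` of characteristic two, is a power of two -/
theorem sylabtwd4_q_two_pow (K : Type*) [Field K] [Fintype K] [CharP K 2] (q : ℕ) (hq : IsPrimePow q)
    (hK : Fintype.card K = q ^ 3) : ∃ k : ℕ, q = 2 ^ k := by
  obtain ⟨p, k, hp, hk, rfl⟩ := hq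
  have hp' : Nat.Prime p := hp.nat_prime
  obtain ⟨n, -, hn⟩ := FiniteField.card K 2
  rw [hK] at hn
  have h1 : p ∣ 2 ^ (n : ℕ) := by
    rw [← hn]
    exact dvd_pow (dvd_pow_self p hk.ne') (by norm_num)
  have h2 : p ∣ 2 := hp'.dvd_of_dvd_pow h1
  have h3 : p = 2 := (Nat.prime_dvd_prime_iff_eq hp' Nat.prime_two).1 h2
  exact ⟨k, by rw [h3]⟩

/-- the odd part of the order formula of `³D₄(2^k)` -/
theorem sylabtwd4_odd (k : ℕ) (hk : 0 < k) :
    ¬ 2 ∣ ((2 ^ k) ^ 2 - 1) * ((2 ^ k) ^ 6 - 1) * ((2 ^ k) ^ 8 + (2 ^ k) ^ 4 + 1) := by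
  have he : Even (2 ^ k) := (Nat.even_pow' hk.ne').2 even_two
  have hpos : ∀ j : ℕ, 0 < j → Odd ((2 ^ k) ^ j - 1) := by
    intro j hj
    have h1 : Even ((2 ^ k) ^ j) := (Nat.even_pow' hj.ne').2 he
    have h2 : 1 ≤ (2 ^ k) ^ j := Nat.one_le_pow _ _ (by positivity)
    exact Nat.Even.sub_odd h2 h1 odd_one
  have h3 : Odd ((2 ^ k) ^ 8 + (2 ^ k) ^ 4 + 1) := by
    have h1 : Even ((2 ^ k) ^ 8) := (Nat.even_pow' (by norm_num)).2 he
    have h2 : Even ((2 ^ k) ^ 4) := (Nat.even_pow' (by norm_num)).2 he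
    exact (h1.add h2).add_one
  have h4 : Odd (((2 ^ k) ^ 2 - 1) * ((2 ^ k) ^ 6 - 1) * ((2 ^ k) ^ 8 + (2 ^ k) ^ 4 + 1)) :=
    ((hpos 2 (by norm_num)).mul (hpos 6 (by norm_num))).mul h3
  rw [← even_iff_two_dvd, Nat.not_even_iff_odd]
  exact h4

/-- PIECE TWD4 -/
theorem good_twistedD4 (K : Type*) [Field K] [Fintype K] [CharP K 2] (q : ℕ) (hq : IsPrimePow q)
    (hK : Fintype.card K = q ^ 3) : Good (Lie.twistedD4 K q) := by
  classical
  have hq1 : 1 < q := hq.one_lt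
  obtain ⟨k, rfl⟩ := sylabtwd4_q_two_pow K q hq hK
  have hk : 0 < k := by
    rcases Nat.eq_zero_or_pos k with h | h
    · rw [h] at hq1; norm_num at hq1
    · exact h
  obtain ⟨f, hf⟩ := exists_frob3 hK
  have hcU : Nat.card ↥(chevD4.posUnipotent K ⊓ twistedD4 K (2 ^ k)) = (2 ^ k) ^ 12 := D4.card_U hq1 hK f hf
  have hcG := D4.card_group hq1 hK f hf
  have hfin : Finite ↥(twistedD4 K (2 ^ k)) := inferInstance
  -- the Sylow 2-subgroup
  set U : Subgroup ↥(twistedD4 K (2 ^ k)) :=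
    (chevD4.posUnipotent K ⊓ twistedD4 K (2 ^ k)).subgroupOf (twistedD4 K (2 ^ k)) with hU
  have hcU' : Nat.card U = 2 ^ (k * 12) := by
    rw [hU, Nat.card_congr (Subgroup.subgroupOfEquivOfLe inf_le_right).toEquiv, hcU, pow_mul]
  -- the generating set of involutions
  set S : Set ↥(twistedD4 K (2 ^ k)) := {s | (s : GL chevD4.Idx K) ∈ chevD4.posUnipotent K ∧ s ^ 2 = 1} with hS
  have hcl : Subgroup.closure S = U := by
    apply le_antisymm
    · rw [Subgroup.closure_le]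
      intro s hs
      rw [SetLike.mem_coe, hU, Subgroup.mem_subgroupOf]
      exact ⟨hs.1, s.2⟩
    · intro x hx
      rw [hU, Subgroup.mem_subgroupOf] at hx
      obtain ⟨t1, u2, t3, t4, u5, u6, h2, h5, h6, hx'⟩ := exists_NFtw hK f hf (x : GL chevD4.Idx K) hx
      have hmem : ∀ (g : GL chevD4.Idx K) (hg : g ∈ twistedD4 K (2 ^ k)), g ∈ chevD4.posUnipotent K → g * g = 1 →
          (⟨g, hg⟩ : ↥(twistedD4 K (2 ^ k))) ∈ Subgroup.closure S := by
        intro g hg hgU hgg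
        apply Subgroup.subset_closure
        refine ⟨hgU, ?_⟩
        apply Subtype.ext
        rw [pow_two]
        exact hgg
      have hX : ∀ (r : ℕ) (u : K), X r u * X r u = 1 := by
        intro r u
        rw [X_mul, CharTwo.add_self_eq_zero, X_zero]
      have e : x = ⟨xa f t1, xa_mem hK f hf t1⟩ * (⟨xb u2, xb_mem hK f hf u2 h2⟩ * (⟨xab f t3, xab_mem hK f hf t3⟩ *
          (⟨x2ab f t4, x2ab_mem hK f hf t4⟩ * (⟨x3ab u5, x3ab_mem hK f hf u5 h5⟩ *
            ⟨x3a2b u6, x3a2b_mem hK f hf u6 h6⟩)))) := by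
        apply Subtype.ext
        rw [hx']
        rfl
      rw [e]
      refine Subgroup.mul_mem _ (hmem _ _ (xa_posU f t1) (xa_sq f t1)) (Subgroup.mul_mem _
        (hmem _ _ (xb_posU u2) (hX 14 u2)) (Subgroup.mul_mem _ (hmem _ _ (xab_posU f t3) (xab_sq f t3))
        (Subgroup.mul_mem _ (hmem _ _ (x2ab_posU f t4) (x2ab_sq f t4)) (Subgroup.mul_mem _
        (hmem _ _ (x3ab_posU u5) (hX 22 u5)) (hmem _ _ (x3a2b_posU u6) (hX 23 u6))))))
  refine good_of_closure_invol S (fun s hs => hs.2) ?_ ?_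
  · rw [hcl]
    exact IsPGroup.of_card hcU'
  · rw [hcl]
    refine not_dvd_index_of_card U (k * 12)
      (((2 ^ k) ^ 2 - 1) * ((2 ^ k) ^ 6 - 1) * ((2 ^ k) ^ 8 + (2 ^ k) ^ 4 + 1)) hcU' ?_ (sylabtwd4_odd k hk)
    rw [hcG, pow_mul]
    ring

end Cfsg.Agent.Helper14.SylAb
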