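import Mathlib
import Cfsg.Agent.Lib.Helper17.Sym4Defs
import Cfsg.Agent.Lib.Helper12.Sym4E
import Cfsg.Agent.Lib.Helper13.SemisimpleCharpoly
import Cfsg.Agent.Lib.Helper23.Sym4P34

set_option autoImplicit false

/-!
# Piece Q3 of S6000 (helper15): elements of the normaliser of the standard group with a prescribed
characteristic polynomial
-/

namespace Cfsg.Agent.Helper15.Sym4Q3

open Matrix Polynomial Module Cfsg.Agent.Helper17.Sym4 Cfsg.Agent.Helper13.SS

open scoped Classical

variable {F : Type*} [Field F]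

/-- characteristic polynomial and kernel dimensions for an element killed by a product of two
distinct monic irreducible polynomials -/
theorem charpoly_two_factor (x : GL (Fin 4) F) (f g : F[X]) (hf : Irreducible f)
    (hg : Irreducible g) (hfm : f.Monic) (hgm : g.Monic) (hne : f ≠ g)
    (hx : aeval (L x) (f * g) = 0) :
    (x : Matrix (Fin 4) (Fin 4) F).charpoly =
        f ^ (kdim (L x) f / f.natDegree) * g ^ (kdim (L x) g / g.natDegree) ∧
      kdim (L x) f + kdim (L x) g = 4 := by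
  have hirr : ∀ h ∈ ({f, g} : Finset F[X]), Irreducible h := by
    intro h hh
    rcases Finset.mem_insert.1 hh with rfl | hh
    · exact hf
    · rw [Finset.mem_singleton.1 hh]; exact hg
  have hmon : ∀ h ∈ ({f, g} : Finset F[X]), h.Monic := by
    intro h hh
    rcases Finset.mem_insert.1 hh with rfl | hh
    · exact hfm
    · rw [Finset.mem_singleton.1 hh]; exact hgm
  have hx' : aeval (L x) (∏ h ∈ ({f, g} : Finset F[X]), h) = 0 := by
    rw [Finset.prod_pair hne]; exact hx
  constructor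
  · have h1 := charpoly_eq_prod ({f, g} : Finset F[X]) hirr hmon (L x) hx'
    rw [Finset.prod_pair hne] at h1
    rw [← h1]
    unfold L
    rw [Matrix.charpoly_toLin']
  · have h2 := finrank_eq_sum_kdim (L x) ({f, g} : Finset F[X])
      (pairwise_coprime_of_monic_irreducible _ hirr hmon) hx'
    rw [Finset.sum_pair hne, Module.finrank_fin_fun] at h2
    exact h2.symm

theorem charpoly_eq_of_kdim (x y : GL (Fin 4) F) (f g : F[X]) (hf : Irreducible f)
    (hg : Irreducible g) (hfm : f.Monic) (hgm : g.Monic) (hne : f ≠ g)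
    (hx : aeval (L x) (f * g) = 0) (hy : aeval (L y) (f * g) = 0)
    (hk : kdim (L y) f = kdim (L x) f) :
    (y : Matrix (Fin 4) (Fin 4) F).charpoly = (x : Matrix (Fin 4) (Fin 4) F).charpoly := by
  obtain ⟨c1, s1⟩ := charpoly_two_factor x f g hf hg hfm hgm hne hx
  obtain ⟨c2, s2⟩ := charpoly_two_factor y f g hf hg hfm hgm hne hy
  have hk2 : kdim (L y) g = kdim (L x) g := by omega
  rw [c1, c2, hk, hk2]

/-- if the kernel of `x - w` is everything, `x` is the scalar `w` -/
theorem eq_smul_of_kdim (x : GL (Fin 4) F) (w : F) (h : kdim (L x) (X - C w) = 4) :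
    (x : Matrix (Fin 4) (Fin 4) F) = w • 1 := by
  unfold kdim at h
  have htop : LinearMap.ker (aeval (L x) (X - C w)) = ⊤ := by
    apply Submodule.eq_top_of_finrank_eq
    rw [h, Module.finrank_fin_fun]
  have h0 : aeval (L x) (X - C w) = 0 := LinearMap.ker_eq_top.mp htop
  rw [map_sub, aeval_X, aeval_C, sub_eq_zero] at h0
  apply Matrix.toLin'.injective
  show L x = _
  rw [h0, map_smul, Matrix.toLin'_one]
  rfl

theorem kdim_eq_four_of_aeval (x : GL (Fin 4) F) (P : F[X]) (h : aeval (L x) P = 0) :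
    kdim (L x) P = 4 := by
  unfold kdim
  rw [h, LinearMap.ker_zero, finrank_top, Module.finrank_fin_fun]

theorem aeval_L (x : GL (Fin 4) F) (P : F[X]) :
    aeval (L x) P = Matrix.toLin' (aeval (x : Matrix (Fin 4) (Fin 4) F) P) := by
  unfold L
  exact (Polynomial.aeval_algHom_apply (Matrix.toLinAlgEquiv' : Matrix (Fin 4) (Fin 4) F ≃ₐ[F] _).toAlgHom
    (x : Matrix (Fin 4) (Fin 4) F) P).symm ▸ rfl

theorem sc_comm (u : Fˣ) (h : GL (Fin 4) F) : sc u * h = h * sc u := by
  apply Units.ext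
  rw [Units.val_mul, Units.val_mul, sc_val, Matrix.smul_mul, Matrix.mul_smul, Matrix.one_mul,
    Matrix.mul_one]

theorem sc_mem_normalizer (i u : Fˣ) :
    sc u ∈ Subgroup.normalizer (R0 i : Set (GL (Fin 4) F)) := by
  rw [Subgroup.mem_normalizer_iff]
  intro h
  rw [sc_comm, mul_inv_cancel_right]

theorem sc_pow (u : Fˣ) (n : ℕ) : (sc u : GL (Fin 4) F) ^ n = sc (u ^ n) := by
  induction n with
  | zero =>
    apply Units.ext
    rw [pow_zero, pow_zero, sc_val, Units.val_one, Units.val_one, one_smul]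
  | succ n ih =>
    rw [pow_succ, pow_succ, ih]
    apply Units.ext
    rw [Units.val_mul, sc_val, sc_val, sc_val, Matrix.smul_mul, Matrix.one_mul, smul_smul,
      Units.val_mul]

theorem two_ne_zero_of_char {p : ℕ} [Fact p.Prime] [CharP F p] (hp2 : p ≠ 2) : (2 : F) ≠ 0 := by
  intro h
  have h1 : ((2 : ℕ) : F) = 0 := by exact_mod_cast h
  rw [CharP.cast_eq_zero_iff F p] at h1
  have hp : p.Prime := Fact.out
  exact hp2 ((Nat.prime_dvd_prime_iff_eq hp Nat.prime_two).mp h1)

/-- the data common to the cases `r = 3` and `r = 5` -/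
theorem prime_order_data (r : ℕ) [hr : Fact r.Prime] (_hirr : Irreducible (cyclotomic r F))
    (hdeg : 2 ≤ (cyclotomic r F).natDegree) (x : GL (Fin 4) F) (hxr : x ^ r = 1) :
    aeval (L x) ((X - C (1 : F)) * cyclotomic r F) = 0 ∧ (X - C (1 : F)) ≠ cyclotomic r F := by
  constructor
  · rw [map_one, mul_comm, cyclotomic_prime_mul_X_sub_one]
    exact (pow_eq_one_iff x r).mp hxr
  · intro h
    have := congrArg natDegree h
    rw [natDegree_X_sub_C] at this
    omega

theorem kdim_one_ne_four (x : GL (Fin 4) F) (hx1 : x ≠ 1) : kdim (L x) (X - C (1 : F)) ≠ 4 := by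
  intro h
  apply hx1
  apply Units.ext
  rw [eq_smul_of_kdim x 1 h, one_smul, Units.val_one]

theorem exists_normalizer_charpoly_five {F : Type*} [Field F] [Fintype F] {p : ℕ} [Fact p.Prime]
    [CharP F p] (hF : Fintype.card F = p) (hp2 : p ≠ 2) (hp5 : orderOf (p : ZMod 5) = 4)
    (i : Fˣ) (hi : (i : F) ^ 2 = -1) (x : GL (Fin 4) F) (hx5 : x ^ 5 = 1) (hx1 : x ≠ 1) :
    ∃ y : GL (Fin 4) F, y ∈ Subgroup.normalizer (R0 i : Set (GL (Fin 4) F)) ∧
      (y : Matrix (Fin 4) (Fin 4) F).charpoly = (x : Matrix (Fin 4) (Fin 4) F).charpoly ∧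
      y ^ 5 = 1 := by
  have : Fact (Nat.Prime 5) := ⟨by norm_num⟩
  have h2 : (2 : F) ≠ 0 := two_ne_zero_of_char hp2
  obtain ⟨y5, hN, ⟨c, hc⟩, hns⟩ := Cfsg.Agent.Helper12.Sym4E.exists_y5 i hi h2
  -- `c` is a unit
  have hc0 : c ≠ 0 := by
    intro h0
    have h1 : ((y5 ^ 5 * (y5 ^ 5)⁻¹ : GL (Fin 4) F) : Matrix (Fin 4) (Fin 4) F) = 1 := by
      rw [mul_inv_cancel, Units.val_one]
    rw [Units.val_mul, hc, h0, zero_smul, Matrix.zero_mul] at h1
    exact zero_ne_one h1
  -- fifth roots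
  have hcop : (Nat.card Fˣ).Coprime 5 := by
    rw [Nat.card_eq_fintype_card, Fintype.card_units, hF]
    apply Nat.Coprime.symm
    rw [Nat.Prime.coprime_iff_not_dvd (by norm_num : Nat.Prime 5)]
    intro hd
    have hp : p.Prime := Fact.out
    have h1 : ((p : ℕ) : ZMod 5) = 1 := by
      obtain ⟨k, hk⟩ := hd
      have : p = 5 * k + 1 := by have := hp.two_le; omega
      rw [this, Nat.cast_add, Nat.cast_mul, ZMod.natCast_self, zero_mul, zero_add, Nat.cast_one]
    rw [h1, orderOf_one] at hp5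
    norm_num at hp5
  obtain ⟨u, hu⟩ := (powCoprime hcop).surjective (Units.mk0 c hc0)⁻¹
  have hu5 : u ^ 5 = (Units.mk0 c hc0)⁻¹ := hu
  have hy5 : (sc u * y5) ^ 5 = 1 := by
    have hcm : Commute (sc u) y5 := sc_comm u y5
    rw [hcm.mul_pow, sc_pow, hu5]
    apply Units.ext
    rw [Units.val_mul, hc, sc_val, Matrix.smul_mul, Matrix.one_mul, smul_smul, Units.val_one,
      Units.val_inv_eq_inv_val, Units.val_mk0, inv_mul_cancel₀ hc0, one_smul]
  have hy1 : sc u * y5 ≠ 1 := by
    intro h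
    have h1 : y5 = sc u⁻¹ := by
      have := congrArg (fun t => sc u⁻¹ * t) h
      simp only [mul_one] at this
      rw [← this, ← mul_assoc]
      have e : (sc u⁻¹ : GL (Fin 4) F) * sc u = 1 := by
        apply Units.ext
        rw [Units.val_mul, sc_val, sc_val, Matrix.smul_mul, Matrix.one_mul, smul_smul,
          ← Units.val_mul, inv_mul_cancel, Units.val_one, one_smul, Units.val_one]
      rw [e, one_mul]
    exact hns _ (by rw [h1, sc_val])
  have hirr := Cfsg.Agent.Helper23.Sym4P34.irreducible_cyclotomic_five hF hp5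
  have hdeg : (cyclotomic 5 F).natDegree = 4 := by
    rw [natDegree_cyclotomic]; rfl
  obtain ⟨ax, hne⟩ := prime_order_data 5 hirr (by rw [hdeg]; norm_num) x hx5
  obtain ⟨ay, -⟩ := prime_order_data 5 hirr (by rw [hdeg]; norm_num) (sc u * y5) hy5
  have key : ∀ g : GL (Fin 4) F, g ^ 5 = 1 → g ≠ 1 → kdim (L g) (X - C (1 : F)) = 0 := by
    intro g hg hg1
    obtain ⟨ag, -⟩ := prime_order_data 5 hirr (by rw [hdeg]; norm_num) g hg
    obtain ⟨-, hs⟩ := charpoly_two_factor g _ _ (irreducible_X_sub_C 1) hirr (monic_X_sub_C 1)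
      (cyclotomic.monic 5 F) hne ag
    have hd := dvd_kdim (L g) _ hirr
    rw [hdeg] at hd
    have h4 := kdim_one_ne_four g hg1
    obtain ⟨k, hk⟩ := hd
    omega
  refine ⟨sc u * y5, mul_mem (sc_mem_normalizer i u) hN, ?_, hy5⟩
  apply charpoly_eq_of_kdim x (sc u * y5) _ _ (irreducible_X_sub_C 1) hirr (monic_X_sub_C 1)
    (cyclotomic.monic 5 F) hne ax ay
  rw [key x hx5 hx1, key _ hy5 hy1]

theorem exists_normalizer_charpoly_three {F : Type*} [Field F] [Fintype F] {p : ℕ}
    [Fact p.Prime] [CharP F p] (hF : Fintype.card F = p) (hp2 : p ≠ 2) (hp3 : p % 3 = 2)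
    (i : Fˣ) (hi : (i : F) ^ 2 = -1) (x : GL (Fin 4) F) (hx3 : x ^ 3 = 1) (hx1 : x ≠ 1) :
    ∃ y : GL (Fin 4) F, y ∈ Subgroup.normalizer (R0 i : Set (GL (Fin 4) F)) ∧
      (y : Matrix (Fin 4) (Fin 4) F).charpoly = (x : Matrix (Fin 4) (Fin 4) F).charpoly ∧
      y ^ 3 = 1 := by
  have : Fact (Nat.Prime 3) := ⟨by norm_num⟩
  have h2 : (2 : F) ≠ 0 := two_ne_zero_of_char hp2
  have hirr := Cfsg.Agent.Helper23.Sym4P34.irreducible_cyclotomic_three hF hp3
  have hdeg : (cyclotomic 3 F).natDegree = 2 := by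
    rw [natDegree_cyclotomic]; rfl
  obtain ⟨ax, hne⟩ := prime_order_data 3 hirr (by rw [hdeg]) x hx3
  -- the possible kernel dimensions
  have key : ∀ g : GL (Fin 4) F, g ^ 3 = 1 → g ≠ 1 →
      kdim (L g) (X - C (1 : F)) = 0 ∨ kdim (L g) (X - C (1 : F)) = 2 := by
    intro g hg hg1
    obtain ⟨ag, -⟩ := prime_order_data 3 hirr (by rw [hdeg]) g hg
    obtain ⟨-, hs⟩ := charpoly_two_factor g _ _ (irreducible_X_sub_C 1) hirr (monic_X_sub_C 1)
      (cyclotomic.monic 3 F) hne ag
    have hd := dvd_kdim (L g) _ hirr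
    rw [hdeg] at hd
    have h4 := kdim_one_ne_four g hg1
    obtain ⟨k, hk⟩ := hd
    omega
  rcases key x hx3 hx1 with hk | hk
  · -- `y0`
    obtain ⟨y, hN, hq⟩ := Cfsg.Agent.Helper12.Sym4E.exists_y0 i hi h2
    set M := (y : Matrix (Fin 4) (Fin 4) F) with hM
    have hM2 : M * M = -M - 1 := by
      rw [← sub_eq_zero, ← hq]; abel
    have hy3 : y ^ 3 = 1 := by
      apply Units.ext
      rw [Units.val_pow_eq_pow_val, Units.val_one, ← hM, pow_succ, pow_two, hM2, sub_mul, neg_mul,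
        hM2, one_mul]
      abel
    have hcyc : aeval (L y) (cyclotomic 3 F) = 0 := by
      have e : aeval (y : Matrix (Fin 4) (Fin 4) F) (cyclotomic 3 F) = M * M + M + 1 := by
        rw [cyclotomic_three]
        simp only [map_add, map_pow, aeval_X, map_one]
        rw [pow_two]
      rw [aeval_L, e, hq, map_zero]
    obtain ⟨ay, -⟩ := prime_order_data 3 hirr (by rw [hdeg]) y hy3
    have hk2 := kdim_eq_four_of_aeval y _ hcyc
    obtain ⟨-, hs⟩ := charpoly_two_factor y _ _ (irreducible_X_sub_C 1) hirr (monic_X_sub_C 1)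
      (cyclotomic.monic 3 F) hne ay
    refine ⟨y, hN, ?_, hy3⟩
    apply charpoly_eq_of_kdim x y _ _ (irreducible_X_sub_C 1) hirr (monic_X_sub_C 1)
      (cyclotomic.monic 3 F) hne ax ay
    omega
  · -- `y1`
    obtain ⟨y, hN, hy3, hy1, v, hv0, hv⟩ := Cfsg.Agent.Helper12.Sym4E.exists_y1 i hi h2
    obtain ⟨ay, -⟩ := prime_order_data 3 hirr (by rw [hdeg]) y hy3
    have hpos : 0 < kdim (L y) (X - C (1 : F)) := by
      unfold kdim
      rw [Module.finrank_pos_iff_exists_ne_zero]
      refine ⟨⟨v, ?_⟩, ?_⟩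
      · have e : aeval (L y) (X - C (1 : F)) = L y - 1 := by
          rw [map_sub, aeval_X, map_one, map_one]
        rw [LinearMap.mem_ker, e, LinearMap.sub_apply, Module.End.one_apply]
        unfold L
        rw [Matrix.toLin'_apply, hv, sub_self]
      · intro h
        exact hv0 (congrArg Subtype.val h)
    refine ⟨y, hN, ?_, hy3⟩
    apply charpoly_eq_of_kdim x y _ _ (irreducible_X_sub_C 1) hirr (monic_X_sub_C 1)
      (cyclotomic.monic 3 F) hne ax ay
    rcases key y hy3 hy1 with h | h <;> omega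

end Cfsg.Agent.Helper15.Sym4Q3
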