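import Mathlib
import Cfsg.Agent.Lib.Helper20.TCDefs

/-!
# S3104 piece ISO16 (helper15 for helper20): two elementary abelian groups of order 16 are isomorphic.
-/

set_option autoImplicit false
set_option linter.style.haveILetI false

namespace Cfsg.Agent.Helper20.TC

open Cfsg Cfsg.Agent.Helper20.GL4Sub
open scoped Pointwise

/-- PIECE ISO16. -/
theorem iso_of_isE16 {V V' : Type*} [Group V] [Group V'] (h : IsE16 V) (h' : IsE16 V') :
    Nonempty (V ≃* V') := by
  obtain ⟨hc, he, hn⟩ := h
  obtain ⟨hc', he', hn'⟩ := h'
  haveI : Finite V := Nat.finite_of_card_ne_zero (by rw [hn]; norm_num)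
  haveI : Finite V' := Nat.finite_of_card_ne_zero (by rw [hn']; norm_num)
  letI : CommGroup V := { (inferInstance : Group V) with mul_comm := hc }
  letI : CommGroup V' := { (inferInstance : Group V') with mul_comm := hc' }
  have h2 : ∀ x : Additive V, 2 • x = 0 := by
    intro x
    show Additive.ofMul (x.toMul ^ 2) = 0
    rw [he]
    rfl
  have h2' : ∀ x : Additive V', 2 • x = 0 := by
    intro x
    show Additive.ofMul (x.toMul ^ 2) = 0
    rw [he']
    rfl
  letI : Module (ZMod 2) (Additive V) := AddCommGroup.zmodModule h2
  letI : Module (ZMod 2) (Additive V') := AddCommGroup.zmodModule h2'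
  haveI : Finite (Additive V) := inferInstanceAs (Finite V)
  haveI : Finite (Additive V') := inferInstanceAs (Finite V')
  have hcard : Nat.card (Additive V) = 16 := hn
  have hcard' : Nat.card (Additive V') = 16 := hn'
  have hz : Nat.card (ZMod 2) = 2 := by simp
  have hfr : Module.finrank (ZMod 2) (Additive V) = 4 := by
    have := Module.natCard_eq_pow_finrank (K := ZMod 2) (V := Additive V)
    rw [hcard, hz] at this
    have h4 : (2 : ℕ) ^ 4 = 2 ^ Module.finrank (ZMod 2) (Additive V) := by rw [← this]; norm_num
    exact (Nat.pow_right_injective (le_refl 2) h4).symm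
  have hfr' : Module.finrank (ZMod 2) (Additive V') = 4 := by
    have := Module.natCard_eq_pow_finrank (K := ZMod 2) (V := Additive V')
    rw [hcard', hz] at this
    have h4 : (2 : ℕ) ^ 4 = 2 ^ Module.finrank (ZMod 2) (Additive V') := by rw [← this]; norm_num
    exact (Nat.pow_right_injective (le_refl 2) h4).symm
  have e : Additive V ≃ₗ[ZMod 2] Additive V' := LinearEquiv.ofFinrankEq _ _ (by rw [hfr, hfr'])
  exact ⟨{ toFun := fun v => (e (Additive.ofMul v)).toMul
           invFun := fun v => (e.symm (Additive.ofMul v)).toMul
           left_inv := fun v => by simp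
           right_inv := fun v => by simp
           map_mul' := fun a b => by
             show (e (Additive.ofMul a + Additive.ofMul b)).toMul = _
             rw [map_add]
             rfl }⟩

end Cfsg.Agent.Helper20.TC
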