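import Mathlib
import Cfsg.Agent.Lib.Helper20.TCDefs

/-!
# S3104 piece PAIRCONJ (helper15 for helper20): pair stabilizers in `A8` are conjugate.
-/

set_option autoImplicit false

namespace Cfsg.Agent.Helper20.TC

open Cfsg Cfsg.Agent.Helper20.GL4Sub
open scoped Pointwise

namespace PAIRCONJ

theorem exists_two (k l : Fin 8) : ∃ a b : Fin 8, a ≠ b ∧ a ≠ k ∧ a ≠ l ∧ b ≠ k ∧ b ≠ l := by
  revert k l
  decide

/-- an even permutation with `i ↦ k`, `j ↦ l` -/
theorem exists_even (i j k l : Fin 8) (hij : i ≠ j) (hkl : k ≠ l) :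
    ∃ σ : Equiv.Perm (Fin 8), Equiv.Perm.sign σ = 1 ∧ σ i = k ∧ σ j = l := by
  -- first an arbitrary permutation
  obtain ⟨σ, h1, h2⟩ : ∃ σ : Equiv.Perm (Fin 8), σ i = k ∧ σ j = l := by
    let σ₁ : Equiv.Perm (Fin 8) := Equiv.swap i k
    have hj' : σ₁ j ≠ k := by
      intro h
      have : σ₁ j = σ₁ i := by rw [h]; exact (Equiv.swap_apply_left i k).symm
      exact hij (σ₁.injective this).symm
    refine ⟨Equiv.swap (σ₁ j) l * σ₁, ?_, ?_⟩
    · rw [Equiv.Perm.mul_apply]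
      show Equiv.swap (σ₁ j) l (Equiv.swap i k i) = k
      rw [Equiv.swap_apply_left]
      exact Equiv.swap_apply_of_ne_of_ne hj'.symm hkl
    · rw [Equiv.Perm.mul_apply]
      exact Equiv.swap_apply_left _ _
  rcases Int.units_eq_one_or (Equiv.Perm.sign σ) with hs | hs
  · exact ⟨σ, hs, h1, h2⟩
  · obtain ⟨a, b, hab, hak, hal, hbk, hbl⟩ := exists_two k l
    refine ⟨Equiv.swap a b * σ, ?_, ?_, ?_⟩
    · rw [Equiv.Perm.sign_mul, Equiv.Perm.sign_swap hab, hs]
      rfl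
    · rw [Equiv.Perm.mul_apply, h1]
      exact Equiv.swap_apply_of_ne_of_ne hak.symm hbk.symm
    · rw [Equiv.Perm.mul_apply, h2]
      exact Equiv.swap_apply_of_ne_of_ne hal.symm hbl.symm

theorem mem_pairStab (i j : Fin 8) (x : A8) :
    x ∈ pairStab i j ↔ ∀ b : Fin 8, (x : Equiv.Perm (Fin 8)) b ∈ ({i, j} : Set (Fin 8)) ↔
      b ∈ ({i, j} : Set (Fin 8)) := by
  unfold pairStab
  rw [Subgroup.mem_subgroupOf, MulAction.mem_stabilizer_set]
  rfl

end PAIRCONJ

/-- PIECE PAIRCONJ. -/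
theorem pairStab_conj (i j k l : Fin 8) (hij : i ≠ j) (hkl : k ≠ l) :
    ∃ g : A8, (pairStab i j).map (MulAut.conj g).toMonoidHom = pairStab k l := by
  obtain ⟨σ, hs, h1, h2⟩ := PAIRCONJ.exists_even i j k l hij hkl
  let g : A8 := ⟨σ, Equiv.Perm.mem_alternatingGroup.mpr hs⟩
  have hg : ∀ b : Fin 8, ((g : A8) : Equiv.Perm (Fin 8)) b = σ b := fun b => rfl
  -- `σ` maps `{i, j}` onto `{k, l}`
  have hmap : ∀ b : Fin 8, σ b ∈ ({k, l} : Set (Fin 8)) ↔ b ∈ ({i, j} : Set (Fin 8)) := by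
    intro b
    simp only [Set.mem_insert_iff, Set.mem_singleton_iff]
    constructor
    · rintro (h | h)
      · left; exact σ.injective (h.trans h1.symm)
      · right; exact σ.injective (h.trans h2.symm)
    · rintro (h | h)
      · left; rw [h, h1]
      · right; rw [h, h2]
  refine ⟨g, ?_⟩
  ext x
  rw [Subgroup.mem_map, PAIRCONJ.mem_pairStab]
  constructor
  · rintro ⟨y, hy, rfl⟩
    rw [PAIRCONJ.mem_pairStab] at hy
    intro b
    have hconj : (((MulAut.conj g).toMonoidHom y : A8) : Equiv.Perm (Fin 8)) b =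
        σ ((y : Equiv.Perm (Fin 8)) (σ.symm b)) := rfl
    rw [hconj, hmap, hy, ← hmap, Equiv.apply_symm_apply]
  · intro hx
    refine ⟨g⁻¹ * x * g, ?_, ?_⟩
    · rw [PAIRCONJ.mem_pairStab]
      intro b
      have hconj : ((g⁻¹ * x * g : A8) : Equiv.Perm (Fin 8)) b =
          σ.symm ((x : Equiv.Perm (Fin 8)) (σ b)) := rfl
      rw [hconj, ← hmap, Equiv.apply_symm_apply, hx, hmap]
    · show g * (g⁻¹ * x * g) * g⁻¹ = x
      group

end Cfsg.Agent.Helper20.TC
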