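import Mathlib

/-!
# S4118 piece GSOLV (helper15): `G = O N` with `O` normal solvable and `N` solvable is solvable
-/

set_option autoImplicit false

namespace Cfsg.Agent.Helper2.TIH

open Cfsg

universe u

section PartA

variable {G : Type*} [Group G] [Finite G] (H : Subgroup G)

set_option linter.unusedSectionVars false in
theorem solvable_of_sup_eq_top (O N : Subgroup G) [O.Normal] (hO : Group.IsSolvable O)
    (hN : Group.IsSolvable N) (h : O ⊔ N = ⊤) : Group.IsSolvable G := by
  have hsurj : Function.Surjective ((QuotientGroup.mk' O).comp N.subtype) := by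
    intro q
    obtain ⟨g, rfl⟩ := QuotientGroup.mk'_surjective O q
    have hg : g ∈ O ⊔ N := by rw [h]; exact Subgroup.mem_top g
    have hg' : g ∈ ((O ⊔ N : Subgroup G) : Set G) := hg
    rw [Subgroup.normal_mul] at hg'
    obtain ⟨a, ha, b, hb, rfl⟩ := Set.mem_mul.mp hg'
    refine ⟨⟨b, hb⟩, ?_⟩
    simp only [MonoidHom.coe_comp, Function.comp_apply, Subgroup.subtype_apply,
      QuotientGroup.mk'_apply]
    rw [QuotientGroup.eq]
    have hn := ‹O.Normal›.conj_mem a⁻¹ (O.inv_mem ha) b⁻¹
    have e : b⁻¹ * (a * b) = (b⁻¹ * a⁻¹ * b⁻¹⁻¹)⁻¹ := by group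
    rw [e]
    exact O.inv_mem hn
  have hQ : Group.IsSolvable (G ⧸ O) := Group.isSolvable_of_surjective hsurj
  exact Group.isSolvable_of_ker_le_range O.subtype (QuotientGroup.mk' O)
    (by rw [QuotientGroup.ker_mk', Subgroup.range_subtype])

end PartA

end Cfsg.Agent.Helper2.TIH
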