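import Mathlib
import Cfsg.Agent.Lib.Helper2.TIHDefs

/-!
# S4118 piece HALL (helper15): a TI subgroup that is Hall in its normalizer is Hall in the group
-/

set_option autoImplicit false

namespace Cfsg.Agent.Helper2.TIH

open Cfsg

universe u

section PartA

variable {G : Type*} [Group G] [Finite G] (H : Subgroup G)

omit [Finite G] in
/-- the normalizer of a nontrivial subgroup of a TI subgroup lies in the normalizer of the TI subgroup -/
theorem HALL.normalizer_le' (hTI : IsTISubset (H : Set G)) (P : Subgroup G) (hP : P ≤ H) (hP1 : P ≠ ⊥) :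
    Subgroup.normalizer (P : Set G) ≤ Subgroup.normalizer (H : Set G) := by
  intro g hg
  by_contra hgH
  apply hP1
  rw [Subgroup.eq_bot_iff_forall]
  intro x hx
  refine hTI g hgH x (hP hx) (hP ?_)
  have := (Subgroup.mem_normalizer_iff.mp hg x).mp hx
  exact this

theorem hall (hTI : IsTISubset (H : Set G))
    (hHall : (Nat.card H).Coprime (H.subgroupOf (Subgroup.normalizer (H : Set G))).index) :
    (Nat.card H).Coprime H.index := by
  by_contra hnc
  obtain ⟨p, hp, hpH, hpI⟩ := Nat.Prime.not_coprime_iff_dvd.mp hnc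
  have : Fact p.Prime := ⟨hp⟩
  have hHpos : Nat.card H ≠ 0 := Nat.card_pos.ne'
  set n := (Nat.card H).factorization p with hn
  obtain ⟨P0⟩ : Nonempty (Sylow p H) := inferInstance
  have hP0card : Nat.card (P0 : Subgroup H) = p ^ n := Sylow.card_eq_multiplicity P0
  set P : Subgroup G := (P0 : Subgroup H).map H.subtype with hPdef
  have hPcard : Nat.card P = p ^ n := by
    rw [hPdef, Subgroup.card_map_of_injective H.subtype_injective, hP0card]
  have hPH : P ≤ H := by
    rw [hPdef]
    exact (Subgroup.map_le_range _ _).trans (le_of_eq H.range_subtype)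
  have hn1 : 1 ≤ n := by
    have := (hp.dvd_iff_one_le_factorization hHpos).mp hpH
    exact this
  have hP1 : P ≠ ⊥ := by
    intro h
    have h1 : Nat.card P = 1 := by rw [h]; exact Subgroup.card_bot
    rw [hPcard] at h1
    have : 1 < p ^ n := Nat.one_lt_pow (by omega) hp.one_lt
    omega
  have hNle := HALL.normalizer_le' H hTI P hPH hP1
  -- `p ^ (n+1)` divides `|G|`
  have hpnH : p ^ n ∣ Nat.card H := Nat.ordProj_dvd _ _
  have hG : p ^ (n + 1) ∣ Nat.card G := by
    rw [← Subgroup.card_mul_index H, pow_succ]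
    exact Nat.mul_dvd_mul hpnH hpI
  have hNP : p ^ (n + 1) ∣ Nat.card (Subgroup.normalizer (P : Set G)) :=
    Sylow.prime_pow_dvd_card_normalizer hG hPcard
  have hNH : p ^ (n + 1) ∣ Nat.card (Subgroup.normalizer (H : Set G)) :=
    hNP.trans (Subgroup.card_dvd_of_le hNle)
  -- `|N_G(H)| = |H| * [N_G(H) : H]`
  have hcardN : Nat.card (Subgroup.normalizer (H : Set G)) =
      Nat.card H * (H.subgroupOf (Subgroup.normalizer (H : Set G))).index := by
    rw [← Subgroup.card_mul_index (H.subgroupOf (Subgroup.normalizer (H : Set G)))]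
    congr 1
    exact Nat.card_congr (Subgroup.subgroupOfEquivOfLe (H := H) Subgroup.le_normalizer).toEquiv
  rw [hcardN] at hNH
  have hcop : (p ^ (n + 1)).Coprime (H.subgroupOf (Subgroup.normalizer (H : Set G))).index := by
    apply Nat.Coprime.pow_left
    exact Nat.Coprime.coprime_dvd_left hpH hHall
  have hdvd : p ^ (n + 1) ∣ Nat.card H := hcop.dvd_of_dvd_mul_right hNH
  exact Nat.pow_succ_factorization_not_dvd hHpos hp hdvd

end PartA

end Cfsg.Agent.Helper2.TIH
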