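import Mathlib
import Cfsg.Agent.Lib.Helper5.TLDefs
import Cfsg.Agent.Lib.Helper26.TLR

/-!
# S4441, piece A, the linear algebra core (helper15, for helper5's skeleton)

`M` a free `ℤ_p`-lattice, `T` an endomorphism with `T ^ (p - 1) ≡ 1` modulo `p`.  Every `w ∉ p M`
yields an eigenvector `v₁ ∉ p M` of `T` modulo `p` (eigenvalue `a`) together with a functional `μ`
with `μ ∘ T ≡ a μ` and `μ v₁ ≡ 1` modulo `p`.
-/

set_option autoImplicit false
set_option linter.unusedSectionVars false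
set_option linter.unusedVariables false
set_option linter.style.haveILetI false

namespace Cfsg.Agent.Helper5.TL

open scoped Padic
open Polynomial
open Cfsg.Agent.Helper26.TLR

variable (p : ℕ) [hp : Fact p.Prime]

/-- `∏_{k<p} (T - k) = T^p - T` over `ZMod p` -/
theorem sa_prod_zmod :
    ∏ k ∈ Finset.range p, (X - C ((k : ℕ) : ZMod p)) = (X ^ p - X : (ZMod p)[X]) := by
  have h1lt : 1 < p := hp.out.one_lt
  have hroots : (X ^ p - X : (ZMod p)[X]).roots = Finset.univ.val := by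
    have := FiniteField.roots_X_pow_card_sub_X (ZMod p)
    rwa [ZMod.card] at this
  have hdeg : (X ^ p - X : (ZMod p)[X]).natDegree = p :=
    FiniteField.X_pow_card_sub_X_natDegree_eq (ZMod p) h1lt
  have hmonic : (X ^ p - X : (ZMod p)[X]).Monic := by
    apply monic_X_pow_sub
    rw [degree_X]
    exact_mod_cast h1lt
  have hcard : Multiset.card (X ^ p - X : (ZMod p)[X]).roots =
      (X ^ p - X : (ZMod p)[X]).natDegree := by
    rw [hroots, hdeg]
    simp [ZMod.card]
  have h2 := prod_multiset_X_sub_C_of_monic_of_roots_card_eq hmonic hcard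
  rw [hroots] at h2
  rw [← h2]
  change _ = ∏ a : ZMod p, (X - C a)
  refine Finset.prod_bij (fun k _ => ((k : ℕ) : ZMod p)) (fun _ _ => Finset.mem_univ _) ?_ ?_
    (fun _ _ => rfl)
  · intro a ha b hb hab
    rw [Finset.mem_range] at ha hb
    have := (ZMod.natCast_eq_natCast_iff' a b p).1 hab
    rwa [Nat.mod_eq_of_lt ha, Nat.mod_eq_of_lt hb] at this
  · intro b _
    exact ⟨b.val, Finset.mem_range.2 (ZMod.val_lt b), ZMod.natCast_zmod_val b⟩

theorem sa_prod_zmod' :
    ∏ k ∈ Finset.range p, (X - ((k : ℕ) : (ZMod p)[X])) = (X ^ p - X : (ZMod p)[X]) := by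
  rw [← sa_prod_zmod p]
  refine Finset.prod_congr rfl fun k _ => ?_
  rw [C_eq_natCast]

/-- `∏_{k<p} (T - k) = T^p - T + p h` in `ℤ[T]`. -/
theorem sa_poly_prod : ∃ h : ℤ[X],
    ∏ k ∈ Finset.range p, (X - ((k : ℕ) : ℤ[X])) = X ^ p - X + C (p : ℤ) * h := by
  have key : C (p : ℤ) ∣ ∏ k ∈ Finset.range p, (X - ((k : ℕ) : ℤ[X])) - (X ^ p - X) := by
    apply C_dvd_of_map_eq_zero
    simp only [Polynomial.map_sub, Polynomial.map_pow, Polynomial.map_X, Polynomial.map_prod,
      Polynomial.map_natCast]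
    rw [sa_prod_zmod', sub_self]
  obtain ⟨h, hh⟩ := key
  exact ⟨h, by rw [← hh]; ring⟩

section Core

variable {p}
variable {M : Type*} [AddCommGroup M] [Module ℤ_[p] M]

/-- the partial products `Q j = ∏_{k<j} (T - k)` -/
noncomputable def saQ (T : Module.End ℤ_[p] M) (j : ℕ) : Module.End ℤ_[p] M :=
  aeval T (∏ k ∈ Finset.range j, (X - ((k : ℕ) : ℤ[X])))

theorem saQ_zero (T : Module.End ℤ_[p] M) : saQ T 0 = 1 := by
  simp [saQ]

theorem saQ_succ (T : Module.End ℤ_[p] M) (j : ℕ) :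
    saQ T (j + 1) = (T - ((j : ℕ) : Module.End ℤ_[p] M)) * saQ T j := by
  unfold saQ
  rw [Finset.prod_range_succ, mul_comm, map_mul]
  simp [map_sub, aeval_X, map_natCast]

theorem sa_natCast_apply (j : ℕ) (v : M) :
    ((j : ℕ) : Module.End ℤ_[p] M) v = ((j : ℕ) : ℤ_[p]) • v := by
  rw [Module.End.natCast_apply]
  exact (Nat.cast_smul_eq_nsmul ℤ_[p] j v).symm

theorem saQ_p (T : Module.End ℤ_[p] M) (hT : ∀ m, InP (p := p) ((T ^ (p - 1)) m - m)) (w : M) :
    InP (p := p) (saQ T p w) := by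
  obtain ⟨h, hh⟩ := sa_poly_prod p
  have h1 : saQ T p w = (T ^ p) w - T w + (p : ℤ_[p]) • (aeval T h) w := by
    unfold saQ
    rw [hh, map_add, LinearMap.add_apply, aeval_C_mul_apply]
    simp [map_sub, aeval_X]
  rw [h1]
  have h2 : (T ^ p) w = (T ^ (p - 1)) (T w) := by
    have h3 : (T ^ (p - 1 + 1)) w = (T ^ (p - 1)) (T w) := by
      rw [pow_succ, Module.End.mul_apply]
    rwa [Nat.sub_add_cancel hp.out.pos] at h3
  rw [h2]
  exact (hT (T w)).add ⟨_, rfl⟩

/-- an eigenvector modulo `p` -/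
theorem sa_exists_eigen (T : Module.End ℤ_[p] M)
    (hT : ∀ m, InP (p := p) ((T ^ (p - 1)) m - m)) (w : M) (hw : ¬ InP (p := p) w) :
    ∃ (j : ℕ) (v : M), ¬ InP (p := p) v ∧ InP (p := p) (T v - ((j : ℕ) : ℤ_[p]) • v) := by
  classical
  have hex : ∃ j, InP (p := p) (saQ T j w) := ⟨p, saQ_p T hT w⟩
  have h0 : Nat.find hex ≠ 0 := by
    intro h0
    have := Nat.find_spec hex
    rw [h0, saQ_zero] at this
    exact hw this
  obtain ⟨j, hj⟩ := Nat.exists_eq_succ_of_ne_zero h0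
  have hmin : ¬ InP (p := p) (saQ T j w) := Nat.find_min hex (by rw [hj]; exact Nat.lt_succ_self j)
  have hspec := Nat.find_spec hex
  rw [hj, Nat.succ_eq_add_one, saQ_succ, Module.End.mul_apply, LinearMap.sub_apply,
    sa_natCast_apply] at hspec
  exact ⟨j, saQ T j w, hmin, hspec⟩

theorem sa_pow_eigen (T : Module.End ℤ_[p] M) (a : ℤ_[p]) (v : M)
    (h : InP (p := p) (T v - a • v)) (i : ℕ) : InP (p := p) ((T ^ i) v - a ^ i • v) := by
  induction i with
  | zero => simpa using InP.zero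
  | succ i ih =>
    have e : (T ^ (i + 1)) v - a ^ (i + 1) • v =
        T ((T ^ i) v - a ^ i • v) + a ^ i • (T v - a • v) := by
      rw [pow_succ', Module.End.mul_apply, map_sub, map_smul, smul_sub, smul_smul, ← pow_succ]
      abel
    rw [e]
    exact (ih.map T).add (h.smul _)

theorem sa_dvd_pow_pred (T : Module.End ℤ_[p] M)
    (hT : ∀ m, InP (p := p) ((T ^ (p - 1)) m - m)) (a : ℤ_[p]) (v : M)
    (hv : ¬ InP (p := p) v) (h : InP (p := p) (T v - a • v)) :
    (p : ℤ_[p]) ∣ a ^ (p - 1) - 1 := by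
  by_contra hnd
  have hu := isUnit_of_not_dvd hnd
  have h1 : InP (p := p) ((a ^ (p - 1) - 1) • v) := by
    have e : (a ^ (p - 1) - 1) • v =
        ((T ^ (p - 1)) v - v) - ((T ^ (p - 1)) v - a ^ (p - 1) • v) := by
      rw [sub_smul, one_smul]; abel
    rw [e]
    exact (hT v).sub (sa_pow_eigen T a v h (p - 1))
  obtain ⟨u, hu'⟩ := hu
  apply hv
  have e2 : v = ((u⁻¹ : ℤ_[p]ˣ) : ℤ_[p]) • ((a ^ (p - 1) - 1) • v) := by
    rw [← hu', smul_smul, Units.inv_mul, one_smul]
  rw [e2]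
  exact h1.smul _

/-- a functional with value `1` at a vector outside `p M` -/
theorem sa_exists_functional [Module.Free ℤ_[p] M] [Module.Finite ℤ_[p] M] (v : M)
    (hv : ¬ InP (p := p) v) : ∃ lam : M →ₗ[ℤ_[p]] ℤ_[p], lam v = 1 := by
  classical
  set b := Module.Free.chooseBasis ℤ_[p] M with hb
  by_cases hall : ∀ i, (p : ℤ_[p]) ∣ b.repr v i
  · exfalso
    apply hv
    choose c hc using hall
    refine ⟨∑ i, c i • b i, ?_⟩
    rw [Finset.smul_sum]
    conv_lhs => rw [← b.sum_repr v]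
    refine Finset.sum_congr rfl fun i _ => ?_
    rw [hc i, mul_smul]
  · obtain ⟨i, hi⟩ := not_forall.1 hall
    obtain ⟨u, hu⟩ := isUnit_of_not_dvd hi
    refine ⟨((u⁻¹ : ℤ_[p]ˣ) : ℤ_[p]) • b.coord i, ?_⟩
    rw [LinearMap.smul_apply, Module.Basis.coord_apply, ← hu, smul_eq_mul, Units.inv_mul]

/-- the eigenfunctional -/
theorem sa_exists_mu (T : Module.End ℤ_[p] M)
    (hT : ∀ m, InP (p := p) ((T ^ (p - 1)) m - m)) (a : ℤ_[p]) (v : M)
    (hv : ¬ InP (p := p) v) (h : InP (p := p) (T v - a • v))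
    (lam : M →ₗ[ℤ_[p]] ℤ_[p]) (hlam : lam v = 1) :
    ∃ μ : M →ₗ[ℤ_[p]] ℤ_[p], (∀ m, (p : ℤ_[p]) ∣ μ (T m) - a * μ m) ∧ (p : ℤ_[p]) ∣ μ v - 1 := by
  set n := p - 1 with hn
  have hdvd : (p : ℤ_[p]) ∣ a ^ n - 1 := sa_dvd_pow_pred T hT a v hv h
  refine ⟨-∑ i ∈ Finset.range n, a ^ (n - i) • lam.comp (T ^ i), ?_, ?_⟩
  · intro m
    have e : (-∑ i ∈ Finset.range n, a ^ (n - i) • lam.comp (T ^ i)) (T m) -
        a * (-∑ i ∈ Finset.range n, a ^ (n - i) • lam.comp (T ^ i)) m =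
        -(a * (lam ((T ^ n) m - m) + (1 - a ^ n) * lam m)) := by
      simp only [LinearMap.neg_apply, LinearMap.sum_apply, LinearMap.smul_apply,
        LinearMap.comp_apply, smul_eq_mul]
      have htel := Finset.sum_range_sub (fun i => a ^ (n + 1 - i) * lam ((T ^ i) m)) n
      have h1 : ∀ i ∈ Finset.range n, a ^ (n - i) * lam ((T ^ i) (T m)) =
          a ^ (n + 1 - (i + 1)) * lam ((T ^ (i + 1)) m) := by
        intro i _
        rw [pow_succ, Module.End.mul_apply, Nat.add_sub_add_right]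
      have h2 : ∀ i ∈ Finset.range n, a * (a ^ (n - i) * lam ((T ^ i) m)) =
          a ^ (n + 1 - i) * lam ((T ^ i) m) := by
        intro i hi
        rw [Finset.mem_range] at hi
        rw [← mul_assoc, ← pow_succ', show n - i + 1 = n + 1 - i by omega]
      rw [Finset.sum_congr rfl h1, mul_neg, Finset.mul_sum, Finset.sum_congr rfl h2]
      simp only [Finset.sum_sub_distrib] at htel
      rw [map_sub]
      simp only [Nat.sub_zero, pow_zero, Module.End.one_apply, Nat.add_sub_cancel_left,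
        pow_one] at htel
      linear_combination (-1 : ℤ_[p]) * htel
    rw [e]
    obtain ⟨z, hz⟩ := hT m
    obtain ⟨c, hc⟩ := hdvd
    rw [hz, map_smul, smul_eq_mul]
    refine (Dvd.dvd.mul_left ?_ a).neg_right
    refine dvd_add (Dvd.intro _ rfl) ?_
    refine Dvd.dvd.mul_right ?_ _
    exact ⟨-c, by linear_combination (-1 : ℤ_[p]) * hc⟩
  · have hlam_i : ∀ i, (p : ℤ_[p]) ∣ lam ((T ^ i) v) - a ^ i := by
      intro i
      obtain ⟨z, hz⟩ := sa_pow_eigen T a v h i
      have := congrArg lam hz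
      rw [map_sub, map_smul, map_smul, hlam, smul_eq_mul, mul_one, smul_eq_mul] at this
      exact ⟨lam z, this⟩
    have e : (-∑ i ∈ Finset.range n, a ^ (n - i) • lam.comp (T ^ i)) v - 1 =
        -(∑ i ∈ Finset.range n, a ^ (n - i) * (lam ((T ^ i) v) - a ^ i)) -
          ((n : ℤ_[p]) * a ^ n + 1) := by
      simp only [LinearMap.neg_apply, LinearMap.sum_apply, LinearMap.smul_apply,
        LinearMap.comp_apply, smul_eq_mul]
      have h3 : ∑ i ∈ Finset.range n, a ^ (n - i) * (lam ((T ^ i) v) - a ^ i) =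
          ∑ i ∈ Finset.range n, a ^ (n - i) * lam ((T ^ i) v) - (n : ℤ_[p]) * a ^ n := by
        simp only [mul_sub, Finset.sum_sub_distrib]
        congr 1
        have h4 : ∀ i ∈ Finset.range n, a ^ (n - i) * a ^ i = a ^ n := by
          intro i hi
          rw [Finset.mem_range] at hi
          rw [← pow_add, Nat.sub_add_cancel hi.le]
        rw [Finset.sum_congr rfl h4, Finset.sum_const, Finset.card_range, nsmul_eq_mul]
      rw [h3]
      ring
    rw [e]
    refine dvd_sub (Dvd.dvd.neg_right (Finset.dvd_sum fun i _ => Dvd.dvd.mul_left (hlam_i i) _)) ?_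
    obtain ⟨c, hc⟩ := hdvd
    have hncast : (n : ℤ_[p]) = (p : ℤ_[p]) - 1 := by
      rw [hn, Nat.cast_pred hp.out.pos]
    refine ⟨a ^ n - c, ?_⟩
    rw [hncast]
    linear_combination (-1 : ℤ_[p]) * hc

end Core

end Cfsg.Agent.Helper5.TL
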