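import Mathlib
import Cfsg.Agent.Lib.Helper5.TLDefs
import Cfsg.Agent.Lib.Helper26.TLR
import Cfsg.Agent.Lib.Helper15.TLACore

/-!
# S4441, piece A (helper15, for helper5's skeleton)

If `Ĥ⁰ = fixedPts / sigRange` is not cyclic and `ν` acts on it with `ν^(p-1) = 1`, there is a
`P`-endomorphism `φ` inducing a nontrivial `ν`-equivariant idempotent on it.
-/

set_option autoImplicit false
set_option linter.unusedSectionVars false
set_option linter.unusedVariables false
set_option linter.style.haveILetI false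

namespace Cfsg.Agent.Helper5.TL

open scoped Padic
open Cfsg.Agent.Helper26.TLR

variable (p : ℕ) [hp : Fact p.Prime]

section PartI

variable {L : Type*} [AddCommGroup L] [Module ℤ_[p] L] [Module.Free ℤ_[p] L] [Module.Finite ℤ_[p] L]

theorem sa_mem_fixedPts (X : Module.End ℤ_[p] L) (u : L) : u ∈ fixedPts p X ↔ X u = u := by
  unfold fixedPts
  rw [LinearMap.mem_ker, LinearMap.sub_apply, Module.End.one_apply, sub_eq_zero]

theorem sa_sig_apply (X : Module.End ℤ_[p] L) (u : L) :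
    sig p X u = ∑ i ∈ Finset.range p, (X ^ i) u := by
  unfold sig
  rw [LinearMap.sum_apply]

theorem sa_sig_comm (X : Module.End ℤ_[p] L) : Commute (sig p X) X := by
  unfold sig
  exact Commute.sum_left _ _ _ fun i _ => (Commute.refl X).pow_left i

theorem sa_sig_pow (X : Module.End ℤ_[p] L) (hX : X ^ p = 1) (i : ℕ) (u : L) :
    sig p X ((X ^ i) u) = sig p X u := by
  induction i with
  | zero => simp
  | succ i ih =>
    rw [pow_succ', Module.End.mul_apply, ← Module.End.mul_apply, (sa_sig_comm p X).eq,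
      Module.End.mul_apply, ih, X_sig X hX]

/-- a fixed vector of the free part is a norm -/
theorem sa_free_fixed (X : Module.End ℤ_[p] L) (hX : X ^ p = 1) (r : ℕ) (v : Fin r → L)
    (hli : LinearIndependent ℤ_[p] (fun ij : Fin p × Fin r => (X ^ (ij.1 : ℕ)) (v ij.2)))
    (f : L)
    (hf : f ∈ Submodule.span ℤ_[p]
      (Set.range (fun ij : Fin p × Fin r => (X ^ (ij.1 : ℕ)) (v ij.2))))
    (hXf : X f = f) : f ∈ sigRange p X := by
  classical
  set fam : Fin p × Fin r → L := fun ij => (X ^ (ij.1 : ℕ)) (v ij.2) with hfam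
  obtain ⟨c, hc⟩ := (Submodule.mem_span_range_iff_exists_fun ℤ_[p]).1 hf
  have hsigv : ∀ j : Fin r, sig p X (v j) = ∑ i : Fin p, fam (i, j) := by
    intro j
    rw [sa_sig_apply, Finset.sum_range]
  have hsigfam : ∀ ij : Fin p × Fin r, sig p X (fam ij) = sig p X (v ij.2) :=
    fun ij => sa_sig_pow p X hX _ _
  -- `σ f` in two ways
  have h1 : sig p X f = ∑ ij : Fin p × Fin r, (∑ i : Fin p, c (i, ij.2)) • fam ij := by
    rw [← hc, map_sum (sig p X) (fun ij => c ij • fam ij) Finset.univ]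
    simp only [map_smul, hsigfam, hsigv]
    rw [Fintype.sum_prod_type_right, Fintype.sum_prod_type_right]
    refine Finset.sum_congr rfl fun j _ => ?_
    simp only
    rw [← Finset.sum_smul, Finset.smul_sum]
  have h2 : sig p X f = ∑ ij : Fin p × Fin r, ((p : ℤ_[p]) * c ij) • fam ij := by
    rw [sig_of_fixed X f hXf, ← hc, Finset.smul_sum]
    refine Finset.sum_congr rfl fun ij _ => ?_
    rw [mul_smul]
  have h3 : ∑ ij : Fin p × Fin r,
      ((p : ℤ_[p]) * c ij - ∑ i : Fin p, c (i, ij.2)) • fam ij = 0 := by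
    simp only [sub_smul, Finset.sum_sub_distrib]
    rw [← h1, ← h2, sub_self]
  have h4 := Fintype.linearIndependent_iff.1 hli _ h3
  have h0 : (0 : ℕ) < p := hp.out.pos
  have h5 : ∀ ij : Fin p × Fin r, c ij = c (⟨0, h0⟩, ij.2) := by
    intro ij
    have ha := h4 ij
    have hb := h4 (⟨0, h0⟩, ij.2)
    simp only at ha hb
    have : (p : ℤ_[p]) * c ij = (p : ℤ_[p]) * c (⟨0, h0⟩, ij.2) := by
      rw [sub_eq_zero] at ha hb
      rw [ha, hb]
    exact mul_left_cancel₀ (p_ne_zero' (p := p)) this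
  refine ⟨∑ j : Fin r, c (⟨0, h0⟩, j) • v j, ?_⟩
  rw [map_sum (sig p X) (fun j => c (⟨0, h0⟩, j) • v j) Finset.univ, ← hc,
    Fintype.sum_prod_type_right]
  refine Finset.sum_congr rfl fun j _ => ?_
  rw [map_smul, hsigv, Finset.smul_sum]
  refine Finset.sum_congr rfl fun i _ => ?_
  rw [h5 (i, j)]

/-- PIECE A (Step 5): if `Ĥ⁰ = fixedPts / sigRange` is not cyclic and `ν` acts on it with
`ν^(p-1) = 1`, there is a `P`-endomorphism `φ` inducing a nontrivial `ν`-equivariant idempotent on it. -/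
theorem step_A (X : Module.End ℤ_[p] L) (hX : X ^ p = 1) (ν : Module.End ℤ_[p] L)
    (hν1 : ∀ u ∈ fixedPts p X, ν u ∈ fixedPts p X)
    (hν2 : ∀ u ∈ sigRange p X, ν u ∈ sigRange p X)
    (hν3 : ∀ u ∈ fixedPts p X, (ν ^ (p - 1)) u - u ∈ sigRange p X)
    (hdim : ¬ CyclicQuot p (fixedPts p X) (sigRange p X)) :
    ∃ (φ : Module.End ℤ_[p] L) (v₀ v₁ : L), Commute φ X ∧
      (∀ u ∈ fixedPts p X, ν (φ u) - φ (ν u) ∈ sigRange p X) ∧
      v₀ ∈ fixedPts p X ∧ v₀ ∉ sigRange p X ∧ φ v₀ ∈ sigRange p X ∧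
      v₁ ∈ fixedPts p X ∧ v₁ ∉ sigRange p X ∧ φ v₁ - v₁ ∈ sigRange p X := by
  classical
  obtain ⟨F, L₁, L₂, r, v, hsup, hdisj1, hdisj2, hXF, hXL1, hXL2, hsig2, hli, hspan⟩ :=
    reiner_split p X hX
  -- the complement of `L₁`
  have hc : IsCompl L₁ (F ⊔ L₂) := by
    constructor
    · rw [Submodule.disjoint_def]
      intro x hx1 hxQ
      obtain ⟨f, hf, l₂, hl₂, rfl⟩ := Submodule.mem_sup.1 hxQ
      have hfmem : f ∈ L₁ ⊔ L₂ := by
        have : f = (f + l₂) - l₂ := by abel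
        rw [this]
        exact Submodule.sub_mem _ (Submodule.mem_sup_left hx1) (Submodule.mem_sup_right hl₂)
      have hf0 : f = 0 := (Submodule.disjoint_def.1 hdisj1) f hf hfmem
      rw [hf0, zero_add] at hx1 ⊢
      exact (Submodule.disjoint_def.1 hdisj2) l₂ hx1 hl₂
    · rw [codisjoint_iff, ← hsup]
      rw [sup_comm F L₁, sup_assoc]
  have hQX : ∀ u ∈ F ⊔ L₂, X u ∈ F ⊔ L₂ := by
    intro u hu
    obtain ⟨f, hf, l₂, hl₂, rfl⟩ := Submodule.mem_sup.1 hu
    rw [map_add]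
    exact Submodule.add_mem _ (Submodule.mem_sup_left (hXF f hf))
      (Submodule.mem_sup_right (hXL2 l₂ hl₂))
  set proj := Submodule.projectionOnto L₁ (F ⊔ L₂) hc with hproj
  have hprojL : ∀ l : L₁, proj (l : L) = l := fun l =>
    Submodule.projectionOnto_apply_left hc l
  have hprojQ : ∀ u ∈ F ⊔ L₂, proj u = 0 := fun u hu =>
    (Submodule.projectionOnto_apply_eq_zero_iff hc).2 hu
  have hsubQ : ∀ u : L, u - (proj u : L) ∈ F ⊔ L₂ := by
    intro u
    have h0 : proj (u - (proj u : L)) = 0 := by rw [map_sub, hprojL, sub_self]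
    exact (Submodule.projectionOnto_apply_eq_zero_iff hc).1 h0
  -- (F1) `proj ∘ X = proj`
  have hF1 : ∀ u : L, proj (X u) = proj u := by
    intro u
    have e : X u = ((proj u : L₁) : L) + X (u - (proj u : L)) := by
      rw [map_sub, hXL1 _ (proj u).2]; abel
    rw [e, map_add, hprojL, hprojQ _ (hQX _ (hsubQ u)), add_zero]
  have hF1' : ∀ (i : ℕ) (u : L), proj ((X ^ i) u) = proj u := by
    intro i
    induction i with
    | zero => intro u; simp
    | succ i ih => intro u; rw [pow_succ, Module.End.mul_apply, ih, hF1]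
  -- (F2) `proj ∘ σ = p proj`
  have hF2 : ∀ u : L, proj (sig p X u) = (p : ℤ_[p]) • proj u := by
    intro u
    rw [sa_sig_apply, map_sum]
    simp only [hF1']
    rw [Finset.sum_const, Finset.card_range]
    exact Nat.cast_smul_eq_nsmul ℤ_[p] p _ |>.symm
  -- multiples of `p` on `L₁` are norms
  have hH : ∀ (c : ℤ_[p]) (l : L₁), (p : ℤ_[p]) ∣ c → c • (l : L) ∈ sigRange p X := by
    rintro c l ⟨c', rfl⟩
    refine ⟨c' • (l : L), ?_⟩
    rw [map_smul, sig_of_fixed X (l : L) (hXL1 _ l.2), smul_smul, mul_comm]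
  have hHP : ∀ z : L₁, InP (p := p) z → (z : L) ∈ sigRange p X := by
    rintro z ⟨z', rfl⟩
    rw [Submodule.coe_smul]
    exact hH _ z' (dvd_refl _)
  -- (F4)
  have hF4 : ∀ s ∈ sigRange p X, ((proj s : L₁) : L) ∈ sigRange p X := by
    rintro s ⟨u, rfl⟩
    have : proj (sig p X u) = (p : ℤ_[p]) • proj u := hF2 u
    rw [this, Submodule.coe_smul]
    exact hH _ _ (dvd_refl _)
  have hF4' : ∀ s ∈ sigRange p X, InP (p := p) (proj s) := by
    rintro s ⟨u, rfl⟩
    exact ⟨proj u, hF2 u⟩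
  -- (F5)
  have hF5 : ∀ l : L₁, (l : L) ∈ sigRange p X → InP (p := p) l := by
    intro l hl
    have := hF4' _ hl
    rwa [hprojL] at this
  -- elements of `L₁` are fixed
  have hL1W : ∀ l : L₁, (l : L) ∈ fixedPts p X := fun l =>
    (sa_mem_fixedPts p X _).2 (hXL1 _ l.2)
  -- (F6)
  have hF6 : ∀ w ∈ fixedPts p X, w - (proj w : L) ∈ sigRange p X := by
    intro w hw
    have hXw : X w = w := (sa_mem_fixedPts p X w).1 hw
    have hq := hsubQ w
    have hXq : X (w - (proj w : L)) = w - (proj w : L) := by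
      rw [map_sub, hXw, hXL1 _ (proj w).2]
    obtain ⟨f, hf, l₂, hl₂, hfl⟩ := Submodule.mem_sup.1 hq
    rw [← hfl] at hXq ⊢
    rw [map_add] at hXq
    have h1 : X f - f = l₂ - X l₂ := by
      have := hXq
      rw [← sub_eq_zero] at this ⊢
      rw [← this]; abel
    have h2 : X f - f = 0 := by
      apply (Submodule.disjoint_def.1 hdisj1) _ (Submodule.sub_mem _ (hXF f hf) hf)
      rw [h1]
      exact Submodule.mem_sup_right (Submodule.sub_mem _ hl₂ (hXL2 l₂ hl₂))
    have hXf : X f = f := sub_eq_zero.1 h2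
    have hXl₂ : X l₂ = l₂ := by
      rw [h2] at h1
      exact (sub_eq_zero.1 h1.symm).symm
    have hl₂0 : l₂ = 0 := by
      have h3 := sig_of_fixed X l₂ hXl₂
      rw [hsig2 l₂ hl₂] at h3
      have : (p : ℤ_[p]) • l₂ = (p : ℤ_[p]) • (0 : L) := by rw [← h3, smul_zero]
      exact smul_p_cancel this
    rw [hl₂0, add_zero]
    exact sa_free_fixed p X hX r v hli f (hspan ▸ hf) hXf
  -- the induced endomorphism of `L₁`
  set T : Module.End ℤ_[p] L₁ := proj ∘ₗ ν ∘ₗ L₁.subtype with hT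
  have hTapp : ∀ m : L₁, T m = proj (ν (m : L)) := fun m => rfl
  have hG1 : ∀ (k : ℕ) (m : L₁), (((T ^ k) m : L₁) : L) - (ν ^ k) (m : L) ∈ sigRange p X := by
    intro k
    induction k with
    | zero => intro m; simp
    | succ k ih =>
      intro m
      rw [pow_succ', pow_succ', Module.End.mul_apply, Module.End.mul_apply, hTapp]
      have hyW : ν (((T ^ k) m : L₁) : L) ∈ fixedPts p X := hν1 _ (hL1W _)
      have e : ((proj (ν (((T ^ k) m : L₁) : L)) : L₁) : L) - ν ((ν ^ k) (m : L)) =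
          ν ((((T ^ k) m : L₁) : L) - (ν ^ k) (m : L)) -
            (ν (((T ^ k) m : L₁) : L) - ((proj (ν (((T ^ k) m : L₁) : L)) : L₁) : L)) := by
        rw [map_sub]; abel
      rw [e]
      exact Submodule.sub_mem _ (hν2 _ (ih m)) (hF6 _ hyW)
  have hTp : ∀ m : L₁, InP (p := p) ((T ^ (p - 1)) m - m) := by
    intro m
    apply hF5
    have e : (((T ^ (p - 1)) m - m : L₁) : L) =
        ((((T ^ (p - 1)) m : L₁) : L) - (ν ^ (p - 1)) (m : L)) +
          ((ν ^ (p - 1)) (m : L) - (m : L)) := by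
      rw [Submodule.coe_sub]; abel
    rw [e]
    exact Submodule.add_mem _ (hG1 _ m) (hν3 _ (hL1W m))
  -- a vector of `L₁` outside `p L₁`
  have hw₀ : ∃ w₀ : L₁, ¬ InP (p := p) w₀ := by
    by_contra hall
    rw [not_exists] at hall
    apply hdim
    refine ⟨0, Submodule.zero_mem _, fun u hu => ⟨0, ?_⟩⟩
    rw [zero_smul, sub_zero]
    have h1 := hF6 u hu
    have h2 : ((proj u : L₁) : L) ∈ sigRange p X := hHP _ (not_not.1 (hall (proj u)))
    have : u = (u - (proj u : L)) + (proj u : L) := by abel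
    rw [this]
    exact Submodule.add_mem _ h1 h2
  obtain ⟨w₀, hw₀⟩ := hw₀
  obtain ⟨j, v₁, hv₁, heig⟩ := sa_exists_eigen T hTp w₀ hw₀
  set a : ℤ_[p] := ((j : ℕ) : ℤ_[p]) with ha
  obtain ⟨lam, hlam⟩ := sa_exists_functional v₁ hv₁
  obtain ⟨μ, hμT, hμv⟩ := sa_exists_mu T hTp a v₁ hv₁ heig lam hlam
  -- the endomorphism
  set φ : Module.End ℤ_[p] L := (μ ∘ₗ proj).smulRight (v₁ : L) with hφ
  have hφapp : ∀ u : L, φ u = μ (proj u) • (v₁ : L) := fun u => rfl
  have hv₁W : (v₁ : L) ∈ fixedPts p X := hL1W v₁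
  have hv₁S : (v₁ : L) ∉ sigRange p X := fun h => hv₁ (hF5 v₁ h)
  -- `ν v₁ ≡ a v₁`
  have ha1 : ν (v₁ : L) - a • (v₁ : L) ∈ sigRange p X := by
    have h1 := hF6 _ (hν1 _ hv₁W)
    have h2 : (((T v₁ - a • v₁ : L₁)) : L) ∈ sigRange p X := hHP _ heig
    rw [Submodule.coe_sub, Submodule.coe_smul, hTapp] at h2
    have : ν (v₁ : L) - a • (v₁ : L) =
        (ν (v₁ : L) - ((proj (ν (v₁ : L)) : L₁) : L)) +
          (((proj (ν (v₁ : L)) : L₁) : L) - a • (v₁ : L)) := by abel
    rw [this]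
    exact Submodule.add_mem _ h1 h2
  -- `μ (proj (ν u)) ≡ a μ (proj u)` on fixed points
  have ha2 : ∀ u ∈ fixedPts p X, (p : ℤ_[p]) ∣ μ (proj (ν u)) - a * μ (proj u) := by
    intro u hu
    have hs := hF6 u hu
    obtain ⟨z, hz⟩ := hF4' _ (hν2 _ hs)
    have e : proj (ν u) = proj (ν (u - (proj u : L))) + T (proj u) := by
      rw [hTapp, ← map_add, ← map_add]
      congr 2
      abel
    rw [e, hz, map_add, map_smul, smul_eq_mul]
    have : (p : ℤ_[p]) * μ z + μ (T (proj u)) - a * μ (proj u) =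
        (p : ℤ_[p]) * μ z + (μ (T (proj u)) - a * μ (proj u)) := by ring
    rw [this]
    exact dvd_add (Dvd.intro _ rfl) (hμT _)
  -- the second vector
  have hex : ∃ u ∈ fixedPts p X, ∀ c : ℤ_[p], u - c • (v₁ : L) ∉ sigRange p X := by
    by_contra hne
    apply hdim
    refine ⟨(v₁ : L), hv₁W, fun u hu => ?_⟩
    by_contra hne2
    apply hne
    exact ⟨u, hu, fun c hc => hne2 ⟨c, hc⟩⟩
  obtain ⟨u₀, hu₀W, hu₀⟩ := hex
  refine ⟨φ, u₀ - μ (proj u₀) • (v₁ : L), (v₁ : L), ?_, ?_, ?_, hu₀ _, ?_, hv₁W, hv₁S, ?_⟩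
  · -- commutation
    apply LinearMap.ext
    intro u
    rw [Module.End.mul_apply, Module.End.mul_apply, hφapp, hφapp, hF1, map_smul, hXL1 _ v₁.2]
  · -- equivariance
    intro u hu
    rw [hφapp, hφapp, map_smul]
    have e : μ (proj u) • ν (v₁ : L) - μ (proj (ν u)) • (v₁ : L) =
        μ (proj u) • (ν (v₁ : L) - a • (v₁ : L)) -
          (μ (proj (ν u)) - a * μ (proj u)) • (v₁ : L) := by
      rw [smul_sub, sub_smul, smul_smul, mul_comm a]; abel
    rw [e]
    exact Submodule.sub_mem _ (Submodule.smul_mem _ _ ha1) (hH _ v₁ (ha2 u hu))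
  · exact Submodule.sub_mem _ hu₀W (Submodule.smul_mem _ _ hv₁W)
  · rw [hφapp, map_sub, map_smul, hprojL, map_sub, map_smul, smul_eq_mul]
    apply hH
    obtain ⟨c, hc⟩ := hμv
    refine ⟨-(μ (proj u₀) * c), ?_⟩
    linear_combination (-(μ (proj u₀))) * hc
  · rw [hφapp, hprojL]
    have e : μ v₁ • (v₁ : L) - (v₁ : L) = (μ v₁ - 1) • (v₁ : L) := by
      rw [sub_smul, one_smul]
    rw [e]
    exact hH _ v₁ hμv

end PartI

end Cfsg.Agent.Helper5.TL
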