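import Mathlib
import Cfsg.Agent.Lib.Helper27.Tw6Defs
import Cfsg.Agent.Lib.Helper13.InvNAsmA
import Cfsg.Agent.Lib.Helper13.InvNTabE6
import Cfsg.Agent.Lib.Helper28.InvNCollect
import Cfsg.Agent.Lib.Lead.TwE6Grp
import Cfsg.Agent.Lib.Lead.TwAutWords
import Cfsg.Agent.Lib.Helper6.InvNLEN

/-!
S2182 piece LONGT (helper15 for helper27): the longest word of `W_J` as a product of classes.
-/

set_option autoImplicit false
set_option linter.unusedSectionVars false
set_option linter.unusedVariables false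

namespace Cfsg.Agent.Helper27.Tw6

open Cfsg Cfsg.Lie Cfsg.Agent.Lead.Chev Cfsg.Agent.Lead.Tw Cfsg.Agent.Helper13.InvN Cfsg.Agent.Helper6.ChevL

variable {K : Type*} [Field K] [Fintype K] [CharP K 2] {D : ChevalleyDatum} {hF : ChevFacts D K}
  {T : Twist D K hF.xadd} {π' : ℕ → ℕ} {S l₀ : List (List ℕ)} {f : K ≃+* K} (hX : Ctx hF T π' S l₀ f)
include hX

/-- a product of classes is a valid word -/
theorem tw6longt_wok (l : List (List ℕ)) (hl : ∀ v ∈ l, v ∈ S) : WOK D l.flatten := by
  intro i hi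
  obtain ⟨v, hv, hiv⟩ := List.mem_flatten.1 hi
  exact hX.valid v (hl v hv) i hiv

/-- a product of classes commutes with `ρ` -/
theorem tw6longt_rhoComm (l : List (List ℕ)) (hl : ∀ v ∈ l, v ∈ S) : RhoComm D T.ρ l.flatten := by
  induction l with
  | nil => exact rhoComm_nil D T.ρ
  | cons v l ih =>
    rw [List.flatten_cons]
    have hl' : ∀ v ∈ l, v ∈ S := fun x hx => hl x (List.mem_cons_of_mem _ hx)
    exact RhoComm.append (etaOf D) hF.facts (tw6longt_wok hX l hl')
      (hX.orth.gen.comm v (hl v List.mem_cons_self)) (ih hl')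

/-- appending a class whose roots are mapped to positive roots makes the word longer -/
theorem tw6longt_len_lt (c : List ℕ) (hc : WOK D c) (v : List ℕ) (hv : v ∈ S) (hne : v ≠ [])
    (hpos : ∀ i ∈ v, D.IsPosRoot (reflWord D c (D.simple i))) : len D c < len D (c ++ v) := by
  have hlen := hX.len2 v hv
  have hnd := (hX.orth.cls v hv).nodup
  match v, hv, hne, hpos, hlen, hnd with
  | [], _, hne, _, _, _ => exact absurd rfl hne
  | [a], hv, _, hpos, _, _ =>
    exact len_snoc_lt hF hX.corS hX.corI c hc a (hX.valid _ hv a List.mem_cons_self)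
      (hpos a List.mem_cons_self)
  | [a, b], hv, _, hpos, _, hnd =>
    have ha : a ∈ [a, b] := List.mem_cons_self
    have hb : b ∈ [a, b] := List.mem_cons_of_mem _ List.mem_cons_self
    have hab : a ≠ b := by
      intro h
      rw [h] at hnd
      simp at hnd
    have h1 := len_snoc_lt hF hX.corS hX.corI c hc a (hX.valid _ hv a ha) (hpos a ha)
    have h2 := len_snoc_lt hF hX.corS hX.corI (c ++ [a]) (hc.snoc (hX.valid _ hv a ha)) b
      (hX.valid _ hv b hb) (by
        rw [reflWord_snoc, hX.orthRefl _ hv a ha b hb hab]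
        exact hpos b hb)
    have e : c ++ [a] ++ [b] = c ++ [a, b] := by simp
    rw [e] at h2
    omega
  | a :: b :: d :: t, _, _, _, hlen, _ =>
    exfalso
    simp at hlen

/-- PIECE LONGT (needs LEN of helper6): the longest word of `W_J` as a product of classes, `J` a union of classes -/
theorem exists_longT (J : Set ℕ) (hJ : ∀ v ∈ S, (∀ i ∈ v, i ∈ J) ∨ (∀ i ∈ v, i ∉ J)) :
    ∃ l : List (List ℕ), (∀ v ∈ l, v ∈ S ∧ ∀ i ∈ v, i ∈ J) ∧
      ∀ j ∈ J, j < D.rank → D.IsNegRoot (reflWord D l.flatten (D.simple j)) := by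
  classical
  let P : ℕ → Prop := fun n =>
    ∃ l : List (List ℕ), (∀ v ∈ l, v ∈ S ∧ ∀ i ∈ v, i ∈ J) ∧ len D l.flatten = n
  have hP0 : P (len D ([] : List (List ℕ)).flatten) :=
    ⟨[], fun v hv => absurd hv List.not_mem_nil, rfl⟩
  have hle : len D ([] : List (List ℕ)).flatten ≤ D.nroots := len_le D _
  obtain ⟨l, hl, hlen⟩ := Nat.findGreatest_spec (P := P) hle hP0
  refine ⟨l, hl, ?_⟩
  have hlS : ∀ v ∈ l, v ∈ S := fun v hv => (hl v hv).1
  have hc : WOK D l.flatten := tw6longt_wok hX l hlS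
  have hrc : RhoComm D T.ρ l.flatten := tw6longt_rhoComm hX l hlS
  intro j hjJ hj
  rcases hF.sign.pos_or_neg _ (reflWord_lt D (etaOf D) hF.facts _ hc _ (hF.simple_lt j hj)) with hp | hn
  · exfalso
    obtain ⟨v, hvS, hjv, -⟩ := hX.orth.gen.cover j hj
    have hvJ : ∀ i ∈ v, i ∈ J := by
      rcases hJ v hvS with h | h
      · exact h
      · exact absurd hjJ (h j hjv)
    have hpos : ∀ i ∈ v, D.IsPosRoot (reflWord D l.flatten (D.simple i)) := by
      intro i hi
      rcases hX.orb v hvS j hjv i hi with h | h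
      · rw [h]; exact hp
      · rw [h, ← T.ρ_simple j hj, hrc _ (hF.simple_lt j hj)]
        exact T.ρ_pos _ hp
    have hne : v ≠ [] := by
      intro h
      rw [h] at hjv
      exact absurd hjv List.not_mem_nil
    have hlt := tw6longt_len_lt hX l.flatten hc v hvS hne hpos
    have hP1 : P (len D (l ++ [v]).flatten) := by
      refine ⟨l ++ [v], ?_, rfl⟩
      intro x hx
      rcases List.mem_append.1 hx with h2 | h2
      · exact hl x h2
      · rw [List.mem_singleton.1 h2]; exact ⟨hvS, hvJ⟩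
    have h2 := Nat.le_findGreatest (P := P) (len_le D (l ++ [v]).flatten) hP1
    have e : (l ++ [v]).flatten = l.flatten ++ v := by simp
    rw [e] at h2
    omega
  · exact hn

end Cfsg.Agent.Helper27.Tw6
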