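import Mathlib
import Cfsg.Prelude.Def_Classical
import Cfsg.Agent.Lib.Helper15.U4a
import Cfsg.Agent.Lib.Helper15.Syl8A4
import Cfsg.Agent.Lib.Helper2.SpCenter

set_option autoImplicit false

/-!
# `PSU₄(2) ≅ PSp₄(3)`: the symplectic side (helper15)

`Sp₄(3)` permutes the forty symplectic transvection matrices `1 + v (vᵀ J)` by conjugation.
Data produced by an external search; everything is re-checked by the kernel.
-/

namespace Cfsg.Agent.Helper15.U4

open Matrix SylGen Syl8A

def xC (b : Bool) : ℕ := if b then 30017143 else 6517954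

def TC : List ℕ := [16002523, 14414761, 16560208, 17111332, 14412574, 1658233, 30355561, 14773510, 2570293, 31818745, 14596444, 2944351, 31090555, 14408218, 25568482, 20785516, 14355731, 26067119, 21835277, 14473827, 26736339, 21402249, 14414104, 11225704, 35140066, 14715992, 12078716, 36544202, 14657022, 12570870, 35934108, 14413348, 39922276, 6441982, 14538170, 40598222, 7669052, 14833332, 41444508, 7413090]

/-- the two generators of `Sp₄(3)`. -/
def xM (b : Bool) : Matrix I4 I4 (ZMod 3) := mat (xC b)

/-- the forty transvection matrices. -/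
def TM (i : Fin 40) : Matrix I4 I4 (ZMod 3) := mat (TC.getD i.val 0)

lemma xM_symp : ∀ b : Bool,
    xM b * Matrix.J (Fin 2) (ZMod 3) * (xM b)ᵀ = Matrix.J (Fin 2) (ZMod 3) := by
  decide +kernel

set_option maxRecDepth 100000 in
lemma xM_TM : ∀ (b : Bool) (i : Fin 40), xM b * TM i = TM (sf b i) * xM b := by decide +kernel

set_option maxRecDepth 100000 in
lemma TM_inj : ∀ i j : Fin 40, TM i = TM j → i = j := by decide +kernel

/-- the generators as elements of the symplectic group. -/
def xG (b : Bool) : Γ3 := ⟨xM b, SymplecticGroup.mem_iff.mpr (xM_symp b)⟩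

lemma card_Γ3 : Nat.card Γ3 = 51840 := by
  have h1 := Cfsg.Agent.S0245.result (F := ZMod 3) (q := 3) (ZMod.card 3) 2
  rw [h1]
  norm_num [Finset.prod_range_succ]

lemma card_center_Γ3 : Nat.card (Subgroup.center Γ3) = 2 := by
  have h2 := Cfsg.Agent.S0246.result (F := ZMod 3) (q := 3) (ZMod.card 3) 2 (by norm_num)
  rw [h2]
  norm_num

/-- `PSp₄(3)` over `ZMod 3` is the permutation group. -/
theorem psp_equiv_model : Nonempty (Cfsg.PSp 2 (ZMod 3) ≃* R) := by
  have : Fact (Nat.Prime 3) := ⟨Nat.prime_three⟩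
  apply quot_equiv_closure ιM TM (fun i j h => TM_inj i j h) (xG true) (xG false)
    (sg true) (sg false) (fun i => xM_TM true i) (fun i => xM_TM false i) (Subgroup.center Γ3)
  · intro z hz i
    rcases (Cfsg.Agent.Helper2.Sp.mem_center_iff z).mp hz with h | h
    · rw [h, map_one, one_mul, mul_one]
    · have h2 : ιM z = -1 := by rw [h]; rfl
      rw [h2, neg_mul, one_mul, mul_neg, mul_one]
  · rw [card_Γ3, card_center_Γ3]
    have h : 25920 ≤ Nat.card (Subgroup.closure ({sg true, sg false} : Set (Equiv.Perm (Fin 40)))) :=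
      card_R_ge
    omega

/-- `PSp₄(K)` for any field with three elements is the permutation group. -/
theorem psp_equiv {K : Type*} [Field K] [Fintype K] (hK : Fintype.card K = 3) :
    Nonempty (Cfsg.PSp 2 K ≃* R) := by
  have : Fact (Nat.Prime 3) := ⟨Nat.prime_three⟩
  let e : ZMod 3 ≃+* K := ZMod.ringEquivOfPrime K Nat.prime_three hK
  let f : Γ3 ≃* Matrix.symplecticGroup (Fin 2) K := Cfsg.Agent.S0247.spMapEquiv e
  let j : Cfsg.PSp 2 (ZMod 3) ≃* Cfsg.PSp 2 K :=
    QuotientGroup.congr (Subgroup.center Γ3) (Subgroup.center (Matrix.symplecticGroup (Fin 2) K)) f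
      (map_center_equiv f)
  obtain ⟨e0⟩ := psp_equiv_model
  exact ⟨j.symm.trans e0⟩

end Cfsg.Agent.Helper15.U4
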