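import Mathlib
import Cfsg.Agent.Lib.Helper15.SylGen4

set_option autoImplicit false

/-!
# The stabiliser of a `222`-triangle in the automorphism group of the rank-24 lattice is
`PSU₆(2)`: the permutation group of degree 891 (helper15)

Data produced by an external search; everything is re-checked by the kernel.
-/

namespace Cfsg.Agent.Helper15.U62

open SylGen

/-- the two generating permutations, coded in base `1024`. -/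
def cT (b : Bool) : ℕ := if b then 106413347254720370191977525090352422928538919477914594533408915304854208498878102768732545099415725336774907417293074858362583466487835351161845186854320497649212706626843741627944855310323064318787959148507366589725778933492029902105881841587387351953455121488614319390120160517137132870925096056441082249837297672879281333110261259691193836996447313660155824905979562712095518768527954589432237886759248422334117801566765783453370909655110347622289223064532130119424402042465456808868623113016862501142336166721414442746618057114209669647058026919330499540676402429329797979316098443353063313607323914636857513634188518941807994275750759370241543352977276795607777333804198817064255669788015195517255782831685778555841553951227782170101503840788212785044161609591211009396465571162827657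608651728670624154854772879570702484186975680673181926444357782370588508615104699593984474910256573683875282376610763881347323103399100103210515099973225186623637805232050077257410227197318883638229941969882557587843909861768179284720693249358473473934464199941846028791206050411541585678860770822748493182811239789699154598663969503781654322894468482800745925908391247327044779202224008196944830610405039809030322408032755465772891475738513107715145711121969741684618185808302086670338844270021060138143874242904812927080850623893199134978340982906743380928141020576595748787484861915328590191841162019179985481819163358837639090977448198576584824483651825039428501978865061529933500340919760526723452253680424460735479027684666516063950099855815499684299055267930461807564858614868550073748314625247855775358305692342129372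3478792111517956053268541882059213552489523012058621623858429648553732863019793413726634125377105775434372631193045461829335182825651163759507959941163577474704838687592284255463945950550666241545278795939744833209513022749317159497128038324402611601441293845035615703903350476075885699481654621365191238180760259097455141141253590516613245453885793770241759884677756253311026350828000148180790467147157751921590503538206034451797461914093195341355866353018156348815085423550061176199508694656594291442504699542432302154029644737740413863932806994718815461625742419438762554771559526164097051563165750233851848749149327616214438196749011231081442742296900187696364288203806277272929146191453146480347678751473877920470701987872069912581671719104739548520975845132657730355478021362494077522702447228789653770472050540183158671619405524464690733718156292840521989521011409964312614442885890954915686797893224380142829360843899614589816213147057229174986334366465053793342406875121880159214619836183937481347066008504600394434869737092399611608418731169940740139666207457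 else 721886104328521741601792063365322895122145125111264733727963358056307778371804386859006622749924620252365702573413525006584146072394943262540230235532607142939303566738492964026279042877670255000960260716113423278007164834134663492429865326094601699524165079069537231398404404403642932690376198121591309687924156513136667468372320670792141215218109588220349658129243553371102398727009192363653017352719292883393862435983187298342386937719346361037739719443663430862039493731512769266246000685563469668684308964060782636251644017277373524268276658719595715169244452352443094315515418334415083241183110451796289225923361676740983524640051538096715710040219011299825468604029935858717289151722009082378971811919297441726215511939533296713115226852869906448502839655789138750275827122300469616925354198463481300569937375993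829823758667643662111012553238862618821571365950638468229945996940351269517863180689420651483059804203292985011430433744055980148371169684306308611104869799854532829307535946899377231934543893584688835798026582734228444858721351117547357448781997354078283760174303079974362307428542996369236058004282716187943147164210116742065971056686938457606105419427135726334442553226254908347125335481507481396076511166710414295455874256590282132879082018793768914908178133568006951007702160200206046889528803755873092509740201925188121465830916767185463942698389792079621836036029178091467846174832818807862487426739483117648623292392595889944682622882002189742265172762376924813121102829717934592309868428266146681767972204311153836406178073413817539335995028238004239314298895369482244582395052772991509381972391163504827816040169049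465983552420121697541926287840293795099413669533670572423162515114805028943297258300121264009493133279862041759953885592951223211298874761009495022281247166812718169187175419027438958323541052192462974979011704544465187672833764740137488166032415283825194378655218574550712752477766862317126372833663075339504219930228251375089493866062646152825960472629624974632185830082790033139048570370903495383418307329532193265682018990573185500683095610905278270025499084907405368160097374398313992712408978144296278225265358175457846312810712023696150055360917232097298807943214194357013988017078796128808941880972756718366123721548265427997563500462320421178925671524776922712188887794867393388412444170539702299183014266004698158796582741291957621193127486494791142283030887345412492428693719150189991025743198134676577210371634886942322952202460996927394247306102834693856432993548405208522047527958836222251210258037029419394224150135943280535860913202803387089455521983656668128892367915336060936352716397073929991420404230462349557950325620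

/-- their inverses. -/
def cTi (b : Bool) : ℕ := if b then 25582402716701037989784204934929139756140511502756166678514169433535308806849582833759015048032969573418814212780906328706434821430208099426524191920002904216120119280674593611943184428383902015028761379384372484889314624592770423790099896722663848694092936001864721243522139974169816352901492686253657183780303737744187768830696252677979410961038582244439660498457043580718313787392414070763889099587460378937642291939731764321024177195966473880634675602739656018267512298916367423948297880414335879774908141429564715768138313895637023612885489135732597808907075979937990404638411740508159155893061682848960213376434102701831429081384777984867989693905644121013459307736406756677798477899375227041584630948533911026341196012440488915197617287723783890522897343071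413667096948858381005498809725323735375479401181261349484718623203066665331531978507301240707406436753560115815438476295047245720213435243519220989128961254470056607663898630499144000991937735383055597744310908283355084414416029014035877603341058012786174438880718083222720207141089090928245065969418603265994408595937503892763914548085895796609473808182357237625408995012554789465528190322155808139835067733187728568562521051447821126973175850245232765843206339915199074642712505465018994691047671650673249780462828413601426132417861117043971178886929095819939885231970845610581006636966405430122488126431960170214973820117307861725953978472886560052638659548711840677843252652954926746868930678631207669686757372970120030541413125343697394651022853679794826968689167935088405509687751425738350150961389832774886076312811905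4393012835847780955557300888031919516130359813572712346419468030254851103083011945753930849912971197137416140574575314043209009902486467041828172571253524084797096657046027355510168059716138433694392894321174125050569981058014878414747471018920778939438108459636707288034529372306396739926162288233355313145622579372600826693026201121351256395546771553281548338473742697149292541632987504513550845248160738085948604989269387572381883063775278929476917699853702930960709969321011524951806166724032376441285894075049732934230117014615985522430376116016742452403252620298696592288533897277867382940620125317423305278386369949545182663389608167921778469451361902769669572617688736341656436223269641109068834507094048287917367561654694581456445784452090765064122519667259228573205085229257807458681450516953146490171797818307474550901270587955622543989166299173830706664370229975273587717569495868141187489923889811483234994178068478168165836319015565216669845501521098401368028625563783024876208037917185396383044118375198836721422729512595034463748223740751017155897350311689652026427551264834035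 else 721886104328521741601792063365322895122145125111264733727963358056307778371804386859006622749924620252365702573413525006584146072394943262540230235532607142939303566738492964026279042877670255000960260716113423278007164834134663492429865326094601699524165079069537231398404404403642932690376198121591309687924156513136667468372320670792141215218109588220349658129243553371102398727009192363653017352719292883393862435983187298342386937719346361037739719443663430862039493731512769266246000685563469668684308964060782636251644017277373524268276658719595715169244452352443094315515418334415083241183110451796289225923361676740983524640051538096715710040219011299825468604029935858717289151722009082378971811919297441726215511939533296713115226852869906448502839655789138750275827122300469616925354198463481300569937375993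829823758667643662111012553238862618821571365950638468229945996940351269517863180689420651483059804203292985011430433744055980148371169684306308611104869799854532829307535946899377231934543893584688835798026582734228444858721351117547357448781997354078283760174303079974362307428542996369236058004282716187943147164210116742065971056686938457606105419427135726334442553226254908347125335481507481396076511166710414295455874256590282132879082018793768914908178133568006951007702160200206046889528803755873092509740201925188121465830916767185463942698389792079621836036029178091467846174832818807862487426739483117648623292392595889944682622882002189742265172762376924813121102829717934592309868428266146681767972204311153836406178073413817539335995028238004239314298895369482244582395052772991509381972391163504827816040169049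465983552420121697541926287840293795099413669533670572423162515114805028943297258300121264009493133279862041759953885592951223211298874761009495022281247166812718169187175419027438958323541052192462974979011704544465187672833764740137488166032415283825194378655218574550712752477766862317126372833663075339504219930228251375089493866062646152825960472629624974632185830082790033139048570370903495383418307329532193265682018990573185500683095610905278270025499084907405368160097374398313992712408978144296278225265358175457846312810712023696150055360917232097298807943214194357013988017078796128808941880972756718366123721548265427997563500462320421178925671524776922712188887794867393388412444170539702299183014266004698158796582741291957621193127486494791142283030887345412492428693719150189991025743198134676577210371634886942322952202460996927394247306102834693856432993548405208522047527958836222251210258037029419394224150135943280535860913202803387089455521983656668128892367915336060936352716397073929991420404230462349557950325620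

/-- the two generating permutations as raw functions (`true` is the first). -/
def tf (b : Bool) (x : Fin 891) : Fin 891 := Fin.ofNat 891 (cT b / 1024 ^ x.val % 1024)

def tfi (b : Bool) (x : Fin 891) : Fin 891 := Fin.ofNat 891 (cTi b / 1024 ^ x.val % 1024)

set_option maxRecDepth 100000 in
lemma tfi_tf : ∀ (b : Bool) (x : Fin 891), tfi b (tf b x) = x := by decide +kernel

set_option maxRecDepth 100000 in
lemma tf_tfi : ∀ (b : Bool) (x : Fin 891), tf b (tfi b x) = x := by decide +kernel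

def tg (b : Bool) : Equiv.Perm (Fin 891) where
  toFun := tf b
  invFun := tfi b
  left_inv := tfi_tf b
  right_inv := tf_tfi b

lemma tg_apply (b : Bool) (x : Fin 891) : tg b x = tf b x := rfl

/-- the permutation group of degree 891. -/
abbrev RU : Subgroup (Equiv.Perm (Fin 891)) :=
  Subgroup.closure ({tg true, tg false} : Set (Equiv.Perm (Fin 891)))

/-- expansion of index words over a list of generator words. -/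
def expand (G : List (List Bool)) (I : List (List ℕ)) : List (List Bool) :=
  I.map (fun iw => iw.flatMap (fun i => G.getD i []))

lemma fix_of_map (w : List Bool) (B : List (Fin 891))
    (h : B.map (fun b => (evf tf w b).val) = B.map Fin.val) : ∀ b ∈ B, evf tf w b = b := by
  induction B with
  | nil => intro b hb; cases hb
  | cons a t ih =>
    simp only [List.map_cons, List.cons.injEq] at h
    intro b hb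
    rcases List.mem_cons.1 hb with rfl | hb
    · exact Fin.ext h.1
    · exact ih h.2 b hb

lemma nodup_of_img (W : List (List Bool)) (β : Fin 891) (L : List ℕ)
    (h : W.map (fun w => (evf tf w β).val) = L) (hL : L.Nodup) :
    (W.map (fun w => evf tf w β)).Nodup := by
  have h2 : (W.map (fun w => evf tf w β)).map Fin.val = L := by
    rw [List.map_map]; exact h
  exact List.Nodup.of_map Fin.val (h2 ▸ hL)

def gW0 : List (List Bool) := [[true],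
  [false]]

def cI0 : List (List ℕ) := [[],
  [1, 0, 1, 0, 1, 0, 0, 0, 0, 1, 0, 0, 1],
  [0, 0, 0, 1, 0, 0, 0, 1, 0, 0],
  [1, 0, 0, 1, 0, 0, 1, 0, 0, 0, 0],
  [1, 0, 0, 0, 1, 0, 0, 0, 0, 1],
  [0, 1, 0, 1, 0, 1, 0, 0, 0, 1, 0, 1],
  [0, 1, 0, 0, 0, 0, 0, 0, 1],
  [1, 0, 1, 0, 1, 0, 1, 0, 0, 1],
  [0, 0, 1, 0, 1, 0, 0, 1, 0, 0, 0, 0, 0, 0],
  [0, 0, 0, 1, 0, 1, 0, 0, 0, 0],
  [0, 1, 0, 0, 0, 1, 0, 0, 0, 1, 0, 0, 0, 1],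
  [1, 0, 0, 0, 0, 1, 0, 0, 0, 1],
  [0, 1, 0, 1, 0, 0, 0, 1, 0, 0, 0, 1],
  [0, 1, 0, 1, 0, 0, 0, 0, 0, 1, 0, 1],
  [1, 0, 0, 1, 0, 0, 1, 0, 0, 0, 1, 0, 0, 0, 0],
  [0, 0, 0, 0, 0, 1, 0, 0, 0, 0, 1, 0, 0, 0, 0],
  [0, 0, 0, 0, 1, 0, 1, 0, 0, 0, 0, 0, 1, 0, 1, 0, 0],
  [0, 0, 1, 0, 1, 0, 0, 1, 0, 0, 0, 0],
  [1, 0, 0, 0, 1, 0, 1, 0, 1],
  [1, 0, 0, 0, 0, 0, 0, 1, 0, 0, 0, 1],
  [0, 0, 0, 0, 1, 0, 0],
  [0, 0, 1, 0, 0, 0, 1, 0, 1, 0, 1, 0, 0, 0, 1],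
  [0, 1, 0, 0, 1, 0, 0, 1, 0, 0, 0, 0, 0],
  [0, 1, 0, 1, 0, 0, 0, 0, 0, 0, 1],
  [0, 1, 0, 0, 0, 0, 1, 0, 0, 0, 0, 0, 0],
  [0, 0, 0, 1, 0, 0, 1, 0, 0, 0, 1, 0, 0, 0, 0],
  [0, 0, 1, 0, 0, 1, 0, 1, 0, 0, 0, 0, 1, 0, 0, 1],
  [0, 0, 1, 0, 1, 0, 0, 1, 0, 0, 0, 1, 0, 0, 0, 0],
  [0, 0, 1, 0, 1, 0, 1, 0, 0, 0, 0],
  [1, 0, 0, 0, 1, 0, 1, 0, 0, 0, 1],
  [1, 0, 0, 0, 0, 0, 1, 0, 0, 0, 0, 1],
  [0, 1, 0, 0, 0, 1, 0, 0, 0, 1, 0, 0],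
  [0, 0, 0, 1, 0, 0, 0, 0],
  [0, 1, 0, 1, 0, 0, 1, 0, 0, 0, 1, 0, 0, 0, 0],
  [0, 0, 0, 1, 0, 1, 0, 0, 0, 0, 0, 1, 0, 1, 0, 0],
  [0, 1, 0, 0, 1, 0, 1, 0, 0, 0, 0, 1, 0, 0, 1],
  [0, 0, 1, 0, 0, 0, 0, 1, 0, 0, 0, 0, 0, 0],
  [1, 0, 0, 0, 0, 1, 0, 1],
  [0, 0, 0, 1, 0, 0, 0, 0, 0],
  [1, 0, 0, 1, 0, 0, 0, 0, 0, 1, 0, 0],
  [0, 0, 0, 0, 0, 1, 0, 0],
  [1, 0, 1, 0, 1, 0, 0, 0, 1],
  [0, 0, 1, 0, 0, 0, 0],
  [1, 0, 1, 0, 1, 0, 0, 1, 0, 1, 0, 0, 0, 0, 0, 1],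
  [0, 0, 0, 0, 0, 1, 0, 0, 0, 0, 0, 0, 1, 0, 0],
  [0, 1, 0, 1, 0, 0, 1, 0, 1, 0, 0, 1, 0, 0, 0, 0],
  [1, 0, 1, 0, 1, 0, 1],
  [1, 0, 0, 0, 0, 0, 0, 1, 0, 1],
  [0, 1, 0, 1, 0, 1, 0, 1, 0, 1, 0, 0, 0, 1],
  [0, 1, 0, 0, 0, 0, 0, 0, 1, 0, 0, 0, 0, 0],
  [1, 0, 0, 0, 1, 0, 0, 1, 0, 1, 0, 1, 0, 1],
  [0, 0, 1, 0, 0, 0, 0, 0],
  [0, 1, 0, 0, 0, 0, 0, 1, 0, 0, 0, 0, 1],
  [1, 0, 0, 0, 0, 1, 0, 1, 0, 0, 0, 0, 1],
  [1, 0, 0, 1, 0, 0, 0, 1, 0, 1, 0, 1],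
  [0, 0, 1, 0, 0, 0, 1, 0, 1, 0, 1, 0, 0, 0, 0, 0, 0],
  [0, 1, 0, 1, 0, 0, 0, 0, 1],
  [0, 0, 1, 0, 0, 0, 1, 0, 1, 0, 0, 1],
  [0, 0, 0, 0, 1, 0, 1, 0, 1, 0, 0, 0, 0, 0, 0],
  [0, 0, 0, 0, 1, 0, 1, 0, 0],
  [0, 0, 1, 0, 1, 0, 0, 0, 1, 0, 0],
  [1, 0, 0, 0, 0, 0, 1, 0, 1, 0, 1, 0, 1],
  [0, 1, 0, 0, 1, 0, 0, 0, 1, 0, 0, 0, 0, 1],
  [1, 0, 1, 0, 0, 0, 0, 0, 0, 1, 0, 1, 0, 1],
  [0, 0, 0, 1, 0, 0, 1, 0, 0, 0, 0],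
  [1, 0, 0, 1, 0, 0, 0, 0, 1, 0, 0, 0, 1, 0, 0, 0, 1],
  [1, 0, 1, 0, 1, 0, 0, 1, 0, 0, 0, 0, 0],
  [0, 1, 0, 0, 0, 1, 0, 0, 0, 1],
  [1, 0, 1, 0, 1, 0, 0, 1, 0, 1, 0, 0, 1],
  [0, 1, 0, 0, 0, 0, 0, 1, 0, 1],
  [1, 0, 0, 0, 1, 0, 1, 0, 1, 0, 0, 0, 0, 0, 0],
  [0, 0, 0, 0, 1],
  [0, 0, 0, 0, 1, 0, 0, 0, 0, 0, 0],
  [0, 0, 0, 1, 0, 0, 0, 0, 1, 0, 0, 0, 0, 0, 0],
  [1, 0, 0, 1, 0, 0, 0, 1, 0, 0, 0, 0],
  [0, 1, 0, 1, 0, 0, 0, 1, 0, 1],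
  [1, 0, 0, 1, 0, 0, 1, 0, 1, 0, 0],
  [0, 0, 0, 0, 1, 0, 0, 0, 0, 0],
  [1, 0, 0, 0, 1, 0, 1, 0, 0],
  [1, 0, 0, 0, 1, 0, 0, 0, 1, 0, 1, 0, 0, 0, 1],
  [0, 0, 0, 1, 0, 0, 0, 1, 0, 0, 0, 1],
  [0, 0, 0, 1, 0, 0, 0, 1, 0, 1, 0, 0, 1],
  [0, 0, 1, 0, 1, 0, 0, 0, 0, 1],
  [0, 1, 0, 1, 0, 0, 0, 0, 1, 0, 1, 0, 1],
  [0, 0, 1, 0, 1, 0, 0, 0, 0, 0, 0, 1],
  [0, 0, 0, 1, 0, 1, 0, 1, 0, 1],
  [0, 1, 0, 0, 0, 0, 1, 0, 0, 1, 0, 0, 0, 0],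
  [0, 1, 0, 0, 0, 0, 1, 0, 1, 0, 0, 0, 0, 0, 0, 1],
  [1, 0, 0, 1, 0, 0, 0, 1, 0, 1, 0, 0],
  [0, 1, 0, 0, 0, 1, 0, 1, 0, 0, 0, 1],
  [0, 0, 0, 0, 1, 0, 0, 0, 0],
  [1, 0, 1, 0, 1, 0, 0, 1, 0, 0, 0, 0, 0, 0],
  [0, 1, 0, 0, 0, 1, 0, 1, 0, 0, 0, 0, 0, 1],
  [0, 1, 0, 1, 0, 0, 0, 1, 0, 1, 0, 1],
  [0, 1, 0, 0, 1, 0, 1, 0, 0, 0, 0, 1],
  [0, 0, 0, 1, 0, 0, 0, 1, 0, 0, 0, 0],
  [1, 0, 1, 0, 0, 1, 0, 0, 0, 0, 0],
  [1, 0, 1, 0, 0, 0, 1, 0, 1, 0, 0, 1],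
  [0, 1, 0, 0, 0, 0, 1],
  [0, 1, 0, 0, 0, 1, 0, 1, 0, 1],
  [1, 0, 0, 0, 0, 0, 1, 0, 1, 0, 0, 1],
  [0, 1, 0, 1, 0, 1, 0, 0, 0, 1, 0, 1, 0, 1],
  [0, 0, 0, 0, 1, 0, 0, 1, 0, 0, 0, 0, 0],
  [0, 0, 0, 0, 0, 0, 1, 0, 0],
  [0, 0, 1, 0, 0, 0, 1, 0, 0, 0, 0, 0],
  [1, 0, 1, 0, 0, 0, 1, 0, 0],
  [0, 1, 0, 0, 1, 0, 0, 0, 0, 0, 1, 0, 0],
  [1, 0, 1, 0, 1, 0, 1, 0, 0, 0, 0, 1, 0, 0, 0, 0],
  [0, 0, 0, 0, 0, 1, 0, 1, 0, 1, 0, 0, 0, 0],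
  [0, 1, 0, 0, 0, 0, 0, 0, 1, 0, 1],
  [1, 0, 0, 1, 0, 1, 0, 0, 0, 0, 0, 1, 0, 1],
  [0, 0, 0, 0, 1, 0, 0, 1, 0, 0, 0, 0],
  [1, 0, 1, 0, 0, 0, 1, 0, 1, 0, 1, 0, 0, 0, 0, 0, 1],
  [1, 0, 1, 0, 0, 1, 0, 1, 0, 0, 0, 0],
  [0, 0, 0, 0, 1, 0, 0, 0, 1, 0, 1, 0, 1, 0, 1],
  [0, 1, 0, 1, 0, 1, 0, 0, 0, 1],
  [1, 0, 1, 0, 1, 0, 0, 0, 0, 0, 0],
  [1, 0, 0, 0, 0, 0, 1, 0, 0, 0, 1, 0, 0, 0, 0, 0],
  [1, 0, 0, 1, 0, 0, 0, 1, 0, 1],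
  [1, 0, 1, 0, 0, 0, 1],
  [1, 0, 0, 0, 0, 0, 0, 1, 0, 1, 0, 1],
  [0, 1, 0, 1, 0, 1, 0, 0, 0, 0, 0, 1],
  [1, 0, 0, 1, 0, 1, 0, 1, 0, 1],
  [1, 0, 0, 1, 0, 1, 0, 0, 0, 1, 0, 1, 0, 0],
  [1, 0, 1, 0, 0, 1, 0, 0, 0, 1, 0, 0],
  [1, 0, 1, 0, 1, 0, 0],
  [1, 0, 0, 1, 0, 0, 0, 0, 0, 1, 0, 1, 0, 0, 0, 0],
  [0, 0, 0, 1, 0, 1, 0, 1, 0, 0, 0, 0],
  [0, 0, 0, 0, 0, 1, 0, 1, 0, 0],
  [1, 0, 0, 0, 0, 0, 1],
  [0, 1, 0, 0, 0, 1, 0, 0, 1, 0, 1, 0, 1, 0, 1],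
  [0, 0, 0, 1, 0, 0, 0, 0, 1, 0, 0, 0, 0],
  [1, 0, 1, 0, 1, 0, 0, 0, 0],
  [0, 0, 1, 0, 0, 0, 0, 0, 0, 1, 0, 0, 0, 0, 0],
  [0, 0, 0, 1, 0, 1, 0, 0, 0, 1, 0, 0],
  [1, 0, 0, 0, 0, 0, 1, 0, 0, 0, 0, 0, 0],
  [1, 0, 0, 0, 1, 0, 1, 0, 1, 0, 0, 0, 1, 0, 1],
  [1, 0, 1, 0, 0, 0, 0, 0, 1, 0, 0, 1],
  [0, 0, 0, 0, 0, 0, 1, 0, 0, 0, 0, 0],
  [0, 1, 0, 0, 1, 0, 1, 0, 1, 0, 1, 0, 0, 1],
  [0, 0, 1, 0, 0, 0, 0, 0, 0, 1, 0, 0, 1],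
  [0, 0, 0, 0, 1, 0, 0, 0, 0, 1],
  [0, 0, 0, 1, 0, 0, 0, 0, 1, 0, 1, 0, 0],
  [0, 1, 0, 1, 0, 1, 0, 1],
  [1, 0, 1, 0, 1, 0, 1, 0, 1, 0, 1, 0, 0, 0, 0],
  [0, 0, 0, 0, 1, 0, 1, 0, 0, 0, 0, 0, 0, 1],
  [1, 0, 0, 1, 0, 0, 0, 0, 1, 0, 1, 0, 1],
  [0, 0, 0, 0, 0, 0, 1, 0, 0, 0, 1, 0, 0, 0, 0],
  [0, 0, 1, 0, 1, 0, 0, 1, 0, 0, 0, 0, 0],
  [0, 0, 0, 1, 0, 0, 1, 0, 0, 1, 0, 1, 0, 0],
  [0, 0, 1, 0, 1, 0, 1, 0, 0, 1],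
  [1, 0, 1, 0, 0, 0, 0, 0, 0, 1, 0, 0, 1],
  [1, 0, 1, 0, 0, 0, 0, 1, 0, 1, 0, 0, 0, 0, 0, 1],
  [1, 0, 0, 1, 0, 0, 0, 0, 0, 1, 0, 0, 0, 0],
  [0, 0, 0, 1, 0, 0, 0, 1, 0, 1, 0, 0],
  [0, 0, 1, 0, 1, 0, 0, 0, 0, 1, 0, 0, 1],
  [0, 1],
  [1, 0, 0, 0, 0, 1, 0, 1, 0, 0, 0, 0, 0, 0],
  [1, 0, 1, 0, 0, 0, 1, 0, 0, 1, 0, 0, 0, 0, 0],
  [1, 0, 1, 0, 0, 0, 1, 0, 0, 0, 0, 0, 0],
  [0, 0, 1, 0, 0, 1, 0, 0, 0, 0, 0],
  [0, 0, 1, 0, 1, 0, 0, 1, 0, 1, 0, 0, 1],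
  [1, 0, 1, 0, 0, 0, 1, 0, 0, 0, 0, 0],
  [0, 0, 1, 0, 1, 0, 0, 0, 1, 0, 1, 0, 0, 1],
  [0, 0, 1, 0, 1, 0, 1, 0, 1, 0, 1, 0, 0, 0, 1],
  [0, 0, 1, 0, 1, 0, 0, 0, 0, 0, 0, 1, 0, 0, 1],
  [0, 1, 0, 0, 0, 0, 1, 0, 1, 0, 0, 0, 0, 1],
  [0, 0, 1, 0, 1, 0, 0],
  [1, 0, 0, 1, 0, 0, 0, 0, 0, 0, 1, 0, 1],
  [1, 0, 1, 0, 0, 0, 1, 0, 0, 0, 0, 1, 0, 0],
  [0, 1, 0, 0, 0, 1, 0, 1, 0, 1, 0, 1],
  [0, 1, 0, 0, 0, 0, 1, 0, 0, 0, 0],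
  [0, 1, 0, 1, 0, 0, 0, 0, 0, 1, 0, 1, 0, 0],
  [0, 1, 0, 0, 0, 0, 0, 0, 1, 0, 0],
  [1, 0, 0, 0, 0, 0, 0],
  [0, 0, 0, 0, 0, 0, 1],
  [0, 0, 1, 0, 0, 1, 0, 1, 0, 0, 0, 1, 0, 0],
  [0, 0, 1, 0, 1, 0, 0, 1, 0, 1, 0, 0],
  [0, 1, 0, 1, 0, 0, 1, 0, 0, 0, 0, 0, 0],
  [1, 0, 0, 0, 1, 0, 0, 0, 1, 0, 0, 0, 1],
  [1, 0, 1, 0, 1, 0, 0, 0, 0, 1, 0, 1, 0, 1],
  [1, 0, 1, 0, 0, 0, 1, 0, 0, 0, 1],
  [1, 0, 0, 0, 1, 0, 0, 0, 0, 1, 0, 0, 0, 0, 0, 0],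
  [1, 0, 1, 0, 0, 0, 0, 0, 1, 0, 1],
  [1, 0, 1, 0, 1, 0, 0, 0, 1, 0, 1],
  [0, 0, 0, 0, 0, 1, 0, 1, 0, 0, 1],
  [0, 0, 1, 0, 0, 1, 0, 1, 0, 0],
  [0, 0, 1, 0, 0, 0, 1, 0, 0],
  [0, 0, 1, 0, 1, 0, 0, 0, 0],
  [0, 0, 0, 0, 0, 1, 0, 0, 0, 0, 1, 0, 0],
  [1, 0, 1, 0, 1, 0, 1, 0, 1, 0, 1, 0, 0, 0, 1],
  [1, 0, 1, 0, 1, 0, 0, 1, 0, 1, 0, 0, 1, 0, 0, 0, 0],
  [0, 1, 0, 1, 0, 1],
  [1, 0, 0, 1, 0, 0, 0, 1, 0, 1, 0, 1, 0, 0, 0, 0, 0, 0],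
  [0, 0, 0, 0, 0, 1, 0, 0, 1, 0, 1, 0, 1, 0, 0, 0, 0],
  [0, 0, 1, 0, 0, 1, 0, 0, 0, 0, 0, 0, 1, 0, 0, 1],
  [0, 0, 0, 0, 1, 0, 1],
  [1, 0, 1, 0, 1, 0, 0, 1, 0, 0, 0, 1, 0, 0, 0, 0],
  [1, 0, 0, 0, 0, 0, 1, 0, 0, 0, 0, 0, 0, 1, 0, 0],
  [0, 1, 0, 0, 0, 0, 1, 0, 0, 0, 1, 0, 1, 0, 0, 0, 0, 1],
  [0, 0, 0, 0, 0, 1, 0, 1, 0, 0, 0, 0],
  [0, 1, 0, 1, 0, 1, 0, 0, 0, 0, 0, 0, 1, 0, 0],
  [0, 0, 1, 0, 1, 0, 1, 0, 1, 0, 0, 0, 0],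
  [1, 0, 0, 1],
  [1, 0, 0, 0, 0, 1, 0, 0, 0, 0, 0, 0, 1],
  [1, 0, 1, 0, 1, 0, 1, 0, 1, 0, 0, 1],
  [0, 1, 0, 0, 0, 0, 0, 1, 0, 0, 0, 0, 1, 0, 1, 0, 1],
  [1, 0, 1, 0, 0, 0, 0, 0, 1, 0, 0, 0, 1, 0, 0, 0, 1],
  [0, 0, 1, 0, 0, 1, 0, 1, 0, 0, 1],
  [0, 1, 0, 1, 0, 1, 0, 0, 0, 1, 0, 0, 0, 0, 0],
  [1, 0, 1, 0, 0, 0, 0, 1, 0, 1, 0, 0, 0, 0, 0, 0],
  [1, 0, 0, 1, 0, 1, 0, 0, 1],
  [0, 0, 0, 0, 1, 0, 1, 0, 0, 1],
  [1, 0, 0, 0, 0, 0, 1, 0, 1, 0, 0, 0, 0],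
  [0, 1, 0, 0, 1],
  [0, 1, 0, 0, 1, 0, 0, 0, 0, 0, 0, 1, 0, 0],
  [0, 1, 0, 0, 0, 0, 0, 1, 0, 1, 0, 0, 0, 1],
  [0, 1, 0, 1, 0, 0, 0, 0, 0, 1, 0, 0, 1, 0, 0, 0, 0],
  [0, 0, 1, 0, 0, 0, 1, 0, 0, 0, 1, 0, 1, 0, 0],
  [1, 0, 1, 0, 1],
  [0, 0, 0, 1, 0, 1],
  [0, 0, 0, 0, 1, 0, 0, 1, 0, 1, 0, 1, 0, 0, 0, 0],
  [1, 0, 1, 0, 1, 0, 0, 0, 1, 0, 0, 0, 0, 0],
  [0, 0, 1, 0, 0, 0, 0, 1, 0, 1, 0, 1, 0, 1],
  [0, 0, 1, 0, 1, 0, 0, 1, 0, 0, 1, 0, 1, 0, 0],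
  [0, 0, 1, 0, 1, 0, 0, 1],
  [0, 0, 1, 0, 1, 0, 1, 0, 0, 0, 0, 0, 0, 1, 0, 1],
  [1, 0, 0, 0, 0, 1, 0, 0, 0, 1, 0, 1, 0, 0, 0, 0, 1],
  [1, 0, 0, 0, 0, 1, 0, 0],
  [1, 0, 0, 0, 0, 0, 1, 0, 1, 0, 0, 0, 1],
  [0, 1, 0, 0, 0, 0, 1, 0, 0, 0, 0, 1],
  [0, 1, 0, 1, 0, 0, 0, 0, 0, 0, 1, 0, 1],
  [0, 1, 0, 0, 0, 1, 0, 0, 0, 0, 1, 0, 1, 0, 0],
  [0, 0, 1, 0, 0, 0, 0, 0, 0, 1],
  [0, 0, 0, 1, 0, 0, 0, 0, 1, 0, 0, 1],
  [1, 0, 0, 1, 0, 0, 0, 1, 0, 0, 0, 0, 1, 0, 1, 0, 0],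
  [1, 0, 1, 0, 0, 1, 0, 1, 0, 1, 0, 1, 0, 0, 0, 0],
  [0, 1, 0, 0, 0, 1, 0, 0, 0, 1, 0, 1, 0, 0],
  [0, 0, 0, 0, 0, 0, 1, 0, 1, 0, 0, 0, 0],
  [0, 0, 0, 0, 1, 0, 0, 1, 0, 1, 0, 0, 0, 0],
  [0, 0, 1, 0, 0, 1, 0, 0, 0, 0, 0, 0, 1],
  [1, 0, 1, 0, 0, 1, 0, 0, 1, 0, 0, 0, 0, 0],
  [1, 0, 0, 0, 1, 0, 1, 0, 0, 0, 1, 0, 1],
  [0, 0, 0, 1, 0, 1, 0, 0, 1],
  [0, 1, 0, 0, 0, 0, 0, 1, 0, 1, 0, 0, 0, 0, 1],
  [0, 1, 0, 1, 0, 0, 1, 0, 0, 0, 0, 0, 1],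
  [1, 0, 0, 0, 0, 0, 0, 1, 0, 1, 0, 0, 0, 0, 1],
  [1, 0, 1, 0, 0, 1, 0, 1, 0, 1, 0, 0, 0, 0],
  [0, 0, 1, 0, 0, 0, 0, 1, 0, 0, 0, 1],
  [0, 0, 0, 0, 0, 0, 1, 0, 0, 0, 1],
  [0, 1, 0, 0, 1, 0, 1, 0, 0],
  [1, 0, 1, 0, 1, 0, 0, 0, 1, 0, 0, 0, 0, 1, 0, 0],
  [0, 0, 1, 0, 0, 0, 1],
  [0, 1, 0, 1, 0, 1, 0, 1, 0, 0, 1],
  [1, 0, 1, 0, 0, 1, 0, 1, 0, 0],
  [1, 0, 0, 1, 0, 0, 1, 0, 1, 0, 0, 1],
  [0, 0, 1, 0, 1, 0, 1, 0, 1, 0, 1],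
  [0, 0, 1, 0, 1, 0, 1, 0, 0, 1, 0, 0, 0, 0],
  [1, 0, 0, 0, 1, 0, 0, 1],
  [0, 0, 1, 0, 0, 0, 1, 0, 0, 0, 0, 0, 0],
  [0, 0, 1, 0, 0, 0, 1, 0, 0, 0, 0, 1, 0, 1, 0, 0],
  [0, 0, 0, 1, 0, 0, 0, 0, 0, 0, 1],
  [1, 0, 0, 1, 0, 1, 0, 1, 0, 1, 0, 0, 0, 0],
  [1, 0, 0, 0, 1, 0, 0, 0, 1, 0, 1, 0, 1],
  [0, 0, 1, 0, 0, 1, 0, 0, 0, 1, 0, 0],
  [1, 0, 0, 1, 0, 0, 0, 0, 0, 0],
  [0, 0, 0, 0, 1, 0, 0, 0, 1, 0, 0],
  [0, 1, 0, 0, 0, 0, 1, 0, 0, 0, 0, 0, 0, 1],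
  [0, 0, 0, 0, 0, 0, 1, 0, 1, 0, 0, 0, 0, 0, 0],
  [0, 0, 1, 0, 0, 0, 1, 0, 1, 0, 1, 0, 0, 0, 0, 0, 1],
  [0, 0, 0, 1, 0, 1, 0, 0, 1, 0, 0, 0, 0, 0, 0],
  [0, 0, 1, 0, 0, 0, 1, 0, 1, 0, 1, 0, 0, 0, 0],
  [1, 0, 0, 0, 0, 1, 0, 1, 0, 0, 0, 1, 0, 1],
  [1, 0, 1, 0, 0, 0, 0, 1, 0, 0],
  [0, 0, 0, 1, 0, 1, 0, 1, 0, 1, 0, 0, 0, 0],
  [0, 1, 0, 1, 0, 0, 0, 1, 0, 0, 0, 0, 1],
  [0, 0, 0, 1, 0, 1, 0, 1, 0, 0, 0, 0, 1, 0, 0, 1],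
  [0, 0, 0, 0, 0, 1, 0, 1, 0, 0, 0, 0, 0, 1, 0, 1],
  [0, 1, 0, 0, 1, 0, 1, 0, 1, 0, 0, 0, 0, 0, 1],
  [1, 0, 1, 0, 0, 1, 0, 0, 1, 0, 1, 0, 0],
  [1, 0, 0, 0, 0, 0, 1, 0, 0, 0, 0, 1, 0, 0, 0, 0],
  [0, 0, 0, 1, 0, 0, 0, 0, 1, 0, 1, 0, 1, 0, 1],
  [1, 0, 0, 0, 1, 0, 1, 0, 0, 0, 1, 0, 1, 0, 1],
  [0, 0, 0, 0, 0, 1, 0, 1, 0, 1, 0, 1, 0, 0, 0, 0],
  [0, 0, 0, 1, 0, 0, 1, 0, 1, 0, 0, 0, 0],
  [1, 0, 0, 0, 1, 0, 0, 0, 0, 0, 1, 0, 1, 0, 0],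
  [1, 0, 0, 1, 0, 0, 0, 1, 0, 0, 0, 0, 0, 0],
  [0, 1, 0, 0, 0, 0, 1, 0, 0],
  [0, 1, 0, 0, 0, 1, 0, 0, 1, 0, 1, 0, 0, 0, 0, 1],
  [1, 0, 0, 0, 0, 1, 0, 1, 0, 0, 0, 0, 0, 1, 0, 1],
  [1, 0, 0, 1, 0, 0, 0, 0, 0, 0, 1, 0, 0],
  [0, 1, 0, 0, 0, 0, 1, 0, 1, 0, 1, 0, 1],
  [1, 0, 1, 0, 0, 1, 0, 0, 0, 0, 0, 0],
  [0, 1, 0, 1, 0, 0, 0, 1, 0, 1, 0, 0, 0, 0, 1],
  [0, 1, 0, 1, 0, 0, 0, 0, 0, 1, 0, 0, 0, 0, 0, 0],
  [1, 0, 1, 0, 0, 0, 1, 0, 0, 0, 0, 1],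
  [0, 1, 0, 0, 1, 0, 1, 0, 0, 0, 0, 1, 0, 0, 0, 1, 0, 0],
  [0, 0, 1, 0, 1, 0, 0, 0, 0, 1, 0, 0],
  [0, 0, 0, 0, 0, 0, 1, 0, 0, 0, 0, 1, 0, 0],
  [0, 0, 0, 1, 0, 0, 1, 0, 0, 0, 0, 0, 1],
  [1, 0, 0, 0, 0, 1, 0, 1, 0, 1, 0, 1],
  [1, 0, 0, 0, 0, 0, 1, 0, 1, 0, 0, 1, 0, 0, 0, 0, 0, 0],
  [0, 0, 0, 0, 0, 1, 0, 0, 0, 1, 0, 0],
  [0, 1, 0, 0, 1, 0, 0, 0, 0, 0, 0],
  [1, 0, 0, 1, 0, 0, 0, 0, 0, 0, 1],
  [1, 0, 0, 0, 0, 0, 0, 1, 0, 1, 0, 0, 0, 0],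
  [0, 1, 0, 0, 0, 0, 0, 1, 0, 0, 0, 1, 0, 0, 0, 1],
  [1, 0, 1, 0, 0, 1, 0, 1, 0, 0, 0, 0, 0, 1, 0, 1],
  [0, 0, 0, 0, 1, 0, 0, 0, 0, 1, 0, 0],
  [0, 0, 0, 1, 0, 0, 0, 1, 0, 0, 0, 0, 1, 0, 1, 0, 0],
  [0, 1, 0, 0, 1, 0, 0, 0, 0, 0, 0, 1, 0, 0, 1],
  [0, 0, 1, 0, 0, 1, 0, 1, 0, 0, 0, 0],
  [1, 0, 1, 0, 1, 0, 0, 0, 0, 0, 0, 1, 0, 0],
  [0, 0, 0, 0, 1, 0, 1, 0, 0, 0, 0],
  [0, 0, 0, 0, 1, 0, 0, 1, 0, 0, 0, 0, 0, 1],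
  [0, 0, 1, 0, 1],
  [0, 0, 1, 0, 1, 0, 1, 0, 0, 0, 0, 1, 0, 0, 1],
  [0, 0, 0, 0, 1, 0, 1, 0, 0, 0, 0, 0, 1, 0, 1],
  [0, 0, 1, 0, 1, 0, 0, 0, 0, 0, 0],
  [0, 0, 1, 0, 0, 0, 0, 1, 0, 0, 1],
  [0, 1, 0, 1, 0, 1, 0, 1, 0, 1],
  [0, 0, 0, 0, 1, 0, 1, 0, 1, 0, 1, 0, 0, 1],
  [0, 1, 0, 0, 0, 0, 1, 0, 0, 0, 1],
  [0, 0, 0, 1, 0, 0, 0, 1, 0, 0, 0, 0, 0, 0],
  [0, 0, 0, 0, 0, 1, 0, 0, 0, 1],
  [0, 0, 0, 0, 0, 0, 1, 0, 0, 1],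
  [0, 0, 0, 1, 0, 0, 0, 0, 0, 1, 0, 0, 1],
  [0, 1, 0, 0, 0, 1, 0, 0, 0, 0, 1, 0, 0, 0, 0],
  [0, 1, 0, 0, 1, 0, 1, 0, 0, 1],
  [1, 0, 0, 0, 0, 0, 1, 0, 0, 0, 1],
  [0, 1, 0, 0, 0, 1, 0, 0, 0, 0, 1],
  [0, 1, 0, 1, 0, 0, 1, 0, 1, 0, 0],
  [0, 1, 0, 0, 0, 1, 0, 1, 0, 1, 0, 0, 0, 0],
  [0, 1, 0, 0, 1, 0, 0, 1, 0, 1, 0, 0, 1],
  [1, 0, 0, 1, 0, 1, 0, 0, 1, 0, 0, 0, 0],
  [0, 1, 0, 1, 0, 0, 1, 0, 1, 0, 1, 0, 1],
  [0, 0, 0, 1, 0, 1, 0, 1],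
  [1, 0, 1, 0, 0, 0, 1, 0, 1, 0, 0, 0, 0, 1],
  [1, 0, 0, 0, 0, 1, 0, 0, 0, 0, 0, 1],
  [0, 0, 1, 0, 0, 1, 0, 0, 0, 0, 0, 0],
  [0, 1, 0, 1, 0, 0, 0, 0, 1, 0, 0, 0, 0],
  [0, 0, 0, 0, 0, 0, 1, 0, 0, 0, 1, 0, 0],
  [1, 0, 0, 0, 1, 0, 1],
  [0, 0, 0, 0, 0, 1, 0, 1, 0, 0, 1, 0, 0, 0, 0, 0, 0],
  [1, 0, 0, 1, 0, 1, 0, 1, 0, 0, 0, 0, 1, 0, 0, 1],
  [0, 1, 0, 0, 1, 0, 0, 1, 0, 1, 0, 0, 0, 0, 1],
  [0, 0, 0, 1, 0, 1, 0, 0, 0, 0, 0, 1, 0, 1],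
  [0, 1, 0, 1],
  [0, 1, 0, 1, 0, 1, 0, 0, 0, 0, 1, 0, 0, 1],
  [1, 0, 1, 0, 0, 0, 0, 0, 1],
  [1, 0, 0, 0, 1, 0, 0, 1, 0, 1, 0, 0, 0, 0, 1],
  [1, 0, 0, 1, 0, 1, 0, 1, 0, 0, 0, 0],
  [1, 0, 0, 0, 0, 0, 1, 0, 0, 0, 1, 0, 0, 0, 1],
  [1, 0, 0, 0, 0, 1, 0, 1, 0, 1],
  [0, 0, 1, 0, 1, 0, 1],
  [1, 0, 1, 0, 0, 0, 0, 0, 1, 0, 0, 0, 0, 0, 0],
  [0, 0, 1, 0, 0, 1],
  [1, 0, 1, 0, 0, 0, 0, 1, 0, 0, 0, 0, 0, 0, 1],
  [1, 0, 0, 1, 0, 0, 0, 1, 0, 1, 0, 1, 0, 0, 0, 1],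
  [0, 0, 0, 1, 0, 0, 1],
  [0, 1, 0, 1, 0, 1, 0, 0, 1, 0, 0, 0, 1, 0, 0, 0, 0],
  [0, 1, 0, 0, 1, 0, 1, 0, 1, 0, 0, 0, 1],
  [1, 0, 0, 0, 1, 0, 0, 0, 1, 0, 0, 0, 0, 0],
  [0, 0, 0, 0, 1, 0, 0, 0, 0, 0, 0, 1],
  [0, 1, 0, 0, 1, 0, 1, 0, 1, 0, 1, 0, 0, 0, 0],
  [0, 0, 0, 1, 0, 0, 1, 0, 1, 0, 0, 1],
  [0, 0, 0, 1, 0, 0, 0, 0, 0, 1, 0, 1, 0, 0],
  [0, 1, 0, 0, 0, 0, 0, 1, 0, 1, 0, 0, 1, 0, 0, 0, 0, 0, 0],
  [1, 0, 0, 1, 0, 1, 0, 1, 0, 0, 1, 0, 0, 0, 0, 0],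
  [0, 1, 0, 1, 0, 0, 1, 0, 1, 0, 1, 0, 0, 0, 0],
  [1, 0, 0, 1, 0, 0, 0, 0, 1, 0, 1, 0, 1, 0, 1],
  [1, 0, 1, 0, 1, 0, 0, 0, 0, 0, 0, 1, 0, 1],
  [1, 0, 1, 0, 0, 1],
  [0, 0, 0, 0, 1, 0, 1, 0, 1],
  [1, 0, 1, 0, 0, 0, 1, 0, 1, 0, 1, 0, 0, 0, 0],
  [1, 0, 1, 0, 1, 0, 1, 0, 1, 0, 1],
  [0, 1, 0, 0, 1, 0, 1, 0, 1, 0, 0, 0, 0],
  [0, 0, 0, 0, 0, 1, 0, 1, 0, 0, 0, 0, 0, 1],
  [1, 0, 0, 1, 0, 1, 0, 0, 0, 1, 0, 1, 0, 1],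
  [1, 0, 0, 1, 0, 0, 1, 0, 1, 0, 0, 0, 0, 1],
  [1, 0, 0, 0, 0, 0, 1, 0, 0, 0, 0, 1, 0, 0],
  [1, 0, 0, 1, 0, 1, 0, 1, 0, 0, 0, 1],
  [0, 0, 0, 1, 0, 0, 1, 0, 1, 0, 1, 0, 0, 0, 0, 0, 1],
  [0, 0, 1, 0, 0, 0, 0, 0, 1, 0, 1, 0, 0, 0, 1],
  [0, 0, 0, 1, 0, 0, 1, 0, 1, 0, 1, 0, 0, 0, 0],
  [1, 0, 0, 0, 0, 1, 0, 0, 0, 0, 1, 0, 1, 0, 1],
  [1, 0, 0, 0, 1, 0, 0, 0, 1, 0, 1, 0, 0, 0, 0, 1],
  [0, 1, 0, 0, 1, 0, 0, 0, 0, 0, 0, 1],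
  [0, 0, 1, 0, 0, 1, 0, 1, 0, 1, 0, 1, 0, 0, 0, 0],
  [0, 0, 0, 0, 0, 1, 0, 0, 0, 0, 0, 0, 1],
  [1, 0, 0, 0, 0, 0, 1, 0, 0, 1, 0, 1, 0, 0, 1],
  [0, 0, 0, 0, 1, 0, 1, 0, 1, 0, 1, 0, 0, 0, 0],
  [1, 0, 0, 1, 0, 0, 0, 1, 0, 1, 0, 1, 0, 1],
  [0, 0, 1, 0, 0, 0, 0, 0, 1, 0, 0, 1],
  [1, 0, 0, 1, 0, 0, 0, 0, 0, 1],
  [0, 0, 0, 0, 1, 0, 1, 0, 0, 1, 0, 0, 0, 0, 0, 0],
  [1, 0, 0, 0, 0, 1, 0, 1, 0, 0, 0, 1, 0, 1, 0, 0, 1],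
  [0, 1, 0, 1, 0, 0, 0, 0, 1, 0, 0],
  [1, 0, 0, 1, 0, 0, 0, 0, 0, 1, 0, 0, 0, 0, 0, 0],
  [0, 0, 0, 1, 0, 0, 0, 0, 0, 1, 0, 0, 0, 0],
  [0, 0, 1, 0, 0, 1, 0, 1, 0, 1, 0, 0, 0, 1],
  [0, 0, 1, 0, 0, 0, 0, 1, 0, 0],
  [1, 0, 0, 0, 0, 0, 1, 0, 0, 1, 0, 0, 0, 0],
  [1, 0, 0, 1, 0, 1, 0, 0, 0, 0, 1, 0, 0, 0, 1, 0, 0],
  [1, 0, 0, 1, 0, 1, 0, 1, 0, 0, 0, 0, 0, 1],
  [0, 1, 0, 0, 0, 1, 0, 1, 0, 0, 0, 1, 0, 1, 0, 1],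
  [0, 1, 0, 1, 0, 0, 1, 0, 0, 1, 0, 1, 0, 0],
  [0, 1, 0, 0, 1, 0, 1, 0, 1, 0, 0, 1, 0, 0, 0, 0, 0],
  [0, 1, 0, 0, 0, 0, 1, 0, 0, 1],
  [1, 0, 1, 0, 1, 0, 1, 0, 0, 0, 0, 0, 0],
  [1, 0, 1, 0, 0, 1, 0, 0, 1, 0, 1, 0, 1, 0, 1],
  [0, 0, 0, 0, 0, 1, 0, 1, 0, 0, 0, 0, 0, 0],
  [0, 0, 0, 0, 1, 0, 0, 0, 0, 0, 1, 0, 1, 0, 0],
  [0, 1, 0, 0, 0, 1, 0, 1, 0, 0, 0, 0, 1, 0, 0],
  [0, 1, 0, 1, 0, 0, 1],
  [0, 1, 0, 1, 0, 1, 0, 0, 0, 0, 0, 0, 1, 0, 1],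
  [0, 0, 0, 0, 1, 0, 0, 0, 0, 0, 1, 0, 0, 0, 0],
  [1, 0, 0, 0, 0, 0, 1, 0, 1, 0, 0, 0, 0, 1],
  [1, 0, 1, 0, 0, 0, 0, 0, 1, 0, 0, 0, 0],
  [1, 0, 1, 0, 0, 0, 0, 0, 1, 0, 0, 0, 1, 0, 0, 0, 0, 0],
  [1, 0, 0, 0, 0, 0, 0, 1, 0, 0, 1, 0, 0, 0, 0, 0],
  [0, 0, 0, 0, 1, 0, 1, 0, 1, 0, 0, 0, 0, 1, 0, 0, 1],
  [1, 0, 1, 0, 0, 1, 0, 1, 0, 1, 0, 1],
  [0, 0, 0, 1, 0, 0, 0, 0, 1, 0, 0],
  [1, 0, 0, 0, 0, 0, 1, 0, 0, 0, 1, 0, 0, 0, 0, 0, 0],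
  [1, 0, 0, 0, 0, 0, 1, 0, 0, 1, 0, 0, 1, 0, 1, 0, 0],
  [1, 0, 0, 1, 0, 0, 0, 0, 0, 1, 0, 1],
  [0, 0, 1, 0, 0, 1, 0, 1, 0, 1, 0, 0, 0, 0],
  [0, 0, 1, 0, 0, 1, 0, 1, 0, 1, 0, 0, 0, 0, 0, 1],
  [0, 1, 0, 0, 0, 0, 0, 1, 0, 1, 0, 1, 0, 0, 0, 0],
  [1, 0, 0, 0, 0, 0, 1, 0, 0, 0, 0, 1, 0, 1, 0, 1],
  [1, 0, 0, 1, 0, 0, 0, 1, 0, 0],
  [1, 0, 0, 1, 0, 1, 0, 0, 0, 0],
  [0, 0, 1, 0, 0, 1, 0, 0, 1, 0, 1, 0, 0, 1],
  [0, 0, 1, 0, 1, 0, 0, 0, 0, 0, 1, 0, 0, 0, 0, 0, 0],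
  [1, 0, 0, 0, 0, 0, 0, 1, 0, 1, 0, 1, 0, 0, 0, 0],
  [1, 0, 0, 0, 1, 0, 1, 0, 1, 0, 1, 0, 0, 1],
  [0, 0, 0, 1, 0, 1, 0, 0, 0, 0, 0, 0],
  [1, 0, 0, 0, 0, 0, 1, 0, 0, 0, 0, 0],
  [1, 0, 1, 0, 1, 0, 0, 1, 0, 0, 0, 0],
  [0, 0, 0, 1, 0, 0, 0, 0, 1, 0, 1, 0, 1],
  [1, 0, 0, 1, 0, 1, 0, 1, 0, 1, 0, 0, 0, 1],
  [0, 0, 1, 0, 0, 0, 0, 0, 1, 0, 0, 0, 0, 0],
  [1, 0, 0, 0, 1, 0, 0, 1, 0, 0, 0, 0, 0],
  [1, 0, 0, 0, 1, 0, 1, 0, 1, 0, 0, 0, 0, 0, 1],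
  [0, 0, 0, 0, 0, 1, 0, 1, 0, 1],
  [0, 0, 0, 0, 1, 0, 0, 0, 1, 0, 0, 0, 0, 0, 0],
  [0, 0, 0, 1, 0, 1, 0, 0, 0, 0, 1, 0, 0],
  [0, 0, 0, 0, 0, 1, 0, 0, 1, 0, 1, 0, 0, 0, 0],
  [1, 0, 1, 0, 0, 0, 0],
  [0, 1, 0, 0, 1, 0, 1, 0, 0, 0, 1, 0, 1, 0, 1],
  [1, 0, 1, 0, 0, 0, 0, 0],
  [0, 0, 1, 0, 1, 0, 1, 0, 0, 0, 0, 1, 0, 0],
  [1, 0, 0, 0, 0, 0, 1, 0, 0, 1],
  [1, 0, 0, 0, 1, 0, 0, 0, 1, 0, 1, 0, 1, 0, 1],
  [0, 0, 0, 0, 0, 1, 0, 0, 1, 0, 0, 0, 0, 0, 1],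
  [0, 0, 0, 1, 0, 0, 1, 0, 0, 0, 0, 0, 0, 1],
  [0, 0, 1, 0, 0, 0, 1, 0, 0, 0, 0, 1],
  [0, 1, 0, 0, 0, 0, 0, 1, 0, 1, 0, 0],
  [0, 1, 0, 0, 1, 0, 1, 0, 0, 1, 0, 0, 0, 0],
  [0, 1, 0, 0, 0, 1, 0, 0, 0, 1, 0, 1, 0, 1],
  [1, 0, 0, 0, 1, 0, 0, 0, 1, 0, 0, 0, 0, 1],
  [1, 0, 1, 0, 1, 0, 1, 0, 0, 0, 0],
  [1, 0, 0, 0, 0, 0, 1, 0, 0, 0, 0],
  [0, 0, 0, 1, 0, 0, 0, 0, 1, 0, 0, 0, 1],
  [0, 1, 0, 1, 0, 0, 0, 0, 0, 1],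
  [0, 0, 0, 1, 0, 0, 0, 1],
  [1, 0, 1, 0, 0, 0, 1, 0, 1, 0, 1, 0, 0, 0, 1],
  [1, 0, 0, 1, 0, 0, 1, 0, 1, 0, 1, 0, 1, 0, 0, 1],
  [1, 0, 0, 1, 0, 0, 0, 0, 0, 1, 0, 1, 0, 0],
  [1, 0, 0, 0, 1, 0, 0, 0, 0, 0, 0],
  [0, 0, 0, 0, 0, 1, 0, 1],
  [0, 1, 0, 0, 0, 1, 0, 1],
  [1, 0, 0, 0, 1, 0, 0],
  [0, 1, 0, 1, 0, 1, 0, 1, 0, 1, 0, 0, 1],
  [1, 0, 0, 1, 0, 0, 0, 1, 0, 0, 0, 1],
  [0, 1, 0, 0, 0, 0, 0, 1, 0, 1, 0, 0, 0, 0],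
  [0, 1, 0, 0, 1, 0, 0, 0, 1, 0, 0, 0, 0, 0, 0],
  [0, 1, 0, 0, 0, 0, 1, 0, 1, 0, 1],
  [0, 0, 0, 1, 0, 1, 0, 0, 0, 0, 0, 1],
  [0, 1, 0, 0, 1, 0, 0, 0, 0, 0, 1],
  [1, 0, 1, 0, 0, 0, 0, 1, 0, 0, 0, 1, 0, 0],
  [0, 1, 0, 1, 0, 1, 0, 1, 0, 0, 0, 1],
  [0, 0, 1, 0, 1, 0, 1, 0, 1, 0, 0, 1],
  [1, 0, 0, 1, 0, 1, 0, 0, 0, 0, 0, 1],
  [0, 0, 1, 0, 0, 0, 0, 1, 0, 0, 0, 0, 0, 0, 1],
  [1, 0, 0, 0, 1],
  [1, 0, 0, 0, 0, 1, 0, 1, 0, 0, 0, 0, 0, 1],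
  [0, 0, 1, 0, 1, 0, 1, 0, 0, 0, 1, 0, 1],
  [0, 1, 0, 0, 1, 0, 0, 0, 0, 0, 1, 0, 1],
  [0, 0, 0, 0, 1, 0, 0, 1, 0, 1, 0, 0, 1],
  [1, 0, 1, 0, 0, 0, 0, 0, 0],
  [0, 0, 0, 0, 1, 0, 0, 1],
  [1, 0, 0, 0, 1, 0, 0, 1, 0, 1, 0, 0, 0, 1, 0, 0],
  [0, 0, 1, 0, 1, 0, 0, 0, 1, 0, 0, 0, 0, 1],
  [0, 1, 0, 0, 0, 0, 0, 1, 0, 0, 1, 0, 0, 0, 0],
  [1, 0, 0, 1, 0, 0, 1, 0, 0, 0, 0, 0, 1],
  [1, 0, 1, 0, 1, 0, 1, 0, 1, 0, 0, 0, 0],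
  [0, 0, 0, 0, 1, 0, 0, 0, 0, 1, 0, 1, 0, 1, 0, 1],
  [0, 0, 0, 0, 0, 0],
  [1, 0, 0, 1, 0, 0, 0, 1, 0, 0, 0, 0, 0],
  [1, 0, 1, 0, 1, 0, 1, 0, 0, 0, 1, 0, 1],
  [1, 0, 0, 1, 0, 0, 1, 0, 0, 0, 0, 0],
  [1, 0, 0, 0, 1, 0, 1, 0, 0, 0, 0],
  [1, 0, 1, 0, 0, 0, 0, 0, 0, 1],
  [1, 0, 0, 0, 0, 1, 0, 1, 0, 0, 0, 0, 0, 0, 1],
  [0, 0, 1, 0, 0, 0, 0, 0, 0, 1, 0, 1],
  [0, 0, 1, 0, 1, 0, 1, 0, 1],
  [1, 0, 0, 0, 0, 1, 0, 0, 1, 0, 0, 0, 0],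
  [0, 1, 0, 0, 0, 1, 0, 0, 0, 0, 1, 0, 0],
  [1, 0, 0, 0, 0, 1, 0, 0, 0, 1, 0, 1, 0, 1, 0, 1],
  [1, 0, 0, 1, 0, 1, 0, 0, 1, 0, 0, 0, 0, 0, 0],
  [1, 0, 0, 0, 1, 0, 0, 0, 1, 0, 0],
  [0, 0, 1, 0, 1, 0, 0, 0, 1, 0, 1, 0, 0],
  [0, 0, 0, 1, 0, 0, 1, 0, 0, 0, 0, 0, 1, 0, 0],
  [0, 0, 0, 0, 0, 1, 0, 0, 0, 1, 0, 0, 0, 0],
  [0, 0, 1, 0, 1, 0, 0, 0, 0, 0, 1, 0, 1, 0, 0],
  [1, 0, 0, 1, 0, 1, 0, 0, 0, 0, 1, 0, 0, 1],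
  [0, 0, 0, 0, 0, 1, 0, 0, 0, 0, 0, 0],
  [0, 1, 0, 0, 0, 1, 0, 1, 0, 1, 0, 0, 0, 0, 0, 0],
  [0, 1, 0, 1, 0, 0, 0, 0, 1, 0, 0, 1],
  [0, 0, 0, 0, 0, 1],
  [0, 0, 0, 1, 0, 0, 0, 0, 1],
  [1, 0, 0, 0, 0, 0, 0, 1, 0, 0, 0, 0, 0],
  [0, 1, 0, 1, 0, 0],
  [0, 0, 1, 0, 0, 1, 0, 0, 0, 0],
  [1, 0, 0, 0, 0, 0, 0, 1, 0, 0],
  [0, 1, 0, 0, 0, 1, 0, 0, 0, 0, 0],
  [1, 0, 0, 1, 0, 1, 0, 1, 0, 0, 1],
  [0, 1, 0, 1, 0, 1, 0, 0, 0, 0, 1, 0, 0, 0, 0],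
  [0, 1, 0, 0, 0, 0, 0, 0, 1, 0, 0, 1],
  [0, 0, 0, 0, 0, 0, 1, 0, 1, 0, 0, 0, 1],
  [0, 0, 1, 0, 0, 0, 0, 0, 0, 1, 0, 1, 0, 1],
  [0, 0, 0, 0, 0, 1, 0, 0, 0, 1, 0, 0, 0, 0, 0],
  [0, 1, 0, 1, 0, 1, 0, 0, 1],
  [0, 0, 0, 0, 0, 1, 0, 0, 0, 0, 0, 1],
  [1, 0, 0, 1, 0, 1, 0, 0, 0, 0, 1],
  [1, 0, 0, 0, 0, 0, 1, 0, 1, 0, 1],
  [0, 0, 0, 0, 1, 0, 1, 0, 1, 0, 0, 0, 1],
  [0, 0, 0, 0, 0, 1, 0, 0, 0, 0, 0],
  [1, 0, 0, 1, 0, 0, 0, 1, 0, 0, 0, 0, 1],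
  [0, 1, 0, 1, 0, 0, 1, 0, 1, 0, 0, 1],
  [0, 1, 0, 0, 1, 0, 1, 0, 0, 0, 1, 0, 1, 0, 0],
  [1, 0, 0, 0, 1, 0, 0, 0, 0, 1, 0, 0, 0, 1],
  [0, 0, 0, 0, 1, 0, 0, 0, 0, 0, 0, 1, 0, 0],
  [0, 0, 0, 0, 1, 0, 0, 0, 0, 1, 0, 0, 0, 0],
  [0, 1, 0, 1, 0, 0, 1, 0, 0, 0, 0],
  [0, 0, 1, 0, 0, 0, 1, 0, 0, 0, 0],
  [1, 0, 0, 0, 0, 0, 1, 0, 1],
  [0, 0, 0, 1, 0, 0],
  [0, 1, 0, 0, 0, 1, 0, 1, 0, 1, 0, 0, 0, 1],
  [1, 0, 0, 0, 0, 1],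
  [1, 0, 1, 0, 0, 0, 1, 0, 1],
  [0, 0, 0, 0, 0, 0, 1, 0, 0, 0, 1, 0, 1, 0, 1],
  [0, 1, 0, 1, 0, 1, 0, 0, 0, 0],
  [1, 0, 1, 0, 0, 0, 0, 1, 0, 1, 0, 0, 0, 0, 0, 0, 1],
  [0, 0, 0, 0, 1, 0, 1, 0, 1, 0, 0, 0, 0],
  [0, 0, 0, 1, 0, 1, 0, 0],
  [0, 0, 1, 0, 0, 0, 0, 1, 0, 0, 0, 0],
  [0, 0, 0, 1, 0, 1, 0, 1, 0, 0, 0, 0, 0, 1],
  [0, 1, 0, 0, 0, 0],
  [0, 0, 1, 0, 0, 0, 1, 0, 1, 0, 0],
  [0, 1, 0, 0, 1, 0, 0, 0, 0, 0, 1, 0, 1, 0, 0, 0, 0],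
  [1, 0, 1, 0, 1, 0, 0, 0, 0, 0, 1],
  [0, 0, 0, 1, 0, 0, 0, 1, 0, 1, 0, 0, 0, 1],
  [0, 1, 0, 1, 0, 0, 1, 0, 0, 0, 0, 0],
  [0, 0, 0, 1, 0, 0, 0, 1, 0, 1, 0, 1, 0, 1],
  [1, 0, 0, 0, 0, 0, 1, 0, 0, 1, 0, 1, 0, 0, 0, 0],
  [0, 1, 0, 1, 0, 0, 0, 1, 0, 1, 0, 0, 1],
  [0, 1, 0, 0, 0, 0, 0],
  [0, 0, 0, 0, 0, 0, 1, 0, 1, 0, 1, 0, 0, 0, 0],
  [1, 0, 0, 1, 0, 1, 0, 1, 0, 1, 0, 0, 1],
  [0, 1, 0, 1, 0, 0, 0, 1, 0, 0],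
  [1, 0, 0, 0, 0, 1, 0, 0, 0, 0],
  [1, 0, 0, 0, 1, 0, 1, 0, 1, 0, 1],
  [1, 0, 1, 0, 1, 0, 1, 0, 0, 0, 1, 0, 1, 0, 1],
  [1, 0, 1, 0, 0, 0, 0, 1, 0, 1, 0, 1],
  [1, 0, 0, 0, 0, 1, 0, 0, 0, 0, 0, 0],
  [0, 1, 0, 0, 0, 0, 1, 0, 0, 0, 1, 0, 0],
  [0, 0, 0, 1],
  [0, 0, 0, 1, 0, 0, 0, 0, 0, 0],
  [1, 0, 0, 0, 1, 0, 1, 0, 0, 0, 0, 0, 1],
  [0, 0, 1, 0, 0, 0, 1, 0, 0, 0, 1],
  [1, 0, 1, 0, 1, 0, 0, 0, 1, 0, 1, 0, 1],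
  [0, 0, 0, 1, 0, 0, 1, 0, 0, 0, 0, 0],
  [1, 0, 0, 0, 1, 0, 0, 0, 1, 0, 0, 0, 0],
  [1, 0, 0, 1, 0, 0, 0, 0, 0, 1, 0, 0, 0, 0, 0],
  [0, 1, 0, 0, 0, 1, 0, 1, 0, 0, 1],
  [0, 0, 0, 1, 0, 0, 0, 0, 0, 0, 1, 0, 0, 0, 0, 0],
  [1, 0, 1, 0, 0, 1, 0, 1, 0, 0, 0, 1, 0, 1, 0, 1],
  [1, 0, 1, 0, 0, 0, 0, 1],
  [1, 0, 1, 0, 1, 0, 1, 0, 1, 0, 0, 0, 1],
  [0, 0, 0, 0, 0, 0, 1, 0, 1, 0, 1, 0, 1],
  [1, 0, 1, 0, 0, 1, 0, 1, 0, 0, 1, 0, 0, 0, 0],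
  [0, 0, 0, 1, 0, 1, 0, 0, 0, 0, 0, 0, 1],
  [0, 1, 0, 0, 1, 0, 1, 0, 0, 0, 1, 0, 0],
  [0, 1, 0, 0, 1, 0, 0, 0, 0, 0],
  [0, 1, 0, 1, 0, 0, 0, 0, 0, 0, 1, 0, 0, 1],
  [1, 0, 1, 0, 0, 0, 0, 0, 1, 0, 1, 0, 0],
  [1, 0, 0, 0, 1, 0, 0, 0, 1],
  [1, 0, 1, 0, 0, 0, 1, 0, 1, 0, 1],
  [1, 0, 1, 0, 0, 0, 0, 0, 1, 0, 1, 0, 0, 0, 0],
  [0, 0, 0, 0, 0, 1, 0, 0, 0, 0],
  [0, 0, 0, 1, 0, 1, 0, 1, 0, 0, 0, 0, 0, 0],
  [0, 0, 1, 0, 0, 1, 0, 1, 0, 1, 0, 1, 0, 0, 1],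
  [0, 0, 1, 0, 0, 1, 0, 0, 1, 0, 1, 0, 0],
  [1, 0, 1, 0, 0, 1, 0, 0, 0, 0, 1, 0, 1, 0, 1],
  [1, 0, 1, 0, 0, 1, 0, 0, 0, 1, 0, 0, 0, 0],
  [0, 0, 1, 0, 0, 0, 0, 1, 0, 0, 0, 1, 0, 0, 0, 1],
  [0, 0, 1, 0, 1, 0, 0, 0, 0, 0, 1, 0, 0],
  [0, 0, 0, 0, 1, 0, 1, 0, 0, 0, 0, 1],
  [0, 1, 0, 1, 0, 0, 0, 1, 0, 1, 0, 1, 0, 0, 0, 0, 0, 1],
  [1, 0, 0, 1, 0, 0, 0, 0, 1, 0, 0],
  [0, 0, 0, 0, 0, 1, 0, 0, 0, 0, 1],
  [1, 0, 0, 0, 1, 0, 0, 0, 0, 0, 1, 0, 0, 0, 0],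
  [0, 0, 0, 0, 0, 1, 0, 0, 1, 0, 0, 0, 0],
  [0, 1, 0, 0, 1, 0, 1, 0, 1, 0, 0, 0, 0, 1],
  [0, 1, 0, 1, 0, 0, 1, 0, 1, 0, 0, 0, 0, 0, 1],
  [0, 0, 1, 0, 0, 1, 0, 0, 1, 0, 1, 0, 1, 0, 1],
  [0, 0, 0, 1, 0, 1, 0, 0, 0, 0, 0, 0, 1, 0, 0, 1],
  [0, 0, 0, 0, 1, 0, 1, 0, 0, 0, 0, 0, 0, 1, 0, 0, 1],
  [0, 0, 0, 0, 0, 1, 0, 0, 1, 0, 0, 1, 0, 1, 0, 0],
  [1, 0, 0, 0, 1, 0, 0, 0, 0, 0],
  [0, 1, 0, 0, 0, 0, 0, 0, 1, 0, 1, 0, 1],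
  [1, 0, 0, 0, 1, 0, 0, 0, 0, 1, 0, 0],
  [0, 0, 0, 0, 0, 0, 1, 0, 0, 1, 0, 0, 0, 0, 0],
  [0, 0, 0, 0, 0, 1, 0, 0, 1, 0, 0, 0, 0, 0],
  [1, 0, 1, 0, 1, 0, 0, 1],
  [0, 0, 0, 0, 1, 0, 1, 0, 0, 0, 1, 0, 1, 0, 0, 1],
  [1, 0, 0, 0, 0, 0, 1, 0, 0],
  [0, 0, 1, 0, 1, 0, 0, 0, 1, 0, 1, 0, 1],
  [0, 0, 0, 1, 0, 1, 0, 0, 0, 1],
  [0, 0, 1, 0, 0, 0, 1, 0, 1, 0, 1],
  [0, 0, 1, 0, 0, 1, 0, 1, 0, 0, 0, 0, 0, 0],
  [1, 0, 1, 0, 0, 0, 0, 0, 0, 1, 0, 0, 0, 0, 0],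
  [0, 0, 1, 0, 1, 0, 1, 0, 0, 0, 1],
  [0, 0, 0, 1, 0, 0, 1, 0, 1, 0, 1, 0, 1],
  [1, 0, 0, 1, 0, 0, 0, 0],
  [0, 1, 0, 1, 0, 1, 0, 0, 0, 0, 0, 0],
  [0, 0, 0, 1, 0, 0, 0, 1, 0, 1, 0, 0, 0, 0, 1],
  [0, 1, 0, 0, 0, 0, 0, 1, 0, 1, 0, 0, 0, 0, 0, 0],
  [0, 0, 0, 0, 0, 0, 1, 0, 1, 0, 0, 0, 1, 0, 1],
  [1, 0, 0, 1, 0, 0, 0, 0, 0],
  [0, 0, 1, 0, 0, 0, 0, 0, 1, 0, 0],
  [0, 1, 0, 1, 0, 1, 0, 0, 1, 0, 0, 0, 0, 0],
  [0, 1, 0, 1, 0, 0, 0, 1],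
  [0, 0, 1, 0, 0, 1, 0, 1, 0, 0, 0, 0, 1],
  [0, 0, 0, 0, 1, 0, 1, 0, 0, 1, 0, 0, 0, 0, 0],
  [1, 0, 0, 0, 0, 1, 0, 0, 0, 0, 0, 1, 0, 0, 0, 0],
  [0, 0, 0, 1, 0, 1, 0, 1, 0, 0, 0, 0, 1],
  [1, 0, 0, 0, 0, 0, 1, 0, 1, 0, 0, 0, 0, 0, 0],
  [0, 0, 1, 0, 0, 0, 1, 0, 1, 0, 0, 0, 0, 1],
  [1, 0, 1, 0, 0, 0, 0, 1, 0, 0, 1],
  [1, 0, 0, 0, 1, 0, 0, 1, 0, 0, 0, 0],
  [1, 0, 0, 1, 0, 1, 0, 1, 0, 0, 0, 0, 1],
  [1, 0, 1, 0, 1, 0, 0, 0, 0, 1],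
  [0, 1, 0, 0, 0, 0, 0, 1, 0, 0, 0, 1, 0, 0, 0, 0, 0],
  [0, 0, 0, 0, 1, 0, 1, 0, 0, 0, 0, 1, 0, 1, 0, 1],
  [0, 0, 1, 0, 0, 0, 1, 0, 1, 0, 1, 0, 1],
  [0, 0, 1, 0, 0, 0, 0, 0, 1],
  [0, 0, 1, 0, 0, 0, 0, 0, 1, 0, 1],
  [1, 0, 0, 1, 0, 1, 0, 0, 0, 1, 0, 0],
  [0, 0, 0, 0, 0, 1, 0, 1, 0, 1, 0, 1],
  [0, 0, 0, 1, 0, 0, 0, 0, 0, 0, 1, 0, 0],
  [0, 0, 1, 0, 1, 0, 0, 0, 0, 0, 0, 1, 0, 0],
  [0, 0, 0, 0, 0, 1, 0, 1, 0, 0, 0, 0, 0, 0, 1],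
  [1, 0, 0, 0, 0, 1, 0, 1, 0, 0],
  [0, 0, 1, 0, 0, 0, 0, 0, 1, 0, 0, 0, 0, 0, 0],
  [0, 0, 1, 0, 1, 0, 0, 0, 1, 0, 1],
  [1, 0, 0, 0, 0, 1, 0, 1, 0, 1, 0, 1, 0, 0, 0, 0],
  [1, 0, 0, 1, 0, 0, 0, 0, 0, 1, 0, 0, 1],
  [0, 1, 0, 1, 0, 1, 0, 0, 0, 0, 1],
  [1, 0, 1, 0, 0, 1, 0, 0, 0, 1, 0, 0, 0, 0, 1],
  [0, 1, 0, 0, 1, 0, 0, 1, 0, 1, 0, 1, 0, 1],
  [1, 0, 0, 0, 1, 0, 0, 0, 0],
  [0, 0, 1, 0, 1, 0, 1, 0, 0, 0, 0, 0, 1],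
  [1, 0, 0, 1, 0, 0, 0, 0, 0, 1, 0, 1, 0, 0, 0, 1],
  [0, 1, 0, 0, 1, 0, 1, 0, 1, 0, 1],
  [0, 0, 0, 0, 0, 1, 0, 1, 0, 0, 0, 0, 1],
  [0, 0, 1, 0, 0, 0, 0, 1, 0, 1, 0, 0, 0, 0, 1],
  [0, 0, 0, 0, 0, 1, 0, 1, 0, 0, 0, 1],
  [1, 0, 0, 0, 1, 0, 0, 0, 0, 0, 1, 0, 0, 0, 0, 0, 0],
  [0, 0, 1, 0, 1, 0, 1, 0, 0, 0, 1, 0, 1, 0, 1],
  [0, 0, 1, 0, 0, 1, 0, 0, 0, 0, 0, 0, 1, 0, 1],
  [0, 0, 0, 1, 0, 1, 0, 0, 0, 1, 0, 1, 0, 1],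
  [0, 0, 0, 1, 0, 1, 0, 0, 1, 0, 0, 0, 0, 0],
  [0, 1, 0, 0, 0, 0, 0, 1, 0, 0],
  [0, 0, 0, 0, 0, 1, 0, 0, 0, 1, 0, 1, 0, 1],
  [0, 0, 0, 0, 1, 0, 1, 0, 0, 0, 1, 0, 1],
  [0, 1, 0, 0, 1, 0, 0, 1, 0, 1, 0, 0],
  [0, 1, 0, 0, 0, 0, 1, 0, 0, 0, 1, 0, 0, 0, 1],
  [0, 1, 0, 1, 0, 0, 0, 0, 0, 1, 0, 0],
  [0, 0, 0, 1, 0, 1, 0, 0, 0, 0, 1],
  [1, 0, 1, 0, 1, 0, 0, 1, 0, 1, 0, 0],
  [0, 1, 0, 0, 0, 1, 0, 1, 0, 0, 0, 0, 1],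
  [0, 0, 1, 0, 0, 1, 0, 1, 0, 1, 0, 1],
  [1, 0, 1, 0, 0],
  [0, 0, 0, 0, 1, 0, 0, 0, 1, 0, 0, 0, 0],
  [0, 0, 1, 0, 0, 0, 0, 0, 0, 1, 0, 0],
  [1, 0, 0, 0, 0, 1, 0, 0, 0, 1, 0, 0, 0, 0],
  [0, 0, 0, 0, 0, 1, 0, 0, 0, 1, 0, 0, 0, 1],
  [0, 0, 0, 1, 0, 1, 0, 0, 0, 0, 1, 0, 1, 0, 1],
  [0, 0, 0, 0, 1, 0, 0, 1, 0, 0, 1, 0, 1, 0, 0],
  [0, 0, 0, 0, 0, 0, 1, 0, 1, 0, 0, 0, 0, 0, 0, 1],
  [0, 1, 0, 1, 0, 0, 0, 0, 0, 0, 1, 0, 0],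
  [0, 0, 1, 0, 0, 0, 0, 1, 0, 0, 1, 0, 0, 0, 0],
  [0, 0, 0, 0, 1, 0, 1, 0, 1, 0, 1],
  [1, 0, 0, 0, 0, 1, 0, 1, 0, 0, 0, 0],
  [1, 0, 1, 0, 0, 1, 0, 1, 0, 0, 0, 0, 0, 1],
  [0, 1, 0, 1, 0, 0, 0, 1, 0, 1, 0, 0],
  [0, 0, 1, 0, 0, 0, 0, 1],
  [1, 0, 1, 0, 0, 1, 0, 0, 1, 0, 1, 0, 0, 1],
  [0, 0, 0, 0, 0, 0, 1, 0, 0, 1, 0, 0, 0, 0],
  [0, 0, 0, 0, 1, 0, 0, 0, 0, 0, 1],
  [1, 0, 0, 1, 0, 0, 1, 0, 1, 0, 1, 0, 1],
  [0, 0, 0, 0, 1, 0, 0, 0, 1, 0, 1, 0, 0, 1],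
  [0, 0, 0, 0, 1, 0, 0, 0, 1, 0, 1, 0, 0],
  [0, 0, 0, 1, 0, 1, 0, 1, 0, 0, 0, 1],
  [0, 0, 0, 1, 0, 1, 0, 0, 0, 1, 0, 1],
  [0, 0, 1, 0, 0],
  [0, 0, 0, 0, 0, 0, 1, 0, 1, 0, 0, 0, 0, 1],
  [0, 0, 0, 0, 0, 0, 1, 0, 1, 0, 0],
  [0, 0, 0, 1, 0, 0, 0, 0, 0, 1],
  [0, 0, 0, 0, 0],
  [0, 0, 1, 0, 0, 0, 0, 0, 0],
  [0, 1, 0, 0, 1, 0, 1, 0, 0, 0, 0, 0, 1, 0, 1],
  [1, 0, 0, 0, 0, 1, 0, 0, 0, 1, 0, 0],
  [1, 0, 0, 0, 0, 1, 0, 0, 1, 0, 0, 0, 0, 0, 0, 1],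
  [0, 0, 1],
  [0, 1, 0, 0, 0, 0, 1, 0, 1, 0, 0, 0, 0, 0, 0],
  [1, 0, 0, 0, 0, 1, 0, 0, 0, 1, 0, 0, 0, 1],
  [0, 0],
  [0, 1, 0, 0, 1, 0, 1, 0, 0, 0, 0, 1, 0, 1, 0, 1],
  [0, 0, 0],
  [1, 0, 1, 0, 0, 1, 0, 0, 0, 0, 0, 0, 1, 0, 1],
  [0, 0, 0, 0],
  [1, 0, 0, 0, 1, 0, 1, 0, 0, 1, 0, 0, 0, 0, 0],
  [0],
  [1, 0, 1, 0, 1, 0, 1, 0, 0, 0, 1, 0, 0, 0, 0, 0],
  [0, 0, 1, 0, 0, 0, 1, 0, 1, 0, 0, 0, 1],
  [0, 0, 1, 0, 0, 0, 0, 0, 1, 0, 1, 0, 0, 0, 0, 0, 0],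
  [0, 0, 0, 0, 1, 0, 0, 0, 1, 0, 1, 0, 0, 0, 0, 1],
  [0, 1, 0, 0, 0, 1, 0, 1, 0, 0],
  [1, 0, 0, 1, 0, 1, 0, 0, 0, 0, 1, 0, 1, 0, 1],
  [1, 0, 1, 0, 0, 0, 1, 0, 1, 0, 0],
  [0, 0, 0, 1, 0, 0, 0, 0, 0, 1, 0, 0, 0, 0, 0, 0],
  [1, 0, 0, 0, 1, 0, 1, 0, 1, 0, 0, 0, 1],
  [1, 0, 0, 0, 1, 0, 1, 0, 0, 1],
  [0, 0, 0, 1, 0, 0, 0, 0, 0, 1, 0, 1],
  [0, 1, 0, 0, 1, 0, 0, 0, 0, 0, 1, 0, 0, 0, 0],
  [0, 0, 1, 0, 1, 0, 1, 0, 0, 0, 0, 0, 0],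
  [0, 1, 0, 0, 1, 0, 0, 0, 1, 0, 1, 0, 0],
  [1, 0, 0, 0, 0, 0, 1, 0, 1, 0, 0, 0, 1, 0, 1],
  [0, 1, 0, 0, 1, 0, 1, 0, 0, 0, 0, 0, 0],
  [1, 0, 1, 0, 1, 0, 0, 0, 0, 1, 0, 0, 0, 0],
  [0, 1, 0, 0, 0, 0, 0, 1],
  [0, 0, 0, 0, 1, 0, 0, 1, 0, 1, 0, 1, 0, 1],
  [0, 1, 0, 0, 1, 0, 0, 0, 0],
  [0, 1, 0, 0, 0, 0, 0, 1, 0, 0, 0, 0, 0, 0],
  [1, 0, 0, 0, 0, 0, 0, 1, 0, 0, 1],
  [0, 0, 0, 0, 0, 1, 0, 1, 0, 0, 0, 1, 0, 1],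
  [0, 0, 0, 0, 1, 0, 0, 0, 1, 0, 0, 0, 0, 0],
  [0, 1, 0, 0, 1, 0, 0, 0, 0, 0, 0, 1, 0, 1],
  [0, 0, 0, 0, 1, 0, 0, 0, 1, 0, 1, 0, 1],
  [0, 0, 0, 0, 1, 0, 1, 0, 0, 0, 1],
  [0, 1, 0, 0, 0, 1, 0, 0, 0, 0],
  [0, 1, 0, 1, 0, 0, 0, 1, 0, 0, 0, 0, 1, 0, 0],
  [1, 0, 0, 0, 0],
  [1, 0, 1, 0, 0, 0, 0, 0, 1, 0, 0],
  [0, 0, 0, 1, 0, 1, 0, 1, 0, 0, 1],
  [0, 1, 0, 1, 0, 0, 0, 1, 0, 0, 0, 0, 0],
  [0, 0, 1, 0, 1, 0, 0, 0, 1, 0, 0, 0, 0, 0],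
  [0, 0, 1, 0, 1, 0, 0, 0, 0, 1, 0, 1, 0, 1],
  [0, 0, 0, 1, 0, 0, 0, 1, 0, 1, 0, 1],
  [0, 0, 1, 0, 1, 0, 1, 0, 0, 1, 0, 0, 0, 0, 0],
  [0, 0, 0, 0, 1, 0, 0, 0, 1, 0, 0, 0, 1],
  [1, 0, 0, 0, 0, 0],
  [0, 0, 0, 1, 0, 0, 0, 1, 0, 0, 0, 0, 0],
  [0, 0, 0, 0, 0, 0, 1, 0, 0, 0, 0, 1],
  [1, 0, 1, 0, 1, 0, 0, 1, 0, 0, 0, 0, 0, 1],
  [1, 0, 1, 0, 0, 0, 1, 0, 0, 0, 0],
  [1, 0, 0],
  [0, 0, 1, 0, 0, 1, 0, 1, 0, 0, 0, 0, 1, 0, 1, 0, 1],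
  [0, 1, 0, 1, 0, 0, 0, 1, 0, 0, 0, 0],
  [0, 0, 0, 0, 0, 1, 0, 1, 0, 0, 1, 0, 0, 0, 0, 0],
  [0, 0, 1, 0, 0, 1, 0, 0, 0, 0, 0, 1, 0, 0],
  [0, 1, 0, 0],
  [0, 0, 0, 1, 0, 0, 1, 0, 1, 0, 0, 0, 0, 1],
  [1, 0, 0, 0, 1, 0, 1, 0, 0, 0, 0, 1],
  [0, 0, 0, 1, 0, 1, 0, 0, 0, 1, 0, 1, 0, 0, 1],
  [0, 0, 1, 0, 1, 0, 0, 0, 1],
  [1, 0, 1, 0, 0, 1, 0, 1, 0, 0, 1],
  [1, 0, 0, 1, 0, 1, 0, 0, 0, 0, 0, 0],
  [1, 0, 1, 0, 0, 1, 0, 0, 0, 0],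
  [0, 0, 1, 0, 1, 0, 1, 0, 0, 0, 0, 1],
  [1, 0, 0, 0, 1, 0, 0, 0, 0, 0, 0, 1, 0, 0],
  [0, 1, 0, 0, 1, 0, 0, 0, 0, 1, 0, 1, 0, 1],
  [0, 1, 0, 0, 1, 0, 0, 0, 1, 0, 0, 0, 0],
  [0, 1, 0, 1, 0, 1, 0, 1, 0, 0, 0, 1, 0, 0, 0, 0, 0],
  [0, 1, 0, 0, 0, 0, 1, 0, 1, 0, 0],
  [1, 0, 0, 1, 0, 0, 1, 0, 1, 0, 0, 0, 1, 0, 0],
  [1, 0, 0, 0, 0, 0, 0, 1],
  [0, 0, 0, 0, 1, 0, 0, 0, 1],
  [0, 1, 0, 1, 0, 1, 0, 0, 1, 0, 0, 0, 0],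
  [1, 0, 0, 0, 0, 0, 1, 0, 1, 0, 0],
  [1, 0, 0, 0, 1, 0, 1, 0, 0, 0, 1, 0, 0],
  [1, 0, 0, 1, 0, 1, 0, 1, 0, 0, 0, 1, 0, 1],
  [1, 0, 0, 0, 1, 0, 1, 0, 1, 0, 0, 0, 0],
  [0, 0, 1, 0, 1, 0, 0, 0, 0, 0, 1, 0, 1],
  [1, 0, 1, 0, 0, 1, 0, 0, 0, 0, 0, 1, 0, 0],
  [0, 0, 1, 0, 0, 0, 1, 0, 1],
  [1, 0, 0, 0, 1, 0, 0, 0, 1, 0, 1, 0, 0],
  [0, 1, 0, 0, 0, 1, 0, 0, 0, 0, 0, 0],
  [0, 0, 0, 1, 0, 1, 0, 1, 0, 0, 0, 1, 0, 1],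
  [0, 1, 0, 1, 0, 1, 0, 0, 0, 0, 1, 0, 0],
  [0, 1, 0, 0, 1, 0, 0, 0, 1, 0, 0],
  [1, 0, 0, 0, 0, 1, 0, 0, 1, 0, 1, 0, 0, 1],
  [1, 0, 0, 0, 1, 0, 0, 1, 0, 0, 1, 0, 1, 0, 0],
  [1, 0, 1, 0, 0, 1, 0, 0, 0, 0, 0, 1, 0, 1],
  [1, 0, 0, 1, 0, 0, 0, 0, 0, 0, 1, 0, 0, 1],
  [0, 0, 1, 0, 0, 0, 0, 0, 1, 0, 1, 0, 0, 0, 0],
  [0, 1, 0, 0, 0, 0, 1, 0, 1, 0, 0, 0, 0, 0, 1],
  [0, 1, 0, 0, 0, 0, 0, 0, 1, 0, 1, 0, 1, 0, 0, 0, 0],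
  [0, 1, 0, 0, 0, 1, 0, 0, 1, 0, 0, 0, 0, 0],
  [1, 0, 0, 0, 1, 0, 0, 0, 0, 1, 0, 0, 0, 0],
  [1, 0, 0, 0, 0, 1, 0, 0, 1, 0, 0, 0, 0, 0],
  [0, 1, 0, 0, 0, 1, 0, 0],
  [0, 0, 1, 0, 0, 0, 1, 0, 0, 0, 1, 0, 1, 0, 1],
  [1, 0, 0, 0, 0, 0, 1, 0, 1, 0, 1, 0, 0, 0, 0],
  [1, 0, 0, 0, 0, 1, 0, 0, 1],
  [1, 0, 1],
  [1, 0, 1, 0, 0, 0, 0, 0, 0, 1, 0, 1],
  [1, 0, 1, 0, 0, 0, 0, 1, 0, 1, 0, 0, 0, 0, 1],
  [0, 0, 1, 0, 0, 1, 0, 0, 0, 0, 0, 1],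
  [0, 1, 0, 1, 0, 0, 0, 0, 0, 0],
  [1, 0, 1, 0, 1, 0, 1, 0, 0, 0, 1],
  [0, 1, 0, 0, 0, 0, 0, 1, 0, 0, 1],
  [0, 0, 0, 0, 0, 0, 1, 0, 0, 1, 0, 1, 0, 0, 0, 0],
  [1, 0, 0, 1, 0, 1, 0, 0],
  [0, 1, 0, 0, 0, 1],
  [0, 0, 1, 0, 0, 0, 0, 1, 0, 1, 0, 1],
  [0, 1, 0, 1, 0, 1, 0, 1, 0, 1, 0, 0, 0, 0],
  [0, 1, 0, 1, 0, 1, 0, 1, 0, 0, 0, 0],
  [0, 0, 1, 0, 0, 1, 0, 0, 0, 0, 0, 1, 0, 1],
  [0, 0, 0, 0, 0, 0, 1, 0, 1, 0, 1],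
  [0, 1, 0, 0, 0, 1, 0, 1, 0, 1, 0, 0, 0, 0, 0, 1],
  [1, 0, 0, 0, 0, 1, 0, 0, 0, 0, 1],
  [1, 0, 1, 0, 0, 0, 0, 0, 1, 0, 0, 1, 0, 0, 0, 0],
  [1, 0, 1, 0, 1, 0, 1, 0, 0, 0, 0, 0, 1],
  [1, 0, 0, 0, 0, 0, 0, 1, 0, 0, 0, 1, 0, 0, 0, 0],
  [0, 1, 0, 0, 1, 0, 1, 0, 0, 0, 0],
  [1, 0, 1, 0, 0, 0, 0, 1, 0, 0, 0, 0],
  [1, 0, 1, 0, 1, 0, 1, 0, 1],
  [0, 0, 0, 0, 1, 0, 1, 0, 0, 0, 0, 0, 1],
  [0, 0, 1, 0, 0, 0, 0, 0, 1, 0, 0, 0, 0],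
  [0, 0, 0, 0, 1, 0, 1, 0, 0, 0, 0, 0, 0],
  [0, 1, 0, 1, 0, 0, 0, 0],
  [1, 0, 0, 0, 1, 0, 0, 0, 0, 1, 0, 1, 0, 0],
  [1, 0, 1, 0, 0, 0, 0, 1, 0, 1, 0, 0],
  [0, 0, 1, 0, 1, 0, 1, 0, 1, 0, 0, 0, 1],
  [0, 0, 0, 1, 0, 1, 0, 1, 0, 1, 0, 0, 1],
  [0, 0, 1, 0, 1, 0, 0, 0, 0, 0, 1],
  [0, 0, 0, 0, 0, 1, 0, 0, 1],
  [1, 0, 0, 0, 1, 0, 0, 1, 0, 0, 0, 0, 0, 0, 1],
  [1, 0, 1, 0, 0, 1, 0, 0, 0, 0, 0, 1],
  [0, 1, 0, 0, 0, 0, 0, 1, 0, 0, 0, 0, 0],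
  [0, 0, 0, 1, 0, 0, 0, 1, 0, 0, 0, 0, 1],
  [0, 0, 1, 0, 0, 0, 0, 0, 1, 0, 1, 0, 0],
  [0, 0, 0, 0, 1, 0, 1, 0, 0, 0, 1, 0, 0, 0, 0, 1],
  [1, 0, 0, 0, 1, 0, 1, 0, 0, 0, 0, 1, 0, 0],
  [0, 0, 0, 0, 0, 0, 1, 0, 1],
  [1, 0, 1, 0, 1, 0, 0, 0, 0, 1, 0, 0],
  [1, 0, 0, 1, 0, 0, 1, 0, 1, 0, 1, 0, 0, 0, 0, 0, 1],
  [0, 0, 1, 0, 1, 0, 0, 0, 0, 1, 0, 0, 0, 1, 0, 0],
  [0, 0, 0, 0, 1, 0, 0, 0, 0, 1, 0, 1, 0, 1],
  [0, 0, 0, 1, 0, 1, 0, 0, 0, 1, 0, 0, 0, 0, 1],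
  [0, 1, 0, 1, 0, 0, 0, 0, 1, 0, 0, 0, 1, 0, 0],
  [0, 0, 0, 0, 0, 1, 0, 0, 0, 0, 1, 0, 1, 0, 1],
  [0, 1, 0, 0, 0, 0, 0, 1, 0, 0, 0, 0],
  [0, 0, 0, 0, 0, 1, 0, 0, 0, 1, 0, 0, 0, 0, 0, 0],
  [0, 1, 0, 0, 0, 1, 0, 0, 0, 1, 0, 1, 0, 1, 0, 1],
  [0, 0, 0, 0, 0, 1, 0, 0, 1, 0, 1, 0, 0, 1],
  [0, 0, 0, 0, 1, 0, 0, 1, 0, 0, 0, 0, 0, 0, 1],
  [0, 1, 0, 0, 1, 0, 1, 0, 0, 0, 0, 0, 1],
  [1],
  [0, 0, 1, 0, 0, 1, 0, 0, 0, 1, 0, 0, 0, 0],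
  [0, 0, 1, 0, 0, 0, 0, 1, 0, 1, 0, 0],
  [1, 0, 1, 0, 1, 0, 0, 0, 0, 0, 1, 0, 1, 0, 0],
  [1, 0, 1, 0, 0, 0, 0, 0, 0, 1, 0, 0],
  [0, 0, 0, 1, 0, 0, 1, 0, 1, 0, 0, 0, 1, 0, 0],
  [0, 1, 0, 0, 0, 0, 0, 0]]

def cW0 : List (List Bool) := expand gW0 cI0

def cL0 : List ℕ := List.range 891

lemma cLnd0 : cL0.Nodup := List.nodup_range

set_option maxRecDepth 100000 in
lemma cfixv0 : ∀ w ∈ cW0, ([] : List (Fin 891)).map (fun b => (evf tf w b).val) =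
    ([] : List (Fin 891)).map Fin.val := by decide +kernel

lemma cfix0 : ∀ w ∈ cW0, ∀ b ∈ ([] : List (Fin 891)), evf tf w b = b :=
  fun w hw => fix_of_map w _ (cfixv0 w hw)

set_option maxRecDepth 100000 in
lemma cimg0 : cW0.map (fun w => (evf tf w (0 : Fin 891)).val) = cL0 := by decide +kernel

lemma cnd0 : (cW0.map (fun w => evf tf w (0 : Fin 891))).Nodup :=
  nodup_of_img cW0 0 cL0 cimg0 cLnd0

set_option maxRecDepth 100000 in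
lemma clen0 : cW0.length = 891 := by decide +kernel

def gW1 : List (List Bool) := [[false, true, false, true, true, false, true, true, true, false, true, true, true, true, true, true, true, true, true, false, true, true, true, true, true, false, true, true, true, true, true, true, false, true, true, true, true, true, false],
  [false, true, true, false, true, true, true, true, true, true, false, true, true, true, true, true, true, false, true, true, true, true, true, true, true, true, true, false, true, true, true, true, true, false, true, true, false, true, true, true, true, true, false],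
  [false, true, true, true, true, true, false, true, false, true, false, true, true, true, true, false, true, true, true, true, true, false, true, true, true, false, true, true, true, false],
  [false, true, true, false, true, false, true, false, true, true, true, true, false, true, true, true, false, true, true, true, true, true, false, true, true, true, false],
  [false, true, true, true, false, true, true, false, true, false, true, true, true, true, true, true, false, true, true, true, true, true, false, true, true, true, true, true, false, true, true, true, false],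
  [false, true, true, true, false, true, true, true, true, false, true, false, true, true, true, true, false, true, true, true, true, true, false, true, false, true, true, true, true, true, false],
  [false, true, true, true, true, true, true, false, true, true, false, true, true, true, true, true, false, true, true, true, true, true, true, true, false, true, true, true, false, true, true, true, true, true, false, true, true, true, true, true, true, false]]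

def cI1 : List (List ℕ) := [[],
  [4, 4],
  [0, 0],
  [2, 4, 6],
  [3, 1],
  [1, 0, 4],
  [6, 5],
  [5, 4, 6, 2],
  [5, 1, 4, 1],
  [4, 0, 3],
  [2, 3, 6],
  [1, 1, 0, 2],
  [4, 4, 1],
  [6, 0, 2],
  [5, 6, 5, 0],
  [3, 4, 2],
  [5, 4],
  [1, 3, 5],
  [1, 6, 4, 0],
  [2, 6, 1, 0],
  [6, 1, 5],
  [0, 1, 3],
  [5, 3, 5],
  [2, 6, 3, 0],
  [2, 2, 2, 1],
  [1, 2, 1],
  [2, 3, 3, 2],
  [2, 3, 2, 1],
  [6, 6, 2],
  [0, 4, 1],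
  [0, 2, 1],
  [3, 1, 0],
  [2, 6, 2],
  [5, 3, 3, 0],
  [3, 2],
  [4, 6, 5],
  [2, 4, 3, 0],
  [2, 6, 2, 0],
  [5, 2, 1, 1],
  [3, 0],
  [5, 2, 2, 1],
  [4, 0, 0],
  [2, 4, 0, 4],
  [3, 0, 6, 1],
  [3, 0, 1],
  [4, 4, 0],
  [4, 1, 2, 1],
  [0, 3, 4, 1],
  [3],
  [1, 6, 4, 3],
  [1, 3, 1],
  [1, 3, 2, 1],
  [5, 2, 0],
  [4, 0, 2],
  [6, 4, 5],
  [0, 4, 5],
  [4, 4, 3],
  [6, 2],
  [3, 5, 0, 0],
  [2, 1, 3],
  [5, 6, 1, 0],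
  [4, 3, 3, 0],
  [0, 6, 5, 0],
  [6, 6, 3, 2],
  [1, 3, 3],
  [0, 2, 4],
  [3, 5, 4],
  [2, 6, 4, 0],
  [0, 0, 3, 1],
  [6, 6, 2, 4],
  [3, 5, 3, 3],
  [6, 0, 5],
  [0, 5, 6, 1],
  [6, 4, 0],
  [1, 4, 4],
  [2, 1, 1],
  [0, 3, 6],
  [4, 4, 4, 1],
  [0, 5, 1, 0],
  [1, 4, 1],
  [6, 3, 0],
  [5, 3, 2],
  [1, 0],
  [1, 2, 0, 0],
  [4, 5, 5],
  [4, 0, 5],
  [0, 5],
  [1, 6],
  [4, 6, 4],
  [2, 1, 0],
  [0, 3],
  [2, 3, 4],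
  [4, 6],
  [3, 2, 0],
  [2, 0, 4],
  [6, 1, 6],
  [0, 2, 2],
  [2, 3, 4, 0],
  [3, 3, 4],
  [1, 0, 0, 1],
  [4, 2, 2],
  [0, 6, 1],
  [3, 2, 1],
  [4, 2, 4],
  [0, 2, 0],
  [1, 5, 0, 1],
  [6, 3, 3],
  [3, 4, 0, 0],
  [4, 2, 1],
  [2, 4],
  [6, 0, 4, 1],
  [3, 4, 4],
  [6, 2, 6],
  [6],
  [0, 4, 0],
  [6, 2, 1, 1],
  [3, 4, 1],
  [3, 0, 4],
  [4, 3, 4],
  [4, 6, 4, 0],
  [0, 5, 2],
  [0, 2, 5],
  [1, 0, 2],
  [2],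
  [3, 1, 1],
  [2, 0, 2],
  [4, 5, 0],
  [1, 1, 3],
  [5, 1, 3],
  [6, 2, 1, 0],
  [3, 6, 3, 2],
  [2, 0, 0],
  [5, 1, 0],
  [3, 6, 3, 0],
  [4, 4, 2],
  [0, 3, 2],
  [4, 4, 0, 0],
  [4, 2, 0],
  [1, 0, 3, 1],
  [1, 0, 4, 0],
  [4, 1],
  [0, 2, 3],
  [3, 0, 3],
  [1],
  [0, 4, 2],
  [4, 3, 5, 0],
  [0, 3, 1, 0],
  [1, 4, 4, 1],
  [4, 0],
  [6, 0, 1, 5],
  [4, 4, 0, 1],
  [6, 4],
  [5, 2, 2, 0],
  [2, 4, 4, 0],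
  [0, 2],
  [4, 5, 1, 1],
  [0, 3, 0],
  [2, 1],
  [5, 3, 1],
  [6, 4, 3],
  [3, 6, 6, 2],
  [3, 4, 3],
  [1, 4, 4, 0],
  [6, 1],
  [1, 3, 0, 3],
  [3, 4],
  [5, 4, 5],
  [1, 1],
  [5, 3, 4, 0],
  [3, 1, 5],
  [3, 2, 0, 3],
  [3, 6, 1],
  [4, 6, 1, 0],
  [6, 1, 0],
  [6, 3, 4],
  [2, 2, 4],
  [0, 3, 4],
  [5, 0, 0],
  [2, 3, 0, 0],
  [5, 3, 4],
  [2, 2, 0],
  [4, 1, 0, 2],
  [6, 2, 4],
  [1, 2, 2, 0],
  [3, 4, 2, 0],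
  [1, 5, 2],
  [0, 4, 3, 0],
  [0, 0, 3, 0],
  [4, 3, 1],
  [3, 5, 5],
  [5, 0, 2],
  [6, 3, 5],
  [2, 6],
  [3, 2, 2, 4],
  [4, 4, 5],
  [3, 1, 3, 2],
  [0, 4],
  [4, 3, 6],
  [0, 5, 3, 0],
  [6, 4, 4, 2],
  [1, 4, 3],
  [4, 1, 3],
  [1, 4, 5],
  [4, 3],
  [0, 1],
  [3, 3, 6],
  [2, 3, 3],
  [2, 2, 2, 0],
  [6, 5, 2],
  [4, 6, 2],
  [0, 0, 4],
  [3, 5],
  [3, 6],
  [6, 1, 1],
  [5, 2, 1],
  [4, 0, 4, 0],
  [3, 3, 3],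
  [0, 5, 3, 2],
  [1, 5],
  [5, 4, 0, 0],
  [4, 5, 4, 1],
  [4],
  [6, 3, 2, 1],
  [0, 6, 2],
  [2, 4, 4],
  [4, 2, 3],
  [5, 5, 2, 5],
  [5, 6],
  [5, 3, 0],
  [2, 0, 3],
  [1, 2, 4],
  [5, 4, 1],
  [0, 1, 5],
  [1, 3, 2],
  [3, 2, 5],
  [0, 5, 4, 4],
  [4, 6, 2, 0],
  [5, 0, 2, 3],
  [6, 3, 2],
  [5, 1, 1],
  [1, 1, 2, 1],
  [5, 4, 4],
  [1, 3],
  [4, 5, 3, 0],
  [2, 5],
  [2, 6, 1],
  [0, 1, 1],
  [3, 2, 0, 0],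
  [6, 0, 3],
  [5, 0, 1, 1],
  [3, 4, 5, 0],
  [5, 4, 3, 1],
  [4, 0, 1, 1],
  [5, 0, 0, 0],
  [4, 0, 1],
  [3, 3],
  [5, 2, 6],
  [2, 3, 2],
  [5, 0, 2, 2],
  [6, 1, 3],
  [0, 2, 1, 0],
  [3, 4, 0],
  [3, 3, 0],
  [1, 5, 6],
  [2, 3],
  [5, 4, 4, 1],
  [4, 2, 6],
  [4, 3, 0],
  [5, 2, 5],
  [0, 5, 4],
  [4, 2],
  [5],
  [1, 4, 2, 1],
  [0, 3, 1],
  [2, 6, 4],
  [1, 6, 5],
  [4, 5],
  [5, 0, 4],
  [2, 0, 3, 3],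
  [4, 0, 2, 0],
  [5, 2],
  [5, 4, 0],
  [1, 6, 4],
  [3, 5, 2, 0],
  [6, 4, 1],
  [3, 0, 5],
  [2, 2, 1],
  [5, 0],
  [3, 4, 6],
  [3, 6, 5, 0],
  [2, 2, 0, 0],
  [5, 5],
  [5, 3, 0, 0],
  [2, 2, 2],
  [0, 0, 0],
  [5, 1, 5],
  [5, 4, 0, 2],
  [6, 5, 0],
  [0, 0, 2, 2],
  [6, 5, 0, 2],
  [4, 1, 1],
  [0, 3, 3],
  [6, 2, 5],
  [3, 3, 5],
  [4, 6, 1],
  [6, 2, 0],
  [1, 6, 1],
  [2, 4, 1],
  [1, 5, 2, 0],
  [3, 5, 0],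
  [0, 3, 5, 5],
  [0, 0, 1],
  [5, 0, 1],
  [4, 0, 4],
  [3, 0, 0],
  [2, 3, 1, 1],
  [2, 2],
  [4, 3, 3],
  [4, 5, 0, 1],
  [2, 4, 0, 0],
  [6, 4, 0, 0],
  [0],
  [1, 4, 6, 2],
  [0, 5, 6],
  [3, 3, 2],
  [4, 3, 6, 1],
  [2, 0],
  [5, 6, 1],
  [4, 5, 4, 0],
  [4, 1, 5],
  [3, 2, 4],
  [0, 1, 6],
  [5, 5, 0, 1],
  [3, 3, 4, 0],
  [1, 0, 5],
  [5, 3, 3]]

def cW1 : List (List Bool) := expand gW1 cI1

def cL1 : List ℕ := [1, 2, 3, 4, 5, 6, 7, 8, 9, 10, 11, 12, 13, 14, 15, 16, 17, 18, 19, 20, 21, 22, 25, 26, 27, 28, 29, 30, 31, 32, 33, 34, 35, 37, 38, 39, 40, 41, 42, 44, 45, 46, 47, 48, 49, 50, 51, 52, 53, 54, 55, 56, 57, 58, 59, 60, 61, 62, 63, 64, 65, 66, 67, 68, 69, 70, 71, 72, 74, 75, 76, 77, 78, 79, 80, 81, 82, 83, 85, 86, 87, 88, 89, 90, 91, 92, 93, 94, 95, 96, 97, 98, 99, 100, 101, 102, 103, 104, 105, 106, 107,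 108, 109, 110, 111, 112, 113, 114, 115, 116, 117, 118, 119, 120, 121, 122, 123, 124, 125, 126, 127, 128, 129, 130, 131, 132, 133, 134, 135, 136, 137, 138, 139, 140, 141, 142, 143, 144, 146, 147, 148, 149, 150, 151, 152, 153, 154, 156, 157, 158, 159, 160, 161, 162, 163, 164, 165, 166, 167, 168, 169, 170, 171, 172, 173, 174, 175, 176, 202, 203, 204, 205, 208, 209, 210, 211, 214, 215, 217, 218, 222, 223, 224, 230, 234, 237, 240, 244, 245, 247, 251, 256, 258, 259, 263, 267, 268, 271, 272, 273, 274, 275, 278, 279, 281, 283, 289, 290, 291, 294, 295, 297, 299, 300, 301, 304, 305, 307, 314, 318, 319, 320, 323, 325, 326, 328, 332, 335, 340, 345, 349, 353, 355, 356, 357, 359, 361, 362, 365, 366, 367, 368, 369, 370, 377, 378, 379, 381, 382, 385, 387, 390, 391, 392, 393, 394, 397, 398, 399, 400, 402, 404, 406, 407, 408, 409,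 411, 412, 413, 416, 417, 418, 419, 422, 424, 426, 428, 429, 434, 435, 436, 437, 438, 440, 441, 442, 443, 446, 447, 450, 452, 453, 455, 456, 458, 460, 461, 462, 463, 465, 468, 469, 470, 474, 475, 478, 479, 480, 481, 482, 484, 485, 487, 489, 490, 491, 492, 493, 494, 495, 497, 498, 499, 608, 690, 723, 730, 731, 732, 733, 734, 735, 736, 737, 743, 782]

set_option maxRecDepth 100000 in
lemma cLnd1 : cL1.Nodup := by decide +kernel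

set_option maxRecDepth 100000 in
lemma cfixv1 : ∀ w ∈ cW1, ([0] : List (Fin 891)).map (fun b => (evf tf w b).val) =
    ([0] : List (Fin 891)).map Fin.val := by decide +kernel

lemma cfix1 : ∀ w ∈ cW1, ∀ b ∈ ([0] : List (Fin 891)), evf tf w b = b :=
  fun w hw => fix_of_map w _ (cfixv1 w hw)

set_option maxRecDepth 100000 in
lemma cimg1 : cW1.map (fun w => (evf tf w (1 : Fin 891)).val) = cL1 := by decide +kernel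

lemma cnd1 : (cW1.map (fun w => evf tf w (1 : Fin 891))).Nodup :=
  nodup_of_img cW1 1 cL1 cimg1 cLnd1

set_option maxRecDepth 100000 in
lemma clen1 : cW1.length = 336 := by decide +kernel

def gW2 : List (List Bool) := [[false, true, true, true, true, true, false, true, true, true, false, true, true, true, true, false, true, true, true, true, false, true, true, true, false, true, true, false, true, true, true, false, true, true, true, true, false, true, true, false, true, false, true, false, true, true, true, true, true, false, true, true, false],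
  [false, true, true, true, true, true, false, true, false, true, true, true, false, true, false, true, true, false, true, true, true, false, true, true, true, true, true, false, true, true, true, true, true, true, false, true, true, true, true, false, true, true, true, true, false, true, true, false, true, false, true, true, true, false],
  [false, true, true, false, true, true, true, false, true, true, false, true, true, true, true, true, true, false, true, true, true, false, true, true, true, true, true, true, false, true, true, true, true, true, true, true, true, true, false, true, false, true, true, true, true, false, true, true, true, true, true, false, true, true, true, true, false, true, true, true, true, true, false, true, true, false],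
  [false, true, true, true, true, true, true, false, true, true, true, true, false, true, true, true, true, true, true, false, true, true, true, false, true, true, false, true, true, true, true, true, true, false, true, true, true, true, true, true, true, true, false, true, true, true, true, false, true, true, true, true, true, true, false, true, true, true, true, true, true, false, true, true, true, true, true, false, true, true, true, true, true, true, false, true, true, false],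
  [false, true, true, true, true, false, true, false, true, true, true, false, true, true, true, true, true, false, true, true, true, true, true, false, true, true, false, true, true, true, true, true, false, true, true, true, false, true, true, true, false, true, false, true, true, true, true, true, true, false, true, true, false, true, false],
  [false, true, true, true, true, false, true, true, true, true, true, false, true, true, true, false, true, true, true, true, false, true, false, true, true, true, true, true, true, false, true, true, true, true, true, true, true, true, true, false, true, true, false, true, true, false, true, true, false, true, true, true, true, true, true, false, true, true, true, false, true, false],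
  [false, true, true, true, true, true, true, false, true, false, true, true, true, true, false, true, true, true, false, true, true, true, true, true, false, true, true, true, true, true, false, true, true, true, true, true, true, true, true, true, true, false, true, true, true, false, true, true, true, true, true, false, true, true, false, true, true, true, false, true, true, false, true, false],
  [false, true, true, false, true, true, false, true, true, true, true, false, true, false, true, true, true, false, true, false, true, true, true, true, true, true, true, false, true, true, true, true, true, false, true, false, true, true, true, true, false, true, true, true, true, false, true, true, false, true, true, false]]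

def cI2 : List (List ℕ) := [[],
  [2, 4, 2],
  [1, 2],
  [3, 5, 2],
  [5, 5, 0],
  [3, 0, 0],
  [4, 6],
  [0, 5, 1],
  [4, 0, 5],
  [1, 1, 3],
  [4, 2, 2],
  [2, 1, 2],
  [4, 0],
  [7, 0, 0],
  [7, 5, 0],
  [1],
  [6, 6],
  [0, 6, 0],
  [5],
  [5, 4, 6],
  [6, 5, 1],
  [4, 1, 1],
  [0, 6, 1],
  [2, 7],
  [0, 1],
  [1, 4, 3],
  [5, 0, 4],
  [4, 2],
  [4, 4],
  [0, 2, 1],
  [0, 7, 4],
  [2, 2],
  [3, 1, 5],
  [0, 1, 0],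
  [1, 2, 0],
  [5, 0, 1],
  [3, 0, 2],
  [7, 3],
  [6],
  [2, 4, 0],
  [0, 0, 4],
  [5, 1, 0],
  [6, 0, 4],
  [5, 0],
  [1, 7, 0],
  [2, 6, 5],
  [2, 3],
  [4, 0, 3],
  [2, 2, 3],
  [3, 6],
  [0, 7, 0],
  [4, 3, 0],
  [7, 6, 0],
  [6, 6, 1],
  [2, 0],
  [3, 3],
  [3, 5, 1],
  [1, 0, 1],
  [3, 0],
  [2, 1],
  [4, 3, 5],
  [3, 3, 0, 0],
  [5, 4, 1],
  [7, 4],
  [4, 5, 0],
  [1, 0, 0],
  [2, 5],
  [7, 6, 1],
  [4, 1],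
  [6, 3],
  [4, 4, 4],
  [2, 4],
  [2, 3, 6],
  [7, 3, 2],
  [1, 6, 6],
  [4, 1, 0],
  [4, 3],
  [5, 2],
  [0, 4],
  [2, 1, 0],
  [6, 7, 4],
  [0, 5],
  [5, 1],
  [0, 4, 2],
  [0],
  [3, 5],
  [0, 2, 0],
  [7, 1],
  [1, 0, 2],
  [1, 0],
  [0, 2, 4],
  [6, 0],
  [3, 2, 1],
  [0, 1, 1],
  [4, 0, 0],
  [4, 7],
  [6, 5],
  [3, 6, 2],
  [5, 0, 3],
  [5, 4, 4],
  [2, 2, 1],
  [5, 7],
  [4],
  [2, 6],
  [3, 2, 2],
  [3, 2, 0],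
  [1, 1],
  [3],
  [2, 5, 5],
  [7, 4, 0],
  [4, 0, 1],
  [6, 2],
  [3, 7, 0],
  [7, 5],
  [6, 1],
  [6, 2, 5],
  [1, 1, 2],
  [7, 1, 1],
  [1, 4, 1],
  [5, 5],
  [6, 0, 1],
  [5, 7, 1, 0],
  [0, 0, 2],
  [1, 1, 1],
  [7, 0],
  [7, 5, 1],
  [6, 7],
  [5, 4],
  [0, 2],
  [1, 4, 0],
  [6, 4, 1],
  [3, 1, 0],
  [7, 5, 2],
  [1, 5, 2],
  [0, 4, 0],
  [3, 2],
  [5, 7, 3],
  [5, 2, 0],
  [4, 4, 0],
  [6, 0, 0],
  [0, 3, 6],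
  [0, 3],
  [3, 4],
  [7, 3, 0],
  [0, 0],
  [6, 5, 4],
  [1, 5],
  [6, 4, 0],
  [0, 5, 0],
  [7],
  [1, 5, 0],
  [2],
  [1, 3],
  [5, 3, 3],
  [4, 7, 0],
  [7, 1, 0],
  [2, 3, 0],
  [5, 3, 0],
  [1, 7],
  [1, 4, 2]]

def cW2 : List (List Bool) := expand gW2 cI2

def cL2 : List ℕ := [2, 3, 4, 5, 7, 8, 9, 10, 11, 12, 13, 14, 15, 17, 18, 19, 20, 21, 22, 28, 29, 30, 31, 32, 33, 34, 35, 37, 39, 42, 44, 45, 46, 47, 48, 49, 50, 51, 52, 53, 54, 55, 56, 59, 61, 62, 66, 67, 68, 69, 70, 71, 72, 74, 75, 76, 79, 80, 81, 83, 85, 86, 87, 88, 89, 90, 91, 92, 94, 95, 96, 100, 102, 103, 104, 105, 106, 107, 108, 112, 113, 114, 115, 117, 118, 119, 120, 121, 122, 123, 124, 125, 126, 128, 129, 130, 131, 132, 136, 137, 138, 139, 140, 147, 151, 153, 161, 162, 163, 165, 167, 169, 172, 173, 175, 176, 202, 204, 205, 209, 210, 211, 214, 215,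 217, 218, 237, 245, 247, 259, 263, 273, 289, 295, 299, 300, 301, 305, 353, 368, 377, 378, 379, 381, 394, 398, 399, 408, 409, 417, 435, 436, 437, 438, 440, 452, 458, 461, 463, 479]

set_option maxRecDepth 100000 in
lemma cLnd2 : cL2.Nodup := by decide +kernel

set_option maxRecDepth 100000 in
lemma cfixv2 : ∀ w ∈ cW2, ([0, 1] : List (Fin 891)).map (fun b => (evf tf w b).val) =
    ([0, 1] : List (Fin 891)).map Fin.val := by decide +kernel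

lemma cfix2 : ∀ w ∈ cW2, ∀ b ∈ ([0, 1] : List (Fin 891)), evf tf w b = b :=
  fun w hw => fix_of_map w _ (cfixv2 w hw)

set_option maxRecDepth 100000 in
lemma cimg2 : cW2.map (fun w => (evf tf w (2 : Fin 891)).val) = cL2 := by decide +kernel

lemma cnd2 : (cW2.map (fun w => evf tf w (2 : Fin 891))).Nodup :=
  nodup_of_img cW2 2 cL2 cimg2 cLnd2

set_option maxRecDepth 100000 in
lemma clen2 : cW2.length = 160 := by decide +kernel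

def gW3 : List (List Bool) := [[false, true, true, true, true, true, false, true, true, true, true, false, true, true, true, true, true, true, false, true, true, true, true, true, false, true, true, false, true, true, true, true, true, true, false, true, true, true, true, false, true, true, true, false, true, false, true, true, true, true, true, true, true, true, true, true, false, true, true, true, true, true, false, true, true, false, true, true, false, true, true, true, true, false, true, true, true, true, false, true, true, true, true, true, false, true, true, true, true, false, true, true, false, true, true, true, true, false],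
  [false, true, true, true, false, true, true, true, false, true, true, true, true, false, true, true, true, true, true, true, false, true, true, true, true, true, true, false, true, true, true, true, false, true, true, true, false, true, false, true, true, true, true, true, true, false, true, true, true, true, false, true, true, true, true, true, false, true, true, true, true, false, true, true, false, true, true, true, false, true, true, true, true, false, true, true, true, true, false, true, true, false, true, true, false, true, true, true, false],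
  [false, true, true, true, true, true, true, false, true, true, true, false, true, true, false, true, true, true, false, true, false, true, true, true, true, true, true, false, true, true, true, true, true, true, false, true, true, true, true, false, true, true, true, true, true, true, false, true, true, true, true, true, true, true, true, true, true, true, false, true, true, false, true, true, true, true, true, true, false, true, true, false, true, true, false, true, true, true, true, false, true, true, true, true, true, true, false, true, true, true, true, true, true, false, true, true, true, true, true, false, true, true, true, true, false],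
  [false, true, true, true, true, true, true, false, true, true, true, true, false, true, true, true, false, true, true, true, true, false, true, true, true, true, true, false, true, true, true, true, true, false, true, true, true, true, true, false, true, true, true, true, true, true, false, true, true, true, true, false, true, true, true, true, true, false, true, true, true, false, true, true, false, true, true, false, true, false, true, true, true, true, true, true, false, true, true, true, true, true, false, true, false, true, false, true, true, true, false],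
  [false, true, true, true, false, true, true, true, true, false, true, true, false, true, false, true, true, true, true, true, true, false, true, true, true, false, true, true, false, true, true, true, true, true, true, false, true, true, true, true, true, true, false, true, true, true, true, true, true, true, true, true, false, true, false, true, true, true, true, true, false, true, false, true, false, true, true, true, true, true, true, false, true, true, true, true, false, true, true, true, true, true, false, true, true, false, true, false],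
  [false, true, false, true, true, true, false, true, true, true, true, true, false, true, true, true, true, true, true, false, true, true, true, true, true, false, true, true, true, true, true, false, true, true, true, true, true, false, true, true, true, false, true, true, true, true, false, true, true, true, true, true, true, false, true, true, false, true, true, true, true, true, false, true, true, true, true, true, false, true, false, true, true, true, true, true, false, true, true, true, true, false, true, true, false, true, true, true, true, true, false, true, true, true, true, false]]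

def cI3 : List (List ℕ) := [[],
  [5, 3],
  [5, 3, 2],
  [2],
  [0, 3],
  [4, 1],
  [3, 2, 0],
  [1, 0],
  [4],
  [2, 4],
  [2, 5, 1],
  [1, 5],
  [0, 1],
  [0, 5],
  [4, 2, 4],
  [3, 3],
  [3, 1, 0],
  [3, 4, 1],
  [4, 3, 2],
  [3, 2],
  [5, 5],
  [3, 0, 1],
  [0, 2],
  [1, 3],
  [3, 0, 0],
  [5, 0],
  [3, 3, 0],
  [2, 0, 1],
  [5, 1],
  [4, 2],
  [3, 4],
  [4, 1, 0],
  [5, 2],
  [5, 5, 1],
  [4, 4],
  [1, 3, 2],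
  [3, 1],
  [5, 4, 1],
  [2, 3],
  [1, 0, 2],
  [5, 4],
  [0, 0],
  [4, 2, 0],
  [0, 2, 3],
  [1, 4],
  [4, 3],
  [3, 0],
  [4, 0, 1],
  [0, 2, 1],
  [3, 5, 2],
  [1, 0, 0],
  [1, 5, 2],
  [1, 3, 0],
  [3],
  [5],
  [2, 5],
  [0, 0, 1],
  [5, 2, 1],
  [2, 0],
  [0],
  [1],
  [4, 1, 3],
  [2, 1],
  [0, 4]]

def cW3 : List (List Bool) := expand gW3 cI3

def cL3 : List ℕ := [3, 5, 8, 10, 11, 12, 13, 14, 15, 22, 30, 31, 32, 39, 46, 47, 48, 49, 52, 56, 61, 66, 68, 72, 74, 76, 80, 81, 89, 92, 94, 95, 102, 103, 104, 105, 106, 107, 108, 112, 119, 120, 122, 124, 128, 130, 132, 136, 137, 138, 151, 153, 161, 162, 172, 176, 210, 218, 237, 273, 378, 394, 435, 452]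

set_option maxRecDepth 100000 in
lemma cLnd3 : cL3.Nodup := by decide +kernel

set_option maxRecDepth 100000 in
lemma cfixv3 : ∀ w ∈ cW3, ([0, 1, 2] : List (Fin 891)).map (fun b => (evf tf w b).val) =
    ([0, 1, 2] : List (Fin 891)).map Fin.val := by decide +kernel

lemma cfix3 : ∀ w ∈ cW3, ∀ b ∈ ([0, 1, 2] : List (Fin 891)), evf tf w b = b :=
  fun w hw => fix_of_map w _ (cfixv3 w hw)

set_option maxRecDepth 100000 in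
lemma cimg3 : cW3.map (fun w => (evf tf w (3 : Fin 891)).val) = cL3 := by decide +kernel

lemma cnd3 : (cW3.map (fun w => evf tf w (3 : Fin 891))).Nodup :=
  nodup_of_img cW3 3 cL3 cimg3 cLnd3

set_option maxRecDepth 100000 in
lemma clen3 : cW3.length = 64 := by decide +kernel

def gW4 : List (List Bool) := [[false, true, true, true, true, true, true, false, true, true, true, true, true, false, true, true, true, false, true, false, true, true, true, true, true, true, false, true, false, true, true, true, false, true, true, true, true, true, true, false, true, true, true, true, true, false, true, false, true, true, true, true, true, false, true, false, true, true, true, true, true, true, true, true, true, true, true, false, true, true, true, false, true, true, false, true, true, true, true, true, true, false, true,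 true, true, true, true, true, false, true, true, true, true, true, true, false, true, false, true, true, true, true, false, true, true, true, true, false, true, true, true, true, true, true, false, true, true, true, true, true, false, true, true, true, true, false, true, true, false]]

def cI4 : List (List ℕ) := [[],
  [0],
  [0, 0]]

def cW4 : List (List Bool) := expand gW4 cI4

def cL4 : List ℕ := [4, 29, 67]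

set_option maxRecDepth 100000 in
lemma cLnd4 : cL4.Nodup := by decide +kernel

set_option maxRecDepth 100000 in
lemma cfixv4 : ∀ w ∈ cW4, ([0, 1, 2, 3] : List (Fin 891)).map (fun b => (evf tf w b).val) =
    ([0, 1, 2, 3] : List (Fin 891)).map Fin.val := by decide +kernel

lemma cfix4 : ∀ w ∈ cW4, ∀ b ∈ ([0, 1, 2, 3] : List (Fin 891)), evf tf w b = b :=
  fun w hw => fix_of_map w _ (cfixv4 w hw)

set_option maxRecDepth 100000 in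
lemma cimg4 : cW4.map (fun w => (evf tf w (4 : Fin 891)).val) = cL4 := by decide +kernel

lemma cnd4 : (cW4.map (fun w => evf tf w (4 : Fin 891))).Nodup :=
  nodup_of_img cW4 4 cL4 cimg4 cLnd4

set_option maxRecDepth 100000 in
lemma clen4 : cW4.length = 3 := by decide +kernel

lemma trans0 : ∀ i : Fin 891, ∃ w ∈ cW0, evf tf w 0 = i := by
  intro i
  have hi : i.val ∈ cW0.map (fun w => (evf tf w (0 : Fin 891)).val) := by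
    rw [cimg0]; exact List.mem_range.2 i.isLt
  obtain ⟨w, hw, hwi⟩ := List.mem_map.1 hi
  exact ⟨w, hw, Fin.ext hwi⟩

theorem card_RU_ge : 9196830720 ≤ Nat.card RU := by
  have h0 := chain_step tg tf tg_apply [] 0 cW0 cfix0 cnd0
  rw [clen0] at h0
  have h1 := chain_step tg tf tg_apply [0] 1 cW1 cfix1 cnd1
  rw [clen1] at h1
  have h2 := chain_step tg tf tg_apply [0, 1] 2 cW2 cfix2 cnd2
  rw [clen2] at h2
  have h3 := chain_step tg tf tg_apply [0, 1, 2] 3 cW3 cfix3 cnd3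
  rw [clen3] at h3
  have h4 := chain_step tg tf tg_apply [0, 1, 2, 3] 4 cW4 cfix4 cnd4
  rw [clen4] at h4
  have hlast := one_le_card_fixList (Subgroup.closure ({tg true, tg false} : Set (Equiv.Perm (Fin 891)))) [0, 1, 2, 3, 4]
  change 9196830720 ≤ Nat.card (Subgroup.closure ({tg true, tg false} : Set (Equiv.Perm (Fin 891))))
  rw [fixList_nil] at h0
  simp only [List.nil_append, List.cons_append] at h0 h1 h2 h3 h4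
  nlinarith [h0, h1, h2, h3, h4, hlast]

end Cfsg.Agent.Helper15.U62
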