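import Mathlib
import Cfsg.Prelude.Def_Classical
import Cfsg.Agent.Lib.Helper15.UBridge
import Cfsg.Agent.Lib.Helper15.U62b

set_option autoImplicit false

/-!
# The stabiliser of a `222`-triangle is `PSU₆(2)`: `PSU₆(2)` as a permutation group of degree 891
(helper15)
-/

namespace Cfsg.Agent.Helper15.U62

open Matrix SylGen UBridge
open Cfsg.Agent.Helper15.U4 (R4 exists_ringHom4)

variable {K : Type*} [Field K]

section main

variable [Fintype K] (hK : Fintype.card K = 4) (ρ : R4 →+* K)

include hK in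
lemma hK' : Fintype.card K = 2 ^ 2 := by rw [hK]; norm_num

include hK in
lemma card_SU : Nat.card (Cfsg.SU 6 K 2) = 27590492160 := by
  have h1 := Cfsg.Agent.Helper11.Herm.card_GU_eq_SU (hK' hK) 6 (by norm_num)
  have h2 : Cfsg.Agent.Helper11.Herm.guOrder 2 6 = 82771476480 := by decide
  rw [Cfsg.Agent.Helper11.Herm.card_GU (hK' hK), h2] at h1
  omega

include hK in
lemma card_center : Nat.card (Subgroup.center (Cfsg.SU 6 K 2)) = 3 := by
  have h1 := Cfsg.Agent.Helper11.Herm.card_center_SU (hK' hK) 6 (by norm_num)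
  have h2 : Nat.gcd 6 (2 + 1) = 3 := by decide
  rw [h2] at h1
  exact h1

/-- the `i`-th plane over `K`. -/
def planeK (i : Fin 891) : Set (Fin 6 → K) := colSp ((LB i).map ρ)

/-- the generators in `SU₆(K, 2)`. -/
noncomputable def yG (b : Bool) : Cfsg.SU 6 K 2 :=
  mkS (hK' hK) ρ (yM b) (yM_det b) (yM_unitary b)

lemma toM_yG (b : Bool) : toM (yG hK ρ b) = (yM b).map ρ := rfl

omit [Fintype K] in
lemma yMi_yM (b : Bool) : (yMi b).map ρ * (yM b).map ρ = 1 := by
  rw [← Matrix.map_mul, mul_eq_one_comm.mp (yM_inv b)]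
  exact Matrix.map_one ρ (map_zero ρ) (map_one ρ)

omit [Fintype K] in
lemma yM_yMi (b : Bool) : (yM b).map ρ * (yMi b).map ρ = 1 := by
  rw [← Matrix.map_mul, yM_inv b]
  exact Matrix.map_one ρ (map_zero ρ) (map_one ρ)

omit [Fintype K] in
lemma rel_map (b : Bool) (i : Fin 891) :
    actS ((yM b).map ρ) (planeK ρ i) = planeK ρ (tf b i) := by
  unfold planeK
  apply actS_colSp ((yM b).map ρ) ((yMi b).map ρ) _ _ ((CC b i).map ρ) ((DD b i).map ρ)
    (yM_yMi ρ b)
  · rw [← Matrix.map_mul, ← Matrix.map_mul, ← rel1]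
  · rw [← Matrix.map_mul, ← Matrix.map_mul, ← rel2]

omit [Fintype K] in
lemma planeK_injective (hρ : Function.Injective ρ) : Function.Injective (planeK ρ) := by
  apply inj_of_trans actS (planeK ρ) (fun b => (yM b).map ρ) tf tfi tf_tfi (rel_map ρ)
    (fun b => actS_injective _ _ (yMi_yM ρ b)) 0 cW0 trans0
  intro j h
  apply LB_inj0 j
  have hL : (LL j).map ρ * (LB j).map ρ = 1 := by
    rw [← Matrix.map_mul, LL_LB]
    exact Matrix.map_one ρ (map_zero ρ) (map_one ρ)
  have h2 := colSp_eq ((LL j).map ρ) hL h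
  rw [← Matrix.map_mul, ← Matrix.map_mul] at h2
  exact Matrix.map_injective hρ h2

/-- `PSU₆(K, 2)` for any field with four elements is the permutation group of degree 891. -/
theorem psu_equiv (hK : Fintype.card K = 4) : Nonempty (Cfsg.PSU 6 K 2 ≃* RU) := by
  obtain ⟨ρ, hρ⟩ := exists_ringHom4 hK
  have hZ : ∀ z ∈ Subgroup.center (Cfsg.SU 6 K 2), ∀ i,
      actS (toM z) (planeK ρ i) = planeK ρ i := by
    intro z hz i
    have h1 := Cfsg.Agent.Helper11.Herm.center_SU_scalar (hK' hK) 6 0 z hz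
    have hc : (toM z) 0 0 ≠ 0 := by
      intro h0
      have hd := toM_det z
      have h2 : toM z = 0 := by
        change toM z = (toM z) 0 0 • (1 : Matrix (Fin 6) (Fin 6) K) at h1
        rw [h1, h0, zero_smul]
      rw [h2, Matrix.det_zero] at hd
      exact zero_ne_one hd
    change toM z = (toM z) 0 0 • (1 : Matrix (Fin 6) (Fin 6) K) at h1
    rw [h1]
    exact actS_smul_colSp _ hc _
  have hc : Nat.card (Cfsg.SU 6 K 2) ≤ Nat.card (Subgroup.center (Cfsg.SU 6 K 2)) *
      Nat.card (Subgroup.closure ({tg true, tg false} : Set (Equiv.Perm (Fin 891)))) := by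
    rw [card_SU hK, card_center hK]
    have h : 9196830720 ≤ Nat.card (Subgroup.closure ({tg true, tg false} :
      Set (Equiv.Perm (Fin 891)))) := card_RU_ge
    omega
  exact (quot_equiv_closure_act (toM (K := K) (n := 6) (q := 2)) actS actS_one actS_mul
    (planeK ρ) (planeK_injective ρ hρ) (yG hK ρ true) (yG hK ρ false) (tg true) (tg false)
    (fun i => rel_map ρ true i) (fun i => rel_map ρ false i)
    (Subgroup.center (Cfsg.SU 6 K 2)) hZ hc).2

end main

end Cfsg.Agent.Helper15.U62
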