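import Mathlib
import Cfsg.Agent.Lib.Helper27.Co1Simple
import Cfsg.Agent.Lib.Helper15.UBridge
import Cfsg.Agent.Lib.Helper15.U62d

set_option autoImplicit false

/-!
# The stabiliser of a `222`-triangle is `PSU₆(2)`: the lattice side (helper15)

The stabiliser of the model pair is the permutation group of degree 891.
-/

namespace Cfsg.Agent.Helper15.U62

open Cfsg Cfsg.Agent.Helper27 SylGen MulAction

/-- the model pair and the 891 points as lattice vectors. -/
def Vt : leechLattice := ⟨v0, mem_of_leechOK v0_ok⟩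

def Wt : leechLattice := ⟨w0, mem_of_leechOK w0_ok⟩

def Pt (k : Fin 891) : leechLattice := ⟨P k, mem_of_leechOK (P_ok k)⟩

lemma signChange_support₂ (c : GolayPt → ZMod 2) (x : GolayPt → ℤ) :
    signChange (support₂ c) x = fun i => if c i = 0 then x i else - x i := by
  funext i
  unfold signChange
  by_cases h : c i = 0
  · rw [if_pos h, if_neg]
    rw [mem_support₂]; exact fun h2 => h2 h
  · rw [if_neg h, if_pos]
    rw [mem_support₂]; exact h

/-- the monomial element. -/
def hMono : Co0 := epsG cM cM_mem * permG sgP sgP_mem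

/-- the involution `ξ`. -/
def hXi : Co0 := ⟨xiP, xiP_mem⟩

lemma hMono_smul (v : leechLattice) :
    ((hMono • v : leechLattice) : GolayPt → ℤ) = monoF (v : GolayPt → ℤ) := by
  unfold hMono
  rw [mul_smul, epsG_smul, signChange_support₂]
  rfl

lemma hXi_smul (v : leechLattice) :
    ((hXi • v : leechLattice) : GolayPt → ℤ) = xi (v : GolayPt → ℤ) := rfl

/-- the stabiliser of the model pair. -/
abbrev HT : Subgroup Co0 := stabilizer Co0 Vt ⊓ stabilizer Co0 Wt

lemma hMono_mem : hMono ∈ HT := by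
  obtain ⟨h1, h2⟩ := mono_pair
  refine Subgroup.mem_inf.mpr ⟨?_, ?_⟩ <;>
    rw [mem_stabilizer_iff] <;> apply Subtype.ext <;> rw [hMono_smul]
  · exact h1
  · exact h2

lemma hXi_mem : hXi ∈ HT := by
  obtain ⟨h1, h2⟩ := xi_pair
  refine Subgroup.mem_inf.mpr ⟨?_, ?_⟩ <;>
    rw [mem_stabilizer_iff] <;> apply Subtype.ext <;> rw [hXi_smul]
  · exact h1
  · exact h2

lemma hMono_Pt (k : Fin 891) : hMono • Pt k = Pt (tf true k) := by
  apply Subtype.ext
  rw [hMono_smul]
  exact mono_P k

lemma hXi_Pt (k : Fin 891) : hXi • Pt k = Pt (tf false k) := by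
  apply Subtype.ext
  rw [hXi_smul]
  exact xi_P k

lemma Pt_injective : Function.Injective Pt := by
  apply UBridge.inj_of_trans (fun (g : Co0) (z : leechLattice) => g • z) Pt
    (fun b => if b then hMono else hXi) tf tfi tf_tfi ?_ ?_ 0 cW0 trans0
  · intro j h
    exact P_inj0 j (congrArg Subtype.val h)
  · intro b i
    cases b
    · exact hXi_Pt i
    · exact hMono_Pt i
  · intro b
    exact MulAction.injective _

lemma Vt_norm : sqNorm (Vt : GolayPt → ℤ) = 32 := pair_valid.1

lemma Wt_norm : sqNorm (Wt : GolayPt → ℤ) = 32 := pair_valid.2.1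

lemma VWt_dot : dotInt (Vt : GolayPt → ℤ) (Wt : GolayPt → ℤ) = -16 := pair_valid.2.2

lemma orbit_stab : orbit ↥(stabilizer Co0 Vt) Wt = minCls Vt (-16) := by
  ext y
  rw [mem_orbit_iff]
  constructor
  · rintro ⟨g, rfl⟩
    have hgv : g.1 • Vt = Vt := g.2
    refine ⟨?_, ?_⟩
    · change sqNorm ((g.1 • Wt : leechLattice) : GolayPt → ℤ) = 32
      rw [smul_norm]; exact Wt_norm
    · change dotInt (Vt : GolayPt → ℤ) ((g.1 • Wt : leechLattice) : GolayPt → ℤ) = -16
      rw [dot_fix hgv]; exact VWt_dot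
  · intro hy
    obtain ⟨g, a1, a2⟩ := minCls_trans Vt_norm (by simp) ⟨Wt_norm, VWt_dot⟩ hy
    exact ⟨⟨g, a1⟩, a2⟩

lemma card_HT : Nat.card HT = 9196830720 := by
  have h := card_subgroup_inf_stab (stabilizer Co0 Vt) Wt
  rw [orbit_stab, (ncard_minCls_vals Vt_norm).2.1, card_stab32 Vt Vt_norm] at h
  change 4600 * Nat.card HT = 42305421312000 at h
  omega

/-- the stabiliser of the model pair is the permutation group of degree 891. -/
theorem stab_equiv : Nonempty (HT ≃* RU) := by
  have hfin : Finite Co0 := finite_co0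
  have hc : Nat.card HT ≤ Nat.card (⊥ : Subgroup HT) *
      Nat.card (Subgroup.closure ({tg true, tg false} : Set (Equiv.Perm (Fin 891)))) := by
    rw [card_HT, Subgroup.card_bot, one_mul]
    exact card_RU_ge
  obtain ⟨-, ⟨e⟩⟩ := quot_equiv_closure_act HT.subtype (fun (g : Co0) (z : leechLattice) => g • z)
    (fun z => one_smul _ z) (fun a b z => mul_smul a b z) Pt Pt_injective
    ⟨hMono, hMono_mem⟩ ⟨hXi, hXi_mem⟩ (tg true) (tg false) hMono_Pt hXi_Pt ⊥
    (fun z hz i => by rw [Subgroup.mem_bot.mp hz, map_one, one_smul]) hc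
  exact ⟨(QuotientGroup.quotientBot (G := HT)).symm.trans e⟩

/-- all the stabilisers of such pairs are conjugate to the model one. -/
theorem stab_conj {v w : leechLattice} (hv : sqNorm (v : GolayPt → ℤ) = 32)
    (hw : sqNorm (w : GolayPt → ℤ) = 32)
    (hd : dotInt (v : GolayPt → ℤ) (w : GolayPt → ℤ) = -16) :
    Nonempty (↥(stabilizer Co0 v ⊓ stabilizer Co0 w) ≃* HT) := by
  obtain ⟨g, c1, c2⟩ := exists_smul_of_coEq2' (pair_m16 v.2 w.2 hv hw hd)
    (pair_m16 Vt.2 Wt.2 Vt_norm Wt_norm VWt_dot)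
  have hmap : (stabilizer Co0 v ⊓ stabilizer Co0 w).map (MulAut.conj g).toMonoidHom = HT := by
    rw [Subgroup.map_inf_eq _ _ _ (MulAut.conj g).injective,
      ← stabilizer_smul_eq_stabilizer_map_conj, ← stabilizer_smul_eq_stabilizer_map_conj, c1, c2]
  exact ⟨(Subgroup.equivMapOfInjective _ _ (MulAut.conj g).injective).trans
    (MulEquiv.subgroupCongr hmap)⟩

end Cfsg.Agent.Helper15.U62
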