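import Mathlib

/-!
# S0720 pieces RK2 + helper lemma: rank two means doubly transitive   (helper15)
-/

set_option autoImplicit false

namespace Cfsg.Agent.Helper22.W2P

universe u v

variable {G : Type u} [Group G] [Fintype G] {Ω : Type v} [Fintype Ω] [DecidableEq Ω]
  [MulAction G Ω]

namespace RK2

omit [Fintype G] [Fintype Ω] [DecidableEq Ω] in
/-- a transitive group whose point stabilizer is transitive on the remaining points is
doubly transitive -/
theorem two_trans_of_stab_trans [MulAction.IsPretransitive G Ω] (a : Ω)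
    (h : ∀ x y : Ω, x ≠ a → y ≠ a → ∃ g : G, g • a = a ∧ g • x = y) :
    MulAction.IsMultiplyPretransitive G Ω 2 := by
  rw [MulAction.is_two_pretransitive_iff]
  intro a' b' c' d' hab hcd
  obtain ⟨g₁, hg₁⟩ := MulAction.exists_smul_eq G a' a
  obtain ⟨g₂, hg₂⟩ := MulAction.exists_smul_eq G c' a
  have hx : g₁ • b' ≠ a := by
    intro hx
    apply hab
    have : g₁ • a' = g₁ • b' := by rw [hg₁, hx]
    exact MulAction.injective g₁ this
  have hy : g₂ • d' ≠ a := by
    intro hy
    apply hcd
    have : g₂ • c' = g₂ • d' := by rw [hg₂, hy]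
    exact MulAction.injective g₂ this
  obtain ⟨s, hsa, hsx⟩ := h _ _ hx hy
  refine ⟨g₂⁻¹ * s * g₁, ?_, ?_⟩
  · rw [mul_smul, mul_smul, hg₁, hsa, ← hg₂, inv_smul_smul]
  · rw [mul_smul, mul_smul, hsx, inv_smul_smul]

end RK2

/-- PIECE RK2. -/
theorem two_trans_of_rank_two [MulAction.IsPretransitive G Ω] (a : Ω)
    (h : Nat.card (MulAction.orbitRel.Quotient (MulAction.stabilizer G a) Ω) = 2) :
    MulAction.IsMultiplyPretransitive G Ω 2 := by
  apply RK2.two_trans_of_stab_trans a
  intro x y hx hy
  have key : ∀ z : Ω, z ≠ a →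
      (Quotient.mk'' z : MulAction.orbitRel.Quotient (MulAction.stabilizer G a) Ω) ≠
        Quotient.mk'' a := by
    intro z hz hq
    apply hz
    have h1 : z ∈ MulAction.orbit (MulAction.stabilizer G a) a := by
      rw [← MulAction.orbitRel_apply]
      exact Quotient.exact' hq
    obtain ⟨s, hs⟩ := h1
    rw [← hs]
    exact s.2
  obtain ⟨q, _, hq⟩ := (Nat.card_eq_two_iff' (Quotient.mk'' a :
    MulAction.orbitRel.Quotient (MulAction.stabilizer G a) Ω)).mp h
  have e1 := hq _ (key x hx)
  have e2 := hq _ (key y hy)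
  have e : (Quotient.mk'' y : MulAction.orbitRel.Quotient (MulAction.stabilizer G a) Ω) =
      Quotient.mk'' x := by rw [e1, e2]
  have h1 : y ∈ MulAction.orbit (MulAction.stabilizer G a) x := by
    rw [← MulAction.orbitRel_apply]
    exact Quotient.exact' e
  obtain ⟨s, hs⟩ := h1
  exact ⟨s.1, s.2, hs⟩

end Cfsg.Agent.Helper22.W2P
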