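import Mathlib
import Cfsg.Agent.Lib.Helper15.W2PRK2

/-!
# S0720 piece DEG4: a primitive group of degree four is doubly transitive   (helper15)
-/

set_option autoImplicit false
set_option linter.style.haveILetI false

namespace Cfsg.Agent.Helper22.W2P

universe u v

variable {G : Type u} [Group G] [Fintype G] {Ω : Type v} [Fintype Ω] [DecidableEq Ω]
  [MulAction G Ω]

namespace DEG4

omit [DecidableEq Ω] in
/-- if the stabilizer of `a` fixes no other point of a set of four points, it is transitive
on the other three -/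
theorem trans_of_no_fix (h4 : Fintype.card Ω = 4) (a : Ω)
    (hno : ∀ b : Ω, b ≠ a → ∃ s ∈ MulAction.stabilizer G a, s • b ≠ b) (x y : Ω) (hx : x ≠ a)
    (hy : y ≠ a) : ∃ g : G, g • a = a ∧ g • x = y := by
  classical
  set S := MulAction.stabilizer G a with hS
  -- orbits of `S` avoid `a`
  have hsub : ∀ z : Ω, z ≠ a → MulAction.orbit S z ⊆ ({a}ᶜ : Set Ω) := by
    intro z hz w hw
    obtain ⟨s, rfl⟩ := hw
    intro hwa
    apply hz
    have h1 : (s : G) • z = a := hwa
    have h2 : z = (s : G)⁻¹ • a := by rw [← h1, inv_smul_smul]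
    rw [h2]
    exact (inv_mem s.2 : (s : G)⁻¹ ∈ MulAction.stabilizer G a)
  have hbig : ∀ z : Ω, z ≠ a → 1 < (MulAction.orbit S z).ncard := by
    intro z hz
    obtain ⟨s, hs, hsz⟩ := hno z hz
    rw [Set.one_lt_ncard_iff]
    exact ⟨z, (⟨s, hs⟩ : S) • z, MulAction.mem_orbit_self z, MulAction.mem_orbit z _,
      fun h => hsz h.symm⟩
  by_contra hcon
  have hnot : y ∉ MulAction.orbit S x := by
    intro hyx
    obtain ⟨s, hs⟩ := hyx
    exact hcon ⟨s.1, s.2, hs⟩
  have hdisj : Disjoint (MulAction.orbit S x) (MulAction.orbit S y) := by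
    rw [Set.disjoint_left]
    intro w hwx hwy
    apply hnot
    have e1 := MulAction.orbit_eq_iff.mpr hwx
    have e2 := MulAction.orbit_eq_iff.mpr hwy
    rw [← e1, e2]
    exact MulAction.mem_orbit_self y
  have hunion : (MulAction.orbit S x ∪ MulAction.orbit S y) ⊆ ({a}ᶜ : Set Ω) :=
    Set.union_subset (hsub x hx) (hsub y hy)
  have hle := Set.ncard_le_ncard hunion (Set.toFinite _)
  rw [Set.ncard_union_eq hdisj (Set.toFinite _) (Set.toFinite _), Set.ncard_compl,
    Set.ncard_singleton, Nat.card_eq_fintype_card, h4] at hle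
  have := hbig x hx
  have := hbig y hy
  omega

end DEG4

/-- PIECE DEG4. -/
theorem two_trans_of_card_four (hprim : MulAction.IsPreprimitive G Ω)
    (h4 : Fintype.card Ω = 4) : MulAction.IsMultiplyPretransitive G Ω 2 := by
  classical
  haveI := hprim
  haveI : MulAction.IsPretransitive G Ω := hprim.toIsPretransitive
  haveI : Nontrivial Ω := Fintype.one_lt_card_iff_nontrivial.mp (by omega)
  obtain ⟨a⟩ : Nonempty Ω := inferInstance
  set S := MulAction.stabilizer G a with hS
  have hco : IsCoatom S := (MulAction.isCoatom_stabilizer_iff_preprimitive G a).mpr hprim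
  have hidx : S.index = 4 := by
    rw [hS, MulAction.index_stabilizer_of_transitive, Nat.card_eq_fintype_card, h4]
  by_contra h2
  have hfix : ∃ b : Ω, b ≠ a ∧ ∀ s ∈ S, s • b = b := by
    by_contra hno
    push Not at hno
    apply h2
    apply RK2.two_trans_of_stab_trans a
    intro x y hx hy
    exact DEG4.trans_of_no_fix h4 a hno x y hx hy
  obtain ⟨b, hba, hb⟩ := hfix
  obtain ⟨g, hg⟩ := MulAction.exists_smul_eq G a b
  have hgS : g ∉ S := by
    intro h
    apply hba
    rw [← hg]
    exact h
  have hSb : S ≤ MulAction.stabilizer G b := fun s hs => hb s hs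
  have hconj : MulAction.stabilizer G b = S.map (MulAut.conj g).toMonoidHom := by
    rw [← hg]
    exact MulAction.stabilizer_smul_eq_stabilizer_map_conj g a
  have heq : S = S.map (MulAut.conj g).toMonoidHom := by
    rw [← hconj]
    apply Subgroup.eq_of_le_of_card_ge hSb
    rw [hconj, Subgroup.card_map_of_injective (MulAut.conj g).injective]
  have hgN : g ∈ Subgroup.normalizer (S : Set G) := by
    rw [Subgroup.mem_normalizer_iff]
    intro s
    constructor
    · intro hs
      rw [heq]
      exact ⟨s, hs, rfl⟩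
    · intro hs
      rw [heq] at hs
      obtain ⟨s', hs', hs''⟩ := hs
      have : s' = s := by
        have h1 : g * s' * g⁻¹ = g * s * g⁻¹ := hs''
        exact mul_left_cancel (mul_right_cancel h1)
      rw [← this]
      exact hs'
  have hNtop : Subgroup.normalizer (S : Set G) = ⊤ := by
    apply hco.2
    exact lt_of_le_of_ne Subgroup.le_normalizer (fun h => hgS (h ▸ hgN))
  haveI hSn : S.Normal := Subgroup.normalizer_eq_top_iff.mp hNtop
  have hcard : Nat.card (G ⧸ S) = 4 := hidx
  haveI : Fact (Nat.Prime 2) := ⟨Nat.prime_two⟩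
  obtain ⟨x, hx⟩ := exists_prime_orderOf_dvd_card' (G := G ⧸ S) 2 (by rw [hcard]; norm_num)
  set K := (Subgroup.zpowers x).comap (QuotientGroup.mk' S) with hK
  have hSK : S ≤ K := by
    intro s hs
    rw [hK, Subgroup.mem_comap]
    have : QuotientGroup.mk' S s = 1 := (QuotientGroup.eq_one_iff s).mpr hs
    rw [this]
    exact one_mem _
  have hKS : K ≠ S := by
    intro h
    obtain ⟨k, hk⟩ := QuotientGroup.mk'_surjective S x
    have hkK : k ∈ K := by
      rw [hK, Subgroup.mem_comap, hk]
      exact Subgroup.mem_zpowers x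
    rw [h] at hkK
    have : x = 1 := by
      rw [← hk]
      exact (QuotientGroup.eq_one_iff k).mpr hkK
    rw [this, orderOf_one] at hx
    omega
  have hKtop : K = ⊤ := hco.2 K (lt_of_le_of_ne hSK (Ne.symm hKS))
  have hKidx : K.index = 2 := by
    rw [hK, Subgroup.index_comap_of_surjective _ (QuotientGroup.mk'_surjective S)]
    have h1 := Subgroup.card_mul_index (Subgroup.zpowers x)
    rw [Nat.card_zpowers, hx, hcard] at h1
    omega
  rw [hKtop, Subgroup.index_top] at hKidx
  omega

end Cfsg.Agent.Helper22.W2P
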