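import Mathlib
import Cfsg.Agent.Lib.Helper22.W2PDefs

/-!
# S0720 piece KSUMK (helper15): the three nontrivial suborbits partition `Ω ∖ {a₀}`, hence their
lengths add up to `2p - 1` and the counts `kk` add up to `p - 1`.
-/

set_option autoImplicit false
set_option linter.style.haveILetI false
set_option linter.unusedSectionVars false

namespace Cfsg.Agent.Helper22.W2P

open Cfsg Cfsg.Agent.Helper22.PermCent

open scoped ComplexConjugate

universe u v

variable {G : Type u} [Group G] [Fintype G] {Ω : Type v} [Fintype Ω] [DecidableEq Ω]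
  [MulAction G Ω]

namespace KSUMK

/-- the base point lies in no nontrivial suborbit -/
theorem base_notMem {a₀ b : Ω} (hb : b ≠ a₀) : a₀ ∉ sub G a₀ b := by
  rintro ⟨⟨k, hk⟩, hk2⟩
  apply hb
  have h1 : k • b = a₀ := hk2
  have h2 : k • a₀ = a₀ := hk
  calc b = k⁻¹ • (k • b) := by simp
    _ = k⁻¹ • a₀ := by rw [h1]
    _ = a₀ := by rw [inv_smul_eq_iff, h2]

/-- suborbits that meet: the representative of one lies in the other -/
theorem mem_of_meet {a₀ b c y : Ω} (hb : y ∈ sub G a₀ b) (hc : y ∈ sub G a₀ c) :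
    b ∈ sub G a₀ c := by
  have h1 : MulAction.orbit (MulAction.stabilizer G a₀) y
      = MulAction.orbit (MulAction.stabilizer G a₀) b := MulAction.orbit_eq_iff.mpr hb
  have h2 : MulAction.orbit (MulAction.stabilizer G a₀) y
      = MulAction.orbit (MulAction.stabilizer G a₀) c := MulAction.orbit_eq_iff.mpr hc
  show b ∈ MulAction.orbit (MulAction.stabilizer G a₀) c
  rw [← h2, h1]
  exact MulAction.mem_orbit_self b

/-- the class of a point: the index of the suborbit containing it -/
noncomputable def cls (a₀ : Ω) (b : Fin 3 → Ω) (y : Ω) : Fin 3 := by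
  classical
  exact if h : ∃ i, y ∈ sub G a₀ (b i) then h.choose else 0

theorem mem_sub_iff (a₀ : Ω) (b : Fin 3 → Ω) (hb0 : ∀ i, b i ≠ a₀)
    (hbne : ∀ i j, i ≠ j → b i ∉ sub G a₀ (b j))
    (hball : ∀ y : Ω, y = a₀ ∨ ∃ i, y ∈ sub G a₀ (b i)) (y : Ω) (i : Fin 3) :
    y ∈ sub G a₀ (b i) ↔ (y ≠ a₀ ∧ cls (G := G) a₀ b y = i) := by
  classical
  constructor
  · intro hy
    refine ⟨?_, ?_⟩
    · rintro rfl
      exact base_notMem (G := G) (hb0 i) hy
    · have h : ∃ j, y ∈ sub G a₀ (b j) := ⟨i, hy⟩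
      have hc : cls (G := G) a₀ b y = h.choose := by
        unfold cls
        rw [dif_pos h]
      rw [hc]
      by_contra hne
      exact hbne _ _ (Ne.symm hne) (mem_of_meet (G := G) hy h.choose_spec)
  · rintro ⟨hy, hi⟩
    have h : ∃ j, y ∈ sub G a₀ (b j) := (hball y).resolve_left hy
    have hc : cls (G := G) a₀ b y = h.choose := by
      unfold cls
      rw [dif_pos h]
    rw [← hi, hc]
    exact h.choose_spec

end KSUMK

section TwoMembers

variable {p : ℕ} [Fact p.Prime] {π : G} {χ₁ ψ ψ' : G → ℂ}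

open KSUMK in
/-- PIECE KSUMK: the counts `kk` of the three suborbits add up to `p - 1`. -/
theorem sum_kk (C : Ctx2 Ω p π χ₁ ψ ψ') (hΩ : Fintype.card Ω = 2 * p) (a₀ : Ω) (b : Fin 3 → Ω)
    (hb0 : ∀ i, b i ≠ a₀) (hbne : ∀ i j, i ≠ j → b i ∉ sub G a₀ (b j))
    (hball : ∀ y : Ω, y = a₀ ∨ ∃ i, y ∈ sub G a₀ (b i)) (g : G) :
    ∑ i, kk p (g * π * g⁻¹) a₀ (b i) = p - 1 ∧
      ∑ i, Nat.card (sub G a₀ (b i)) = 2 * p - 1 := by
  classical
  have hp : p.Prime := Fact.out
  have hiff := mem_sub_iff (G := G) a₀ b hb0 hbne hball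
  set τ : G := g * π * g⁻¹ with hτ
  -- `τ` has order `p` and no fixed points
  have hτord : orderOf τ = p := by
    have : τ = MulAut.conj g π := by simp [hτ, MulAut.conj_apply]
    rw [this]
    have := orderOf_injective (MulAut.conj g).toMonoidHom (MulAut.conj g).injective π
    simpa [C.ord] using this
  have hτfix : ∀ x : Ω, τ • x ≠ x := by
    intro x hx
    apply C.fpf (g⁻¹ • x)
    have : g • π • g⁻¹ • x = x := by
      simpa [hτ, mul_smul] using hx
    calc π • g⁻¹ • x = g⁻¹ • (g • π • g⁻¹ • x) := by simp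
      _ = g⁻¹ • x := by rw [this]
  have hpow : ∀ s ∈ Finset.Icc 1 (p - 1), τ ^ s • a₀ ≠ a₀ := by
    intro s hs h
    rw [Finset.mem_Icc] at hs
    have hcop : Nat.Coprime s (orderOf τ) := by
      rw [hτord]
      apply Nat.Coprime.symm
      rw [Nat.Prime.coprime_iff_not_dvd hp]
      intro hd
      have := Nat.le_of_dvd (by omega) hd
      have := hp.two_le
      omega
    obtain ⟨m, hm⟩ := exists_pow_eq_self_of_coprime hcop
    apply hτfix a₀
    have hmem : τ ^ s ∈ MulAction.stabilizer G a₀ := h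
    have : (τ ^ s) ^ m ∈ MulAction.stabilizer G a₀ := Subgroup.pow_mem _ hmem m
    rw [hm] at this
    exact this
  constructor
  · -- the counts
    have h1 : ∀ i : Fin 3, kk p τ a₀ (b i)
        = ((Finset.Icc 1 (p - 1)).filter fun s => cls (G := G) a₀ b (τ ^ s • a₀) = i).card := by
      intro i
      unfold kk
      congr 1
      apply Finset.filter_congr
      intro s hs
      rw [hiff]
      exact ⟨fun h => h.2, fun h => ⟨hpow s hs, h⟩⟩
    rw [Finset.sum_congr rfl (fun i _ => h1 i)]
    rw [← Finset.card_eq_sum_card_fiberwise (f := fun s => cls (G := G) a₀ b (τ ^ s • a₀))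
      (s := Finset.Icc 1 (p - 1)) (t := Finset.univ) (fun _ _ => Finset.mem_univ _)]
    simp
  · have h2 : ∀ i : Fin 3, Nat.card (sub G a₀ (b i))
        = ((Finset.univ.erase a₀).filter fun y => cls (G := G) a₀ b y = i).card := by
      intro i
      rw [Nat.card_eq_fintype_card, Fintype.card_subtype]
      congr 1
      ext y
      simp only [Finset.mem_filter, Finset.mem_univ, true_and, Finset.mem_erase, and_true]
      exact hiff y i
    rw [Finset.sum_congr rfl (fun i _ => h2 i)]
    rw [← Finset.card_eq_sum_card_fiberwise (f := fun y => cls (G := G) a₀ b y)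
      (s := Finset.univ.erase a₀) (t := Finset.univ) (fun _ _ => Finset.mem_univ _)]
    rw [Finset.card_erase_of_mem (Finset.mem_univ _), Finset.card_univ, hΩ]

end TwoMembers

end Cfsg.Agent.Helper22.W2P
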