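import Mathlib

/-!
# S0720 piece NORM (helper15): nontrivial normal subgroups of a faithful primitive group are
transitive.
-/

set_option autoImplicit false

namespace Cfsg.Agent.Helper22.W2P

universe u v

variable {G : Type u} [Group G] [Fintype G] {Ω : Type v} [Fintype Ω] [DecidableEq Ω]
  [MulAction G Ω]

/-- PIECE NORM: nontrivial normal subgroups of a faithful primitive group are transitive. -/
theorem normal_transitive [FaithfulSMul G Ω] (hprim : MulAction.IsPreprimitive G Ω)
    (N : Subgroup G) [N.Normal] (hN : N ≠ ⊥) : MulAction.IsPretransitive N Ω := by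
  apply MulAction.IsQuasiPreprimitive.isPretransitive_of_normal (G := G)
  intro hfix
  apply hN
  rw [Subgroup.eq_bot_iff_forall]
  intro n hn
  apply FaithfulSMul.eq_of_smul_eq_smul (α := Ω)
  intro x
  have hx : x ∈ MulAction.fixedPoints N Ω := by rw [hfix]; trivial
  rw [one_smul]
  exact hx ⟨n, hn⟩

end Cfsg.Agent.Helper22.W2P
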