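import Mathlib
import Cfsg.Agent.Lib.Helper20.W3Defs
import Cfsg.Agent.Lib.Helper11.W3QUAD
import Cfsg.Agent.Lib.Helper4.XSDUAL

/-!
# S3300 piece W3-BETA (helper15): `C_E(u) = C_E(k)` and `z ∉ [k,E]`: `Xset` is the zero set of a
quadratic form on `C_E(u) ∩ ker ν`.
-/

set_option autoImplicit false
set_option linter.unusedSectionVars false
set_option linter.unusedVariables false

namespace Cfsg.Agent.Helper20.W3

open Cfsg.Agent.Helper8.XS Cfsg.Agent.Helper8.AB

section tri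

variable {G : Type*} [Group G] [Finite G] {z : G} {E : Subgroup G} {u k : G} {ν : G → ℤˣ} {n : ℕ}

theorem w3beta_cm_mem (t : Tri z E u k ν n) (e : G) (he : e ∈ E) : k⁻¹ * e⁻¹ * k * e ∈ E :=
  E.mul_mem (t.hkE e⁻¹ (E.inv_mem he)) he

theorem w3beta_cm_mul (k e a : G) :
    k⁻¹ * (e * a)⁻¹ * k * (e * a) = (k⁻¹ * a⁻¹ * k * a) * (a⁻¹ * (k⁻¹ * e⁻¹ * k * e) * a) := by
  group

theorem w3beta_conj_inv {k : G} (hkk : k * k = 1) (e : G) :
    k⁻¹ * (k⁻¹ * e⁻¹ * k * e) * k = (k⁻¹ * e⁻¹ * k * e)⁻¹ := by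
  have hk' : k⁻¹ = k := inv_eq_of_mul_eq_one_left hkk
  calc k⁻¹ * (k⁻¹ * e⁻¹ * k * e) * k = (k * k)⁻¹ * (e⁻¹ * k * e * k) := by group
    _ = e⁻¹ * k * e * k := by rw [hkk, inv_one, one_mul]
    _ = e⁻¹ * k⁻¹ * e * k := by rw [hk']
    _ = (k⁻¹ * e⁻¹ * k * e)⁻¹ := by group

theorem w3beta_cm_comm (t : Tri z E u k ν n) (hno : ∀ e ∈ E, k⁻¹ * e⁻¹ * k * e ≠ z) (e : G) (he : e ∈ E) :
    k * (k⁻¹ * e⁻¹ * k * e) = (k⁻¹ * e⁻¹ * k * e) * k := by
  have hxE : k⁻¹ * e⁻¹ * k * e ∈ E := w3beta_cm_mem t e he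
  have h3 := w3beta_conj_inv t.hkk e
  generalize k⁻¹ * e⁻¹ * k * e = x at hxE h3 ⊢
  rcases t.xs.hsq x hxE with h | h
  · have hxi : x⁻¹ = x := inv_eq_of_mul_eq_one_left h
    rw [hxi] at h3
    calc k * x = k * (k⁻¹ * x * k) := by rw [h3]
      _ = x * k := by group
  · exfalso
    apply hno x hxE
    calc k⁻¹ * x⁻¹ * k * x = (k⁻¹ * x * k)⁻¹ * x := by group
      _ = x * x := by rw [h3, inv_inv]
      _ = z := h

theorem w3beta_not_both (t : Tri z E u k ν n) (hno : ∀ e ∈ E, k⁻¹ * e⁻¹ * k * e ≠ z) (e e' : G)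
    (he : e ∈ E) (he' : e' ∈ E) (h : k⁻¹ * e'⁻¹ * k * e' = z * (k⁻¹ * e⁻¹ * k * e)) : False := by
  apply hno (e' * e⁻¹) (E.mul_mem he' (E.inv_mem he))
  have hxE : k⁻¹ * e⁻¹ * k * e ∈ E := w3beta_cm_mem t e he
  have h1 : k⁻¹ * (e' * e⁻¹)⁻¹ * k * (e' * e⁻¹) =
      e * ((k⁻¹ * e⁻¹ * k * e)⁻¹ * (k⁻¹ * e'⁻¹ * k * e')) * e⁻¹ := by group
  rw [h1, h]
  generalize k⁻¹ * e⁻¹ * k * e = x at hxE
  have hzx : x * z = z * x := t.xs.hcen x hxE
  have hze : e * z = z * e := t.xs.hcen e he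
  calc e * (x⁻¹ * (z * x)) * e⁻¹ = e * (x⁻¹ * (x * z)) * e⁻¹ := by rw [hzx]
    _ = e * z * e⁻¹ := by group
    _ = z * e * e⁻¹ := by rw [hze]
    _ = z := by group

theorem w3beta_fibre {k : G} (e e' : G) (h : k⁻¹ * e⁻¹ * k * e = k⁻¹ * e'⁻¹ * k * e') :
    k * (e * e'⁻¹) = (e * e'⁻¹) * k := by
  have h1 : e⁻¹ * k * e = e'⁻¹ * k * e' := by
    have := congrArg (fun w => k * w) h
    simpa [mul_assoc] using this
  calc k * (e * e'⁻¹) = e * (e⁻¹ * k * e) * e'⁻¹ := by group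
    _ = e * (e'⁻¹ * k * e') * e'⁻¹ := by rw [h1]
    _ = (e * e'⁻¹) * k := by group

/-- `|E| ≤ |C_E(k)| · |[k,E]|` -/
theorem w3beta_card_le (t : Tri z E u k ν n) :
    Nat.card E ≤ Nat.card ↥(E ⊓ Subgroup.centralizer ({k} : Set G)) *
      Set.ncard {x : G | ∃ e ∈ E, x = k⁻¹ * e⁻¹ * k * e} := by
  classical
  set SS : Set G := {x : G | ∃ e ∈ E, x = k⁻¹ * e⁻¹ * k * e} with hSS
  set A := E ⊓ Subgroup.centralizer ({k} : Set G) with hA
  have hrep : ∀ x : ↥SS, ∃ e : G, e ∈ E ∧ (x : G) = k⁻¹ * e⁻¹ * k * e := fun x => by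
    obtain ⟨e, he, hx⟩ := x.2
    exact ⟨e, he, hx⟩
  choose rep hrepE hrepx using hrep
  let sOf : ↥E → ↥SS := fun e => ⟨k⁻¹ * (e : G)⁻¹ * k * (e : G), ⟨e, e.2, rfl⟩⟩
  have hmemA : ∀ e : ↥E, (e : G) * (rep (sOf e))⁻¹ ∈ A := by
    intro e
    refine Subgroup.mem_inf.2 ⟨E.mul_mem e.2 (E.inv_mem (hrepE _)), ?_⟩
    rw [Subgroup.mem_centralizer_iff]
    intro h hh
    rw [Set.mem_singleton_iff.1 hh]
    exact w3beta_fibre _ _ (hrepx (sOf e))
  let φ : ↥E → ↥A × ↥SS := fun e => (⟨(e : G) * (rep (sOf e))⁻¹, hmemA e⟩, sOf e)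
  have hφ : Function.Injective φ := by
    intro e e' h
    have h2 : sOf e = sOf e' := congrArg Prod.snd h
    have h1 : (e : G) * (rep (sOf e))⁻¹ = (e' : G) * (rep (sOf e'))⁻¹ :=
      congrArg (fun p => ((p.1 : ↥A) : G)) h
    rw [h2] at h1
    exact Subtype.ext (mul_right_cancel h1)
  have h3 := Nat.card_le_card_of_injective φ hφ
  rw [Nat.card_prod, Nat.card_coe_set_eq] at h3
  exact h3

/-- `[k,E]` and `z [k,E]` are disjoint subsets of `C_E(k)` -/
theorem w3beta_union (t : Tri z E u k ν n) (hno : ∀ e ∈ E, k⁻¹ * e⁻¹ * k * e ≠ z) :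
    {x : G | ∃ e ∈ E, x = k⁻¹ * e⁻¹ * k * e} ∪ ((fun x => z * x) '' {x : G | ∃ e ∈ E, x = k⁻¹ * e⁻¹ * k * e}) ⊆
        ((E ⊓ Subgroup.centralizer ({k} : Set G) : Subgroup G) : Set G) ∧
      Set.ncard ({x : G | ∃ e ∈ E, x = k⁻¹ * e⁻¹ * k * e} ∪
        ((fun x => z * x) '' {x : G | ∃ e ∈ E, x = k⁻¹ * e⁻¹ * k * e})) =
        Set.ncard {x : G | ∃ e ∈ E, x = k⁻¹ * e⁻¹ * k * e} +
          Set.ncard {x : G | ∃ e ∈ E, x = k⁻¹ * e⁻¹ * k * e} := by
  classical
  set SS : Set G := {x : G | ∃ e ∈ E, x = k⁻¹ * e⁻¹ * k * e} with hSS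
  set A := E ⊓ Subgroup.centralizer ({k} : Set G) with hA
  have hSA : ∀ x ∈ SS, x ∈ A := by
    rintro x ⟨e, he, rfl⟩
    refine Subgroup.mem_inf.2 ⟨w3beta_cm_mem t e he, ?_⟩
    rw [Subgroup.mem_centralizer_iff]
    intro h hh
    rw [Set.mem_singleton_iff.1 hh]
    exact w3beta_cm_comm t hno e he
  have hzA : z ∈ A := by
    refine Subgroup.mem_inf.2 ⟨t.xs.hzE, ?_⟩
    rw [Subgroup.mem_centralizer_iff]
    intro h hh
    rw [Set.mem_singleton_iff.1 hh]
    exact t.hkz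
  have hdisj : Disjoint SS ((fun x => z * x) '' SS) := by
    rw [Set.disjoint_left]
    rintro x ⟨e', he', rfl⟩ ⟨y, ⟨e, he, rfl⟩, hy⟩
    exact w3beta_not_both t hno e e' he he' hy.symm
  have hsub : SS ∪ ((fun x => z * x) '' SS) ⊆ (A : Set G) := by
    rintro x (hx | ⟨y, hy, rfl⟩)
    · exact hSA x hx
    · exact A.mul_mem hzA (hSA y hy)
  have hc1 : Set.ncard (SS ∪ ((fun x => z * x) '' SS)) = Set.ncard SS + Set.ncard SS := by
    rw [Set.ncard_union_eq hdisj (Set.toFinite _) (Set.toFinite _),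
      Set.ncard_image_of_injective _ (mul_right_injective z)]
  exact ⟨hsub, hc1⟩

/-- the arithmetic: `|C_E(k)| = 2 |[k,E]| = 2^(n+1)` -/
theorem w3beta_arith (N M a s : ℕ) (hMM : M * M = 2 * N) (h1 : N ≤ a * s) (h2 : 2 * s ≤ a) (h3 : a ≤ M) :
    a = M ∧ 2 * s = a := by
  have ha : a * (2 * s) ≤ a * a := Nat.mul_le_mul_left a h2
  have hb : a * a ≤ M * M := Nat.mul_le_mul h3 h3
  have hc : a * (2 * s) = 2 * (a * s) := by ring
  have hd : 2 * N ≤ a * (2 * s) := by rw [hc]; omega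
  have he : a * a = M * M := by omega
  have hf : a * (2 * s) = a * a := by omega
  have hM : a = M := by
    rcases lt_or_eq_of_le h3 with h | h
    · exfalso
      have : a * a < M * M := Nat.mul_lt_mul_of_lt_of_le h h3 (by omega)
      omega
    · exact h
  refine ⟨hM, ?_⟩
  rcases Nat.eq_zero_or_pos a with h | h
  · omega
  · exact Nat.eq_of_mul_eq_mul_left h hf

/-- every element of `C_E(k)` lies in `[k,E]` up to `z`, and `|C_E(k)| = 2^(n+1)` -/
theorem w3beta_cover (t : Tri z E u k ν n)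
    (hbound : Nat.card ↥(E ⊓ Subgroup.centralizer ({k} : Set G)) ≤ 2 ^ (n + 1))
    (hno : ∀ e ∈ E, k⁻¹ * e⁻¹ * k * e ≠ z) :
    Nat.card ↥(E ⊓ Subgroup.centralizer ({k} : Set G)) = 2 ^ (n + 1) ∧
      ∀ x ∈ E, k * x = x * k → (∃ e ∈ E, x = k⁻¹ * e⁻¹ * k * e) ∨ (∃ e ∈ E, z * x = k⁻¹ * e⁻¹ * k * e) := by
  classical
  obtain ⟨hsub, hc1⟩ := w3beta_union t hno
  have hle := w3beta_card_le t
  set SS : Set G := {x : G | ∃ e ∈ E, x = k⁻¹ * e⁻¹ * k * e} with hSS
  set A := E ⊓ Subgroup.centralizer ({k} : Set G) with hA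
  have hc2 := Set.ncard_le_ncard hsub (Set.toFinite _)
  have hc3 : Set.ncard (A : Set G) = Nat.card ↥A := (Nat.card_coe_set_eq (A : Set G)).symm
  have h2 : 2 * Set.ncard SS ≤ Nat.card ↥A := by omega
  have hMM : 2 ^ (n + 1) * 2 ^ (n + 1) = 2 * 2 ^ (2 * n + 1) := by
    rw [← pow_add, ← pow_succ']
    congr 1
    omega
  rw [t.hcard] at hle
  obtain ⟨ha, hs⟩ := w3beta_arith (2 ^ (2 * n + 1)) (2 ^ (n + 1)) (Nat.card ↥A) (Set.ncard SS) hMM hle h2 hbound
  refine ⟨ha, ?_⟩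
  have heq : SS ∪ ((fun x => z * x) '' SS) = (A : Set G) := by
    apply Set.eq_of_subset_of_ncard_le hsub _ (Set.toFinite _)
    omega
  intro x hxE hxk
  have hxA : x ∈ (A : Set G) := by
    refine Subgroup.mem_inf.2 ⟨hxE, ?_⟩
    rw [Subgroup.mem_centralizer_iff]
    intro h hh
    rw [Set.mem_singleton_iff.1 hh]
    exact hxk
  rw [← heq] at hxA
  rcases hxA with hx | ⟨y, hy, rfl⟩
  · left; exact hx
  · right
    obtain ⟨e, he, rfl⟩ := hy
    refine ⟨e, he, ?_⟩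
    rw [← mul_assoc, t.xs.hzz, one_mul]

/-- commuting with a fixed `e ∈ E` is a "character" on `E` -/
theorem w3beta_comm_mul (xs : XSp E z) (e x y : G) (he : e ∈ E) (hx : x ∈ E) (hy : y ∈ E) :
    ((x * y) * e = e * (x * y)) ↔ ((x * e = e * x) ↔ (y * e = e * y)) := by
  by_cases h1 : x * e = e * x
  · by_cases h2 : y * e = e * y
    · refine ⟨fun _ => ⟨fun _ => h2, fun _ => h1⟩, fun _ => ?_⟩
      calc x * y * e = x * (y * e) := by group
        _ = x * (e * y) := by rw [h2]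
        _ = (x * e) * y := by group
        _ = e * x * y := by rw [h1]
        _ = e * (x * y) := by group
    · refine ⟨fun h => ?_, fun h => absurd (h.1 h1) h2⟩
      exfalso
      apply h2
      calc y * e = x⁻¹ * ((x * y) * e) := by group
        _ = x⁻¹ * (e * (x * y)) := by rw [h]
        _ = x⁻¹ * (e * x) * y := by group
        _ = x⁻¹ * (x * e) * y := by rw [h1]
        _ = e * y := by group
  · by_cases h2 : y * e = e * y
    · refine ⟨fun h => ?_, fun h => absurd (h.2 h2) h1⟩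
      exfalso
      apply h1
      calc x * e = x * (e * y) * y⁻¹ := by group
        _ = x * (y * e) * y⁻¹ := by rw [h2]
        _ = ((x * y) * e) * y⁻¹ := by group
        _ = (e * (x * y)) * y⁻¹ := by rw [h]
        _ = e * x := by group
    · refine ⟨fun _ => ⟨fun h => absurd h h1, fun h => absurd h h2⟩, fun _ => ?_⟩
      have h1' : e * x ≠ x * e := fun h => h1 h.symm
      have h2' : e * y ≠ y * e := fun h => h2 h.symm
      exact (xs_mul_comm xs e x y he hx hy h1' h2').symm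

/-- the product of three signs in `{1, z}` -/
theorem w3beta_sign (hz1 : z ≠ 1) (hzz : z * z = 1) (P Q C : Prop) [Decidable P] [Decidable Q] [Decidable C] :
    (((if P then (1 : G) else z) * (if Q then (1 : G) else z) * (if C then (1 : G) else z) = 1) ∧
        ((Q ↔ P) ↔ C)) ∨
      (((if P then (1 : G) else z) * (if Q then (1 : G) else z) * (if C then (1 : G) else z) = z) ∧
        ¬ ((Q ↔ P) ↔ C)) := by
  by_cases hP : P <;> by_cases hQ : Q <;> by_cases hC : C <;> simp [hP, hQ, hC, hz1, hzz]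

/-- transport of the commutator along a product -/
theorem w3beta_transport (t : Tri z E u k ν n) (x c ec ex a b d : G) (hx : x ∈ E) (hc : c ∈ E)
    (hxc : c * x = x * c) (hec : ec ∈ E) (hex : ex ∈ E)
    (ha : a = 1 ∨ a = z) (hb : b = 1 ∨ b = z) (hd : d = 1 ∨ d = z)
    (h1 : k⁻¹ * ec⁻¹ * k * ec = a * c) (h2 : k⁻¹ * ex⁻¹ * k * ex = b * x)
    (h3 : ec⁻¹ * x * ec = d * x) :
    k⁻¹ * (ex * ec)⁻¹ * k * (ex * ec) = (a * b * d) * (x * c) := by
  have hcen : ∀ w : G, w = 1 ∨ w = z → ∀ y ∈ E, y * w = w * y := by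
    rintro w (rfl | rfl) y hy
    · rw [mul_one, one_mul]
    · exact t.xs.hcen y hy
  have hcb := hcen b hb c hc
  have hcd := hcen d hd c hc
  have heb := hcen b hb ec⁻¹ (E.inv_mem hec)
  rw [w3beta_cm_mul, h1, h2]
  calc a * c * (ec⁻¹ * (b * x) * ec) = a * c * ((ec⁻¹ * b) * x * ec) := by group
    _ = a * c * ((b * ec⁻¹) * x * ec) := by rw [heb]
    _ = a * c * (b * (ec⁻¹ * x * ec)) := by group
    _ = a * c * (b * (d * x)) := by rw [h3]
    _ = a * (c * b) * (d * x) := by group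
    _ = a * (b * c) * (d * x) := by rw [hcb]
    _ = a * b * (c * d) * x := by group
    _ = a * b * (d * c) * x := by rw [hcd]
    _ = a * b * d * (c * x) := by group
    _ = a * b * d * (x * c) := by rw [hxc]

/-- PIECE W3-BETA -/
theorem even_X_beta (t : Tri z E u k ν n) (hsame : ∀ a ∈ E, a * u = u * a ↔ a * k = k * a)
    (hbound : Nat.card ↥(E ⊓ Subgroup.centralizer ({k} : Set G)) ≤ 2 ^ (n + 1))
    (hno : ∀ e ∈ E, k⁻¹ * e⁻¹ * k * e ≠ z) :
    Even (Set.ncard (Xset E u ν k)) := by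
  classical
  obtain ⟨hcardA, hcover⟩ := w3beta_cover t hbound hno
  have hν1 : ν 1 = 1 := by
    have h := t.hνmul 1 1 (by simp) (by simp)
    rw [mul_one] at h
    have h' : ν 1 * 1 = ν 1 * ν 1 := by rw [mul_one]; exact h
    exact (mul_left_cancel h').symm
  let R : Subgroup G :=
    { carrier := {x | x ∈ E ∧ x * u = u * x ∧ ν x = 1}
      one_mem' := ⟨E.one_mem, by simp, hν1⟩
      mul_mem' := by
        rintro a b ⟨haE, hau, hνa⟩ ⟨hbE, hbu, hνb⟩
        refine ⟨E.mul_mem haE hbE, ?_, ?_⟩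
        · calc a * b * u = a * (b * u) := by group
            _ = a * (u * b) := by rw [hbu]
            _ = (a * u) * b := by group
            _ = u * a * b := by rw [hau]
            _ = u * (a * b) := by group
        · rw [t.hνmul a b hau hbu, hνa, hνb, one_mul]
      inv_mem' := by
        rintro a ⟨haE, hau, hνa⟩
        have hai : a⁻¹ = a := inv_eq_of_mul_eq_one_left (t.hAu2 a haE hau)
        rw [hai]
        exact ⟨haE, hau, hνa⟩ }
  have hmemR : ∀ x : G, x ∈ R ↔ (x ∈ E ∧ x * u = u * x ∧ ν x = 1) := fun x => Iff.rfl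
  have hexp : ∀ x : ↥R, x * x = 1 := by
    intro x
    obtain ⟨hxE, hxu, _⟩ := (hmemR x).1 x.2
    exact Subtype.ext (t.hAu2 x hxE hxu)
  have hcardR : 8 ≤ Nat.card ↥R := by
    have hsub : ((E ⊓ Subgroup.centralizer ({k} : Set G) : Subgroup G) : Set G) ⊆
        (R : Set G) ∪ ((fun x => z * x) '' (R : Set G)) := by
      intro x hx
      obtain ⟨hxE, hxk⟩ := Subgroup.mem_inf.1 hx
      rw [Subgroup.mem_centralizer_iff] at hxk
      have hxk' : x * k = k * x := (hxk k rfl).symm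
      have hxu : x * u = u * x := (hsame x hxE).2 hxk'
      rcases Int.units_eq_one_or (ν x) with h | h
      · left; exact ⟨hxE, hxu, h⟩
      · right
        refine ⟨z * x, ⟨E.mul_mem t.xs.hzE hxE, ?_, ?_⟩, ?_⟩
        · calc z * x * u = z * (x * u) := by group
            _ = z * (u * x) := by rw [hxu]
            _ = (z * u) * x := by group
            _ = (u * z) * x := by rw [t.huz]
            _ = u * (z * x) := by group
        · rw [t.hνmul z x t.huz.symm hxu, t.hνz, h]; decide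
        · show z * (z * x) = x
          rw [← mul_assoc, t.xs.hzz, one_mul]
    have h1 := Set.ncard_le_ncard hsub (Set.toFinite _)
    have h2 := Set.ncard_union_le (R : Set G) ((fun x => z * x) '' (R : Set G))
    have h3 : Set.ncard ((fun x => z * x) '' (R : Set G)) = Set.ncard (R : Set G) :=
      Set.ncard_image_of_injective _ (mul_right_injective z)
    have h4 : Set.ncard ((E ⊓ Subgroup.centralizer ({k} : Set G) : Subgroup G) : Set G) =
        Nat.card ↥(E ⊓ Subgroup.centralizer ({k} : Set G)) := (Nat.card_coe_set_eq _).symm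
    have h5 : Set.ncard (R : Set G) = Nat.card ↥R := (Nat.card_coe_set_eq (R : Set G)).symm
    have h6 : 2 ^ 3 ≤ 2 ^ n := Nat.pow_le_pow_right (by norm_num) t.hn
    have h7 : 2 ^ (n + 1) = 2 * 2 ^ n := by rw [pow_succ]; ring
    rw [hcardA] at h4
    omega
  set SS : Set G := {x : G | ∃ e ∈ E, x = k⁻¹ * e⁻¹ * k * e} with hSS
  have hlift : ∀ y ∈ E, y * k = k * y →
      ∃ e ∈ E, k⁻¹ * e⁻¹ * k * e = (if y ∈ SS then (1 : G) else z) * y := by
    intro y hyE hyk
    by_cases h : y ∈ SS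
    · obtain ⟨e, he, hye⟩ := h
      refine ⟨e, he, ?_⟩
      rw [if_pos ⟨e, he, hye⟩, one_mul]
      exact hye.symm
    · rw [if_neg h]
      rcases hcover y hyE hyk.symm with h' | ⟨e, he, hye⟩
      · exact absurd h' h
      · exact ⟨e, he, hye.symm⟩
  let S' : Set ↥R := {x | (x : G) ∈ SS}
  have h1 : (1 : ↥R) ∈ S' := ⟨1, E.one_mem, by simp⟩
  have hq : ∀ c : ↥R, ∃ g : ↥R → ℤˣ, (∀ x y : ↥R, g (x * y) = g x * g y) ∧
      ∀ x : ↥R, (x * c ∈ S' ↔ ((x ∈ S' ↔ c ∈ S') ↔ g x = 1)) := by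
    intro c
    obtain ⟨hcE, hcu, hνc⟩ := (hmemR c).1 c.2
    have hck : (c : G) * k = k * (c : G) := (hsame c hcE).1 hcu
    obtain ⟨ec, hecE, hec⟩ := hlift c hcE hck
    refine ⟨fun x => if (x : G) * ec = ec * (x : G) then 1 else -1, ?_, ?_⟩
    · intro x y
      have hx := ((hmemR x).1 x.2).1
      have hy := ((hmemR y).1 y.2).1
      have hM := w3beta_comm_mul t.xs ec x y hecE hx hy
      show (if ((x * y : ↥R) : G) * ec = ec * ((x * y : ↥R) : G) then (1 : ℤˣ) else -1) =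
        (if (x : G) * ec = ec * (x : G) then (1 : ℤˣ) else -1) *
          (if (y : G) * ec = ec * (y : G) then (1 : ℤˣ) else -1)
      rw [Subgroup.coe_mul]
      by_cases h1 : (x : G) * ec = ec * (x : G) <;> by_cases h2 : (y : G) * ec = ec * (y : G)
      · rw [if_pos h1, if_pos h2, if_pos (hM.2 ⟨fun _ => h2, fun _ => h1⟩)]; rfl
      · rw [if_pos h1, if_neg h2, if_neg (fun h => h2 ((hM.1 h).1 h1))]; rfl
      · rw [if_neg h1, if_pos h2, if_neg (fun h => h1 ((hM.1 h).2 h2))]; rfl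
      · rw [if_neg h1, if_neg h2, if_pos (hM.2 ⟨fun h => absurd h h1, fun h => absurd h h2⟩)]; rfl
    · intro x
      obtain ⟨hxE, hxu, hνx⟩ := (hmemR x).1 x.2
      have hxk : (x : G) * k = k * (x : G) := (hsame x hxE).1 hxu
      obtain ⟨ex, hexE, hex⟩ := hlift x hxE hxk
      have hd : ec⁻¹ * (x : G) * ec =
          (if (x : G) * ec = ec * (x : G) then (1 : G) else z) * (x : G) := by
        by_cases h : (x : G) * ec = ec * (x : G)
        · rw [if_pos h, one_mul]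
          calc ec⁻¹ * (x : G) * ec = ec⁻¹ * ((x : G) * ec) := by group
            _ = ec⁻¹ * (ec * (x : G)) := by rw [h]
            _ = (x : G) := by group
        · rw [if_neg h]
          have h' := (t.xs.hcomm x hxE ec hecE).resolve_left h
          have hze : ec⁻¹ * z = z * ec⁻¹ := t.xs.hcen ec⁻¹ (E.inv_mem hecE)
          calc ec⁻¹ * (x : G) * ec = ec⁻¹ * ((x : G) * ec) := by group
            _ = ec⁻¹ * (z * (ec * (x : G))) := by rw [h']
            _ = (ec⁻¹ * z) * ec * (x : G) := by group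
            _ = (z * ec⁻¹) * ec * (x : G) := by rw [hze]
            _ = z * (x : G) := by group
      have hxc : (c : G) * (x : G) = (x : G) * (c : G) := t.hAu c hcE hcu x hxE hxu
      have hT := w3beta_transport t x c ec ex _ _ _ hxE hcE hxc hecE hexE
        (ite_eq_or_eq _ _ _) (ite_eq_or_eq _ _ _) (ite_eq_or_eq _ _ _) hec hex hd
      have hmem : ((if (c : G) ∈ SS then (1 : G) else z) * (if (x : G) ∈ SS then (1 : G) else z) *
          (if (x : G) * ec = ec * (x : G) then (1 : G) else z)) * ((x : G) * (c : G)) ∈ SS :=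
        ⟨ex * ec, E.mul_mem hexE hecE, hT.symm⟩
      have hg : (if (x : G) * ec = ec * (x : G) then (1 : ℤˣ) else -1) = 1 ↔
          (x : G) * ec = ec * (x : G) := by
        by_cases h : (x : G) * ec = ec * (x : G)
        · simp [h]
        · simp [h]
      show ((x : G) * (c : G)) ∈ SS ↔ (((x : G) ∈ SS ↔ (c : G) ∈ SS) ↔
        (if (x : G) * ec = ec * (x : G) then (1 : ℤˣ) else -1) = 1)
      rw [hg]
      rcases w3beta_sign t.xs.hz1 t.xs.hzz ((c : G) ∈ SS) ((x : G) ∈ SS)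
        ((x : G) * ec = ec * (x : G)) with ⟨hw, hiff⟩ | ⟨hw, hiff⟩
      · rw [hw, one_mul] at hmem
        exact ⟨fun _ => hiff, fun _ => hmem⟩
      · rw [hw] at hmem
        have hnot : (x : G) * (c : G) ∉ SS := by
          rintro ⟨e, he, hxe⟩
          obtain ⟨e', he', hze'⟩ := hmem
          exact w3beta_not_both t hno e e' he he' (by rw [← hze', hxe])
        exact ⟨fun h => absurd h hnot, fun h => absurd h hiff⟩
  have hev := even_quadric hexp hcardR S' h1 hq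
  have hX : Xset E u ν k = Subtype.val '' S' := by
    ext x
    constructor
    · rintro ⟨hxE, hxu, hνx, e, he, hxe⟩
      exact ⟨⟨x, hxE, hxu, hνx⟩, ⟨e, he, hxe⟩, rfl⟩
    · rintro ⟨⟨y, hyE, hyu, hνy⟩, ⟨e, he, hye⟩, rfl⟩
      exact ⟨hyE, hyu, hνy, e, he, hye⟩
  rw [hX, Set.ncard_image_of_injective _ Subtype.val_injective]
  exact hev

end tri

end Cfsg.Agent.Helper20.W3
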