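import Mathlib
import Cfsg.Agent.Lib.Helper20.W3Defs
import Cfsg.Agent.Lib.Helper9.ABINVPROD

/-!
# S3300 piece W3-BLKA (helper15): adaptation of `h8_block_A` to a sign character
-/

set_option autoImplicit false
set_option linter.unusedSectionVars false
set_option linter.unusedVariables false

namespace Cfsg.Agent.Helper20.W3

open Cfsg.Agent.Helper8.XS Cfsg.Agent.Helper8.AB

section block

variable {G : Type*} [Group G] [Finite G] {z : G} {H : Subgroup G}
  [Fintype (G ⧸ H)] {ψ : ↥H →* ℤˣ} {n : ℕ}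

theorem block_AP (gl : GlobP z H ψ n) (u : G) (Q : Subgroup G) (xs : XSp Q u)
    (v : G) (hvu : v * u = u * v) (huH : u ∉ H) :
    ∏ x ∈ blk Q H ((1 : G) : G ⧸ H), valH ψ (x.out⁻¹ * v * x.out) = 1 := by
  apply blk_prod_one Q H _ _ u xs.hzE
  · intro x _
    rw [← mul_smul, xs.hzz, one_smul]
  · intro x hx hfix
    obtain ⟨e, he, rfl⟩ := mem_blk.1 hx
    apply huH
    rw [MulAction.Quotient.smul_mk, MulAction.Quotient.smul_mk, QuotientGroup.eq] at hfix
    simp only [smul_eq_mul, mul_one] at hfix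
    have h2 : (u * e)⁻¹ * e = u⁻¹ := by
      rw [← xs.hcen e he]; group
    rw [h2] at hfix
    exact (H.inv_mem_iff).1 hfix
  · intro x _
    have hx : x = ((x.out : G) : G ⧸ H) := (QuotientGroup.out_eq' x).symm
    conv_lhs => rw [hx, MulAction.Quotient.smul_mk, valH_out]
    simp only [smul_eq_mul]
    have : (u * x.out)⁻¹ * v * (u * x.out) = x.out⁻¹ * v * x.out := by
      calc (u * x.out)⁻¹ * v * (u * x.out) = x.out⁻¹ * (u⁻¹ * (v * u)) * x.out := by group
        _ = x.out⁻¹ * (u⁻¹ * (u * v)) * x.out := by rw [hvu]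
        _ = x.out⁻¹ * v * x.out := by group
    rw [this]
  · intro x _
    exact val_mul_self ψ _

end block

end Cfsg.Agent.Helper20.W3
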