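import Mathlib
import Cfsg.Agent.Lib.Helper4.ZNDefs
import Cfsg.Agent.Lib.Helper4.KSBootA

/-!
# S0518 piece MODELA: what we need of `S₄`
-/

set_option autoImplicit false
set_option linter.style.haveILetI false
open Cfsg

namespace Cfsg.Agent.Helper4.ZN

open Equiv

variable {G : Type*} [Group G]

/-- an element of odd order is an even permutation -/
theorem modela_sign_of_odd {α : Type*} [Fintype α] [DecidableEq α] (σ : Perm α)
    (h : Odd (orderOf σ)) : Perm.sign σ = 1 := by
  have h1 : Perm.sign σ ^ orderOf σ = 1 := by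
    rw [← map_pow, pow_orderOf_eq_one, map_one]
  rcases Int.units_eq_one_or (Perm.sign σ) with h2 | h2
  · exact h2
  · rw [h2, Odd.neg_one_pow h] at h1
    exact absurd h1 (by decide)

/-- the elements of odd order of a symmetric group generate the alternating group -/
theorem modela_closure_odd {α : Type*} [Fintype α] [DecidableEq α] :
    Subgroup.closure {σ : Perm α | Odd (orderOf σ)} = alternatingGroup α := by
  apply le_antisymm
  · rw [Subgroup.closure_le]
    intro σ hσ
    exact Perm.mem_alternatingGroup.mpr (modela_sign_of_odd σ hσ)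
  · rw [← Perm.closure_three_cycles_eq_alternating]
    apply Subgroup.closure_mono
    intro σ hσ
    have h3 : orderOf σ = 3 := Perm.IsThreeCycle.orderOf hσ
    show Odd (orderOf σ)
    rw [h3]
    decide

theorem modela_pkgE_mono {H : Type*} [Group H] {P : Subgroup G} (e : ↥P ≃* H) {N N' : Subgroup H}
    (h : N ≤ N') : KSBoot.pkgE e N ≤ KSBoot.pkgE e N' :=
  Subgroup.map_mono (Subgroup.comap_mono h)

theorem modela_oddCl_eq (P : Subgroup G) (e : ↥P ≃* Perm (Fin 4)) :
    oddCl P = KSBoot.pkgE e (alternatingGroup (Fin 4)) := by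
  apply le_antisymm
  · unfold oddCl
    rw [Subgroup.closure_le]
    rintro g ⟨hgP, hg⟩
    rw [SetLike.mem_coe, KSBoot.mem_pkgE]
    refine ⟨hgP, ?_⟩
    rw [← modela_closure_odd]
    apply Subgroup.subset_closure
    show Odd (orderOf (e ⟨g, hgP⟩))
    rw [MulEquiv.orderOf_eq, Subgroup.orderOf_mk]
    exact hg
  · intro x hx
    obtain ⟨hxP, hx'⟩ := (KSBoot.mem_pkgE e _).mp hx
    have key : Subgroup.closure {σ : Perm (Fin 4) | Odd (orderOf σ)} ≤
        (oddCl P).comap (P.subtype.comp e.symm.toMonoidHom) := by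
      rw [Subgroup.closure_le]
      intro σ hσ
      rw [SetLike.mem_coe, Subgroup.mem_comap]
      unfold oddCl
      apply Subgroup.subset_closure
      refine ⟨(e.symm σ).2, ?_⟩
      show Odd (orderOf ((e.symm σ : ↥P) : G))
      rw [Subgroup.orderOf_coe, MulEquiv.orderOf_eq]
      exact hσ
    rw [← modela_closure_odd] at hx'
    have := key hx'
    rw [Subgroup.mem_comap] at this
    simpa using this

theorem exists_PA (P : Subgroup G) (h : Nonempty (↥P ≃* Equiv.Perm (Fin 4))) : ∃ V : Subgroup G, PA P V := by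
  obtain ⟨e⟩ := h
  refine ⟨KSBoot.pkgE e KSBoot.v4, ?_, ?_, ?_, ?_, ?_⟩
  · rw [Nat.card_congr e.toEquiv, Nat.card_eq_fintype_card, Fintype.card_perm, Fintype.card_fin]
    rfl
  · rw [modela_oddCl_eq P e, KSBoot.card_pkgE, nat_card_alternatingGroup, Nat.card_eq_fintype_card,
      Fintype.card_fin]
    rfl
  · rw [modela_oddCl_eq P e]
    apply modela_pkgE_mono
    intro σ hσ
    exact Perm.mem_alternatingGroup.mpr ((KSBoot.mem_v4.mp hσ).2)
  · rw [KSBoot.card_pkgE, KSBoot.v4_card]
  · intro p hp x hx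
    obtain ⟨hxP, hx'⟩ := (KSBoot.mem_pkgE e _).mp hx
    rw [KSBoot.mem_pkgE]
    refine ⟨mul_mem (mul_mem hp hxP) (inv_mem hp), ?_⟩
    have : (⟨p * x * p⁻¹, mul_mem (mul_mem hp hxP) (inv_mem hp)⟩ : ↥P) =
        ⟨p, hp⟩ * ⟨x, hxP⟩ * (⟨p, hp⟩ : ↥P)⁻¹ := rfl
    rw [this, map_mul, map_mul, map_inv]
    exact KSBoot.v4_normal.conj_mem _ hx' _

end Cfsg.Agent.Helper4.ZN
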