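import Mathlib
import Cfsg.Agent.Lib.Helper4.ZNDefs
import Cfsg.Agent.Lib.Helper4.KSBootA
import Cfsg.Agent.Lib.Helper15.ZNMODELA
import Cfsg.Agent.Lib.Helper4.ZNMAXL
import Cfsg.Agent.Lib.Helper3.ZNLIFT

/-!
# S0518 piece CASEA: both maximal 2-locals are `S₄`
-/

set_option autoImplicit false
set_option linter.style.haveILetI false
open Cfsg

namespace Cfsg.Agent.Helper4.ZN

variable {G : Type*} [Group G]

theorem casea_isSylowIn {T P : Subgroup G} (h : IsSylowTwoIn T P) :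
    Cfsg.Agent.Helper15.IsSylowIn 2 T P := by
  haveI : Fact (Nat.Prime 2) := ⟨Nat.prime_two⟩
  obtain ⟨hle, hp, hodd⟩ := h
  refine Cfsg.Agent.Helper15.isSylowIn_of_not_dvd_relIndex hp hle (fun h2 => ?_)
  have := Nat.odd_iff.mp hodd
  omega

theorem casea_card_mul {T P : Subgroup G} (hle : T ≤ P) :
    Nat.card T * T.relIndex P = Nat.card P := by
  have h := Subgroup.relIndex_mul_relIndex ⊥ T P bot_le hle
  rwa [Subgroup.relIndex_bot_left, Subgroup.relIndex_bot_left] at h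

theorem casea_oddCl_le (P : Subgroup G) : oddCl P ≤ P := by
  unfold oddCl
  rw [Subgroup.closure_le]
  intro g hg
  exact hg.1

theorem casea_oddCl_le_closure (P : Subgroup G) :
    oddCl P ≤ Subgroup.closure {g : G | Odd (orderOf g)} := by
  unfold oddCl
  apply Subgroup.closure_mono
  intro g hg
  exact hg.2

theorem casea_side [Finite G] {P T V : Subgroup G} (hm : IsMaximalTwoLocal P)
    (hT : IsSylowTwoIn T P) (pa : PA P V) :
    Subgroup.normalizer (V : Set G) = P ∧ IsPGroup 2 ↥V ∧ V ≠ ⊥ ∧ V ≤ T ∧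
      V ≤ Subgroup.closure {g : G | Odd (orderOf g)} ∧ Nat.card ↥T = 8 ∧ T.relIndex P = 3 ∧
      (T ≤ Subgroup.closure {g : G | Odd (orderOf g)} →
        P ≤ Subgroup.closure {g : G | Odd (orderOf g)}) := by
  haveI : Fact (Nat.Prime 2) := ⟨Nat.prime_two⟩
  have hVp : IsPGroup 2 ↥V := IsPGroup.of_card (n := 2) (by rw [pa.card_V]; norm_num)
  have hV1 : V ≠ ⊥ := by
    intro h
    have := pa.card_V
    rw [h, Subgroup.card_bot] at this
    omega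
  have hPV : P ≤ Subgroup.normalizer (V : Set G) := KSBoot.le_normalizer_of_conj_mem pa.V_norm
  have hN : Subgroup.normalizer (V : Set G) = P := normalizer_eq_of_maximal hm hVp hV1 hPV
  have hVK : V ≤ P := pa.V_le_K.trans (casea_oddCl_le P)
  have hVT : V ≤ T :=
    KSBoot.le_of_isSylowIn_of_normal (casea_isSylowIn hT) hVp hVK (hT.1.trans hPV)
  have hVH : V ≤ Subgroup.closure {g : G | Odd (orderOf g)} :=
    pa.V_le_K.trans (casea_oddCl_le_closure P)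
  -- the order of T
  obtain ⟨k, hk⟩ := (IsPGroup.iff_card (p := 2)).mp hT.2.1
  have hmul := casea_card_mul hT.1
  rw [pa.card_P, hk] at hmul
  have hodd := Nat.odd_iff.mp hT.2.2
  have hk4 : k < 5 := by
    by_contra hk5
    have h32 : 2 ^ 5 ≤ 2 ^ k := Nat.pow_le_pow_right (by norm_num) (by omega)
    have hpos : 0 < T.relIndex P := by
      rcases Nat.eq_zero_or_pos (T.relIndex P) with h0 | h0
      · rw [h0] at hodd; omega
      · exact h0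
    nlinarith
  have hk3 : k = 3 ∧ T.relIndex P = 3 := by
    generalize T.relIndex P = r at hmul hodd
    interval_cases k
    all_goals norm_num at hmul
    all_goals omega
  have hT8 : Nat.card ↥T = 8 := by rw [hk, hk3.1]; norm_num
  refine ⟨hN, hVp, hV1, hVT, hVH, hT8, hk3.2, ?_⟩
  intro hTH
  -- oddCl P ⊔ T = P
  have hle : oddCl P ⊔ T ≤ P := sup_le (casea_oddCl_le P) hT.1
  have h12 : 12 ∣ Nat.card ↥(oddCl P ⊔ T) := by
    rw [← pa.card_K]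
    exact Subgroup.card_dvd_of_le le_sup_left
  have h8 : 8 ∣ Nat.card ↥(oddCl P ⊔ T) := by
    rw [← hT8]
    exact Subgroup.card_dvd_of_le le_sup_right
  have h24 : Nat.card ↥(oddCl P ⊔ T) ∣ 24 := by
    rw [← pa.card_P]
    exact Subgroup.card_dvd_of_le hle
  have hcard : Nat.card ↥(oddCl P ⊔ T) = 24 := by
    have hle24 := Nat.le_of_dvd (by norm_num) h24
    have hpos : 0 < Nat.card ↥(oddCl P ⊔ T) := Nat.card_pos
    generalize Nat.card ↥(oddCl P ⊔ T) = d at h12 h8 hle24 hpos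
    omega
  have heq : oddCl P ⊔ T = P :=
    Subgroup.eq_of_le_of_card_ge hle (by rw [hcard, pa.card_P])
  rw [← heq]
  exact sup_le (casea_oddCl_le_closure P) hTH

theorem caseA [Finite G] {P₁ P₂ T : Subgroup G} (hne : P₁ ≠ P₂) (hm₁ : IsMaximalTwoLocal P₁)
    (hm₂ : IsMaximalTwoLocal P₂) (hT₁ : IsSylowTwoIn T P₁) (hT₂ : IsSylowTwoIn T P₂)
    (h₁ : Nonempty (↥P₁ ≃* Equiv.Perm (Fin 4))) (h₂ : Nonempty (↥P₂ ≃* Equiv.Perm (Fin 4)))
    (H : Subgroup G) (hH : H = Subgroup.closure {g : G | Odd (orderOf g)}) :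
    ∃ M₁ M₂ : Subgroup ↥H, M₁ ≠ M₂ ∧ IsMaximalTwoLocal M₁ ∧ IsMaximalTwoLocal M₂ ∧
      Nonempty (↥M₁ ≃* Equiv.Perm (Fin 4)) ∧ Nonempty (↥M₂ ≃* Equiv.Perm (Fin 4)) ∧
      Nat.card ↥(M₁ ⊓ M₂) = 8 := by
  obtain ⟨V₁, pa₁⟩ := exists_PA P₁ h₁
  obtain ⟨V₂, pa₂⟩ := exists_PA P₂ h₂
  obtain ⟨hN₁, hV₁p, hV₁1, hV₁T, hV₁H, hT8, hT3, hPH₁⟩ := casea_side hm₁ hT₁ pa₁
  obtain ⟨hN₂, hV₂p, hV₂1, hV₂T, hV₂H, _, _, hPH₂⟩ := casea_side hm₂ hT₂ pa₂
  have hVne : V₁ ≠ V₂ := by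
    intro h
    apply hne
    rw [← hN₁, ← hN₂, h]
  -- V₁ ⊔ V₂ = T
  have hDle : V₁ ⊔ V₂ ≤ T := sup_le hV₁T hV₂T
  have hD8 : Nat.card ↥(V₁ ⊔ V₂) ∣ 8 := by
    rw [← hT8]
    exact Subgroup.card_dvd_of_le hDle
  have hD4 : 4 ∣ Nat.card ↥(V₁ ⊔ V₂) := by
    rw [← pa₁.card_V]
    exact Subgroup.card_dvd_of_le le_sup_left
  have hDne : Nat.card ↥(V₁ ⊔ V₂) ≠ 4 := by
    intro h4
    apply hVne
    have e₁ : V₁ = V₁ ⊔ V₂ := Subgroup.eq_of_le_of_card_ge le_sup_left (by rw [h4, pa₁.card_V])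
    have e₂ : V₂ = V₁ ⊔ V₂ := Subgroup.eq_of_le_of_card_ge le_sup_right (by rw [h4, pa₂.card_V])
    rw [e₂]
    exact e₁
  have hDcard : Nat.card ↥(V₁ ⊔ V₂) = 8 := by
    have := Nat.le_of_dvd (by norm_num) hD8
    obtain ⟨c, hc⟩ := hD4
    obtain ⟨d, hd⟩ := hD8
    have hc2 : c ≤ 2 := by omega
    interval_cases c
    · rw [hc] at hd; omega
    · omega
    · omega
  have hDT : V₁ ⊔ V₂ = T := Subgroup.eq_of_le_of_card_ge hDle (by rw [hDcard, hT8])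
  have hTH' : T ≤ Subgroup.closure {g : G | Odd (orderOf g)} := by
    rw [← hDT]
    exact sup_le hV₁H hV₂H
  have hP₁H : P₁ ≤ H := hH ▸ hPH₁ hTH'
  have hP₂H : P₂ ≤ H := hH ▸ hPH₂ hTH'
  have hV₁H' : V₁ ≤ H := hH ▸ hV₁H
  have hV₂H' : V₂ ≤ H := hH ▸ hV₂H
  have hinf : P₁ ⊓ P₂ = T := inf_eq_of_maximal hne hm₁ hm₂ hT₁.1 hT₂.1 hT3
  refine lift_to_H H P₁ P₂ hP₁H hP₂H hne ?_ ?_ ?_ ?_ h₁ h₂ ?_
  · exact ⟨V₁, hV₁p, hV₁1, hV₁H', by rw [hN₁]; exact inf_eq_left.mpr hP₁H⟩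
  · exact ⟨V₂, hV₂p, hV₂1, hV₂H', by rw [hN₂]; exact inf_eq_left.mpr hP₂H⟩
  · intro R hR hR1 _ hPR
    rw [normalizer_eq_of_maximal hm₁ hR hR1 hPR]
    exact inf_eq_left.mpr hP₁H
  · intro R hR hR1 _ hPR
    rw [normalizer_eq_of_maximal hm₂ hR hR1 hPR]
    exact inf_eq_left.mpr hP₂H
  · rw [hinf, hT8]

end Cfsg.Agent.Helper4.ZN
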