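import Mathlib
import Cfsg.Agent.Lib.Helper15.GenThompsonTransfer

/-!
# S0518 piece TRANSFER: generalized Thompson transfer (wrapper around `Helper15.GTT`)
-/

set_option autoImplicit false

namespace Cfsg.Agent.Helper4.ZN

variable {G : Type*} [Group G]

theorem not_mem_of_transfer [Finite G] (S : Sylow 2 G) (D : Subgroup G) (hDS : D ≤ (S : Subgroup G))
    (hDn : ∀ s ∈ (S : Subgroup G), ∀ d ∈ D, s * d * s⁻¹ ∈ D)
    (hab : ∀ a ∈ (S : Subgroup G), ∀ b ∈ (S : Subgroup G), a * b * a⁻¹ * b⁻¹ ∈ D)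
    (t : G) (htS : t ∈ (S : Subgroup G)) (ht2 : t * t = 1) (htD : t ∉ D)
    (hfus : ∀ g : G, g * t * g⁻¹ ∈ (S : Subgroup G) → g * t * g⁻¹ * t⁻¹ ∈ D) :
    t ∉ Subgroup.closure {g : G | Odd (orderOf g)} :=
  Cfsg.Agent.Helper15.GTT.not_mem_closure_odd S D hDn hab t htS ht2 htD hfus

end Cfsg.Agent.Helper4.ZN
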