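import Mathlib
import Cfsg.Agent.Lib.Helper23.ZS4Defs
import Cfsg.Agent.Lib.Helper2.PermIso

/-!
# S3222 piece JK (helper15 for helper23): a group of order 720 with a simple subgroup of index 2,
trivial centre and a subgroup of index 6 is the symmetric group of degree 6.
-/

set_option autoImplicit false
set_option linter.style.haveILetI false

namespace Cfsg.Agent.Helper23.ZS4

open Equiv

variable {G : Type*} [Group G]

/-- PIECE JK (generic). -/
theorem perm_six_of_index_six [Finite G] (M : Subgroup G) (hM2 : M.index = 2)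
    (hsimple : IsSimpleGroup ↥M) (hcard : Nat.card G = 720) (hZ : Subgroup.center G = ⊥)
    (N : Subgroup G) (hN : N.index = 6) : Nonempty (G ≃* Perm (Fin 6)) := by
  classical
  haveI : M.Normal := Subgroup.normal_of_index_eq_two hM2
  have hMcard : Nat.card M = 360 := by
    have := M.index_mul_card
    rw [hM2, hcard] at this
    omega
  have hNcard : Nat.card N = 120 := by
    have := N.index_mul_card
    rw [hN, hcard] at this
    omega
  set K : Subgroup G := N.normalCore with hK
  have hKN : K ≤ N := Subgroup.normalCore_le N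
  haveI : K.Normal := Subgroup.normalCore_normal N
  -- `K ⊓ M = ⊥`
  have hKM : K ⊓ M = ⊥ := by
    haveI : (K ⊓ M).Normal := Subgroup.normal_inf_normal K M
    have hnorm : ((K ⊓ M).subgroupOf M).Normal := inferInstance
    rcases hsimple.eq_bot_or_eq_top_of_normal _ hnorm with h | h
    · rw [Subgroup.subgroupOf_eq_bot] at h
      have := h.eq_bot
      rwa [inf_assoc, inf_idem] at this
    · exfalso
      rw [Subgroup.subgroupOf_eq_top] at h
      have hMN : M ≤ N := (h.trans inf_le_left).trans hKN
      have := Subgroup.card_le_of_le hMN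
      omega
  -- `|K| ≤ 2`
  have hK2 : Nat.card K ≤ 2 := by
    have hinj : Function.Injective (fun k : K => (QuotientGroup.mk (k : G) : G ⧸ M)) := by
      intro a b hab
      have h1 : (a : G)⁻¹ * (b : G) ∈ M := QuotientGroup.eq.mp hab
      have h2 : (a : G)⁻¹ * (b : G) ∈ K := K.mul_mem (K.inv_mem a.2) b.2
      have h3 : (a : G)⁻¹ * (b : G) ∈ K ⊓ M := ⟨h2, h1⟩
      rw [hKM, Subgroup.mem_bot] at h3
      apply Subtype.ext
      exact (inv_mul_eq_one.mp h3)
    have := Nat.card_le_card_of_injective _ hinj
    rwa [← Subgroup.index_eq_card, hM2] at this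
  -- `K = ⊥`
  have hKbot : K = ⊥ := by
    by_contra hne
    have hcard2 : Nat.card K = 2 := by
      have h1 : Nat.card K ≠ 1 := fun h => hne (Subgroup.card_eq_one.mp h)
      have h0 : 0 < Nat.card K := Nat.card_pos
      omega
    obtain ⟨k, hk1, hkuniq⟩ := (Nat.card_eq_two_iff' (1 : K)).mp hcard2
    have hcentral : (k : G) ∈ Subgroup.center G := by
      rw [Subgroup.mem_center_iff]
      intro g
      have hconj : g * (k : G) * g⁻¹ ∈ K := ‹K.Normal›.conj_mem _ k.2 g
      have hne1 : (⟨g * (k : G) * g⁻¹, hconj⟩ : K) ≠ 1 := by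
        intro h
        have h' : g * (k : G) * g⁻¹ = 1 := congrArg Subtype.val h
        have : (k : G) = 1 := by
          have := congrArg (fun x => g⁻¹ * x * g) h'
          simpa [mul_assoc] using this
        exact hk1 (Subtype.ext this)
      have := hkuniq _ hne1
      have h' : g * (k : G) * g⁻¹ = (k : G) := congrArg Subtype.val this
      calc g * (k : G) = g * (k : G) * g⁻¹ * g := by group
        _ = (k : G) * g := by rw [h']
    rw [hZ, Subgroup.mem_bot] at hcentral
    exact hk1 (Subtype.ext hcentral)
  -- the action on the cosets of `N` is faithful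
  let φ : G →* Perm (G ⧸ N) := MulAction.toPermHom G (G ⧸ N)
  have hker : φ.ker = ⊥ := by
    rw [← Subgroup.normalCore_eq_ker N]
    exact hKbot
  have hinj : Function.Injective φ := (MonoidHom.ker_eq_bot_iff φ).mp hker
  letI : Fintype (G ⧸ N) := Fintype.ofFinite _
  have hα : Fintype.card (G ⧸ N) = 6 := by
    rw [← Nat.card_eq_fintype_card, ← Subgroup.index_eq_card, hN]
  exact Cfsg.Agent.Helper2.equiv_perm_of_injective 6 hα φ hinj (by rw [hcard]; rfl)

end Cfsg.Agent.Helper23.ZS4
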