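import Mathlib
import Cfsg.Agent.Lib.Helper23.ZS4Defs

/-!
# S3222 piece TWOCOMP (helper15 for helper23): a finite group whose Sylow 2-subgroups have order
at most 2 has a characteristic subgroup of odd order and index at most 2.
-/

set_option autoImplicit false

namespace Cfsg.Agent.Helper23.ZS4

namespace TWOCOMP

/-- the sign of the left regular representation -/
noncomputable def sgn (N : Type*) [Group N] [Fintype N] [DecidableEq N] : N →* ℤˣ :=
  Equiv.Perm.sign.comp (MulAction.toPermHom N N)

theorem sgn_invol (N : Type*) [Group N] [Fintype N] [DecidableEq N] (m : ℕ) (hm : Odd m)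
    (hcard : Fintype.card N = 2 * m) (t : N) (ht : orderOf t = 2) : sgn N t = -1 := by
  unfold sgn
  rw [MonoidHom.comp_apply]
  have h2 : (MulAction.toPermHom N N t) ^ 2 = 1 := by
    rw [← map_pow, ← ht, pow_orderOf_eq_one, map_one]
  rw [Equiv.Perm.sign_of_pow_two_eq_one h2]
  have h3 : Fintype.card (Function.fixedPoints (MulAction.toPermHom N N t)) = 0 := by
    rw [Fintype.card_eq_zero_iff]
    refine ⟨fun ⟨q, hq⟩ => ?_⟩
    have h4 : t * q = q := hq
    have h5 : t = 1 := by simpa using h4
    rw [h5, orderOf_one] at ht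
    omega
  rw [h3, Nat.sub_zero, hcard]
  have : 2 * m / 2 = m := by omega
  rw [this, hm.neg_one_pow]

theorem sgn_of_odd (N : Type*) [Group N] [Fintype N] [DecidableEq N] (x : N)
    (hx : Odd (orderOf x)) : sgn N x = 1 := by
  have h1 : sgn N x ^ orderOf x = 1 := by
    rw [← map_pow, pow_orderOf_eq_one, map_one]
  rcases Int.units_eq_one_or (sgn N x) with h | h
  · exact h
  · rw [h, hx.neg_one_pow] at h1
    exact absurd h1 (by decide)

end TWOCOMP

/-- PIECE TWOCOMP (generic). -/
theorem exists_char_odd (N : Type*) [Group N] [Finite N]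
    (h : ∀ P : Sylow 2 N, Nat.card P ≤ 2) :
    ∃ K : Subgroup N, K.Characteristic ∧ Odd (Nat.card K) ∧ K.index ≤ 2 := by
  classical
  letI : Fintype N := Fintype.ofFinite N
  haveI : Fact (Nat.Prime 2) := ⟨Nat.prime_two⟩
  by_cases hodd : Odd (Nat.card N)
  · refine ⟨⊤, inferInstance, ?_, ?_⟩
    · rw [Subgroup.card_top]; exact hodd
    · rw [Subgroup.index_top]; omega
  · rw [Nat.not_odd_iff_even] at hodd
    have h2N : 2 ∣ Nat.card N := hodd.two_dvd
    -- the order is `2 m` with `m` odd
    obtain ⟨P⟩ : Nonempty (Sylow 2 N) := inferInstance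
    have hP2 : Nat.card P = 2 := by
      have hle := h P
      have hdvd : 2 ∣ Nat.card P := by
        have := P.card_eq_multiplicity
        rw [this]
        have hpos : 0 < (Nat.card N).factorization 2 :=
          Nat.Prime.factorization_pos_of_dvd Nat.prime_two Nat.card_pos.ne' h2N
        exact dvd_pow_self 2 hpos.ne'
      have hpos : 0 < Nat.card P := Nat.card_pos
      have := Nat.le_of_dvd hpos hdvd
      omega
    have hidx : ¬ 2 ∣ (P : Subgroup N).index := P.not_dvd_index
    obtain ⟨m, hm⟩ : ∃ m, m = (P : Subgroup N).index := ⟨_, rfl⟩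
    have hmodd : Odd m := by
      rw [hm, ← Nat.not_even_iff_odd, even_iff_two_dvd]; exact hidx
    have hcardN : Nat.card N = 2 * m := by
      rw [hm, ← (P : Subgroup N).card_mul_index]
      congr 1
    have hcardN' : Fintype.card N = 2 * m := by
      rw [← Nat.card_eq_fintype_card]; exact hcardN
    obtain ⟨t, ht⟩ := exists_prime_orderOf_dvd_card' (G := N) 2 h2N
    have hsgn := TWOCOMP.sgn_invol N m hmodd hcardN' t ht
    obtain ⟨K, hK⟩ : ∃ K : Subgroup N, K = (TWOCOMP.sgn N).ker := ⟨_, rfl⟩
    have hKidx : K.index = 2 := by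
      rw [hK, Subgroup.index_ker]
      have hr : (TWOCOMP.sgn N).range = ⊤ := by
        rw [eq_top_iff]
        intro u _
        rcases Int.units_eq_one_or u with h | h
        · rw [h]; exact one_mem _
        · rw [h, ← hsgn]; exact ⟨t, rfl⟩
      rw [hr, Subgroup.card_top, Nat.card_eq_fintype_card]
      rfl
    have hKcard : Nat.card K = m := by
      have := K.card_mul_index
      rw [hKidx, hcardN] at this
      omega
    have hmem : ∀ x : N, x ∈ K ↔ Odd (orderOf x) := by
      intro x
      constructor
      · intro hx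
        have h1 : orderOf x ∣ Nat.card K := Subgroup.orderOf_dvd_natCard _ hx
        rw [hKcard] at h1
        exact Odd.of_dvd_nat hmodd h1
      · intro hx
        rw [hK, MonoidHom.mem_ker]
        exact TWOCOMP.sgn_of_odd N x hx
    refine ⟨K, ?_, ?_, ?_⟩
    · rw [Subgroup.characteristic_iff_le_comap]
      intro ϕ x hx
      rw [Subgroup.mem_comap, hmem]
      rw [hmem] at hx
      have : orderOf (ϕ.toMonoidHom x) = orderOf x := by
        change orderOf (ϕ x) = orderOf x
        exact MulEquiv.orderOf_eq ϕ x
      rw [this]; exact hx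
    · rw [hKcard]; exact hmodd
    · rw [hKidx]

end Cfsg.Agent.Helper23.ZS4
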