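import Mathlib
import Cfsg.Agent.Lib.Helper15.ZStarMin2

/-!
# Minimal counterexamples to the `Z*_p`-statement, part 3: the derived subgroup is simple
(helper15's shared library)
-/

set_option autoImplicit false
set_option linter.unusedSectionVars false
set_option linter.style.haveILetI false

namespace Cfsg.Agent.Helper15.ZStarMin

open Cfsg.Agent.Helper15
open scoped commutatorElement

universe u

variable {G : Type u} [Group G]

namespace MinCE

variable [Finite G] {p : ℕ} [Fact p.Prime] {x : G}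

theorem commutator_eq (h : MinCE p x) {N : Subgroup G} (hN : IsMinInv ⊤ N) :
    commutator G = N := by
  haveI := hN.normal
  have h1 : commutator G ≤ N :=
    Subgroup.Normal.commutator_le_of_self_sup_commutative_eq_top (h.sup_zpowers_eq_top hN)
      inferInstance
  apply hN.eq_of_normal (inferInstance : (commutator G).Normal) h1
  intro hbot
  apply h.not_central
  intro g
  have h2 : ⁅g, x⁆ ∈ commutator G := by
    rw [commutator_def]
    exact Subgroup.commutator_mem_commutator (Subgroup.mem_top g) (Subgroup.mem_top x)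
  rw [hbot, Subgroup.mem_bot] at h2
  exact commutatorElement_eq_one_iff_mul_comm.mp h2

theorem not_isMulCommutative (h : MinCE p x) {N : Subgroup G} (hN : IsMinInv ⊤ N) :
    ¬ IsMulCommutative ↥N := by
  have hp : p.Prime := Fact.out
  haveI hNn := hN.normal
  intro hc
  have hcore : Cfsg.pPrimeCore p ↥N = ⊥ := by
    have h1 := Cfsg.Agent.Helper7.map_subtype_pPrimeCore_le p N
    rw [h.pPrimeCore_eq_bot, le_bot_iff] at h1
    exact (Subgroup.map_eq_bot_iff_of_injective _ N.subtype_injective).mp h1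
  have hNp : IsPGroup p ↥N := by
    intro n
    obtain ⟨e, m, hm, horder⟩ :=
      Nat.exists_eq_pow_mul_and_not_dvd (orderOf_pos n).ne' p hp.ne_one
    refine ⟨e, ?_⟩
    have hpe : p ^ e ≠ 0 := pow_ne_zero e hp.ne_zero
    have hord : orderOf (n ^ p ^ e) = m := by
      rw [orderOf_pow_of_dvd hpe ⟨m, horder⟩, horder, Nat.mul_div_cancel_left m (Nat.pos_of_ne_zero hpe)]
    have hnorm : (Subgroup.zpowers (n ^ p ^ e)).Normal := by
      constructor
      intro z hz g
      have : g * z = z * g := mul_comm' g z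
      rw [this, mul_inv_cancel_right]
      exact hz
    have hcop : (Nat.card ↥(Subgroup.zpowers (n ^ p ^ e))).Coprime p := by
      rw [Nat.card_zpowers, hord]
      exact ((Nat.Prime.coprime_iff_not_dvd hp).mpr hm).symm
    have h2 := Cfsg.Agent.Helper22.le_pPrimeCore p _ hnorm hcop
    rw [hcore, le_bot_iff, Subgroup.zpowers_eq_bot] at h2
    exact h2
  have hZ : IsPGroup p ↥(Subgroup.zpowers x) := isPGroup_zpowers_of_orderOf h.ord'
  have hG : IsPGroup p ↥(Subgroup.zpowers x ⊔ N) :=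
    IsPGroup.to_sup_of_normal_right' hZ hNp (by rw [Subgroup.normalizer_eq_top_iff.mpr hNn]; exact le_top)
  rw [sup_comm, h.sup_zpowers_eq_top hN] at hG
  have h3 := IsIsolated.commute_of_mem h.iso hG (Subgroup.mem_top x)
  apply h.not_central
  intro g
  exact mem_centralizer_singleton_iff.mp (h3 (Subgroup.mem_top g))

/-- a minimal `N`-invariant subgroup of a minimal normal subgroup `N` is `N` -/
theorem eq_of_isMinInv (h : MinCE p x) {N T : Subgroup G} (hN : IsMinInv ⊤ N)
    (hT : IsMinInv N T) (hTN : T ≤ N) : T = N := by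
  have hp : p.Prime := Fact.out
  haveI hNn := hN.normal
  have hdvd : p ∣ Nat.card ↥T := by
    by_contra hnd
    have hcop : (Nat.card ↥T).Coprime p := ((Nat.Prime.coprime_iff_not_dvd hp).mpr hnd).symm
    have := le_pPrimeCore_of_le_normal p hTN hT.2.1 hcop
    rw [h.pPrimeCore_eq_bot] at this
    exact hT.1 (le_bot_iff.mp this)
  obtain ⟨P, hP⟩ := (isPGroup_zpowers_of_orderOf (p := p) h.ord').exists_le_sylow
  have hxP : x ∈ (P : Subgroup G) := hP (Subgroup.mem_zpowers x)
  have hPc := IsIsolated.commute_of_mem h.iso P.isPGroup' hxP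
  have hTsub : T.IsSubnormal :=
    Subgroup.IsSubnormal.step T N hTN hNn.isSubnormal
      ((Subgroup.normal_subgroupOf_iff_le_normalizer hTN).mpr hT.2.1)
  obtain ⟨Q, hQ⟩ := Cfsg.Agent.S0542.result p T hTsub P
  have hQne : (Q : Subgroup ↥T) ≠ ⊥ := Q.ne_bot_of_dvd_card hdvd
  rw [hQ] at hQne
  obtain ⟨t, htP, ht1⟩ : ∃ t : ↥T, t ∈ (P : Subgroup G).subgroupOf T ∧ t ≠ 1 := by
    by_contra hcon
    push Not at hcon
    apply hQne
    rw [eq_bot_iff]
    intro t ht
    rw [Subgroup.mem_bot]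
    exact hcon t ht
  have htP' : (t : G) ∈ (P : Subgroup G) := Subgroup.mem_subgroupOf.mp htP
  have htx : (t : G) * x = x * t := mem_centralizer_singleton_iff.mp (hPc htP')
  -- `t ∈ T ⊓ T^x`
  have htT' : (t : G) ∈ T.map (MulAut.conj x).toMonoidHom := by
    refine ⟨t, t.2, ?_⟩
    simp only [MulEquiv.coe_toMonoidHom, MulAut.conj_apply]
    rw [← htx, mul_inv_cancel_right]
  have hNT' : N ≤ Subgroup.normalizer ((T.map (MulAut.conj x).toMonoidHom : Subgroup G) : Set G) := by
    apply Cfsg.Agent.Helper1.le_normalizer_of_forall_conj_mem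
    rintro n hn _ ⟨s, hs, rfl⟩
    have hn' : x⁻¹ * n * x⁻¹⁻¹ ∈ N := hNn.conj_mem n hn x⁻¹
    have h1 : (x⁻¹ * n * x⁻¹⁻¹) * s * (x⁻¹ * n * x⁻¹⁻¹)⁻¹ ∈ T :=
      (Subgroup.mem_normalizer_iff.mp (hT.2.1 hn') s).mp hs
    refine ⟨_, h1, ?_⟩
    simp only [MulEquiv.coe_toMonoidHom, MulAut.conj_apply]
    group
  have hMle : T ⊓ T.map (MulAut.conj x).toMonoidHom ≤ T := inf_le_left
  have hMne : T ⊓ T.map (MulAut.conj x).toMonoidHom ≠ ⊥ := by
    intro hbot
    have : (t : G) ∈ T ⊓ T.map (MulAut.conj x).toMonoidHom := ⟨t.2, htT'⟩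
    rw [hbot, Subgroup.mem_bot] at this
    exact ht1 (Subtype.ext this)
  have hMnorm : N ≤ Subgroup.normalizer
      ((T ⊓ T.map (MulAut.conj x).toMonoidHom : Subgroup G) : Set G) := by
    intro n hn
    rw [Subgroup.mem_normalizer_iff]
    intro y
    have h1 := Subgroup.mem_normalizer_iff.mp (hT.2.1 hn) y
    have h2 := Subgroup.mem_normalizer_iff.mp (hNT' hn) y
    constructor
    · intro hy
      exact ⟨h1.mp hy.1, h2.mp hy.2⟩
    · intro hy
      exact ⟨h1.mpr hy.1, h2.mpr hy.2⟩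
  have hM : T ⊓ T.map (MulAut.conj x).toMonoidHom = T := hT.2.2 _ hMnorm hMle hMne
  have hTT' : T ≤ T.map (MulAut.conj x).toMonoidHom :=
    calc T = T ⊓ T.map (MulAut.conj x).toMonoidHom := hM.symm
      _ ≤ T.map (MulAut.conj x).toMonoidHom := inf_le_right
  have hTeq : T = T.map (MulAut.conj x).toMonoidHom :=
    Subgroup.eq_of_le_of_card_ge hTT' (by rw [card_map_conj])
  have hxT : x ∈ Subgroup.normalizer (T : Set G) := mem_normalizer_of_map_conj_eq hTeq.symm
  have htop : (⊤ : Subgroup G) ≤ Subgroup.normalizer (T : Set G) := by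
    rw [← h.sup_zpowers_eq_top hN]
    exact sup_le hT.2.1 (Subgroup.zpowers_le.mpr hxT)
  exact hN.eq_of_normal (Subgroup.normalizer_eq_top_iff.mp (top_le_iff.mp htop)) hTN hT.1

theorem isSimpleGroup (h : MinCE p x) {N : Subgroup G} (hN : IsMinInv ⊤ N) :
    IsSimpleGroup ↥N := by
  haveI hNn := hN.normal
  haveI : Nontrivial ↥N := (Subgroup.nontrivial_iff_ne_bot N).mpr hN.1
  refine ⟨?_⟩
  intro M hM
  by_cases hMbot : M = ⊥
  · left; exact hMbot
  right
  have hM'ne : M.map N.subtype ≠ ⊥ := by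
    intro hbot
    exact hMbot ((Subgroup.map_eq_bot_iff_of_injective _ N.subtype_injective).mp hbot)
  have hNM' : N ≤ Subgroup.normalizer ((M.map N.subtype : Subgroup G) : Set G) := by
    apply Cfsg.Agent.Helper1.le_normalizer_of_forall_conj_mem
    rintro n hn _ ⟨m, hm, rfl⟩
    exact ⟨⟨n, hn⟩ * m * ⟨n, hn⟩⁻¹, hM.conj_mem m hm ⟨n, hn⟩, rfl⟩
  obtain ⟨T, hTM', hT⟩ := exists_isMinInv_le hM'ne hNM'
  have hTN : T ≤ N := hTM'.trans (Subgroup.map_subtype_le _)
  have hTeq := h.eq_of_isMinInv hN hT hTN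
  rw [eq_top_iff]
  intro n _
  have h1 : (n : G) ∈ M.map N.subtype := hTM' (hTeq ▸ n.2)
  obtain ⟨m, hm, hmn⟩ := h1
  have : m = n := Subtype.ext hmn
  rw [← this]
  exact hm

/-- existence of a minimal normal subgroup -/
theorem exists_isMinInv (h : MinCE p x) : ∃ N : Subgroup G, IsMinInv ⊤ N := by
  have hne : (⊤ : Subgroup G) ≠ ⊥ := by
    intro hbot
    have : x ∈ (⊤ : Subgroup G) := Subgroup.mem_top x
    rw [hbot, Subgroup.mem_bot] at this
    exact h.ne_one this
  obtain ⟨T, -, hT⟩ := exists_isMinInv_le (K := ⊤) hne Subgroup.le_normalizer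
  exact ⟨T, hT⟩

end MinCE

end Cfsg.Agent.Helper15.ZStarMin
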